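import Cfsg.Agent.Lib.Helper9.TCData.ONC0.Main

set_option autoImplicit false
set_option maxRecDepth 1000000

namespace Cfsg.Agent.Helper9.TCData.ONC0
open Cfsg.Agent.Helper9.TC2

theorem e0_8 : allRange 27017 3007 (fun u => chkE tab 0 u) = true := by decide +kernel

theorem e0_9 : allRange 30024 3332 (fun u => chkE tab 0 u) = true := by decide +kernel

theorem e0_10 : allRange 33356 3228 (fun u => chkE tab 0 u) = true := by decide +kernel

theorem e0_11 : allRange 36584 3695 (fun u => chkE tab 0 u) = true := by decide +kernel

theorem e0_12 : allRange 40279 3213 (fun u => chkE tab 0 u) = true := by decide +kernel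

theorem e0_13 : allRange 43492 2649 (fun u => chkE tab 0 u) = true := by decide +kernel

theorem e0_14 : allRange 46141 3119 (fun u => chkE tab 0 u) = true := by decide +kernel

theorem e0_15 : allRange 49260 2973 (fun u => chkE tab 0 u) = true := by decide +kernel


end Cfsg.Agent.Helper9.TCData.ONC0
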