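import Cfsg.Agent.Lib.Helper9.TCData.ONC0.Main

set_option autoImplicit false
set_option maxRecDepth 1000000

namespace Cfsg.Agent.Helper9.TCData.ONC0
open Cfsg.Agent.Helper9.TC2

theorem sl_5008 : allRange 90144 18 (fun u => chkSlp tab slp u) = true := by decide +kernel

theorem sl_5009 : allRange 90162 18 (fun u => chkSlp tab slp u) = true := by decide +kernel

theorem sl_5010 : allRange 90180 18 (fun u => chkSlp tab slp u) = true := by decide +kernel

theorem sl_5011 : allRange 90198 18 (fun u => chkSlp tab slp u) = true := by decide +kernel

theorem sl_5012 : allRange 90216 18 (fun u => chkSlp tab slp u) = true := by decide +kernel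

theorem sl_5013 : allRange 90234 18 (fun u => chkSlp tab slp u) = true := by decide +kernel

theorem sl_5014 : allRange 90252 18 (fun u => chkSlp tab slp u) = true := by decide +kernel

theorem sl_5015 : allRange 90270 18 (fun u => chkSlp tab slp u) = true := by decide +kernel


end Cfsg.Agent.Helper9.TCData.ONC0
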