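import Cfsg.Agent.Lib.Helper9.TCData.ONC0.Main

set_option autoImplicit false
set_option maxRecDepth 1000000

namespace Cfsg.Agent.Helper9.TCData.ONC0
open Cfsg.Agent.Helper9.TC2

theorem sl_5024 : allRange 90432 18 (fun u => chkSlp tab slp u) = true := by decide +kernel

theorem sl_5025 : allRange 90450 18 (fun u => chkSlp tab slp u) = true := by decide +kernel

theorem sl_5026 : allRange 90468 18 (fun u => chkSlp tab slp u) = true := by decide +kernel

theorem sl_5027 : allRange 90486 18 (fun u => chkSlp tab slp u) = true := by decide +kernel

theorem sl_5028 : allRange 90504 18 (fun u => chkSlp tab slp u) = true := by decide +kernel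

theorem sl_5029 : allRange 90522 18 (fun u => chkSlp tab slp u) = true := by decide +kernel

theorem sl_5030 : allRange 90540 18 (fun u => chkSlp tab slp u) = true := by decide +kernel

theorem sl_5031 : allRange 90558 18 (fun u => chkSlp tab slp u) = true := by decide +kernel


end Cfsg.Agent.Helper9.TCData.ONC0
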