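import Cfsg.Agent.Lib.Helper9.TCData.ONC0.Main

set_option autoImplicit false
set_option maxRecDepth 1000000

namespace Cfsg.Agent.Helper9.TCData.ONC0
open Cfsg.Agent.Helper9.TC2

theorem sl_5032 : allRange 90576 18 (fun u => chkSlp tab slp u) = true := by decide +kernel

theorem sl_5033 : allRange 90594 18 (fun u => chkSlp tab slp u) = true := by decide +kernel

theorem sl_5034 : allRange 90612 18 (fun u => chkSlp tab slp u) = true := by decide +kernel

theorem sl_5035 : allRange 90630 18 (fun u => chkSlp tab slp u) = true := by decide +kernel

theorem sl_5036 : allRange 90648 18 (fun u => chkSlp tab slp u) = true := by decide +kernel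

theorem sl_5037 : allRange 90666 18 (fun u => chkSlp tab slp u) = true := by decide +kernel

theorem sl_5038 : allRange 90684 18 (fun u => chkSlp tab slp u) = true := by decide +kernel

theorem sl_5039 : allRange 90702 18 (fun u => chkSlp tab slp u) = true := by decide +kernel


end Cfsg.Agent.Helper9.TCData.ONC0
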