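import Cfsg.Agent.Lib.Helper9.TCData.ONC0.Main

set_option autoImplicit false
set_option maxRecDepth 1000000

namespace Cfsg.Agent.Helper9.TCData.ONC0
open Cfsg.Agent.Helper9.TC2

theorem sl_5040 : allRange 90720 18 (fun u => chkSlp tab slp u) = true := by decide +kernel

theorem sl_5041 : allRange 90738 18 (fun u => chkSlp tab slp u) = true := by decide +kernel

theorem sl_5042 : allRange 90756 18 (fun u => chkSlp tab slp u) = true := by decide +kernel

theorem sl_5043 : allRange 90774 18 (fun u => chkSlp tab slp u) = true := by decide +kernel

theorem sl_5044 : allRange 90792 18 (fun u => chkSlp tab slp u) = true := by decide +kernel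

theorem sl_5045 : allRange 90810 18 (fun u => chkSlp tab slp u) = true := by decide +kernel

theorem sl_5046 : allRange 90828 18 (fun u => chkSlp tab slp u) = true := by decide +kernel

theorem sl_5047 : allRange 90846 18 (fun u => chkSlp tab slp u) = true := by decide +kernel


end Cfsg.Agent.Helper9.TCData.ONC0
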