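import Cfsg.Agent.Lib.Helper9.TCData.ONC0.Main

set_option autoImplicit false
set_option maxRecDepth 1000000

namespace Cfsg.Agent.Helper9.TCData.ONC0
open Cfsg.Agent.Helper9.TC2

theorem sl_5048 : allRange 90864 18 (fun u => chkSlp tab slp u) = true := by decide +kernel

theorem sl_5049 : allRange 90882 18 (fun u => chkSlp tab slp u) = true := by decide +kernel

theorem sl_5050 : allRange 90900 18 (fun u => chkSlp tab slp u) = true := by decide +kernel

theorem sl_5051 : allRange 90918 18 (fun u => chkSlp tab slp u) = true := by decide +kernel

theorem sl_5052 : allRange 90936 18 (fun u => chkSlp tab slp u) = true := by decide +kernel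

theorem sl_5053 : allRange 90954 18 (fun u => chkSlp tab slp u) = true := by decide +kernel

theorem sl_5054 : allRange 90972 18 (fun u => chkSlp tab slp u) = true := by decide +kernel

theorem sl_5055 : allRange 90990 18 (fun u => chkSlp tab slp u) = true := by decide +kernel


end Cfsg.Agent.Helper9.TCData.ONC0
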