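import Cfsg.Agent.Lib.Helper9.TCData.ONC0.Main

set_option autoImplicit false
set_option maxRecDepth 1000000

namespace Cfsg.Agent.Helper9.TCData.ONC0
open Cfsg.Agent.Helper9.TC2

theorem sl_5064 : allRange 91152 18 (fun u => chkSlp tab slp u) = true := by decide +kernel

theorem sl_5065 : allRange 91170 18 (fun u => chkSlp tab slp u) = true := by decide +kernel

theorem sl_5066 : allRange 91188 18 (fun u => chkSlp tab slp u) = true := by decide +kernel

theorem sl_5067 : allRange 91206 18 (fun u => chkSlp tab slp u) = true := by decide +kernel

theorem sl_5068 : allRange 91224 18 (fun u => chkSlp tab slp u) = true := by decide +kernel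

theorem sl_5069 : allRange 91242 18 (fun u => chkSlp tab slp u) = true := by decide +kernel

theorem sl_5070 : allRange 91260 18 (fun u => chkSlp tab slp u) = true := by decide +kernel

theorem sl_5071 : allRange 91278 18 (fun u => chkSlp tab slp u) = true := by decide +kernel


end Cfsg.Agent.Helper9.TCData.ONC0
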