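import Cfsg.Agent.Lib.Helper9.TCData.ONC0.Main

set_option autoImplicit false
set_option maxRecDepth 1000000

namespace Cfsg.Agent.Helper9.TCData.ONC0
open Cfsg.Agent.Helper9.TC2

theorem sl_5072 : allRange 91296 18 (fun u => chkSlp tab slp u) = true := by decide +kernel

theorem sl_5073 : allRange 91314 18 (fun u => chkSlp tab slp u) = true := by decide +kernel

theorem sl_5074 : allRange 91332 18 (fun u => chkSlp tab slp u) = true := by decide +kernel

theorem sl_5075 : allRange 91350 18 (fun u => chkSlp tab slp u) = true := by decide +kernel

theorem sl_5076 : allRange 91368 18 (fun u => chkSlp tab slp u) = true := by decide +kernel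

theorem sl_5077 : allRange 91386 18 (fun u => chkSlp tab slp u) = true := by decide +kernel

theorem sl_5078 : allRange 91404 18 (fun u => chkSlp tab slp u) = true := by decide +kernel

theorem sl_5079 : allRange 91422 18 (fun u => chkSlp tab slp u) = true := by decide +kernel


end Cfsg.Agent.Helper9.TCData.ONC0
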