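import Cfsg.Agent.Lib.Helper9.TCData.ONC0.Main

set_option autoImplicit false
set_option maxRecDepth 1000000

namespace Cfsg.Agent.Helper9.TCData.ONC0
open Cfsg.Agent.Helper9.TC2

theorem sl_5080 : allRange 91440 18 (fun u => chkSlp tab slp u) = true := by decide +kernel

theorem sl_5081 : allRange 91458 18 (fun u => chkSlp tab slp u) = true := by decide +kernel

theorem sl_5082 : allRange 91476 18 (fun u => chkSlp tab slp u) = true := by decide +kernel

theorem sl_5083 : allRange 91494 18 (fun u => chkSlp tab slp u) = true := by decide +kernel

theorem sl_5084 : allRange 91512 18 (fun u => chkSlp tab slp u) = true := by decide +kernel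

theorem sl_5085 : allRange 91530 18 (fun u => chkSlp tab slp u) = true := by decide +kernel

theorem sl_5086 : allRange 91548 18 (fun u => chkSlp tab slp u) = true := by decide +kernel

theorem sl_5087 : allRange 91566 18 (fun u => chkSlp tab slp u) = true := by decide +kernel


end Cfsg.Agent.Helper9.TCData.ONC0
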