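import Cfsg.Agent.Lib.Helper9.TCData.ONC0.Main

set_option autoImplicit false
set_option maxRecDepth 1000000

namespace Cfsg.Agent.Helper9.TCData.ONC0
open Cfsg.Agent.Helper9.TC2

theorem sl_5088 : allRange 91584 18 (fun u => chkSlp tab slp u) = true := by decide +kernel

theorem sl_5089 : allRange 91602 18 (fun u => chkSlp tab slp u) = true := by decide +kernel

theorem sl_5090 : allRange 91620 18 (fun u => chkSlp tab slp u) = true := by decide +kernel

theorem sl_5091 : allRange 91638 18 (fun u => chkSlp tab slp u) = true := by decide +kernel

theorem sl_5092 : allRange 91656 18 (fun u => chkSlp tab slp u) = true := by decide +kernel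

theorem sl_5093 : allRange 91674 18 (fun u => chkSlp tab slp u) = true := by decide +kernel

theorem sl_5094 : allRange 91692 18 (fun u => chkSlp tab slp u) = true := by decide +kernel

theorem sl_5095 : allRange 91710 18 (fun u => chkSlp tab slp u) = true := by decide +kernel


end Cfsg.Agent.Helper9.TCData.ONC0
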