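import Cfsg.Agent.Lib.Helper9.TCData.ONC0.Main

set_option autoImplicit false
set_option maxRecDepth 1000000

namespace Cfsg.Agent.Helper9.TCData.ONC0
open Cfsg.Agent.Helper9.TC2

theorem sl_5096 : allRange 91728 18 (fun u => chkSlp tab slp u) = true := by decide +kernel

theorem sl_5097 : allRange 91746 18 (fun u => chkSlp tab slp u) = true := by decide +kernel

theorem sl_5098 : allRange 91764 18 (fun u => chkSlp tab slp u) = true := by decide +kernel

theorem sl_5099 : allRange 91782 18 (fun u => chkSlp tab slp u) = true := by decide +kernel

theorem sl_5100 : allRange 91800 18 (fun u => chkSlp tab slp u) = true := by decide +kernel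

theorem sl_5101 : allRange 91818 18 (fun u => chkSlp tab slp u) = true := by decide +kernel

theorem sl_5102 : allRange 91836 18 (fun u => chkSlp tab slp u) = true := by decide +kernel

theorem sl_5103 : allRange 91854 18 (fun u => chkSlp tab slp u) = true := by decide +kernel


end Cfsg.Agent.Helper9.TCData.ONC0
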