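import Cfsg.Agent.Lib.Helper9.TCData.ONC0.Main

set_option autoImplicit false
set_option maxRecDepth 1000000

namespace Cfsg.Agent.Helper9.TCData.ONC0
open Cfsg.Agent.Helper9.TC2

theorem sl_5128 : allRange 92304 18 (fun u => chkSlp tab slp u) = true := by decide +kernel

theorem sl_5129 : allRange 92322 18 (fun u => chkSlp tab slp u) = true := by decide +kernel

theorem sl_5130 : allRange 92340 18 (fun u => chkSlp tab slp u) = true := by decide +kernel

theorem sl_5131 : allRange 92358 18 (fun u => chkSlp tab slp u) = true := by decide +kernel

theorem sl_5132 : allRange 92376 18 (fun u => chkSlp tab slp u) = true := by decide +kernel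

theorem sl_5133 : allRange 92394 18 (fun u => chkSlp tab slp u) = true := by decide +kernel

theorem sl_5134 : allRange 92412 18 (fun u => chkSlp tab slp u) = true := by decide +kernel

theorem sl_5135 : allRange 92430 18 (fun u => chkSlp tab slp u) = true := by decide +kernel


end Cfsg.Agent.Helper9.TCData.ONC0
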