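import Cfsg.Agent.Lib.Helper9.TCData.ONC0.Main

set_option autoImplicit false
set_option maxRecDepth 1000000

namespace Cfsg.Agent.Helper9.TCData.ONC0
open Cfsg.Agent.Helper9.TC2

theorem sl_5136 : allRange 92448 18 (fun u => chkSlp tab slp u) = true := by decide +kernel

theorem sl_5137 : allRange 92466 18 (fun u => chkSlp tab slp u) = true := by decide +kernel

theorem sl_5138 : allRange 92484 18 (fun u => chkSlp tab slp u) = true := by decide +kernel

theorem sl_5139 : allRange 92502 18 (fun u => chkSlp tab slp u) = true := by decide +kernel

theorem sl_5140 : allRange 92520 18 (fun u => chkSlp tab slp u) = true := by decide +kernel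

theorem sl_5141 : allRange 92538 18 (fun u => chkSlp tab slp u) = true := by decide +kernel

theorem sl_5142 : allRange 92556 18 (fun u => chkSlp tab slp u) = true := by decide +kernel

theorem sl_5143 : allRange 92574 18 (fun u => chkSlp tab slp u) = true := by decide +kernel


end Cfsg.Agent.Helper9.TCData.ONC0
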