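import Cfsg.Agent.Lib.Helper9.TCData.ONC0.Main

set_option autoImplicit false
set_option maxRecDepth 1000000

namespace Cfsg.Agent.Helper9.TCData.ONC0
open Cfsg.Agent.Helper9.TC2

theorem sl_5160 : allRange 92880 18 (fun u => chkSlp tab slp u) = true := by decide +kernel

theorem sl_5161 : allRange 92898 18 (fun u => chkSlp tab slp u) = true := by decide +kernel

theorem sl_5162 : allRange 92916 18 (fun u => chkSlp tab slp u) = true := by decide +kernel

theorem sl_5163 : allRange 92934 18 (fun u => chkSlp tab slp u) = true := by decide +kernel

theorem sl_5164 : allRange 92952 18 (fun u => chkSlp tab slp u) = true := by decide +kernel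

theorem sl_5165 : allRange 92970 18 (fun u => chkSlp tab slp u) = true := by decide +kernel

theorem sl_5166 : allRange 92988 18 (fun u => chkSlp tab slp u) = true := by decide +kernel

theorem sl_5167 : allRange 93006 18 (fun u => chkSlp tab slp u) = true := by decide +kernel


end Cfsg.Agent.Helper9.TCData.ONC0
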