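import Cfsg.Agent.Lib.Helper9.TCData.ONC0.Main

set_option autoImplicit false
set_option maxRecDepth 1000000

namespace Cfsg.Agent.Helper9.TCData.ONC0
open Cfsg.Agent.Helper9.TC2

theorem sl_5168 : allRange 93024 18 (fun u => chkSlp tab slp u) = true := by decide +kernel

theorem sl_5169 : allRange 93042 18 (fun u => chkSlp tab slp u) = true := by decide +kernel

theorem sl_5170 : allRange 93060 18 (fun u => chkSlp tab slp u) = true := by decide +kernel

theorem sl_5171 : allRange 93078 18 (fun u => chkSlp tab slp u) = true := by decide +kernel

theorem sl_5172 : allRange 93096 18 (fun u => chkSlp tab slp u) = true := by decide +kernel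

theorem sl_5173 : allRange 93114 18 (fun u => chkSlp tab slp u) = true := by decide +kernel

theorem sl_5174 : allRange 93132 18 (fun u => chkSlp tab slp u) = true := by decide +kernel

theorem sl_5175 : allRange 93150 18 (fun u => chkSlp tab slp u) = true := by decide +kernel


end Cfsg.Agent.Helper9.TCData.ONC0
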