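import Cfsg.Agent.Lib.Helper9.TCData.ONC0.Main

set_option autoImplicit false
set_option maxRecDepth 1000000

namespace Cfsg.Agent.Helper9.TCData.ONC0
open Cfsg.Agent.Helper9.TC2

theorem sl_5184 : allRange 93312 18 (fun u => chkSlp tab slp u) = true := by decide +kernel

theorem sl_5185 : allRange 93330 18 (fun u => chkSlp tab slp u) = true := by decide +kernel

theorem sl_5186 : allRange 93348 18 (fun u => chkSlp tab slp u) = true := by decide +kernel

theorem sl_5187 : allRange 93366 18 (fun u => chkSlp tab slp u) = true := by decide +kernel

theorem sl_5188 : allRange 93384 18 (fun u => chkSlp tab slp u) = true := by decide +kernel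

theorem sl_5189 : allRange 93402 18 (fun u => chkSlp tab slp u) = true := by decide +kernel

theorem sl_5190 : allRange 93420 18 (fun u => chkSlp tab slp u) = true := by decide +kernel

theorem sl_5191 : allRange 93438 18 (fun u => chkSlp tab slp u) = true := by decide +kernel


end Cfsg.Agent.Helper9.TCData.ONC0
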