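import Cfsg.Agent.Lib.Helper9.TCData.ONC0.Main

set_option autoImplicit false
set_option maxRecDepth 1000000

namespace Cfsg.Agent.Helper9.TCData.ONC0
open Cfsg.Agent.Helper9.TC2

theorem sl_5200 : allRange 93600 18 (fun u => chkSlp tab slp u) = true := by decide +kernel

theorem sl_5201 : allRange 93618 18 (fun u => chkSlp tab slp u) = true := by decide +kernel

theorem sl_5202 : allRange 93636 18 (fun u => chkSlp tab slp u) = true := by decide +kernel

theorem sl_5203 : allRange 93654 18 (fun u => chkSlp tab slp u) = true := by decide +kernel

theorem sl_5204 : allRange 93672 18 (fun u => chkSlp tab slp u) = true := by decide +kernel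

theorem sl_5205 : allRange 93690 18 (fun u => chkSlp tab slp u) = true := by decide +kernel

theorem sl_5206 : allRange 93708 18 (fun u => chkSlp tab slp u) = true := by decide +kernel

theorem sl_5207 : allRange 93726 18 (fun u => chkSlp tab slp u) = true := by decide +kernel


end Cfsg.Agent.Helper9.TCData.ONC0
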