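import Cfsg.Agent.Lib.Helper9.TCData.ONC0.Main

set_option autoImplicit false
set_option maxRecDepth 1000000

namespace Cfsg.Agent.Helper9.TCData.ONC0
open Cfsg.Agent.Helper9.TC2

theorem sl_5208 : allRange 93744 18 (fun u => chkSlp tab slp u) = true := by decide +kernel

theorem sl_5209 : allRange 93762 18 (fun u => chkSlp tab slp u) = true := by decide +kernel

theorem sl_5210 : allRange 93780 18 (fun u => chkSlp tab slp u) = true := by decide +kernel

theorem sl_5211 : allRange 93798 18 (fun u => chkSlp tab slp u) = true := by decide +kernel

theorem sl_5212 : allRange 93816 18 (fun u => chkSlp tab slp u) = true := by decide +kernel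

theorem sl_5213 : allRange 93834 18 (fun u => chkSlp tab slp u) = true := by decide +kernel

theorem sl_5214 : allRange 93852 18 (fun u => chkSlp tab slp u) = true := by decide +kernel

theorem sl_5215 : allRange 93870 18 (fun u => chkSlp tab slp u) = true := by decide +kernel


end Cfsg.Agent.Helper9.TCData.ONC0
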