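import Cfsg.Agent.Lib.Helper9.TCData.ONC0.Main

set_option autoImplicit false
set_option maxRecDepth 1000000

namespace Cfsg.Agent.Helper9.TCData.ONC0
open Cfsg.Agent.Helper9.TC2

theorem sl_5216 : allRange 93888 18 (fun u => chkSlp tab slp u) = true := by decide +kernel

theorem sl_5217 : allRange 93906 18 (fun u => chkSlp tab slp u) = true := by decide +kernel

theorem sl_5218 : allRange 93924 18 (fun u => chkSlp tab slp u) = true := by decide +kernel

theorem sl_5219 : allRange 93942 18 (fun u => chkSlp tab slp u) = true := by decide +kernel

theorem sl_5220 : allRange 93960 18 (fun u => chkSlp tab slp u) = true := by decide +kernel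

theorem sl_5221 : allRange 93978 18 (fun u => chkSlp tab slp u) = true := by decide +kernel

theorem sl_5222 : allRange 93996 18 (fun u => chkSlp tab slp u) = true := by decide +kernel

theorem sl_5223 : allRange 94014 18 (fun u => chkSlp tab slp u) = true := by decide +kernel


end Cfsg.Agent.Helper9.TCData.ONC0
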