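import Cfsg.Agent.Lib.Helper9.TCData.ONC0.Main

set_option autoImplicit false
set_option maxRecDepth 1000000

namespace Cfsg.Agent.Helper9.TCData.ONC0
open Cfsg.Agent.Helper9.TC2

theorem sl_5224 : allRange 94032 18 (fun u => chkSlp tab slp u) = true := by decide +kernel

theorem sl_5225 : allRange 94050 18 (fun u => chkSlp tab slp u) = true := by decide +kernel

theorem sl_5226 : allRange 94068 18 (fun u => chkSlp tab slp u) = true := by decide +kernel

theorem sl_5227 : allRange 94086 18 (fun u => chkSlp tab slp u) = true := by decide +kernel

theorem sl_5228 : allRange 94104 18 (fun u => chkSlp tab slp u) = true := by decide +kernel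

theorem sl_5229 : allRange 94122 18 (fun u => chkSlp tab slp u) = true := by decide +kernel

theorem sl_5230 : allRange 94140 18 (fun u => chkSlp tab slp u) = true := by decide +kernel

theorem sl_5231 : allRange 94158 18 (fun u => chkSlp tab slp u) = true := by decide +kernel


end Cfsg.Agent.Helper9.TCData.ONC0
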