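import Cfsg.Agent.Lib.Helper9.TCData.ONC0.Main

set_option autoImplicit false
set_option maxRecDepth 1000000

namespace Cfsg.Agent.Helper9.TCData.ONC0
open Cfsg.Agent.Helper9.TC2

theorem sl_5232 : allRange 94176 18 (fun u => chkSlp tab slp u) = true := by decide +kernel

theorem sl_5233 : allRange 94194 18 (fun u => chkSlp tab slp u) = true := by decide +kernel

theorem sl_5234 : allRange 94212 18 (fun u => chkSlp tab slp u) = true := by decide +kernel

theorem sl_5235 : allRange 94230 18 (fun u => chkSlp tab slp u) = true := by decide +kernel

theorem sl_5236 : allRange 94248 18 (fun u => chkSlp tab slp u) = true := by decide +kernel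

theorem sl_5237 : allRange 94266 18 (fun u => chkSlp tab slp u) = true := by decide +kernel

theorem sl_5238 : allRange 94284 18 (fun u => chkSlp tab slp u) = true := by decide +kernel

theorem sl_5239 : allRange 94302 18 (fun u => chkSlp tab slp u) = true := by decide +kernel


end Cfsg.Agent.Helper9.TCData.ONC0
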