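import Cfsg.Agent.Lib.Helper9.TCData.ONC0.Main

set_option autoImplicit false
set_option maxRecDepth 1000000

namespace Cfsg.Agent.Helper9.TCData.ONC0
open Cfsg.Agent.Helper9.TC2

theorem f_184 : allRange 56672 308 (fun u => chkFin tab u) = true := by decide +kernel

theorem f_185 : allRange 56980 308 (fun u => chkFin tab u) = true := by decide +kernel

theorem f_186 : allRange 57288 308 (fun u => chkFin tab u) = true := by decide +kernel

theorem f_187 : allRange 57596 308 (fun u => chkFin tab u) = true := by decide +kernel

theorem f_188 : allRange 57904 308 (fun u => chkFin tab u) = true := by decide +kernel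

theorem f_189 : allRange 58212 308 (fun u => chkFin tab u) = true := by decide +kernel

theorem f_190 : allRange 58520 308 (fun u => chkFin tab u) = true := by decide +kernel

theorem f_191 : allRange 58828 308 (fun u => chkFin tab u) = true := by decide +kernel


end Cfsg.Agent.Helper9.TCData.ONC0
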