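import Cfsg.Agent.Lib.Helper9.TCData.ONC0.Main

set_option autoImplicit false
set_option maxRecDepth 1000000

namespace Cfsg.Agent.Helper9.TCData.ONC0
open Cfsg.Agent.Helper9.TC2

theorem sl_5256 : allRange 94608 18 (fun u => chkSlp tab slp u) = true := by decide +kernel

theorem sl_5257 : allRange 94626 18 (fun u => chkSlp tab slp u) = true := by decide +kernel

theorem sl_5258 : allRange 94644 18 (fun u => chkSlp tab slp u) = true := by decide +kernel

theorem sl_5259 : allRange 94662 18 (fun u => chkSlp tab slp u) = true := by decide +kernel

theorem sl_5260 : allRange 94680 18 (fun u => chkSlp tab slp u) = true := by decide +kernel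

theorem sl_5261 : allRange 94698 18 (fun u => chkSlp tab slp u) = true := by decide +kernel

theorem sl_5262 : allRange 94716 18 (fun u => chkSlp tab slp u) = true := by decide +kernel

theorem sl_5263 : allRange 94734 18 (fun u => chkSlp tab slp u) = true := by decide +kernel


end Cfsg.Agent.Helper9.TCData.ONC0
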