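import Cfsg.Agent.Lib.Helper9.TCData.ONC0.Main

set_option autoImplicit false
set_option maxRecDepth 1000000

namespace Cfsg.Agent.Helper9.TCData.ONC0
open Cfsg.Agent.Helper9.TC2

theorem sl_5264 : allRange 94752 18 (fun u => chkSlp tab slp u) = true := by decide +kernel

theorem sl_5265 : allRange 94770 18 (fun u => chkSlp tab slp u) = true := by decide +kernel

theorem sl_5266 : allRange 94788 18 (fun u => chkSlp tab slp u) = true := by decide +kernel

theorem sl_5267 : allRange 94806 18 (fun u => chkSlp tab slp u) = true := by decide +kernel

theorem sl_5268 : allRange 94824 18 (fun u => chkSlp tab slp u) = true := by decide +kernel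

theorem sl_5269 : allRange 94842 18 (fun u => chkSlp tab slp u) = true := by decide +kernel

theorem sl_5270 : allRange 94860 18 (fun u => chkSlp tab slp u) = true := by decide +kernel

theorem sl_5271 : allRange 94878 18 (fun u => chkSlp tab slp u) = true := by decide +kernel


end Cfsg.Agent.Helper9.TCData.ONC0
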