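import Cfsg.Agent.Lib.Helper9.TCData.ONC0.Main

set_option autoImplicit false
set_option maxRecDepth 1000000

namespace Cfsg.Agent.Helper9.TCData.ONC0
open Cfsg.Agent.Helper9.TC2

theorem sl_5280 : allRange 95040 18 (fun u => chkSlp tab slp u) = true := by decide +kernel

theorem sl_5281 : allRange 95058 18 (fun u => chkSlp tab slp u) = true := by decide +kernel

theorem sl_5282 : allRange 95076 18 (fun u => chkSlp tab slp u) = true := by decide +kernel

theorem sl_5283 : allRange 95094 18 (fun u => chkSlp tab slp u) = true := by decide +kernel

theorem sl_5284 : allRange 95112 18 (fun u => chkSlp tab slp u) = true := by decide +kernel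

theorem sl_5285 : allRange 95130 18 (fun u => chkSlp tab slp u) = true := by decide +kernel

theorem sl_5286 : allRange 95148 18 (fun u => chkSlp tab slp u) = true := by decide +kernel

theorem sl_5287 : allRange 95166 18 (fun u => chkSlp tab slp u) = true := by decide +kernel


end Cfsg.Agent.Helper9.TCData.ONC0
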