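import Cfsg.Agent.Lib.Helper9.TCData.ONC0.Main

set_option autoImplicit false
set_option maxRecDepth 1000000

namespace Cfsg.Agent.Helper9.TCData.ONC0
open Cfsg.Agent.Helper9.TC2

theorem sl_5288 : allRange 95184 18 (fun u => chkSlp tab slp u) = true := by decide +kernel

theorem sl_5289 : allRange 95202 18 (fun u => chkSlp tab slp u) = true := by decide +kernel

theorem sl_5290 : allRange 95220 18 (fun u => chkSlp tab slp u) = true := by decide +kernel

theorem sl_5291 : allRange 95238 18 (fun u => chkSlp tab slp u) = true := by decide +kernel

theorem sl_5292 : allRange 95256 18 (fun u => chkSlp tab slp u) = true := by decide +kernel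

theorem sl_5293 : allRange 95274 18 (fun u => chkSlp tab slp u) = true := by decide +kernel

theorem sl_5294 : allRange 95292 18 (fun u => chkSlp tab slp u) = true := by decide +kernel

theorem sl_5295 : allRange 95310 18 (fun u => chkSlp tab slp u) = true := by decide +kernel


end Cfsg.Agent.Helper9.TCData.ONC0
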