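import Cfsg.Agent.Lib.Helper9.TCData.ONC0.Main

set_option autoImplicit false
set_option maxRecDepth 1000000

namespace Cfsg.Agent.Helper9.TCData.ONC0
open Cfsg.Agent.Helper9.TC2

theorem sl_5304 : allRange 95472 18 (fun u => chkSlp tab slp u) = true := by decide +kernel

theorem sl_5305 : allRange 95490 18 (fun u => chkSlp tab slp u) = true := by decide +kernel

theorem sl_5306 : allRange 95508 18 (fun u => chkSlp tab slp u) = true := by decide +kernel

theorem sl_5307 : allRange 95526 18 (fun u => chkSlp tab slp u) = true := by decide +kernel

theorem sl_5308 : allRange 95544 18 (fun u => chkSlp tab slp u) = true := by decide +kernel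

theorem sl_5309 : allRange 95562 18 (fun u => chkSlp tab slp u) = true := by decide +kernel

theorem sl_5310 : allRange 95580 18 (fun u => chkSlp tab slp u) = true := by decide +kernel

theorem sl_5311 : allRange 95598 18 (fun u => chkSlp tab slp u) = true := by decide +kernel


end Cfsg.Agent.Helper9.TCData.ONC0
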