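import Cfsg.Agent.Lib.Helper9.TCData.ONC0.Main

set_option autoImplicit false
set_option maxRecDepth 1000000

namespace Cfsg.Agent.Helper9.TCData.ONC0
open Cfsg.Agent.Helper9.TC2

theorem sl_5320 : allRange 95760 18 (fun u => chkSlp tab slp u) = true := by decide +kernel

theorem sl_5321 : allRange 95778 18 (fun u => chkSlp tab slp u) = true := by decide +kernel

theorem sl_5322 : allRange 95796 18 (fun u => chkSlp tab slp u) = true := by decide +kernel

theorem sl_5323 : allRange 95814 18 (fun u => chkSlp tab slp u) = true := by decide +kernel

theorem sl_5324 : allRange 95832 18 (fun u => chkSlp tab slp u) = true := by decide +kernel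

theorem sl_5325 : allRange 95850 18 (fun u => chkSlp tab slp u) = true := by decide +kernel

theorem sl_5326 : allRange 95868 18 (fun u => chkSlp tab slp u) = true := by decide +kernel

theorem sl_5327 : allRange 95886 18 (fun u => chkSlp tab slp u) = true := by decide +kernel


end Cfsg.Agent.Helper9.TCData.ONC0
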