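import Cfsg.Agent.Lib.Helper9.TCData.ONC0.Main

set_option autoImplicit false
set_option maxRecDepth 1000000

namespace Cfsg.Agent.Helper9.TCData.ONC0
open Cfsg.Agent.Helper9.TC2

theorem sl_5328 : allRange 95904 18 (fun u => chkSlp tab slp u) = true := by decide +kernel

theorem sl_5329 : allRange 95922 18 (fun u => chkSlp tab slp u) = true := by decide +kernel

theorem sl_5330 : allRange 95940 18 (fun u => chkSlp tab slp u) = true := by decide +kernel

theorem sl_5331 : allRange 95958 18 (fun u => chkSlp tab slp u) = true := by decide +kernel

theorem sl_5332 : allRange 95976 18 (fun u => chkSlp tab slp u) = true := by decide +kernel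

theorem sl_5333 : allRange 95994 18 (fun u => chkSlp tab slp u) = true := by decide +kernel

theorem sl_5334 : allRange 96012 18 (fun u => chkSlp tab slp u) = true := by decide +kernel

theorem sl_5335 : allRange 96030 18 (fun u => chkSlp tab slp u) = true := by decide +kernel


end Cfsg.Agent.Helper9.TCData.ONC0
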