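import Cfsg.Agent.Lib.Helper9.TCData.ONC0.Main

set_option autoImplicit false
set_option maxRecDepth 1000000

namespace Cfsg.Agent.Helper9.TCData.ONC0
open Cfsg.Agent.Helper9.TC2

theorem sl_5336 : allRange 96048 18 (fun u => chkSlp tab slp u) = true := by decide +kernel

theorem sl_5337 : allRange 96066 18 (fun u => chkSlp tab slp u) = true := by decide +kernel

theorem sl_5338 : allRange 96084 18 (fun u => chkSlp tab slp u) = true := by decide +kernel

theorem sl_5339 : allRange 96102 18 (fun u => chkSlp tab slp u) = true := by decide +kernel

theorem sl_5340 : allRange 96120 18 (fun u => chkSlp tab slp u) = true := by decide +kernel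

theorem sl_5341 : allRange 96138 18 (fun u => chkSlp tab slp u) = true := by decide +kernel

theorem sl_5342 : allRange 96156 18 (fun u => chkSlp tab slp u) = true := by decide +kernel

theorem sl_5343 : allRange 96174 18 (fun u => chkSlp tab slp u) = true := by decide +kernel


end Cfsg.Agent.Helper9.TCData.ONC0
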