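import Cfsg.Agent.Lib.Helper9.TCData.ONC0.Main

set_option autoImplicit false
set_option maxRecDepth 1000000

namespace Cfsg.Agent.Helper9.TCData.ONC0
open Cfsg.Agent.Helper9.TC2

theorem sl_5368 : allRange 96624 18 (fun u => chkSlp tab slp u) = true := by decide +kernel

theorem sl_5369 : allRange 96642 18 (fun u => chkSlp tab slp u) = true := by decide +kernel

theorem sl_5370 : allRange 96660 18 (fun u => chkSlp tab slp u) = true := by decide +kernel

theorem sl_5371 : allRange 96678 18 (fun u => chkSlp tab slp u) = true := by decide +kernel

theorem sl_5372 : allRange 96696 18 (fun u => chkSlp tab slp u) = true := by decide +kernel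

theorem sl_5373 : allRange 96714 18 (fun u => chkSlp tab slp u) = true := by decide +kernel

theorem sl_5374 : allRange 96732 18 (fun u => chkSlp tab slp u) = true := by decide +kernel

theorem sl_5375 : allRange 96750 18 (fun u => chkSlp tab slp u) = true := by decide +kernel


end Cfsg.Agent.Helper9.TCData.ONC0
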