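import Cfsg.Agent.Lib.Helper9.TCData.ONC0.Main

set_option autoImplicit false
set_option maxRecDepth 1000000

namespace Cfsg.Agent.Helper9.TCData.ONC0
open Cfsg.Agent.Helper9.TC2

theorem sl_5392 : allRange 97056 18 (fun u => chkSlp tab slp u) = true := by decide +kernel

theorem sl_5393 : allRange 97074 18 (fun u => chkSlp tab slp u) = true := by decide +kernel

theorem sl_5394 : allRange 97092 18 (fun u => chkSlp tab slp u) = true := by decide +kernel

theorem sl_5395 : allRange 97110 18 (fun u => chkSlp tab slp u) = true := by decide +kernel

theorem sl_5396 : allRange 97128 18 (fun u => chkSlp tab slp u) = true := by decide +kernel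

theorem sl_5397 : allRange 97146 18 (fun u => chkSlp tab slp u) = true := by decide +kernel

theorem sl_5398 : allRange 97164 18 (fun u => chkSlp tab slp u) = true := by decide +kernel

theorem sl_5399 : allRange 97182 18 (fun u => chkSlp tab slp u) = true := by decide +kernel


end Cfsg.Agent.Helper9.TCData.ONC0
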