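import Cfsg.Agent.Lib.Helper9.TCData.ONC0.Main

set_option autoImplicit false
set_option maxRecDepth 1000000

namespace Cfsg.Agent.Helper9.TCData.ONC0
open Cfsg.Agent.Helper9.TC2

theorem sl_5408 : allRange 97344 18 (fun u => chkSlp tab slp u) = true := by decide +kernel

theorem sl_5409 : allRange 97362 18 (fun u => chkSlp tab slp u) = true := by decide +kernel

theorem sl_5410 : allRange 97380 18 (fun u => chkSlp tab slp u) = true := by decide +kernel

theorem sl_5411 : allRange 97398 18 (fun u => chkSlp tab slp u) = true := by decide +kernel

theorem sl_5412 : allRange 97416 18 (fun u => chkSlp tab slp u) = true := by decide +kernel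

theorem sl_5413 : allRange 97434 18 (fun u => chkSlp tab slp u) = true := by decide +kernel

theorem sl_5414 : allRange 97452 18 (fun u => chkSlp tab slp u) = true := by decide +kernel

theorem sl_5415 : allRange 97470 18 (fun u => chkSlp tab slp u) = true := by decide +kernel


end Cfsg.Agent.Helper9.TCData.ONC0
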