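import Cfsg.Agent.Lib.Helper9.TCData.ONC0.Main

set_option autoImplicit false
set_option maxRecDepth 1000000

namespace Cfsg.Agent.Helper9.TCData.ONC0
open Cfsg.Agent.Helper9.TC2

theorem sl_5424 : allRange 97632 18 (fun u => chkSlp tab slp u) = true := by decide +kernel

theorem sl_5425 : allRange 97650 18 (fun u => chkSlp tab slp u) = true := by decide +kernel

theorem sl_5426 : allRange 97668 18 (fun u => chkSlp tab slp u) = true := by decide +kernel

theorem sl_5427 : allRange 97686 18 (fun u => chkSlp tab slp u) = true := by decide +kernel

theorem sl_5428 : allRange 97704 18 (fun u => chkSlp tab slp u) = true := by decide +kernel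

theorem sl_5429 : allRange 97722 18 (fun u => chkSlp tab slp u) = true := by decide +kernel

theorem sl_5430 : allRange 97740 18 (fun u => chkSlp tab slp u) = true := by decide +kernel

theorem sl_5431 : allRange 97758 18 (fun u => chkSlp tab slp u) = true := by decide +kernel


end Cfsg.Agent.Helper9.TCData.ONC0
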