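import Cfsg.Agent.Lib.Helper9.TCData.ONC0.Main

set_option autoImplicit false
set_option maxRecDepth 1000000

namespace Cfsg.Agent.Helper9.TCData.ONC0
open Cfsg.Agent.Helper9.TC2

theorem sl_5448 : allRange 98064 18 (fun u => chkSlp tab slp u) = true := by decide +kernel

theorem sl_5449 : allRange 98082 18 (fun u => chkSlp tab slp u) = true := by decide +kernel

theorem sl_5450 : allRange 98100 18 (fun u => chkSlp tab slp u) = true := by decide +kernel

theorem sl_5451 : allRange 98118 18 (fun u => chkSlp tab slp u) = true := by decide +kernel

theorem sl_5452 : allRange 98136 18 (fun u => chkSlp tab slp u) = true := by decide +kernel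

theorem sl_5453 : allRange 98154 18 (fun u => chkSlp tab slp u) = true := by decide +kernel

theorem sl_5454 : allRange 98172 18 (fun u => chkSlp tab slp u) = true := by decide +kernel

theorem sl_5455 : allRange 98190 18 (fun u => chkSlp tab slp u) = true := by decide +kernel


end Cfsg.Agent.Helper9.TCData.ONC0
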