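import Cfsg.Agent.Lib.Helper9.TCData.ONC0.Main

set_option autoImplicit false
set_option maxRecDepth 1000000

namespace Cfsg.Agent.Helper9.TCData.ONC0
open Cfsg.Agent.Helper9.TC2

theorem sl_5464 : allRange 98352 18 (fun u => chkSlp tab slp u) = true := by decide +kernel

theorem sl_5465 : allRange 98370 18 (fun u => chkSlp tab slp u) = true := by decide +kernel

theorem sl_5466 : allRange 98388 18 (fun u => chkSlp tab slp u) = true := by decide +kernel

theorem sl_5467 : allRange 98406 18 (fun u => chkSlp tab slp u) = true := by decide +kernel

theorem sl_5468 : allRange 98424 18 (fun u => chkSlp tab slp u) = true := by decide +kernel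

theorem sl_5469 : allRange 98442 18 (fun u => chkSlp tab slp u) = true := by decide +kernel

theorem sl_5470 : allRange 98460 18 (fun u => chkSlp tab slp u) = true := by decide +kernel

theorem sl_5471 : allRange 98478 18 (fun u => chkSlp tab slp u) = true := by decide +kernel


end Cfsg.Agent.Helper9.TCData.ONC0
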