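import Cfsg.Agent.Lib.Helper9.TCData.ONC0.Main

set_option autoImplicit false
set_option maxRecDepth 1000000

namespace Cfsg.Agent.Helper9.TCData.ONC0
open Cfsg.Agent.Helper9.TC2

theorem sl_5472 : allRange 98496 18 (fun u => chkSlp tab slp u) = true := by decide +kernel

theorem sl_5473 : allRange 98514 18 (fun u => chkSlp tab slp u) = true := by decide +kernel

theorem sl_5474 : allRange 98532 18 (fun u => chkSlp tab slp u) = true := by decide +kernel

theorem sl_5475 : allRange 98550 18 (fun u => chkSlp tab slp u) = true := by decide +kernel

theorem sl_5476 : allRange 98568 18 (fun u => chkSlp tab slp u) = true := by decide +kernel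

theorem sl_5477 : allRange 98586 18 (fun u => chkSlp tab slp u) = true := by decide +kernel

theorem sl_5478 : allRange 98604 18 (fun u => chkSlp tab slp u) = true := by decide +kernel

theorem sl_5479 : allRange 98622 18 (fun u => chkSlp tab slp u) = true := by decide +kernel


end Cfsg.Agent.Helper9.TCData.ONC0
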