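import Cfsg.Agent.Lib.Helper9.TCData.ONC0.Main

set_option autoImplicit false
set_option maxRecDepth 1000000

namespace Cfsg.Agent.Helper9.TCData.ONC0
open Cfsg.Agent.Helper9.TC2

theorem sl_5480 : allRange 98640 18 (fun u => chkSlp tab slp u) = true := by decide +kernel

theorem sl_5481 : allRange 98658 18 (fun u => chkSlp tab slp u) = true := by decide +kernel

theorem sl_5482 : allRange 98676 18 (fun u => chkSlp tab slp u) = true := by decide +kernel

theorem sl_5483 : allRange 98694 18 (fun u => chkSlp tab slp u) = true := by decide +kernel

theorem sl_5484 : allRange 98712 18 (fun u => chkSlp tab slp u) = true := by decide +kernel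

theorem sl_5485 : allRange 98730 18 (fun u => chkSlp tab slp u) = true := by decide +kernel

theorem sl_5486 : allRange 98748 18 (fun u => chkSlp tab slp u) = true := by decide +kernel

theorem sl_5487 : allRange 98766 18 (fun u => chkSlp tab slp u) = true := by decide +kernel


end Cfsg.Agent.Helper9.TCData.ONC0
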