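import Cfsg.Agent.Lib.Helper9.TCData.ONC0.Main

set_option autoImplicit false
set_option maxRecDepth 1000000

namespace Cfsg.Agent.Helper9.TCData.ONC0
open Cfsg.Agent.Helper9.TC2

theorem sl_5488 : allRange 98784 18 (fun u => chkSlp tab slp u) = true := by decide +kernel

theorem sl_5489 : allRange 98802 18 (fun u => chkSlp tab slp u) = true := by decide +kernel

theorem sl_5490 : allRange 98820 18 (fun u => chkSlp tab slp u) = true := by decide +kernel

theorem sl_5491 : allRange 98838 18 (fun u => chkSlp tab slp u) = true := by decide +kernel

theorem sl_5492 : allRange 98856 18 (fun u => chkSlp tab slp u) = true := by decide +kernel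

theorem sl_5493 : allRange 98874 18 (fun u => chkSlp tab slp u) = true := by decide +kernel

theorem sl_5494 : allRange 98892 18 (fun u => chkSlp tab slp u) = true := by decide +kernel

theorem sl_5495 : allRange 98910 18 (fun u => chkSlp tab slp u) = true := by decide +kernel


end Cfsg.Agent.Helper9.TCData.ONC0
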