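import Cfsg.Agent.Lib.Helper9.TCData.ONC0.Main

set_option autoImplicit false
set_option maxRecDepth 1000000

namespace Cfsg.Agent.Helper9.TCData.ONC0
open Cfsg.Agent.Helper9.TC2

theorem sl_5496 : allRange 98928 18 (fun u => chkSlp tab slp u) = true := by decide +kernel

theorem sl_5497 : allRange 98946 18 (fun u => chkSlp tab slp u) = true := by decide +kernel

theorem sl_5498 : allRange 98964 18 (fun u => chkSlp tab slp u) = true := by decide +kernel

theorem sl_5499 : allRange 98982 18 (fun u => chkSlp tab slp u) = true := by decide +kernel

theorem sl_5500 : allRange 99000 18 (fun u => chkSlp tab slp u) = true := by decide +kernel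

theorem sl_5501 : allRange 99018 18 (fun u => chkSlp tab slp u) = true := by decide +kernel

theorem sl_5502 : allRange 99036 18 (fun u => chkSlp tab slp u) = true := by decide +kernel

theorem sl_5503 : allRange 99054 18 (fun u => chkSlp tab slp u) = true := by decide +kernel


end Cfsg.Agent.Helper9.TCData.ONC0
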