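import Cfsg.Agent.Lib.Helper9.TCData.ONC0.Main

set_option autoImplicit false
set_option maxRecDepth 1000000

namespace Cfsg.Agent.Helper9.TCData.ONC0
open Cfsg.Agent.Helper9.TC2

theorem sl_5504 : allRange 99072 18 (fun u => chkSlp tab slp u) = true := by decide +kernel

theorem sl_5505 : allRange 99090 18 (fun u => chkSlp tab slp u) = true := by decide +kernel

theorem sl_5506 : allRange 99108 18 (fun u => chkSlp tab slp u) = true := by decide +kernel

theorem sl_5507 : allRange 99126 18 (fun u => chkSlp tab slp u) = true := by decide +kernel

theorem sl_5508 : allRange 99144 18 (fun u => chkSlp tab slp u) = true := by decide +kernel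

theorem sl_5509 : allRange 99162 18 (fun u => chkSlp tab slp u) = true := by decide +kernel

theorem sl_5510 : allRange 99180 18 (fun u => chkSlp tab slp u) = true := by decide +kernel

theorem sl_5511 : allRange 99198 18 (fun u => chkSlp tab slp u) = true := by decide +kernel


end Cfsg.Agent.Helper9.TCData.ONC0
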