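import Cfsg.Agent.Lib.Helper9.TCData.ONC0.Main

set_option autoImplicit false
set_option maxRecDepth 1000000

namespace Cfsg.Agent.Helper9.TCData.ONC0
open Cfsg.Agent.Helper9.TC2

theorem sl_5512 : allRange 99216 18 (fun u => chkSlp tab slp u) = true := by decide +kernel

theorem sl_5513 : allRange 99234 18 (fun u => chkSlp tab slp u) = true := by decide +kernel

theorem sl_5514 : allRange 99252 18 (fun u => chkSlp tab slp u) = true := by decide +kernel

theorem sl_5515 : allRange 99270 18 (fun u => chkSlp tab slp u) = true := by decide +kernel

theorem sl_5516 : allRange 99288 18 (fun u => chkSlp tab slp u) = true := by decide +kernel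

theorem sl_5517 : allRange 99306 18 (fun u => chkSlp tab slp u) = true := by decide +kernel

theorem sl_5518 : allRange 99324 18 (fun u => chkSlp tab slp u) = true := by decide +kernel

theorem sl_5519 : allRange 99342 18 (fun u => chkSlp tab slp u) = true := by decide +kernel


end Cfsg.Agent.Helper9.TCData.ONC0
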