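import Cfsg.Agent.Lib.Helper9.TCData.ONC0.Main

set_option autoImplicit false
set_option maxRecDepth 1000000

namespace Cfsg.Agent.Helper9.TCData.ONC0
open Cfsg.Agent.Helper9.TC2

theorem sl_5528 : allRange 99504 18 (fun u => chkSlp tab slp u) = true := by decide +kernel

theorem sl_5529 : allRange 99522 18 (fun u => chkSlp tab slp u) = true := by decide +kernel

theorem sl_5530 : allRange 99540 18 (fun u => chkSlp tab slp u) = true := by decide +kernel

theorem sl_5531 : allRange 99558 18 (fun u => chkSlp tab slp u) = true := by decide +kernel

theorem sl_5532 : allRange 99576 18 (fun u => chkSlp tab slp u) = true := by decide +kernel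

theorem sl_5533 : allRange 99594 18 (fun u => chkSlp tab slp u) = true := by decide +kernel

theorem sl_5534 : allRange 99612 18 (fun u => chkSlp tab slp u) = true := by decide +kernel

theorem sl_5535 : allRange 99630 18 (fun u => chkSlp tab slp u) = true := by decide +kernel


end Cfsg.Agent.Helper9.TCData.ONC0
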