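import Cfsg.Agent.Lib.Helper9.TCData.ONC0.Main

set_option autoImplicit false
set_option maxRecDepth 1000000

namespace Cfsg.Agent.Helper9.TCData.ONC0
open Cfsg.Agent.Helper9.TC2

theorem sl_5576 : allRange 100368 18 (fun u => chkSlp tab slp u) = true := by decide +kernel

theorem sl_5577 : allRange 100386 18 (fun u => chkSlp tab slp u) = true := by decide +kernel

theorem sl_5578 : allRange 100404 18 (fun u => chkSlp tab slp u) = true := by decide +kernel

theorem sl_5579 : allRange 100422 18 (fun u => chkSlp tab slp u) = true := by decide +kernel

theorem sl_5580 : allRange 100440 18 (fun u => chkSlp tab slp u) = true := by decide +kernel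

theorem sl_5581 : allRange 100458 18 (fun u => chkSlp tab slp u) = true := by decide +kernel

theorem sl_5582 : allRange 100476 18 (fun u => chkSlp tab slp u) = true := by decide +kernel

theorem sl_5583 : allRange 100494 18 (fun u => chkSlp tab slp u) = true := by decide +kernel


end Cfsg.Agent.Helper9.TCData.ONC0
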