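import Cfsg.Agent.Lib.Helper9.TCData.ONC0.Main

set_option autoImplicit false
set_option maxRecDepth 1000000

namespace Cfsg.Agent.Helper9.TCData.ONC0
open Cfsg.Agent.Helper9.TC2

theorem sl_5584 : allRange 100512 18 (fun u => chkSlp tab slp u) = true := by decide +kernel

theorem sl_5585 : allRange 100530 18 (fun u => chkSlp tab slp u) = true := by decide +kernel

theorem sl_5586 : allRange 100548 18 (fun u => chkSlp tab slp u) = true := by decide +kernel

theorem sl_5587 : allRange 100566 18 (fun u => chkSlp tab slp u) = true := by decide +kernel

theorem sl_5588 : allRange 100584 18 (fun u => chkSlp tab slp u) = true := by decide +kernel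

theorem sl_5589 : allRange 100602 18 (fun u => chkSlp tab slp u) = true := by decide +kernel

theorem sl_5590 : allRange 100620 18 (fun u => chkSlp tab slp u) = true := by decide +kernel

theorem sl_5591 : allRange 100638 18 (fun u => chkSlp tab slp u) = true := by decide +kernel


end Cfsg.Agent.Helper9.TCData.ONC0
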