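import Cfsg.Agent.Lib.Helper9.TCData.ONC0.Main

set_option autoImplicit false
set_option maxRecDepth 1000000

namespace Cfsg.Agent.Helper9.TCData.ONC0
open Cfsg.Agent.Helper9.TC2

theorem sl_5600 : allRange 100800 18 (fun u => chkSlp tab slp u) = true := by decide +kernel

theorem sl_5601 : allRange 100818 18 (fun u => chkSlp tab slp u) = true := by decide +kernel

theorem sl_5602 : allRange 100836 18 (fun u => chkSlp tab slp u) = true := by decide +kernel

theorem sl_5603 : allRange 100854 18 (fun u => chkSlp tab slp u) = true := by decide +kernel

theorem sl_5604 : allRange 100872 18 (fun u => chkSlp tab slp u) = true := by decide +kernel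

theorem sl_5605 : allRange 100890 18 (fun u => chkSlp tab slp u) = true := by decide +kernel

theorem sl_5606 : allRange 100908 18 (fun u => chkSlp tab slp u) = true := by decide +kernel

theorem sl_5607 : allRange 100926 18 (fun u => chkSlp tab slp u) = true := by decide +kernel


end Cfsg.Agent.Helper9.TCData.ONC0
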