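import Cfsg.Agent.Lib.Helper9.TCData.ONC0.Main

set_option autoImplicit false
set_option maxRecDepth 1000000

namespace Cfsg.Agent.Helper9.TCData.ONC0
open Cfsg.Agent.Helper9.TC2

theorem sl_5624 : allRange 101232 18 (fun u => chkSlp tab slp u) = true := by decide +kernel

theorem sl_5625 : allRange 101250 18 (fun u => chkSlp tab slp u) = true := by decide +kernel

theorem sl_5626 : allRange 101268 18 (fun u => chkSlp tab slp u) = true := by decide +kernel

theorem sl_5627 : allRange 101286 18 (fun u => chkSlp tab slp u) = true := by decide +kernel

theorem sl_5628 : allRange 101304 18 (fun u => chkSlp tab slp u) = true := by decide +kernel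

theorem sl_5629 : allRange 101322 18 (fun u => chkSlp tab slp u) = true := by decide +kernel

theorem sl_5630 : allRange 101340 18 (fun u => chkSlp tab slp u) = true := by decide +kernel

theorem sl_5631 : allRange 101358 18 (fun u => chkSlp tab slp u) = true := by decide +kernel


end Cfsg.Agent.Helper9.TCData.ONC0
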