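import Cfsg.Agent.Lib.Helper9.TCData.ONC0.Main

set_option autoImplicit false
set_option maxRecDepth 1000000

namespace Cfsg.Agent.Helper9.TCData.ONC0
open Cfsg.Agent.Helper9.TC2

theorem sl_5640 : allRange 101520 18 (fun u => chkSlp tab slp u) = true := by decide +kernel

theorem sl_5641 : allRange 101538 18 (fun u => chkSlp tab slp u) = true := by decide +kernel

theorem sl_5642 : allRange 101556 18 (fun u => chkSlp tab slp u) = true := by decide +kernel

theorem sl_5643 : allRange 101574 18 (fun u => chkSlp tab slp u) = true := by decide +kernel

theorem sl_5644 : allRange 101592 18 (fun u => chkSlp tab slp u) = true := by decide +kernel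

theorem sl_5645 : allRange 101610 18 (fun u => chkSlp tab slp u) = true := by decide +kernel

theorem sl_5646 : allRange 101628 18 (fun u => chkSlp tab slp u) = true := by decide +kernel

theorem sl_5647 : allRange 101646 18 (fun u => chkSlp tab slp u) = true := by decide +kernel


end Cfsg.Agent.Helper9.TCData.ONC0
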