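import Cfsg.Agent.Lib.Helper9.TCData.ONC0.Main

set_option autoImplicit false
set_option maxRecDepth 1000000

namespace Cfsg.Agent.Helper9.TCData.ONC0
open Cfsg.Agent.Helper9.TC2

theorem sl_5648 : allRange 101664 18 (fun u => chkSlp tab slp u) = true := by decide +kernel

theorem sl_5649 : allRange 101682 18 (fun u => chkSlp tab slp u) = true := by decide +kernel

theorem sl_5650 : allRange 101700 18 (fun u => chkSlp tab slp u) = true := by decide +kernel

theorem sl_5651 : allRange 101718 18 (fun u => chkSlp tab slp u) = true := by decide +kernel

theorem sl_5652 : allRange 101736 18 (fun u => chkSlp tab slp u) = true := by decide +kernel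

theorem sl_5653 : allRange 101754 18 (fun u => chkSlp tab slp u) = true := by decide +kernel

theorem sl_5654 : allRange 101772 18 (fun u => chkSlp tab slp u) = true := by decide +kernel

theorem sl_5655 : allRange 101790 18 (fun u => chkSlp tab slp u) = true := by decide +kernel


end Cfsg.Agent.Helper9.TCData.ONC0
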