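import Cfsg.Agent.Lib.Helper9.TCData.ONC0.Main

set_option autoImplicit false
set_option maxRecDepth 1000000

namespace Cfsg.Agent.Helper9.TCData.ONC0
open Cfsg.Agent.Helper9.TC2

theorem sl_5672 : allRange 102096 18 (fun u => chkSlp tab slp u) = true := by decide +kernel

theorem sl_5673 : allRange 102114 18 (fun u => chkSlp tab slp u) = true := by decide +kernel

theorem sl_5674 : allRange 102132 18 (fun u => chkSlp tab slp u) = true := by decide +kernel

theorem sl_5675 : allRange 102150 18 (fun u => chkSlp tab slp u) = true := by decide +kernel

theorem sl_5676 : allRange 102168 18 (fun u => chkSlp tab slp u) = true := by decide +kernel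

theorem sl_5677 : allRange 102186 18 (fun u => chkSlp tab slp u) = true := by decide +kernel

theorem sl_5678 : allRange 102204 18 (fun u => chkSlp tab slp u) = true := by decide +kernel

theorem sl_5679 : allRange 102222 18 (fun u => chkSlp tab slp u) = true := by decide +kernel


end Cfsg.Agent.Helper9.TCData.ONC0
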