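import Cfsg.Agent.Lib.Helper9.TCData.ONC0.Main

set_option autoImplicit false
set_option maxRecDepth 1000000

namespace Cfsg.Agent.Helper9.TCData.ONC0
open Cfsg.Agent.Helper9.TC2

theorem sl_5680 : allRange 102240 18 (fun u => chkSlp tab slp u) = true := by decide +kernel

theorem sl_5681 : allRange 102258 18 (fun u => chkSlp tab slp u) = true := by decide +kernel

theorem sl_5682 : allRange 102276 18 (fun u => chkSlp tab slp u) = true := by decide +kernel

theorem sl_5683 : allRange 102294 18 (fun u => chkSlp tab slp u) = true := by decide +kernel

theorem sl_5684 : allRange 102312 18 (fun u => chkSlp tab slp u) = true := by decide +kernel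

theorem sl_5685 : allRange 102330 18 (fun u => chkSlp tab slp u) = true := by decide +kernel

theorem sl_5686 : allRange 102348 18 (fun u => chkSlp tab slp u) = true := by decide +kernel

theorem sl_5687 : allRange 102366 18 (fun u => chkSlp tab slp u) = true := by decide +kernel


end Cfsg.Agent.Helper9.TCData.ONC0
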