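import Cfsg.Agent.Lib.Helper9.TCData.ONC0.Main

set_option autoImplicit false
set_option maxRecDepth 1000000

namespace Cfsg.Agent.Helper9.TCData.ONC0
open Cfsg.Agent.Helper9.TC2

theorem sl_5688 : allRange 102384 18 (fun u => chkSlp tab slp u) = true := by decide +kernel

theorem sl_5689 : allRange 102402 18 (fun u => chkSlp tab slp u) = true := by decide +kernel

theorem sl_5690 : allRange 102420 18 (fun u => chkSlp tab slp u) = true := by decide +kernel

theorem sl_5691 : allRange 102438 18 (fun u => chkSlp tab slp u) = true := by decide +kernel

theorem sl_5692 : allRange 102456 18 (fun u => chkSlp tab slp u) = true := by decide +kernel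

theorem sl_5693 : allRange 102474 18 (fun u => chkSlp tab slp u) = true := by decide +kernel

theorem sl_5694 : allRange 102492 18 (fun u => chkSlp tab slp u) = true := by decide +kernel

theorem sl_5695 : allRange 102510 18 (fun u => chkSlp tab slp u) = true := by decide +kernel


end Cfsg.Agent.Helper9.TCData.ONC0
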