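import Cfsg.Agent.Lib.Helper9.TCData.ONC0.Main

set_option autoImplicit false
set_option maxRecDepth 1000000

namespace Cfsg.Agent.Helper9.TCData.ONC0
open Cfsg.Agent.Helper9.TC2

theorem sl_5696 : allRange 102528 18 (fun u => chkSlp tab slp u) = true := by decide +kernel

theorem sl_5697 : allRange 102546 18 (fun u => chkSlp tab slp u) = true := by decide +kernel

theorem sl_5698 : allRange 102564 18 (fun u => chkSlp tab slp u) = true := by decide +kernel

theorem sl_5699 : allRange 102582 18 (fun u => chkSlp tab slp u) = true := by decide +kernel

theorem sl_5700 : allRange 102600 18 (fun u => chkSlp tab slp u) = true := by decide +kernel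

theorem sl_5701 : allRange 102618 18 (fun u => chkSlp tab slp u) = true := by decide +kernel

theorem sl_5702 : allRange 102636 18 (fun u => chkSlp tab slp u) = true := by decide +kernel

theorem sl_5703 : allRange 102654 18 (fun u => chkSlp tab slp u) = true := by decide +kernel


end Cfsg.Agent.Helper9.TCData.ONC0
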