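import Cfsg.Agent.Lib.Helper9.TCData.ONC0.Main

set_option autoImplicit false
set_option maxRecDepth 1000000

namespace Cfsg.Agent.Helper9.TCData.ONC0
open Cfsg.Agent.Helper9.TC2

theorem sl_5704 : allRange 102672 18 (fun u => chkSlp tab slp u) = true := by decide +kernel

theorem sl_5705 : allRange 102690 18 (fun u => chkSlp tab slp u) = true := by decide +kernel

theorem sl_5706 : allRange 102708 18 (fun u => chkSlp tab slp u) = true := by decide +kernel

theorem sl_5707 : allRange 102726 18 (fun u => chkSlp tab slp u) = true := by decide +kernel

theorem sl_5708 : allRange 102744 18 (fun u => chkSlp tab slp u) = true := by decide +kernel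

theorem sl_5709 : allRange 102762 18 (fun u => chkSlp tab slp u) = true := by decide +kernel

theorem sl_5710 : allRange 102780 18 (fun u => chkSlp tab slp u) = true := by decide +kernel

theorem sl_5711 : allRange 102798 18 (fun u => chkSlp tab slp u) = true := by decide +kernel


end Cfsg.Agent.Helper9.TCData.ONC0
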