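import Cfsg.Agent.Lib.Helper9.TCData.ONC0.Main

set_option autoImplicit false
set_option maxRecDepth 1000000

namespace Cfsg.Agent.Helper9.TCData.ONC0
open Cfsg.Agent.Helper9.TC2

theorem sl_5744 : allRange 103392 18 (fun u => chkSlp tab slp u) = true := by decide +kernel

theorem sl_5745 : allRange 103410 18 (fun u => chkSlp tab slp u) = true := by decide +kernel

theorem sl_5746 : allRange 103428 18 (fun u => chkSlp tab slp u) = true := by decide +kernel

theorem sl_5747 : allRange 103446 18 (fun u => chkSlp tab slp u) = true := by decide +kernel

theorem sl_5748 : allRange 103464 18 (fun u => chkSlp tab slp u) = true := by decide +kernel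

theorem sl_5749 : allRange 103482 18 (fun u => chkSlp tab slp u) = true := by decide +kernel

theorem sl_5750 : allRange 103500 18 (fun u => chkSlp tab slp u) = true := by decide +kernel

theorem sl_5751 : allRange 103518 18 (fun u => chkSlp tab slp u) = true := by decide +kernel


end Cfsg.Agent.Helper9.TCData.ONC0
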