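import Cfsg.Agent.Lib.Helper9.TCData.ONC0.Main

set_option autoImplicit false
set_option maxRecDepth 1000000

namespace Cfsg.Agent.Helper9.TCData.ONC0
open Cfsg.Agent.Helper9.TC2

theorem sl_5752 : allRange 103536 18 (fun u => chkSlp tab slp u) = true := by decide +kernel

theorem sl_5753 : allRange 103554 18 (fun u => chkSlp tab slp u) = true := by decide +kernel

theorem sl_5754 : allRange 103572 18 (fun u => chkSlp tab slp u) = true := by decide +kernel

theorem sl_5755 : allRange 103590 18 (fun u => chkSlp tab slp u) = true := by decide +kernel

theorem sl_5756 : allRange 103608 18 (fun u => chkSlp tab slp u) = true := by decide +kernel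

theorem sl_5757 : allRange 103626 18 (fun u => chkSlp tab slp u) = true := by decide +kernel

theorem sl_5758 : allRange 103644 18 (fun u => chkSlp tab slp u) = true := by decide +kernel

theorem sl_5759 : allRange 103662 18 (fun u => chkSlp tab slp u) = true := by decide +kernel


end Cfsg.Agent.Helper9.TCData.ONC0
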