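import Cfsg.Agent.Lib.Helper9.TCData.ONC0.Main

set_option autoImplicit false
set_option maxRecDepth 1000000

namespace Cfsg.Agent.Helper9.TCData.ONC0
open Cfsg.Agent.Helper9.TC2

theorem sl_5760 : allRange 103680 18 (fun u => chkSlp tab slp u) = true := by decide +kernel

theorem sl_5761 : allRange 103698 18 (fun u => chkSlp tab slp u) = true := by decide +kernel

theorem sl_5762 : allRange 103716 18 (fun u => chkSlp tab slp u) = true := by decide +kernel

theorem sl_5763 : allRange 103734 18 (fun u => chkSlp tab slp u) = true := by decide +kernel

theorem sl_5764 : allRange 103752 18 (fun u => chkSlp tab slp u) = true := by decide +kernel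

theorem sl_5765 : allRange 103770 18 (fun u => chkSlp tab slp u) = true := by decide +kernel

theorem sl_5766 : allRange 103788 18 (fun u => chkSlp tab slp u) = true := by decide +kernel

theorem sl_5767 : allRange 103806 18 (fun u => chkSlp tab slp u) = true := by decide +kernel


end Cfsg.Agent.Helper9.TCData.ONC0
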