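import Cfsg.Agent.Lib.Helper9.TCData.ONC0.Main

set_option autoImplicit false
set_option maxRecDepth 1000000

namespace Cfsg.Agent.Helper9.TCData.ONC0
open Cfsg.Agent.Helper9.TC2

theorem sl_5776 : allRange 103968 18 (fun u => chkSlp tab slp u) = true := by decide +kernel

theorem sl_5777 : allRange 103986 18 (fun u => chkSlp tab slp u) = true := by decide +kernel

theorem sl_5778 : allRange 104004 18 (fun u => chkSlp tab slp u) = true := by decide +kernel

theorem sl_5779 : allRange 104022 18 (fun u => chkSlp tab slp u) = true := by decide +kernel

theorem sl_5780 : allRange 104040 18 (fun u => chkSlp tab slp u) = true := by decide +kernel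

theorem sl_5781 : allRange 104058 18 (fun u => chkSlp tab slp u) = true := by decide +kernel

theorem sl_5782 : allRange 104076 18 (fun u => chkSlp tab slp u) = true := by decide +kernel

theorem sl_5783 : allRange 104094 18 (fun u => chkSlp tab slp u) = true := by decide +kernel


end Cfsg.Agent.Helper9.TCData.ONC0
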