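import Cfsg.Agent.Lib.Helper9.TCData.ONC0.Main

set_option autoImplicit false
set_option maxRecDepth 1000000

namespace Cfsg.Agent.Helper9.TCData.ONC0
open Cfsg.Agent.Helper9.TC2

theorem sl_5792 : allRange 104256 18 (fun u => chkSlp tab slp u) = true := by decide +kernel

theorem sl_5793 : allRange 104274 18 (fun u => chkSlp tab slp u) = true := by decide +kernel

theorem sl_5794 : allRange 104292 18 (fun u => chkSlp tab slp u) = true := by decide +kernel

theorem sl_5795 : allRange 104310 18 (fun u => chkSlp tab slp u) = true := by decide +kernel

theorem sl_5796 : allRange 104328 18 (fun u => chkSlp tab slp u) = true := by decide +kernel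

theorem sl_5797 : allRange 104346 18 (fun u => chkSlp tab slp u) = true := by decide +kernel

theorem sl_5798 : allRange 104364 18 (fun u => chkSlp tab slp u) = true := by decide +kernel

theorem sl_5799 : allRange 104382 18 (fun u => chkSlp tab slp u) = true := by decide +kernel


end Cfsg.Agent.Helper9.TCData.ONC0
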