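import Cfsg.Agent.Lib.Helper9.TCData.ONC0.Main

set_option autoImplicit false
set_option maxRecDepth 1000000

namespace Cfsg.Agent.Helper9.TCData.ONC0
open Cfsg.Agent.Helper9.TC2

theorem sl_5800 : allRange 104400 18 (fun u => chkSlp tab slp u) = true := by decide +kernel

theorem sl_5801 : allRange 104418 18 (fun u => chkSlp tab slp u) = true := by decide +kernel

theorem sl_5802 : allRange 104436 18 (fun u => chkSlp tab slp u) = true := by decide +kernel

theorem sl_5803 : allRange 104454 18 (fun u => chkSlp tab slp u) = true := by decide +kernel

theorem sl_5804 : allRange 104472 18 (fun u => chkSlp tab slp u) = true := by decide +kernel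

theorem sl_5805 : allRange 104490 18 (fun u => chkSlp tab slp u) = true := by decide +kernel

theorem sl_5806 : allRange 104508 18 (fun u => chkSlp tab slp u) = true := by decide +kernel

theorem sl_5807 : allRange 104526 18 (fun u => chkSlp tab slp u) = true := by decide +kernel


end Cfsg.Agent.Helper9.TCData.ONC0
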