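import Cfsg.Agent.Lib.Helper9.TCData.ONC0.Main

set_option autoImplicit false
set_option maxRecDepth 1000000

namespace Cfsg.Agent.Helper9.TCData.ONC0
open Cfsg.Agent.Helper9.TC2

theorem sl_5808 : allRange 104544 18 (fun u => chkSlp tab slp u) = true := by decide +kernel

theorem sl_5809 : allRange 104562 18 (fun u => chkSlp tab slp u) = true := by decide +kernel

theorem sl_5810 : allRange 104580 18 (fun u => chkSlp tab slp u) = true := by decide +kernel

theorem sl_5811 : allRange 104598 18 (fun u => chkSlp tab slp u) = true := by decide +kernel

theorem sl_5812 : allRange 104616 18 (fun u => chkSlp tab slp u) = true := by decide +kernel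

theorem sl_5813 : allRange 104634 18 (fun u => chkSlp tab slp u) = true := by decide +kernel

theorem sl_5814 : allRange 104652 18 (fun u => chkSlp tab slp u) = true := by decide +kernel

theorem sl_5815 : allRange 104670 18 (fun u => chkSlp tab slp u) = true := by decide +kernel


end Cfsg.Agent.Helper9.TCData.ONC0
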