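import Cfsg.Agent.Lib.Helper9.TCData.ONC0.Main

set_option autoImplicit false
set_option maxRecDepth 1000000

namespace Cfsg.Agent.Helper9.TCData.ONC0
open Cfsg.Agent.Helper9.TC2

theorem sl_5816 : allRange 104688 18 (fun u => chkSlp tab slp u) = true := by decide +kernel

theorem sl_5817 : allRange 104706 18 (fun u => chkSlp tab slp u) = true := by decide +kernel

theorem sl_5818 : allRange 104724 18 (fun u => chkSlp tab slp u) = true := by decide +kernel

theorem sl_5819 : allRange 104742 18 (fun u => chkSlp tab slp u) = true := by decide +kernel

theorem sl_5820 : allRange 104760 18 (fun u => chkSlp tab slp u) = true := by decide +kernel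

theorem sl_5821 : allRange 104778 18 (fun u => chkSlp tab slp u) = true := by decide +kernel

theorem sl_5822 : allRange 104796 18 (fun u => chkSlp tab slp u) = true := by decide +kernel

theorem sl_5823 : allRange 104814 18 (fun u => chkSlp tab slp u) = true := by decide +kernel


end Cfsg.Agent.Helper9.TCData.ONC0
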