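import Cfsg.Agent.Lib.Helper9.TCData.ONC0.Main

set_option autoImplicit false
set_option maxRecDepth 1000000

namespace Cfsg.Agent.Helper9.TCData.ONC0
open Cfsg.Agent.Helper9.TC2

theorem sl_5832 : allRange 104976 18 (fun u => chkSlp tab slp u) = true := by decide +kernel

theorem sl_5833 : allRange 104994 18 (fun u => chkSlp tab slp u) = true := by decide +kernel

theorem sl_5834 : allRange 105012 18 (fun u => chkSlp tab slp u) = true := by decide +kernel

theorem sl_5835 : allRange 105030 18 (fun u => chkSlp tab slp u) = true := by decide +kernel

theorem sl_5836 : allRange 105048 18 (fun u => chkSlp tab slp u) = true := by decide +kernel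

theorem sl_5837 : allRange 105066 18 (fun u => chkSlp tab slp u) = true := by decide +kernel

theorem sl_5838 : allRange 105084 18 (fun u => chkSlp tab slp u) = true := by decide +kernel

theorem sl_5839 : allRange 105102 18 (fun u => chkSlp tab slp u) = true := by decide +kernel


end Cfsg.Agent.Helper9.TCData.ONC0
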