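import Cfsg.Agent.Lib.Helper9.TCData.ONC0.Main

set_option autoImplicit false
set_option maxRecDepth 1000000

namespace Cfsg.Agent.Helper9.TCData.ONC0
open Cfsg.Agent.Helper9.TC2

theorem sl_5840 : allRange 105120 18 (fun u => chkSlp tab slp u) = true := by decide +kernel

theorem sl_5841 : allRange 105138 18 (fun u => chkSlp tab slp u) = true := by decide +kernel

theorem sl_5842 : allRange 105156 18 (fun u => chkSlp tab slp u) = true := by decide +kernel

theorem sl_5843 : allRange 105174 18 (fun u => chkSlp tab slp u) = true := by decide +kernel

theorem sl_5844 : allRange 105192 18 (fun u => chkSlp tab slp u) = true := by decide +kernel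

theorem sl_5845 : allRange 105210 18 (fun u => chkSlp tab slp u) = true := by decide +kernel

theorem sl_5846 : allRange 105228 18 (fun u => chkSlp tab slp u) = true := by decide +kernel

theorem sl_5847 : allRange 105246 18 (fun u => chkSlp tab slp u) = true := by decide +kernel


end Cfsg.Agent.Helper9.TCData.ONC0
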