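import Cfsg.Agent.Lib.Helper9.TCData.ONC0.Main

set_option autoImplicit false
set_option maxRecDepth 1000000

namespace Cfsg.Agent.Helper9.TCData.ONC0
open Cfsg.Agent.Helper9.TC2

theorem sl_5848 : allRange 105264 18 (fun u => chkSlp tab slp u) = true := by decide +kernel

theorem sl_5849 : allRange 105282 18 (fun u => chkSlp tab slp u) = true := by decide +kernel

theorem sl_5850 : allRange 105300 18 (fun u => chkSlp tab slp u) = true := by decide +kernel

theorem sl_5851 : allRange 105318 18 (fun u => chkSlp tab slp u) = true := by decide +kernel

theorem sl_5852 : allRange 105336 18 (fun u => chkSlp tab slp u) = true := by decide +kernel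

theorem sl_5853 : allRange 105354 18 (fun u => chkSlp tab slp u) = true := by decide +kernel

theorem sl_5854 : allRange 105372 18 (fun u => chkSlp tab slp u) = true := by decide +kernel

theorem sl_5855 : allRange 105390 18 (fun u => chkSlp tab slp u) = true := by decide +kernel


end Cfsg.Agent.Helper9.TCData.ONC0
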