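import Cfsg.Agent.Lib.Helper9.TCData.ONC0.Main

set_option autoImplicit false
set_option maxRecDepth 1000000

namespace Cfsg.Agent.Helper9.TCData.ONC0
open Cfsg.Agent.Helper9.TC2

theorem sl_5856 : allRange 105408 18 (fun u => chkSlp tab slp u) = true := by decide +kernel

theorem sl_5857 : allRange 105426 18 (fun u => chkSlp tab slp u) = true := by decide +kernel

theorem sl_5858 : allRange 105444 18 (fun u => chkSlp tab slp u) = true := by decide +kernel

theorem sl_5859 : allRange 105462 18 (fun u => chkSlp tab slp u) = true := by decide +kernel

theorem sl_5860 : allRange 105480 18 (fun u => chkSlp tab slp u) = true := by decide +kernel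

theorem sl_5861 : allRange 105498 18 (fun u => chkSlp tab slp u) = true := by decide +kernel

theorem sl_5862 : allRange 105516 18 (fun u => chkSlp tab slp u) = true := by decide +kernel

theorem sl_5863 : allRange 105534 18 (fun u => chkSlp tab slp u) = true := by decide +kernel


end Cfsg.Agent.Helper9.TCData.ONC0
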