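import Cfsg.Agent.Lib.Helper9.TCData.ONC0.Main

set_option autoImplicit false
set_option maxRecDepth 1000000

namespace Cfsg.Agent.Helper9.TCData.ONC0
open Cfsg.Agent.Helper9.TC2

theorem sl_5864 : allRange 105552 18 (fun u => chkSlp tab slp u) = true := by decide +kernel

theorem sl_5865 : allRange 105570 18 (fun u => chkSlp tab slp u) = true := by decide +kernel

theorem sl_5866 : allRange 105588 18 (fun u => chkSlp tab slp u) = true := by decide +kernel

theorem sl_5867 : allRange 105606 18 (fun u => chkSlp tab slp u) = true := by decide +kernel

theorem sl_5868 : allRange 105624 18 (fun u => chkSlp tab slp u) = true := by decide +kernel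

theorem sl_5869 : allRange 105642 18 (fun u => chkSlp tab slp u) = true := by decide +kernel

theorem sl_5870 : allRange 105660 18 (fun u => chkSlp tab slp u) = true := by decide +kernel

theorem sl_5871 : allRange 105678 18 (fun u => chkSlp tab slp u) = true := by decide +kernel


end Cfsg.Agent.Helper9.TCData.ONC0
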