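import Cfsg.Agent.Lib.Helper9.TCData.ONC0.Main

set_option autoImplicit false
set_option maxRecDepth 1000000

namespace Cfsg.Agent.Helper9.TCData.ONC0
open Cfsg.Agent.Helper9.TC2

theorem sl_5872 : allRange 105696 18 (fun u => chkSlp tab slp u) = true := by decide +kernel

theorem sl_5873 : allRange 105714 18 (fun u => chkSlp tab slp u) = true := by decide +kernel

theorem sl_5874 : allRange 105732 18 (fun u => chkSlp tab slp u) = true := by decide +kernel

theorem sl_5875 : allRange 105750 18 (fun u => chkSlp tab slp u) = true := by decide +kernel

theorem sl_5876 : allRange 105768 18 (fun u => chkSlp tab slp u) = true := by decide +kernel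

theorem sl_5877 : allRange 105786 18 (fun u => chkSlp tab slp u) = true := by decide +kernel

theorem sl_5878 : allRange 105804 18 (fun u => chkSlp tab slp u) = true := by decide +kernel

theorem sl_5879 : allRange 105822 18 (fun u => chkSlp tab slp u) = true := by decide +kernel


end Cfsg.Agent.Helper9.TCData.ONC0
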