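import Cfsg.Agent.Lib.Helper9.TCData.ONC0.Main

set_option autoImplicit false
set_option maxRecDepth 1000000

namespace Cfsg.Agent.Helper9.TCData.ONC0
open Cfsg.Agent.Helper9.TC2

theorem sl_5880 : allRange 105840 18 (fun u => chkSlp tab slp u) = true := by decide +kernel

theorem sl_5881 : allRange 105858 18 (fun u => chkSlp tab slp u) = true := by decide +kernel

theorem sl_5882 : allRange 105876 18 (fun u => chkSlp tab slp u) = true := by decide +kernel

theorem sl_5883 : allRange 105894 18 (fun u => chkSlp tab slp u) = true := by decide +kernel

theorem sl_5884 : allRange 105912 18 (fun u => chkSlp tab slp u) = true := by decide +kernel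

theorem sl_5885 : allRange 105930 18 (fun u => chkSlp tab slp u) = true := by decide +kernel

theorem sl_5886 : allRange 105948 18 (fun u => chkSlp tab slp u) = true := by decide +kernel

theorem sl_5887 : allRange 105966 18 (fun u => chkSlp tab slp u) = true := by decide +kernel


end Cfsg.Agent.Helper9.TCData.ONC0
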