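import Cfsg.Agent.Lib.Helper9.TCData.ONC0.Main

set_option autoImplicit false
set_option maxRecDepth 1000000

namespace Cfsg.Agent.Helper9.TCData.ONC0
open Cfsg.Agent.Helper9.TC2

theorem sl_5888 : allRange 105984 18 (fun u => chkSlp tab slp u) = true := by decide +kernel

theorem sl_5889 : allRange 106002 18 (fun u => chkSlp tab slp u) = true := by decide +kernel

theorem sl_5890 : allRange 106020 18 (fun u => chkSlp tab slp u) = true := by decide +kernel

theorem sl_5891 : allRange 106038 18 (fun u => chkSlp tab slp u) = true := by decide +kernel

theorem sl_5892 : allRange 106056 18 (fun u => chkSlp tab slp u) = true := by decide +kernel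

theorem sl_5893 : allRange 106074 18 (fun u => chkSlp tab slp u) = true := by decide +kernel

theorem sl_5894 : allRange 106092 18 (fun u => chkSlp tab slp u) = true := by decide +kernel

theorem sl_5895 : allRange 106110 18 (fun u => chkSlp tab slp u) = true := by decide +kernel


end Cfsg.Agent.Helper9.TCData.ONC0
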