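import Cfsg.Agent.Lib.Helper9.TCData.ONC0.Main

set_option autoImplicit false
set_option maxRecDepth 1000000

namespace Cfsg.Agent.Helper9.TCData.ONC0
open Cfsg.Agent.Helper9.TC2

theorem sl_5896 : allRange 106128 18 (fun u => chkSlp tab slp u) = true := by decide +kernel

theorem sl_5897 : allRange 106146 18 (fun u => chkSlp tab slp u) = true := by decide +kernel

theorem sl_5898 : allRange 106164 18 (fun u => chkSlp tab slp u) = true := by decide +kernel

theorem sl_5899 : allRange 106182 18 (fun u => chkSlp tab slp u) = true := by decide +kernel

theorem sl_5900 : allRange 106200 18 (fun u => chkSlp tab slp u) = true := by decide +kernel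

theorem sl_5901 : allRange 106218 18 (fun u => chkSlp tab slp u) = true := by decide +kernel

theorem sl_5902 : allRange 106236 18 (fun u => chkSlp tab slp u) = true := by decide +kernel

theorem sl_5903 : allRange 106254 18 (fun u => chkSlp tab slp u) = true := by decide +kernel


end Cfsg.Agent.Helper9.TCData.ONC0
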