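import Cfsg.Agent.Lib.Helper9.TCData.ONC0.Main

set_option autoImplicit false
set_option maxRecDepth 1000000

namespace Cfsg.Agent.Helper9.TCData.ONC0
open Cfsg.Agent.Helper9.TC2

theorem sl_5904 : allRange 106272 18 (fun u => chkSlp tab slp u) = true := by decide +kernel

theorem sl_5905 : allRange 106290 18 (fun u => chkSlp tab slp u) = true := by decide +kernel

theorem sl_5906 : allRange 106308 18 (fun u => chkSlp tab slp u) = true := by decide +kernel

theorem sl_5907 : allRange 106326 18 (fun u => chkSlp tab slp u) = true := by decide +kernel

theorem sl_5908 : allRange 106344 18 (fun u => chkSlp tab slp u) = true := by decide +kernel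

theorem sl_5909 : allRange 106362 18 (fun u => chkSlp tab slp u) = true := by decide +kernel

theorem sl_5910 : allRange 106380 18 (fun u => chkSlp tab slp u) = true := by decide +kernel

theorem sl_5911 : allRange 106398 18 (fun u => chkSlp tab slp u) = true := by decide +kernel


end Cfsg.Agent.Helper9.TCData.ONC0
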