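import Cfsg.Agent.Lib.Helper9.TCData.ONC0.Main

set_option autoImplicit false
set_option maxRecDepth 1000000

namespace Cfsg.Agent.Helper9.TCData.ONC0
open Cfsg.Agent.Helper9.TC2

theorem sl_5936 : allRange 106848 18 (fun u => chkSlp tab slp u) = true := by decide +kernel

theorem sl_5937 : allRange 106866 18 (fun u => chkSlp tab slp u) = true := by decide +kernel

theorem sl_5938 : allRange 106884 18 (fun u => chkSlp tab slp u) = true := by decide +kernel

theorem sl_5939 : allRange 106902 18 (fun u => chkSlp tab slp u) = true := by decide +kernel

theorem sl_5940 : allRange 106920 18 (fun u => chkSlp tab slp u) = true := by decide +kernel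

theorem sl_5941 : allRange 106938 18 (fun u => chkSlp tab slp u) = true := by decide +kernel

theorem sl_5942 : allRange 106956 18 (fun u => chkSlp tab slp u) = true := by decide +kernel

theorem sl_5943 : allRange 106974 18 (fun u => chkSlp tab slp u) = true := by decide +kernel


end Cfsg.Agent.Helper9.TCData.ONC0
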