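import Cfsg.Agent.Lib.Helper9.TCData.ONC0.Main

set_option autoImplicit false
set_option maxRecDepth 1000000

namespace Cfsg.Agent.Helper9.TCData.ONC0
open Cfsg.Agent.Helper9.TC2

theorem sl_5952 : allRange 107136 18 (fun u => chkSlp tab slp u) = true := by decide +kernel

theorem sl_5953 : allRange 107154 18 (fun u => chkSlp tab slp u) = true := by decide +kernel

theorem sl_5954 : allRange 107172 18 (fun u => chkSlp tab slp u) = true := by decide +kernel

theorem sl_5955 : allRange 107190 18 (fun u => chkSlp tab slp u) = true := by decide +kernel

theorem sl_5956 : allRange 107208 18 (fun u => chkSlp tab slp u) = true := by decide +kernel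

theorem sl_5957 : allRange 107226 18 (fun u => chkSlp tab slp u) = true := by decide +kernel

theorem sl_5958 : allRange 107244 18 (fun u => chkSlp tab slp u) = true := by decide +kernel

theorem sl_5959 : allRange 107262 18 (fun u => chkSlp tab slp u) = true := by decide +kernel


end Cfsg.Agent.Helper9.TCData.ONC0
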