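import Cfsg.Agent.Lib.Helper9.TCData.ONC0.Main

set_option autoImplicit false
set_option maxRecDepth 1000000

namespace Cfsg.Agent.Helper9.TCData.ONC0
open Cfsg.Agent.Helper9.TC2

theorem sl_5968 : allRange 107424 18 (fun u => chkSlp tab slp u) = true := by decide +kernel

theorem sl_5969 : allRange 107442 18 (fun u => chkSlp tab slp u) = true := by decide +kernel

theorem sl_5970 : allRange 107460 18 (fun u => chkSlp tab slp u) = true := by decide +kernel

theorem sl_5971 : allRange 107478 18 (fun u => chkSlp tab slp u) = true := by decide +kernel

theorem sl_5972 : allRange 107496 18 (fun u => chkSlp tab slp u) = true := by decide +kernel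

theorem sl_5973 : allRange 107514 18 (fun u => chkSlp tab slp u) = true := by decide +kernel

theorem sl_5974 : allRange 107532 18 (fun u => chkSlp tab slp u) = true := by decide +kernel

theorem sl_5975 : allRange 107550 18 (fun u => chkSlp tab slp u) = true := by decide +kernel


end Cfsg.Agent.Helper9.TCData.ONC0
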