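import Cfsg.Agent.Lib.Helper9.TCData.ONC0.Main

set_option autoImplicit false
set_option maxRecDepth 1000000

namespace Cfsg.Agent.Helper9.TCData.ONC0
open Cfsg.Agent.Helper9.TC2

theorem sl_5976 : allRange 107568 18 (fun u => chkSlp tab slp u) = true := by decide +kernel

theorem sl_5977 : allRange 107586 18 (fun u => chkSlp tab slp u) = true := by decide +kernel

theorem sl_5978 : allRange 107604 18 (fun u => chkSlp tab slp u) = true := by decide +kernel

theorem sl_5979 : allRange 107622 18 (fun u => chkSlp tab slp u) = true := by decide +kernel

theorem sl_5980 : allRange 107640 18 (fun u => chkSlp tab slp u) = true := by decide +kernel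

theorem sl_5981 : allRange 107658 18 (fun u => chkSlp tab slp u) = true := by decide +kernel

theorem sl_5982 : allRange 107676 18 (fun u => chkSlp tab slp u) = true := by decide +kernel

theorem sl_5983 : allRange 107694 18 (fun u => chkSlp tab slp u) = true := by decide +kernel


end Cfsg.Agent.Helper9.TCData.ONC0
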