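import Cfsg.Agent.Lib.Helper9.TCData.ONC0.Main

set_option autoImplicit false
set_option maxRecDepth 1000000

namespace Cfsg.Agent.Helper9.TCData.ONC0
open Cfsg.Agent.Helper9.TC2

theorem sl_5984 : allRange 107712 18 (fun u => chkSlp tab slp u) = true := by decide +kernel

theorem sl_5985 : allRange 107730 18 (fun u => chkSlp tab slp u) = true := by decide +kernel

theorem sl_5986 : allRange 107748 18 (fun u => chkSlp tab slp u) = true := by decide +kernel

theorem sl_5987 : allRange 107766 18 (fun u => chkSlp tab slp u) = true := by decide +kernel

theorem sl_5988 : allRange 107784 18 (fun u => chkSlp tab slp u) = true := by decide +kernel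

theorem sl_5989 : allRange 107802 18 (fun u => chkSlp tab slp u) = true := by decide +kernel

theorem sl_5990 : allRange 107820 18 (fun u => chkSlp tab slp u) = true := by decide +kernel

theorem sl_5991 : allRange 107838 18 (fun u => chkSlp tab slp u) = true := by decide +kernel


end Cfsg.Agent.Helper9.TCData.ONC0
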