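import Cfsg.Agent.Lib.Helper9.TCData.ONC0.Main

set_option autoImplicit false
set_option maxRecDepth 1000000

namespace Cfsg.Agent.Helper9.TCData.ONC0
open Cfsg.Agent.Helper9.TC2

theorem sl_5992 : allRange 107856 18 (fun u => chkSlp tab slp u) = true := by decide +kernel

theorem sl_5993 : allRange 107874 18 (fun u => chkSlp tab slp u) = true := by decide +kernel

theorem sl_5994 : allRange 107892 18 (fun u => chkSlp tab slp u) = true := by decide +kernel

theorem sl_5995 : allRange 107910 18 (fun u => chkSlp tab slp u) = true := by decide +kernel

theorem sl_5996 : allRange 107928 18 (fun u => chkSlp tab slp u) = true := by decide +kernel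

theorem sl_5997 : allRange 107946 18 (fun u => chkSlp tab slp u) = true := by decide +kernel

theorem sl_5998 : allRange 107964 18 (fun u => chkSlp tab slp u) = true := by decide +kernel

theorem sl_5999 : allRange 107982 18 (fun u => chkSlp tab slp u) = true := by decide +kernel


end Cfsg.Agent.Helper9.TCData.ONC0
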