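import Cfsg.Agent.Lib.Helper9.TCData.ONC0.Main

set_option autoImplicit false
set_option maxRecDepth 1000000

namespace Cfsg.Agent.Helper9.TCData.ONC0
open Cfsg.Agent.Helper9.TC2

theorem sl_6000 : allRange 108000 18 (fun u => chkSlp tab slp u) = true := by decide +kernel

theorem sl_6001 : allRange 108018 18 (fun u => chkSlp tab slp u) = true := by decide +kernel

theorem sl_6002 : allRange 108036 18 (fun u => chkSlp tab slp u) = true := by decide +kernel

theorem sl_6003 : allRange 108054 18 (fun u => chkSlp tab slp u) = true := by decide +kernel

theorem sl_6004 : allRange 108072 18 (fun u => chkSlp tab slp u) = true := by decide +kernel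

theorem sl_6005 : allRange 108090 18 (fun u => chkSlp tab slp u) = true := by decide +kernel

theorem sl_6006 : allRange 108108 18 (fun u => chkSlp tab slp u) = true := by decide +kernel

theorem sl_6007 : allRange 108126 18 (fun u => chkSlp tab slp u) = true := by decide +kernel


end Cfsg.Agent.Helper9.TCData.ONC0
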