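import Cfsg.Agent.Lib.Helper9.TCData.ONC0.Main

set_option autoImplicit false
set_option maxRecDepth 1000000

namespace Cfsg.Agent.Helper9.TCData.ONC0
open Cfsg.Agent.Helper9.TC2

theorem sl_6008 : allRange 108144 18 (fun u => chkSlp tab slp u) = true := by decide +kernel

theorem sl_6009 : allRange 108162 18 (fun u => chkSlp tab slp u) = true := by decide +kernel

theorem sl_6010 : allRange 108180 18 (fun u => chkSlp tab slp u) = true := by decide +kernel

theorem sl_6011 : allRange 108198 18 (fun u => chkSlp tab slp u) = true := by decide +kernel

theorem sl_6012 : allRange 108216 18 (fun u => chkSlp tab slp u) = true := by decide +kernel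

theorem sl_6013 : allRange 108234 18 (fun u => chkSlp tab slp u) = true := by decide +kernel

theorem sl_6014 : allRange 108252 18 (fun u => chkSlp tab slp u) = true := by decide +kernel

theorem sl_6015 : allRange 108270 18 (fun u => chkSlp tab slp u) = true := by decide +kernel


end Cfsg.Agent.Helper9.TCData.ONC0
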