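import Cfsg.Agent.Lib.Helper9.TCData.ONC0.Main

set_option autoImplicit false
set_option maxRecDepth 1000000

namespace Cfsg.Agent.Helper9.TCData.ONC0
open Cfsg.Agent.Helper9.TC2

theorem sl_6024 : allRange 108432 18 (fun u => chkSlp tab slp u) = true := by decide +kernel

theorem sl_6025 : allRange 108450 18 (fun u => chkSlp tab slp u) = true := by decide +kernel

theorem sl_6026 : allRange 108468 18 (fun u => chkSlp tab slp u) = true := by decide +kernel

theorem sl_6027 : allRange 108486 18 (fun u => chkSlp tab slp u) = true := by decide +kernel

theorem sl_6028 : allRange 108504 18 (fun u => chkSlp tab slp u) = true := by decide +kernel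

theorem sl_6029 : allRange 108522 18 (fun u => chkSlp tab slp u) = true := by decide +kernel

theorem sl_6030 : allRange 108540 18 (fun u => chkSlp tab slp u) = true := by decide +kernel

theorem sl_6031 : allRange 108558 18 (fun u => chkSlp tab slp u) = true := by decide +kernel


end Cfsg.Agent.Helper9.TCData.ONC0
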