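import Cfsg.Agent.Lib.Helper9.TCData.ONC0.Main

set_option autoImplicit false
set_option maxRecDepth 1000000

namespace Cfsg.Agent.Helper9.TCData.ONC0
open Cfsg.Agent.Helper9.TC2

theorem sl_6032 : allRange 108576 18 (fun u => chkSlp tab slp u) = true := by decide +kernel

theorem sl_6033 : allRange 108594 18 (fun u => chkSlp tab slp u) = true := by decide +kernel

theorem sl_6034 : allRange 108612 18 (fun u => chkSlp tab slp u) = true := by decide +kernel

theorem sl_6035 : allRange 108630 18 (fun u => chkSlp tab slp u) = true := by decide +kernel

theorem sl_6036 : allRange 108648 18 (fun u => chkSlp tab slp u) = true := by decide +kernel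

theorem sl_6037 : allRange 108666 18 (fun u => chkSlp tab slp u) = true := by decide +kernel

theorem sl_6038 : allRange 108684 18 (fun u => chkSlp tab slp u) = true := by decide +kernel

theorem sl_6039 : allRange 108702 18 (fun u => chkSlp tab slp u) = true := by decide +kernel


end Cfsg.Agent.Helper9.TCData.ONC0
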