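import Cfsg.Agent.Lib.Helper9.TCData.ONC0.Main

set_option autoImplicit false
set_option maxRecDepth 1000000

namespace Cfsg.Agent.Helper9.TCData.ONC0
open Cfsg.Agent.Helper9.TC2

theorem sl_6048 : allRange 108864 18 (fun u => chkSlp tab slp u) = true := by decide +kernel

theorem sl_6049 : allRange 108882 18 (fun u => chkSlp tab slp u) = true := by decide +kernel

theorem sl_6050 : allRange 108900 18 (fun u => chkSlp tab slp u) = true := by decide +kernel

theorem sl_6051 : allRange 108918 18 (fun u => chkSlp tab slp u) = true := by decide +kernel

theorem sl_6052 : allRange 108936 18 (fun u => chkSlp tab slp u) = true := by decide +kernel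

theorem sl_6053 : allRange 108954 18 (fun u => chkSlp tab slp u) = true := by decide +kernel

theorem sl_6054 : allRange 108972 18 (fun u => chkSlp tab slp u) = true := by decide +kernel

theorem sl_6055 : allRange 108990 18 (fun u => chkSlp tab slp u) = true := by decide +kernel


end Cfsg.Agent.Helper9.TCData.ONC0
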