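import Cfsg.Agent.Lib.Helper9.TCData.ONC0.Main

set_option autoImplicit false
set_option maxRecDepth 1000000

namespace Cfsg.Agent.Helper9.TCData.ONC0
open Cfsg.Agent.Helper9.TC2

theorem sl_6064 : allRange 109152 18 (fun u => chkSlp tab slp u) = true := by decide +kernel

theorem sl_6065 : allRange 109170 18 (fun u => chkSlp tab slp u) = true := by decide +kernel

theorem sl_6066 : allRange 109188 18 (fun u => chkSlp tab slp u) = true := by decide +kernel

theorem sl_6067 : allRange 109206 18 (fun u => chkSlp tab slp u) = true := by decide +kernel

theorem sl_6068 : allRange 109224 18 (fun u => chkSlp tab slp u) = true := by decide +kernel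

theorem sl_6069 : allRange 109242 18 (fun u => chkSlp tab slp u) = true := by decide +kernel

theorem sl_6070 : allRange 109260 18 (fun u => chkSlp tab slp u) = true := by decide +kernel

theorem sl_6071 : allRange 109278 18 (fun u => chkSlp tab slp u) = true := by decide +kernel


end Cfsg.Agent.Helper9.TCData.ONC0
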