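import Cfsg.Agent.Lib.Helper9.TCData.ONC0.Main

set_option autoImplicit false
set_option maxRecDepth 1000000

namespace Cfsg.Agent.Helper9.TCData.ONC0
open Cfsg.Agent.Helper9.TC2

theorem sl_6072 : allRange 109296 18 (fun u => chkSlp tab slp u) = true := by decide +kernel

theorem sl_6073 : allRange 109314 18 (fun u => chkSlp tab slp u) = true := by decide +kernel

theorem sl_6074 : allRange 109332 18 (fun u => chkSlp tab slp u) = true := by decide +kernel

theorem sl_6075 : allRange 109350 18 (fun u => chkSlp tab slp u) = true := by decide +kernel

theorem sl_6076 : allRange 109368 18 (fun u => chkSlp tab slp u) = true := by decide +kernel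

theorem sl_6077 : allRange 109386 18 (fun u => chkSlp tab slp u) = true := by decide +kernel

theorem sl_6078 : allRange 109404 18 (fun u => chkSlp tab slp u) = true := by decide +kernel

theorem sl_6079 : allRange 109422 18 (fun u => chkSlp tab slp u) = true := by decide +kernel


end Cfsg.Agent.Helper9.TCData.ONC0
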