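import Cfsg.Agent.Lib.Helper9.TCData.ONC0.Main

set_option autoImplicit false
set_option maxRecDepth 1000000

namespace Cfsg.Agent.Helper9.TCData.ONC0
open Cfsg.Agent.Helper9.TC2

theorem sl_6088 : allRange 109584 18 (fun u => chkSlp tab slp u) = true := by decide +kernel

theorem sl_6089 : allRange 109602 18 (fun u => chkSlp tab slp u) = true := by decide +kernel

theorem sl_6090 : allRange 109620 18 (fun u => chkSlp tab slp u) = true := by decide +kernel

theorem sl_6091 : allRange 109638 18 (fun u => chkSlp tab slp u) = true := by decide +kernel

theorem sl_6092 : allRange 109656 18 (fun u => chkSlp tab slp u) = true := by decide +kernel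

theorem sl_6093 : allRange 109674 18 (fun u => chkSlp tab slp u) = true := by decide +kernel

theorem sl_6094 : allRange 109692 18 (fun u => chkSlp tab slp u) = true := by decide +kernel

theorem sl_6095 : allRange 109710 18 (fun u => chkSlp tab slp u) = true := by decide +kernel


end Cfsg.Agent.Helper9.TCData.ONC0
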