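import Cfsg.Agent.Lib.Helper9.TCData.ONC0.Main

set_option autoImplicit false
set_option maxRecDepth 1000000

namespace Cfsg.Agent.Helper9.TCData.ONC0
open Cfsg.Agent.Helper9.TC2

theorem sl_6096 : allRange 109728 18 (fun u => chkSlp tab slp u) = true := by decide +kernel

theorem sl_6097 : allRange 109746 18 (fun u => chkSlp tab slp u) = true := by decide +kernel

theorem sl_6098 : allRange 109764 18 (fun u => chkSlp tab slp u) = true := by decide +kernel

theorem sl_6099 : allRange 109782 18 (fun u => chkSlp tab slp u) = true := by decide +kernel

theorem sl_6100 : allRange 109800 18 (fun u => chkSlp tab slp u) = true := by decide +kernel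

theorem sl_6101 : allRange 109818 18 (fun u => chkSlp tab slp u) = true := by decide +kernel

theorem sl_6102 : allRange 109836 18 (fun u => chkSlp tab slp u) = true := by decide +kernel

theorem sl_6103 : allRange 109854 18 (fun u => chkSlp tab slp u) = true := by decide +kernel


end Cfsg.Agent.Helper9.TCData.ONC0
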