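import Cfsg.Agent.Lib.Helper9.TCData.ONC0.Main

set_option autoImplicit false
set_option maxRecDepth 1000000

namespace Cfsg.Agent.Helper9.TCData.ONC0
open Cfsg.Agent.Helper9.TC2

theorem sl_6104 : allRange 109872 18 (fun u => chkSlp tab slp u) = true := by decide +kernel

theorem sl_6105 : allRange 109890 18 (fun u => chkSlp tab slp u) = true := by decide +kernel

theorem sl_6106 : allRange 109908 18 (fun u => chkSlp tab slp u) = true := by decide +kernel

theorem sl_6107 : allRange 109926 18 (fun u => chkSlp tab slp u) = true := by decide +kernel

theorem sl_6108 : allRange 109944 18 (fun u => chkSlp tab slp u) = true := by decide +kernel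

theorem sl_6109 : allRange 109962 18 (fun u => chkSlp tab slp u) = true := by decide +kernel

theorem sl_6110 : allRange 109980 18 (fun u => chkSlp tab slp u) = true := by decide +kernel

theorem sl_6111 : allRange 109998 18 (fun u => chkSlp tab slp u) = true := by decide +kernel


end Cfsg.Agent.Helper9.TCData.ONC0
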