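import Cfsg.Agent.Lib.Helper9.TCData.ONC0.Main

set_option autoImplicit false
set_option maxRecDepth 1000000

namespace Cfsg.Agent.Helper9.TCData.ONC0
open Cfsg.Agent.Helper9.TC2

theorem sl_6136 : allRange 110448 18 (fun u => chkSlp tab slp u) = true := by decide +kernel

theorem sl_6137 : allRange 110466 18 (fun u => chkSlp tab slp u) = true := by decide +kernel

theorem sl_6138 : allRange 110484 18 (fun u => chkSlp tab slp u) = true := by decide +kernel

theorem sl_6139 : allRange 110502 18 (fun u => chkSlp tab slp u) = true := by decide +kernel

theorem sl_6140 : allRange 110520 18 (fun u => chkSlp tab slp u) = true := by decide +kernel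

theorem sl_6141 : allRange 110538 18 (fun u => chkSlp tab slp u) = true := by decide +kernel

theorem sl_6142 : allRange 110556 18 (fun u => chkSlp tab slp u) = true := by decide +kernel

theorem sl_6143 : allRange 110574 18 (fun u => chkSlp tab slp u) = true := by decide +kernel


end Cfsg.Agent.Helper9.TCData.ONC0
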