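import Cfsg.Agent.Lib.Helper9.TCData.ONC0.Main

set_option autoImplicit false
set_option maxRecDepth 1000000

namespace Cfsg.Agent.Helper9.TCData.ONC0
open Cfsg.Agent.Helper9.TC2

theorem sl_6144 : allRange 110592 18 (fun u => chkSlp tab slp u) = true := by decide +kernel

theorem sl_6145 : allRange 110610 18 (fun u => chkSlp tab slp u) = true := by decide +kernel

theorem sl_6146 : allRange 110628 18 (fun u => chkSlp tab slp u) = true := by decide +kernel

theorem sl_6147 : allRange 110646 18 (fun u => chkSlp tab slp u) = true := by decide +kernel

theorem sl_6148 : allRange 110664 18 (fun u => chkSlp tab slp u) = true := by decide +kernel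

theorem sl_6149 : allRange 110682 18 (fun u => chkSlp tab slp u) = true := by decide +kernel

theorem sl_6150 : allRange 110700 18 (fun u => chkSlp tab slp u) = true := by decide +kernel

theorem sl_6151 : allRange 110718 18 (fun u => chkSlp tab slp u) = true := by decide +kernel


end Cfsg.Agent.Helper9.TCData.ONC0
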