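import Cfsg.Agent.Lib.Helper9.TCData.ONC0.Main

set_option autoImplicit false
set_option maxRecDepth 1000000

namespace Cfsg.Agent.Helper9.TCData.ONC0
open Cfsg.Agent.Helper9.TC2

theorem sl_6152 : allRange 110736 18 (fun u => chkSlp tab slp u) = true := by decide +kernel

theorem sl_6153 : allRange 110754 18 (fun u => chkSlp tab slp u) = true := by decide +kernel

theorem sl_6154 : allRange 110772 18 (fun u => chkSlp tab slp u) = true := by decide +kernel

theorem sl_6155 : allRange 110790 18 (fun u => chkSlp tab slp u) = true := by decide +kernel

theorem sl_6156 : allRange 110808 18 (fun u => chkSlp tab slp u) = true := by decide +kernel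

theorem sl_6157 : allRange 110826 18 (fun u => chkSlp tab slp u) = true := by decide +kernel

theorem sl_6158 : allRange 110844 18 (fun u => chkSlp tab slp u) = true := by decide +kernel

theorem sl_6159 : allRange 110862 18 (fun u => chkSlp tab slp u) = true := by decide +kernel


end Cfsg.Agent.Helper9.TCData.ONC0
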