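import Cfsg.Agent.Lib.Helper9.TCData.ONC0.Main

set_option autoImplicit false
set_option maxRecDepth 1000000

namespace Cfsg.Agent.Helper9.TCData.ONC0
open Cfsg.Agent.Helper9.TC2

theorem sl_6160 : allRange 110880 18 (fun u => chkSlp tab slp u) = true := by decide +kernel

theorem sl_6161 : allRange 110898 18 (fun u => chkSlp tab slp u) = true := by decide +kernel

theorem sl_6162 : allRange 110916 18 (fun u => chkSlp tab slp u) = true := by decide +kernel

theorem sl_6163 : allRange 110934 18 (fun u => chkSlp tab slp u) = true := by decide +kernel

theorem sl_6164 : allRange 110952 18 (fun u => chkSlp tab slp u) = true := by decide +kernel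

theorem sl_6165 : allRange 110970 18 (fun u => chkSlp tab slp u) = true := by decide +kernel

theorem sl_6166 : allRange 110988 18 (fun u => chkSlp tab slp u) = true := by decide +kernel

theorem sl_6167 : allRange 111006 18 (fun u => chkSlp tab slp u) = true := by decide +kernel


end Cfsg.Agent.Helper9.TCData.ONC0
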