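import Cfsg.Agent.Lib.Helper9.TCData.ONC0.Main

set_option autoImplicit false
set_option maxRecDepth 1000000

namespace Cfsg.Agent.Helper9.TCData.ONC0
open Cfsg.Agent.Helper9.TC2

theorem sl_6176 : allRange 111168 18 (fun u => chkSlp tab slp u) = true := by decide +kernel

theorem sl_6177 : allRange 111186 18 (fun u => chkSlp tab slp u) = true := by decide +kernel

theorem sl_6178 : allRange 111204 18 (fun u => chkSlp tab slp u) = true := by decide +kernel

theorem sl_6179 : allRange 111222 18 (fun u => chkSlp tab slp u) = true := by decide +kernel

theorem sl_6180 : allRange 111240 18 (fun u => chkSlp tab slp u) = true := by decide +kernel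

theorem sl_6181 : allRange 111258 18 (fun u => chkSlp tab slp u) = true := by decide +kernel

theorem sl_6182 : allRange 111276 18 (fun u => chkSlp tab slp u) = true := by decide +kernel

theorem sl_6183 : allRange 111294 18 (fun u => chkSlp tab slp u) = true := by decide +kernel


end Cfsg.Agent.Helper9.TCData.ONC0
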