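import Cfsg.Agent.Lib.Helper9.TCData.ONC0.Main

set_option autoImplicit false
set_option maxRecDepth 1000000

namespace Cfsg.Agent.Helper9.TCData.ONC0
open Cfsg.Agent.Helper9.TC2

theorem sl_6184 : allRange 111312 18 (fun u => chkSlp tab slp u) = true := by decide +kernel

theorem sl_6185 : allRange 111330 18 (fun u => chkSlp tab slp u) = true := by decide +kernel

theorem sl_6186 : allRange 111348 18 (fun u => chkSlp tab slp u) = true := by decide +kernel

theorem sl_6187 : allRange 111366 18 (fun u => chkSlp tab slp u) = true := by decide +kernel

theorem sl_6188 : allRange 111384 18 (fun u => chkSlp tab slp u) = true := by decide +kernel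

theorem sl_6189 : allRange 111402 18 (fun u => chkSlp tab slp u) = true := by decide +kernel

theorem sl_6190 : allRange 111420 18 (fun u => chkSlp tab slp u) = true := by decide +kernel

theorem sl_6191 : allRange 111438 18 (fun u => chkSlp tab slp u) = true := by decide +kernel


end Cfsg.Agent.Helper9.TCData.ONC0
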