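import Cfsg.Agent.Lib.Helper9.TCData.ONC0.Main

set_option autoImplicit false
set_option maxRecDepth 1000000

namespace Cfsg.Agent.Helper9.TCData.ONC0
open Cfsg.Agent.Helper9.TC2

theorem sl_6192 : allRange 111456 18 (fun u => chkSlp tab slp u) = true := by decide +kernel

theorem sl_6193 : allRange 111474 18 (fun u => chkSlp tab slp u) = true := by decide +kernel

theorem sl_6194 : allRange 111492 18 (fun u => chkSlp tab slp u) = true := by decide +kernel

theorem sl_6195 : allRange 111510 18 (fun u => chkSlp tab slp u) = true := by decide +kernel

theorem sl_6196 : allRange 111528 18 (fun u => chkSlp tab slp u) = true := by decide +kernel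

theorem sl_6197 : allRange 111546 18 (fun u => chkSlp tab slp u) = true := by decide +kernel

theorem sl_6198 : allRange 111564 18 (fun u => chkSlp tab slp u) = true := by decide +kernel

theorem sl_6199 : allRange 111582 18 (fun u => chkSlp tab slp u) = true := by decide +kernel


end Cfsg.Agent.Helper9.TCData.ONC0
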