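import Cfsg.Agent.Lib.Helper9.TCData.ONC0.Main

set_option autoImplicit false
set_option maxRecDepth 1000000

namespace Cfsg.Agent.Helper9.TCData.ONC0
open Cfsg.Agent.Helper9.TC2

theorem sl_6200 : allRange 111600 18 (fun u => chkSlp tab slp u) = true := by decide +kernel

theorem sl_6201 : allRange 111618 18 (fun u => chkSlp tab slp u) = true := by decide +kernel

theorem sl_6202 : allRange 111636 18 (fun u => chkSlp tab slp u) = true := by decide +kernel

theorem sl_6203 : allRange 111654 18 (fun u => chkSlp tab slp u) = true := by decide +kernel

theorem sl_6204 : allRange 111672 18 (fun u => chkSlp tab slp u) = true := by decide +kernel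

theorem sl_6205 : allRange 111690 18 (fun u => chkSlp tab slp u) = true := by decide +kernel

theorem sl_6206 : allRange 111708 18 (fun u => chkSlp tab slp u) = true := by decide +kernel

theorem sl_6207 : allRange 111726 18 (fun u => chkSlp tab slp u) = true := by decide +kernel


end Cfsg.Agent.Helper9.TCData.ONC0
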