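import Cfsg.Agent.Lib.Helper9.TCData.ONC0.Main

set_option autoImplicit false
set_option maxRecDepth 1000000

namespace Cfsg.Agent.Helper9.TCData.ONC0
open Cfsg.Agent.Helper9.TC2

theorem sl_6216 : allRange 111888 18 (fun u => chkSlp tab slp u) = true := by decide +kernel

theorem sl_6217 : allRange 111906 18 (fun u => chkSlp tab slp u) = true := by decide +kernel

theorem sl_6218 : allRange 111924 18 (fun u => chkSlp tab slp u) = true := by decide +kernel

theorem sl_6219 : allRange 111942 18 (fun u => chkSlp tab slp u) = true := by decide +kernel

theorem sl_6220 : allRange 111960 18 (fun u => chkSlp tab slp u) = true := by decide +kernel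

theorem sl_6221 : allRange 111978 18 (fun u => chkSlp tab slp u) = true := by decide +kernel

theorem sl_6222 : allRange 111996 18 (fun u => chkSlp tab slp u) = true := by decide +kernel

theorem sl_6223 : allRange 112014 18 (fun u => chkSlp tab slp u) = true := by decide +kernel


end Cfsg.Agent.Helper9.TCData.ONC0
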