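import Cfsg.Agent.Lib.Helper9.TCData.ONC0.Main

set_option autoImplicit false
set_option maxRecDepth 1000000

namespace Cfsg.Agent.Helper9.TCData.ONC0
open Cfsg.Agent.Helper9.TC2

theorem sl_6248 : allRange 112464 18 (fun u => chkSlp tab slp u) = true := by decide +kernel

theorem sl_6249 : allRange 112482 18 (fun u => chkSlp tab slp u) = true := by decide +kernel

theorem sl_6250 : allRange 112500 18 (fun u => chkSlp tab slp u) = true := by decide +kernel

theorem sl_6251 : allRange 112518 18 (fun u => chkSlp tab slp u) = true := by decide +kernel

theorem sl_6252 : allRange 112536 18 (fun u => chkSlp tab slp u) = true := by decide +kernel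

theorem sl_6253 : allRange 112554 18 (fun u => chkSlp tab slp u) = true := by decide +kernel

theorem sl_6254 : allRange 112572 18 (fun u => chkSlp tab slp u) = true := by decide +kernel

theorem sl_6255 : allRange 112590 18 (fun u => chkSlp tab slp u) = true := by decide +kernel


end Cfsg.Agent.Helper9.TCData.ONC0
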