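import Cfsg.Agent.Lib.Helper9.TCData.ONC0.Main

set_option autoImplicit false
set_option maxRecDepth 1000000

namespace Cfsg.Agent.Helper9.TCData.ONC0
open Cfsg.Agent.Helper9.TC2

theorem sl_6256 : allRange 112608 18 (fun u => chkSlp tab slp u) = true := by decide +kernel

theorem sl_6257 : allRange 112626 18 (fun u => chkSlp tab slp u) = true := by decide +kernel

theorem sl_6258 : allRange 112644 18 (fun u => chkSlp tab slp u) = true := by decide +kernel

theorem sl_6259 : allRange 112662 18 (fun u => chkSlp tab slp u) = true := by decide +kernel

theorem sl_6260 : allRange 112680 18 (fun u => chkSlp tab slp u) = true := by decide +kernel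

theorem sl_6261 : allRange 112698 18 (fun u => chkSlp tab slp u) = true := by decide +kernel

theorem sl_6262 : allRange 112716 18 (fun u => chkSlp tab slp u) = true := by decide +kernel

theorem sl_6263 : allRange 112734 18 (fun u => chkSlp tab slp u) = true := by decide +kernel


end Cfsg.Agent.Helper9.TCData.ONC0
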