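import Cfsg.Agent.Lib.Helper9.TCData.ONC0.Main

set_option autoImplicit false
set_option maxRecDepth 1000000

namespace Cfsg.Agent.Helper9.TCData.ONC0
open Cfsg.Agent.Helper9.TC2

theorem sl_6264 : allRange 112752 18 (fun u => chkSlp tab slp u) = true := by decide +kernel

theorem sl_6265 : allRange 112770 18 (fun u => chkSlp tab slp u) = true := by decide +kernel

theorem sl_6266 : allRange 112788 18 (fun u => chkSlp tab slp u) = true := by decide +kernel

theorem sl_6267 : allRange 112806 18 (fun u => chkSlp tab slp u) = true := by decide +kernel

theorem sl_6268 : allRange 112824 18 (fun u => chkSlp tab slp u) = true := by decide +kernel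

theorem sl_6269 : allRange 112842 18 (fun u => chkSlp tab slp u) = true := by decide +kernel

theorem sl_6270 : allRange 112860 18 (fun u => chkSlp tab slp u) = true := by decide +kernel

theorem sl_6271 : allRange 112878 18 (fun u => chkSlp tab slp u) = true := by decide +kernel


end Cfsg.Agent.Helper9.TCData.ONC0
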