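import Cfsg.Agent.Lib.Helper9.TCData.ONC0.Main

set_option autoImplicit false
set_option maxRecDepth 1000000

namespace Cfsg.Agent.Helper9.TCData.ONC0
open Cfsg.Agent.Helper9.TC2

theorem f_288 : allRange 88704 308 (fun u => chkFin tab u) = true := by decide +kernel

theorem f_289 : allRange 89012 308 (fun u => chkFin tab u) = true := by decide +kernel

theorem f_290 : allRange 89320 308 (fun u => chkFin tab u) = true := by decide +kernel

theorem f_291 : allRange 89628 308 (fun u => chkFin tab u) = true := by decide +kernel

theorem f_292 : allRange 89936 308 (fun u => chkFin tab u) = true := by decide +kernel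

theorem f_293 : allRange 90244 308 (fun u => chkFin tab u) = true := by decide +kernel

theorem f_294 : allRange 90552 308 (fun u => chkFin tab u) = true := by decide +kernel

theorem f_295 : allRange 90860 308 (fun u => chkFin tab u) = true := by decide +kernel


end Cfsg.Agent.Helper9.TCData.ONC0
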