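import Cfsg.Agent.Lib.Helper9.TCData.ONC0.Main

set_option autoImplicit false
set_option maxRecDepth 1000000

namespace Cfsg.Agent.Helper9.TCData.ONC0
open Cfsg.Agent.Helper9.TC2

theorem sl_6288 : allRange 113184 18 (fun u => chkSlp tab slp u) = true := by decide +kernel

theorem sl_6289 : allRange 113202 18 (fun u => chkSlp tab slp u) = true := by decide +kernel

theorem sl_6290 : allRange 113220 18 (fun u => chkSlp tab slp u) = true := by decide +kernel

theorem sl_6291 : allRange 113238 18 (fun u => chkSlp tab slp u) = true := by decide +kernel

theorem sl_6292 : allRange 113256 18 (fun u => chkSlp tab slp u) = true := by decide +kernel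

theorem sl_6293 : allRange 113274 18 (fun u => chkSlp tab slp u) = true := by decide +kernel

theorem sl_6294 : allRange 113292 18 (fun u => chkSlp tab slp u) = true := by decide +kernel

theorem sl_6295 : allRange 113310 18 (fun u => chkSlp tab slp u) = true := by decide +kernel


end Cfsg.Agent.Helper9.TCData.ONC0
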