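import Cfsg.Agent.Lib.Helper9.TCData.ONC0.Main

set_option autoImplicit false
set_option maxRecDepth 1000000

namespace Cfsg.Agent.Helper9.TCData.ONC0
open Cfsg.Agent.Helper9.TC2

theorem sl_6312 : allRange 113616 18 (fun u => chkSlp tab slp u) = true := by decide +kernel

theorem sl_6313 : allRange 113634 18 (fun u => chkSlp tab slp u) = true := by decide +kernel

theorem sl_6314 : allRange 113652 18 (fun u => chkSlp tab slp u) = true := by decide +kernel

theorem sl_6315 : allRange 113670 18 (fun u => chkSlp tab slp u) = true := by decide +kernel

theorem sl_6316 : allRange 113688 18 (fun u => chkSlp tab slp u) = true := by decide +kernel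

theorem sl_6317 : allRange 113706 18 (fun u => chkSlp tab slp u) = true := by decide +kernel

theorem sl_6318 : allRange 113724 18 (fun u => chkSlp tab slp u) = true := by decide +kernel

theorem sl_6319 : allRange 113742 18 (fun u => chkSlp tab slp u) = true := by decide +kernel


end Cfsg.Agent.Helper9.TCData.ONC0
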