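import Cfsg.Agent.Lib.Helper9.TCData.ONC0.Main

set_option autoImplicit false
set_option maxRecDepth 1000000

namespace Cfsg.Agent.Helper9.TCData.ONC0
open Cfsg.Agent.Helper9.TC2

theorem sl_6320 : allRange 113760 18 (fun u => chkSlp tab slp u) = true := by decide +kernel

theorem sl_6321 : allRange 113778 18 (fun u => chkSlp tab slp u) = true := by decide +kernel

theorem sl_6322 : allRange 113796 18 (fun u => chkSlp tab slp u) = true := by decide +kernel

theorem sl_6323 : allRange 113814 18 (fun u => chkSlp tab slp u) = true := by decide +kernel

theorem sl_6324 : allRange 113832 18 (fun u => chkSlp tab slp u) = true := by decide +kernel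

theorem sl_6325 : allRange 113850 18 (fun u => chkSlp tab slp u) = true := by decide +kernel

theorem sl_6326 : allRange 113868 18 (fun u => chkSlp tab slp u) = true := by decide +kernel

theorem sl_6327 : allRange 113886 18 (fun u => chkSlp tab slp u) = true := by decide +kernel


end Cfsg.Agent.Helper9.TCData.ONC0
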