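import Cfsg.Agent.Lib.Helper9.TCData.ONC0.Main

set_option autoImplicit false
set_option maxRecDepth 1000000

namespace Cfsg.Agent.Helper9.TCData.ONC0
open Cfsg.Agent.Helper9.TC2

theorem sl_6360 : allRange 114480 18 (fun u => chkSlp tab slp u) = true := by decide +kernel

theorem sl_6361 : allRange 114498 18 (fun u => chkSlp tab slp u) = true := by decide +kernel

theorem sl_6362 : allRange 114516 18 (fun u => chkSlp tab slp u) = true := by decide +kernel

theorem sl_6363 : allRange 114534 18 (fun u => chkSlp tab slp u) = true := by decide +kernel

theorem sl_6364 : allRange 114552 18 (fun u => chkSlp tab slp u) = true := by decide +kernel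

theorem sl_6365 : allRange 114570 18 (fun u => chkSlp tab slp u) = true := by decide +kernel

theorem sl_6366 : allRange 114588 18 (fun u => chkSlp tab slp u) = true := by decide +kernel

theorem sl_6367 : allRange 114606 18 (fun u => chkSlp tab slp u) = true := by decide +kernel


end Cfsg.Agent.Helper9.TCData.ONC0
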