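import Cfsg.Agent.Lib.Helper9.TCData.ONC0.Main

set_option autoImplicit false
set_option maxRecDepth 1000000

namespace Cfsg.Agent.Helper9.TCData.ONC0
open Cfsg.Agent.Helper9.TC2

theorem sl_6368 : allRange 114624 18 (fun u => chkSlp tab slp u) = true := by decide +kernel

theorem sl_6369 : allRange 114642 18 (fun u => chkSlp tab slp u) = true := by decide +kernel

theorem sl_6370 : allRange 114660 18 (fun u => chkSlp tab slp u) = true := by decide +kernel

theorem sl_6371 : allRange 114678 18 (fun u => chkSlp tab slp u) = true := by decide +kernel

theorem sl_6372 : allRange 114696 18 (fun u => chkSlp tab slp u) = true := by decide +kernel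

theorem sl_6373 : allRange 114714 18 (fun u => chkSlp tab slp u) = true := by decide +kernel

theorem sl_6374 : allRange 114732 18 (fun u => chkSlp tab slp u) = true := by decide +kernel

theorem sl_6375 : allRange 114750 18 (fun u => chkSlp tab slp u) = true := by decide +kernel


end Cfsg.Agent.Helper9.TCData.ONC0
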