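import Cfsg.Agent.Lib.Helper9.TCData.ONC0.Main

set_option autoImplicit false
set_option maxRecDepth 1000000

namespace Cfsg.Agent.Helper9.TCData.ONC0
open Cfsg.Agent.Helper9.TC2

theorem sl_6376 : allRange 114768 18 (fun u => chkSlp tab slp u) = true := by decide +kernel

theorem sl_6377 : allRange 114786 18 (fun u => chkSlp tab slp u) = true := by decide +kernel

theorem sl_6378 : allRange 114804 18 (fun u => chkSlp tab slp u) = true := by decide +kernel

theorem sl_6379 : allRange 114822 18 (fun u => chkSlp tab slp u) = true := by decide +kernel

theorem sl_6380 : allRange 114840 18 (fun u => chkSlp tab slp u) = true := by decide +kernel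

theorem sl_6381 : allRange 114858 18 (fun u => chkSlp tab slp u) = true := by decide +kernel

theorem sl_6382 : allRange 114876 18 (fun u => chkSlp tab slp u) = true := by decide +kernel

theorem sl_6383 : allRange 114894 18 (fun u => chkSlp tab slp u) = true := by decide +kernel


end Cfsg.Agent.Helper9.TCData.ONC0
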