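import Cfsg.Agent.Lib.Helper9.TCData.ONC0.Main

set_option autoImplicit false
set_option maxRecDepth 1000000

namespace Cfsg.Agent.Helper9.TCData.ONC0
open Cfsg.Agent.Helper9.TC2

theorem sl_6384 : allRange 114912 18 (fun u => chkSlp tab slp u) = true := by decide +kernel

theorem sl_6385 : allRange 114930 18 (fun u => chkSlp tab slp u) = true := by decide +kernel

theorem sl_6386 : allRange 114948 18 (fun u => chkSlp tab slp u) = true := by decide +kernel

theorem sl_6387 : allRange 114966 18 (fun u => chkSlp tab slp u) = true := by decide +kernel

theorem sl_6388 : allRange 114984 18 (fun u => chkSlp tab slp u) = true := by decide +kernel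

theorem sl_6389 : allRange 115002 18 (fun u => chkSlp tab slp u) = true := by decide +kernel

theorem sl_6390 : allRange 115020 18 (fun u => chkSlp tab slp u) = true := by decide +kernel

theorem sl_6391 : allRange 115038 18 (fun u => chkSlp tab slp u) = true := by decide +kernel


end Cfsg.Agent.Helper9.TCData.ONC0
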