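import Cfsg.Agent.Lib.Helper9.TCData.ONC0.Main

set_option autoImplicit false
set_option maxRecDepth 1000000

namespace Cfsg.Agent.Helper9.TCData.ONC0
open Cfsg.Agent.Helper9.TC2

theorem sl_6408 : allRange 115344 18 (fun u => chkSlp tab slp u) = true := by decide +kernel

theorem sl_6409 : allRange 115362 18 (fun u => chkSlp tab slp u) = true := by decide +kernel

theorem sl_6410 : allRange 115380 18 (fun u => chkSlp tab slp u) = true := by decide +kernel

theorem sl_6411 : allRange 115398 18 (fun u => chkSlp tab slp u) = true := by decide +kernel

theorem sl_6412 : allRange 115416 18 (fun u => chkSlp tab slp u) = true := by decide +kernel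

theorem sl_6413 : allRange 115434 18 (fun u => chkSlp tab slp u) = true := by decide +kernel

theorem sl_6414 : allRange 115452 18 (fun u => chkSlp tab slp u) = true := by decide +kernel

theorem sl_6415 : allRange 115470 18 (fun u => chkSlp tab slp u) = true := by decide +kernel


end Cfsg.Agent.Helper9.TCData.ONC0
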