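import Cfsg.Agent.Lib.Helper9.TCData.ONC0.Main

set_option autoImplicit false
set_option maxRecDepth 1000000

namespace Cfsg.Agent.Helper9.TCData.ONC0
open Cfsg.Agent.Helper9.TC2

theorem sl_6424 : allRange 115632 18 (fun u => chkSlp tab slp u) = true := by decide +kernel

theorem sl_6425 : allRange 115650 18 (fun u => chkSlp tab slp u) = true := by decide +kernel

theorem sl_6426 : allRange 115668 18 (fun u => chkSlp tab slp u) = true := by decide +kernel

theorem sl_6427 : allRange 115686 18 (fun u => chkSlp tab slp u) = true := by decide +kernel

theorem sl_6428 : allRange 115704 18 (fun u => chkSlp tab slp u) = true := by decide +kernel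

theorem sl_6429 : allRange 115722 18 (fun u => chkSlp tab slp u) = true := by decide +kernel

theorem sl_6430 : allRange 115740 18 (fun u => chkSlp tab slp u) = true := by decide +kernel

theorem sl_6431 : allRange 115758 18 (fun u => chkSlp tab slp u) = true := by decide +kernel


end Cfsg.Agent.Helper9.TCData.ONC0
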