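import Cfsg.Agent.Lib.Helper9.TCData.ONC0.Main

set_option autoImplicit false
set_option maxRecDepth 1000000

namespace Cfsg.Agent.Helper9.TCData.ONC0
open Cfsg.Agent.Helper9.TC2

theorem sl_6432 : allRange 115776 18 (fun u => chkSlp tab slp u) = true := by decide +kernel

theorem sl_6433 : allRange 115794 18 (fun u => chkSlp tab slp u) = true := by decide +kernel

theorem sl_6434 : allRange 115812 18 (fun u => chkSlp tab slp u) = true := by decide +kernel

theorem sl_6435 : allRange 115830 18 (fun u => chkSlp tab slp u) = true := by decide +kernel

theorem sl_6436 : allRange 115848 18 (fun u => chkSlp tab slp u) = true := by decide +kernel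

theorem sl_6437 : allRange 115866 18 (fun u => chkSlp tab slp u) = true := by decide +kernel

theorem sl_6438 : allRange 115884 18 (fun u => chkSlp tab slp u) = true := by decide +kernel

theorem sl_6439 : allRange 115902 18 (fun u => chkSlp tab slp u) = true := by decide +kernel


end Cfsg.Agent.Helper9.TCData.ONC0
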