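import Cfsg.Agent.Lib.Helper9.TCData.ONC0.Main

set_option autoImplicit false
set_option maxRecDepth 1000000

namespace Cfsg.Agent.Helper9.TCData.ONC0
open Cfsg.Agent.Helper9.TC2

theorem sl_6440 : allRange 115920 18 (fun u => chkSlp tab slp u) = true := by decide +kernel

theorem sl_6441 : allRange 115938 18 (fun u => chkSlp tab slp u) = true := by decide +kernel

theorem sl_6442 : allRange 115956 18 (fun u => chkSlp tab slp u) = true := by decide +kernel

theorem sl_6443 : allRange 115974 18 (fun u => chkSlp tab slp u) = true := by decide +kernel

theorem sl_6444 : allRange 115992 18 (fun u => chkSlp tab slp u) = true := by decide +kernel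

theorem sl_6445 : allRange 116010 18 (fun u => chkSlp tab slp u) = true := by decide +kernel

theorem sl_6446 : allRange 116028 18 (fun u => chkSlp tab slp u) = true := by decide +kernel

theorem sl_6447 : allRange 116046 18 (fun u => chkSlp tab slp u) = true := by decide +kernel


end Cfsg.Agent.Helper9.TCData.ONC0
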