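import Cfsg.Agent.Lib.Helper9.TCData.ONC0.Main

set_option autoImplicit false
set_option maxRecDepth 1000000

namespace Cfsg.Agent.Helper9.TCData.ONC0
open Cfsg.Agent.Helper9.TC2

theorem sl_6448 : allRange 116064 18 (fun u => chkSlp tab slp u) = true := by decide +kernel

theorem sl_6449 : allRange 116082 18 (fun u => chkSlp tab slp u) = true := by decide +kernel

theorem sl_6450 : allRange 116100 18 (fun u => chkSlp tab slp u) = true := by decide +kernel

theorem sl_6451 : allRange 116118 18 (fun u => chkSlp tab slp u) = true := by decide +kernel

theorem sl_6452 : allRange 116136 18 (fun u => chkSlp tab slp u) = true := by decide +kernel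

theorem sl_6453 : allRange 116154 18 (fun u => chkSlp tab slp u) = true := by decide +kernel

theorem sl_6454 : allRange 116172 18 (fun u => chkSlp tab slp u) = true := by decide +kernel

theorem sl_6455 : allRange 116190 18 (fun u => chkSlp tab slp u) = true := by decide +kernel


end Cfsg.Agent.Helper9.TCData.ONC0
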