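import Cfsg.Agent.Lib.Helper9.TCData.ONC0.Main

set_option autoImplicit false
set_option maxRecDepth 1000000

namespace Cfsg.Agent.Helper9.TCData.ONC0
open Cfsg.Agent.Helper9.TC2

theorem sl_6456 : allRange 116208 18 (fun u => chkSlp tab slp u) = true := by decide +kernel

theorem sl_6457 : allRange 116226 18 (fun u => chkSlp tab slp u) = true := by decide +kernel

theorem sl_6458 : allRange 116244 18 (fun u => chkSlp tab slp u) = true := by decide +kernel

theorem sl_6459 : allRange 116262 18 (fun u => chkSlp tab slp u) = true := by decide +kernel

theorem sl_6460 : allRange 116280 18 (fun u => chkSlp tab slp u) = true := by decide +kernel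

theorem sl_6461 : allRange 116298 18 (fun u => chkSlp tab slp u) = true := by decide +kernel

theorem sl_6462 : allRange 116316 18 (fun u => chkSlp tab slp u) = true := by decide +kernel

theorem sl_6463 : allRange 116334 18 (fun u => chkSlp tab slp u) = true := by decide +kernel


end Cfsg.Agent.Helper9.TCData.ONC0
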