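import Cfsg.Agent.Lib.Helper9.TCData.ONC0.Main

set_option autoImplicit false
set_option maxRecDepth 1000000

namespace Cfsg.Agent.Helper9.TCData.ONC0
open Cfsg.Agent.Helper9.TC2

theorem sl_6480 : allRange 116640 18 (fun u => chkSlp tab slp u) = true := by decide +kernel

theorem sl_6481 : allRange 116658 18 (fun u => chkSlp tab slp u) = true := by decide +kernel

theorem sl_6482 : allRange 116676 18 (fun u => chkSlp tab slp u) = true := by decide +kernel

theorem sl_6483 : allRange 116694 18 (fun u => chkSlp tab slp u) = true := by decide +kernel

theorem sl_6484 : allRange 116712 18 (fun u => chkSlp tab slp u) = true := by decide +kernel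

theorem sl_6485 : allRange 116730 18 (fun u => chkSlp tab slp u) = true := by decide +kernel

theorem sl_6486 : allRange 116748 18 (fun u => chkSlp tab slp u) = true := by decide +kernel

theorem sl_6487 : allRange 116766 18 (fun u => chkSlp tab slp u) = true := by decide +kernel


end Cfsg.Agent.Helper9.TCData.ONC0
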