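import Cfsg.Agent.Lib.Helper9.TCData.ONC0.Main

set_option autoImplicit false
set_option maxRecDepth 1000000

namespace Cfsg.Agent.Helper9.TCData.ONC0
open Cfsg.Agent.Helper9.TC2

theorem sl_6488 : allRange 116784 18 (fun u => chkSlp tab slp u) = true := by decide +kernel

theorem sl_6489 : allRange 116802 18 (fun u => chkSlp tab slp u) = true := by decide +kernel

theorem sl_6490 : allRange 116820 18 (fun u => chkSlp tab slp u) = true := by decide +kernel

theorem sl_6491 : allRange 116838 18 (fun u => chkSlp tab slp u) = true := by decide +kernel

theorem sl_6492 : allRange 116856 18 (fun u => chkSlp tab slp u) = true := by decide +kernel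

theorem sl_6493 : allRange 116874 18 (fun u => chkSlp tab slp u) = true := by decide +kernel

theorem sl_6494 : allRange 116892 18 (fun u => chkSlp tab slp u) = true := by decide +kernel

theorem sl_6495 : allRange 116910 18 (fun u => chkSlp tab slp u) = true := by decide +kernel


end Cfsg.Agent.Helper9.TCData.ONC0
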