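import Cfsg.Agent.Lib.Helper9.TCData.ONC0.Main

set_option autoImplicit false
set_option maxRecDepth 1000000

namespace Cfsg.Agent.Helper9.TCData.ONC0
open Cfsg.Agent.Helper9.TC2

theorem sl_6504 : allRange 117072 18 (fun u => chkSlp tab slp u) = true := by decide +kernel

theorem sl_6505 : allRange 117090 18 (fun u => chkSlp tab slp u) = true := by decide +kernel

theorem sl_6506 : allRange 117108 18 (fun u => chkSlp tab slp u) = true := by decide +kernel

theorem sl_6507 : allRange 117126 18 (fun u => chkSlp tab slp u) = true := by decide +kernel

theorem sl_6508 : allRange 117144 18 (fun u => chkSlp tab slp u) = true := by decide +kernel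

theorem sl_6509 : allRange 117162 18 (fun u => chkSlp tab slp u) = true := by decide +kernel

theorem sl_6510 : allRange 117180 18 (fun u => chkSlp tab slp u) = true := by decide +kernel

theorem sl_6511 : allRange 117198 18 (fun u => chkSlp tab slp u) = true := by decide +kernel


end Cfsg.Agent.Helper9.TCData.ONC0
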