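import Cfsg.Agent.Lib.Helper9.TCData.ONC0.Main

set_option autoImplicit false
set_option maxRecDepth 1000000

namespace Cfsg.Agent.Helper9.TCData.ONC0
open Cfsg.Agent.Helper9.TC2

theorem sl_6520 : allRange 117360 18 (fun u => chkSlp tab slp u) = true := by decide +kernel

theorem sl_6521 : allRange 117378 18 (fun u => chkSlp tab slp u) = true := by decide +kernel

theorem sl_6522 : allRange 117396 18 (fun u => chkSlp tab slp u) = true := by decide +kernel

theorem sl_6523 : allRange 117414 18 (fun u => chkSlp tab slp u) = true := by decide +kernel

theorem sl_6524 : allRange 117432 18 (fun u => chkSlp tab slp u) = true := by decide +kernel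

theorem sl_6525 : allRange 117450 18 (fun u => chkSlp tab slp u) = true := by decide +kernel

theorem sl_6526 : allRange 117468 18 (fun u => chkSlp tab slp u) = true := by decide +kernel

theorem sl_6527 : allRange 117486 18 (fun u => chkSlp tab slp u) = true := by decide +kernel


end Cfsg.Agent.Helper9.TCData.ONC0
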