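import Cfsg.Agent.Lib.Helper9.TCData.ONC0.Main

set_option autoImplicit false
set_option maxRecDepth 1000000

namespace Cfsg.Agent.Helper9.TCData.ONC0
open Cfsg.Agent.Helper9.TC2

theorem sl_6536 : allRange 117648 18 (fun u => chkSlp tab slp u) = true := by decide +kernel

theorem sl_6537 : allRange 117666 18 (fun u => chkSlp tab slp u) = true := by decide +kernel

theorem sl_6538 : allRange 117684 18 (fun u => chkSlp tab slp u) = true := by decide +kernel

theorem sl_6539 : allRange 117702 18 (fun u => chkSlp tab slp u) = true := by decide +kernel

theorem sl_6540 : allRange 117720 18 (fun u => chkSlp tab slp u) = true := by decide +kernel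

theorem sl_6541 : allRange 117738 18 (fun u => chkSlp tab slp u) = true := by decide +kernel

theorem sl_6542 : allRange 117756 18 (fun u => chkSlp tab slp u) = true := by decide +kernel

theorem sl_6543 : allRange 117774 18 (fun u => chkSlp tab slp u) = true := by decide +kernel


end Cfsg.Agent.Helper9.TCData.ONC0
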