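import Cfsg.Agent.Lib.Helper9.TCData.ONC0.Main

set_option autoImplicit false
set_option maxRecDepth 1000000

namespace Cfsg.Agent.Helper9.TCData.ONC0
open Cfsg.Agent.Helper9.TC2

theorem sl_6544 : allRange 117792 18 (fun u => chkSlp tab slp u) = true := by decide +kernel

theorem sl_6545 : allRange 117810 18 (fun u => chkSlp tab slp u) = true := by decide +kernel

theorem sl_6546 : allRange 117828 18 (fun u => chkSlp tab slp u) = true := by decide +kernel

theorem sl_6547 : allRange 117846 18 (fun u => chkSlp tab slp u) = true := by decide +kernel

theorem sl_6548 : allRange 117864 18 (fun u => chkSlp tab slp u) = true := by decide +kernel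

theorem sl_6549 : allRange 117882 18 (fun u => chkSlp tab slp u) = true := by decide +kernel

theorem sl_6550 : allRange 117900 18 (fun u => chkSlp tab slp u) = true := by decide +kernel

theorem sl_6551 : allRange 117918 18 (fun u => chkSlp tab slp u) = true := by decide +kernel


end Cfsg.Agent.Helper9.TCData.ONC0
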