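import Cfsg.Agent.Lib.Helper9.TCData.ONC0.Main

set_option autoImplicit false
set_option maxRecDepth 1000000

namespace Cfsg.Agent.Helper9.TCData.ONC0
open Cfsg.Agent.Helper9.TC2

theorem sl_6552 : allRange 117936 18 (fun u => chkSlp tab slp u) = true := by decide +kernel

theorem sl_6553 : allRange 117954 18 (fun u => chkSlp tab slp u) = true := by decide +kernel

theorem sl_6554 : allRange 117972 18 (fun u => chkSlp tab slp u) = true := by decide +kernel

theorem sl_6555 : allRange 117990 18 (fun u => chkSlp tab slp u) = true := by decide +kernel

theorem sl_6556 : allRange 118008 18 (fun u => chkSlp tab slp u) = true := by decide +kernel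

theorem sl_6557 : allRange 118026 18 (fun u => chkSlp tab slp u) = true := by decide +kernel

theorem sl_6558 : allRange 118044 18 (fun u => chkSlp tab slp u) = true := by decide +kernel

theorem sl_6559 : allRange 118062 18 (fun u => chkSlp tab slp u) = true := by decide +kernel


end Cfsg.Agent.Helper9.TCData.ONC0
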