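import Cfsg.Agent.Lib.Helper9.TCData.ONC0.Main

set_option autoImplicit false
set_option maxRecDepth 1000000

namespace Cfsg.Agent.Helper9.TCData.ONC0
open Cfsg.Agent.Helper9.TC2

theorem sl_6560 : allRange 118080 18 (fun u => chkSlp tab slp u) = true := by decide +kernel

theorem sl_6561 : allRange 118098 18 (fun u => chkSlp tab slp u) = true := by decide +kernel

theorem sl_6562 : allRange 118116 18 (fun u => chkSlp tab slp u) = true := by decide +kernel

theorem sl_6563 : allRange 118134 18 (fun u => chkSlp tab slp u) = true := by decide +kernel

theorem sl_6564 : allRange 118152 18 (fun u => chkSlp tab slp u) = true := by decide +kernel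

theorem sl_6565 : allRange 118170 18 (fun u => chkSlp tab slp u) = true := by decide +kernel

theorem sl_6566 : allRange 118188 18 (fun u => chkSlp tab slp u) = true := by decide +kernel

theorem sl_6567 : allRange 118206 18 (fun u => chkSlp tab slp u) = true := by decide +kernel


end Cfsg.Agent.Helper9.TCData.ONC0
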