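import Cfsg.Agent.Lib.Helper9.TCData.ONC0.Main

set_option autoImplicit false
set_option maxRecDepth 1000000

namespace Cfsg.Agent.Helper9.TCData.ONC0
open Cfsg.Agent.Helper9.TC2

theorem sl_6576 : allRange 118368 18 (fun u => chkSlp tab slp u) = true := by decide +kernel

theorem sl_6577 : allRange 118386 18 (fun u => chkSlp tab slp u) = true := by decide +kernel

theorem sl_6578 : allRange 118404 18 (fun u => chkSlp tab slp u) = true := by decide +kernel

theorem sl_6579 : allRange 118422 18 (fun u => chkSlp tab slp u) = true := by decide +kernel

theorem sl_6580 : allRange 118440 18 (fun u => chkSlp tab slp u) = true := by decide +kernel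

theorem sl_6581 : allRange 118458 18 (fun u => chkSlp tab slp u) = true := by decide +kernel

theorem sl_6582 : allRange 118476 18 (fun u => chkSlp tab slp u) = true := by decide +kernel

theorem sl_6583 : allRange 118494 18 (fun u => chkSlp tab slp u) = true := by decide +kernel


end Cfsg.Agent.Helper9.TCData.ONC0
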