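import Cfsg.Agent.Lib.Helper9.TCData.ONC0.Main

set_option autoImplicit false
set_option maxRecDepth 1000000

namespace Cfsg.Agent.Helper9.TCData.ONC0
open Cfsg.Agent.Helper9.TC2

theorem sl_6584 : allRange 118512 18 (fun u => chkSlp tab slp u) = true := by decide +kernel

theorem sl_6585 : allRange 118530 18 (fun u => chkSlp tab slp u) = true := by decide +kernel

theorem sl_6586 : allRange 118548 18 (fun u => chkSlp tab slp u) = true := by decide +kernel

theorem sl_6587 : allRange 118566 18 (fun u => chkSlp tab slp u) = true := by decide +kernel

theorem sl_6588 : allRange 118584 18 (fun u => chkSlp tab slp u) = true := by decide +kernel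

theorem sl_6589 : allRange 118602 18 (fun u => chkSlp tab slp u) = true := by decide +kernel

theorem sl_6590 : allRange 118620 18 (fun u => chkSlp tab slp u) = true := by decide +kernel

theorem sl_6591 : allRange 118638 18 (fun u => chkSlp tab slp u) = true := by decide +kernel


end Cfsg.Agent.Helper9.TCData.ONC0
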