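import Cfsg.Agent.Lib.Helper9.TCData.ONC0.Main

set_option autoImplicit false
set_option maxRecDepth 1000000

namespace Cfsg.Agent.Helper9.TCData.ONC0
open Cfsg.Agent.Helper9.TC2

theorem sl_6616 : allRange 119088 18 (fun u => chkSlp tab slp u) = true := by decide +kernel

theorem sl_6617 : allRange 119106 18 (fun u => chkSlp tab slp u) = true := by decide +kernel

theorem sl_6618 : allRange 119124 18 (fun u => chkSlp tab slp u) = true := by decide +kernel

theorem sl_6619 : allRange 119142 18 (fun u => chkSlp tab slp u) = true := by decide +kernel

theorem sl_6620 : allRange 119160 18 (fun u => chkSlp tab slp u) = true := by decide +kernel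

theorem sl_6621 : allRange 119178 18 (fun u => chkSlp tab slp u) = true := by decide +kernel

theorem sl_6622 : allRange 119196 18 (fun u => chkSlp tab slp u) = true := by decide +kernel

theorem sl_6623 : allRange 119214 18 (fun u => chkSlp tab slp u) = true := by decide +kernel


end Cfsg.Agent.Helper9.TCData.ONC0
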