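import Cfsg.Agent.Lib.Helper9.TCData.ONC0.Main

set_option autoImplicit false
set_option maxRecDepth 1000000

namespace Cfsg.Agent.Helper9.TCData.ONC0
open Cfsg.Agent.Helper9.TC2

theorem sl_6624 : allRange 119232 18 (fun u => chkSlp tab slp u) = true := by decide +kernel

theorem sl_6625 : allRange 119250 18 (fun u => chkSlp tab slp u) = true := by decide +kernel

theorem sl_6626 : allRange 119268 18 (fun u => chkSlp tab slp u) = true := by decide +kernel

theorem sl_6627 : allRange 119286 18 (fun u => chkSlp tab slp u) = true := by decide +kernel

theorem sl_6628 : allRange 119304 18 (fun u => chkSlp tab slp u) = true := by decide +kernel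

theorem sl_6629 : allRange 119322 18 (fun u => chkSlp tab slp u) = true := by decide +kernel

theorem sl_6630 : allRange 119340 18 (fun u => chkSlp tab slp u) = true := by decide +kernel

theorem sl_6631 : allRange 119358 18 (fun u => chkSlp tab slp u) = true := by decide +kernel


end Cfsg.Agent.Helper9.TCData.ONC0
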