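import Cfsg.Agent.Lib.Helper9.TCData.ONC0.Main

set_option autoImplicit false
set_option maxRecDepth 1000000

namespace Cfsg.Agent.Helper9.TCData.ONC0
open Cfsg.Agent.Helper9.TC2

theorem sl_6648 : allRange 119664 18 (fun u => chkSlp tab slp u) = true := by decide +kernel

theorem sl_6649 : allRange 119682 18 (fun u => chkSlp tab slp u) = true := by decide +kernel

theorem sl_6650 : allRange 119700 18 (fun u => chkSlp tab slp u) = true := by decide +kernel

theorem sl_6651 : allRange 119718 18 (fun u => chkSlp tab slp u) = true := by decide +kernel

theorem sl_6652 : allRange 119736 18 (fun u => chkSlp tab slp u) = true := by decide +kernel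

theorem sl_6653 : allRange 119754 18 (fun u => chkSlp tab slp u) = true := by decide +kernel

theorem sl_6654 : allRange 119772 18 (fun u => chkSlp tab slp u) = true := by decide +kernel

theorem sl_6655 : allRange 119790 18 (fun u => chkSlp tab slp u) = true := by decide +kernel


end Cfsg.Agent.Helper9.TCData.ONC0
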