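import Cfsg.Agent.Lib.Helper9.TCData.ONC0.Main

set_option autoImplicit false
set_option maxRecDepth 1000000

namespace Cfsg.Agent.Helper9.TCData.ONC0
open Cfsg.Agent.Helper9.TC2

theorem sl_6656 : allRange 119808 18 (fun u => chkSlp tab slp u) = true := by decide +kernel

theorem sl_6657 : allRange 119826 18 (fun u => chkSlp tab slp u) = true := by decide +kernel

theorem sl_6658 : allRange 119844 18 (fun u => chkSlp tab slp u) = true := by decide +kernel

theorem sl_6659 : allRange 119862 18 (fun u => chkSlp tab slp u) = true := by decide +kernel

theorem sl_6660 : allRange 119880 18 (fun u => chkSlp tab slp u) = true := by decide +kernel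

theorem sl_6661 : allRange 119898 18 (fun u => chkSlp tab slp u) = true := by decide +kernel

theorem sl_6662 : allRange 119916 18 (fun u => chkSlp tab slp u) = true := by decide +kernel

theorem sl_6663 : allRange 119934 18 (fun u => chkSlp tab slp u) = true := by decide +kernel


end Cfsg.Agent.Helper9.TCData.ONC0
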