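import Cfsg.Agent.Lib.Helper9.TCData.ONC0.Main

set_option autoImplicit false
set_option maxRecDepth 1000000

namespace Cfsg.Agent.Helper9.TCData.ONC0
open Cfsg.Agent.Helper9.TC2

theorem sl_6672 : allRange 120096 18 (fun u => chkSlp tab slp u) = true := by decide +kernel

theorem sl_6673 : allRange 120114 18 (fun u => chkSlp tab slp u) = true := by decide +kernel

theorem sl_6674 : allRange 120132 18 (fun u => chkSlp tab slp u) = true := by decide +kernel

theorem sl_6675 : allRange 120150 18 (fun u => chkSlp tab slp u) = true := by decide +kernel

theorem sl_6676 : allRange 120168 18 (fun u => chkSlp tab slp u) = true := by decide +kernel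

theorem sl_6677 : allRange 120186 18 (fun u => chkSlp tab slp u) = true := by decide +kernel

theorem sl_6678 : allRange 120204 18 (fun u => chkSlp tab slp u) = true := by decide +kernel

theorem sl_6679 : allRange 120222 18 (fun u => chkSlp tab slp u) = true := by decide +kernel


end Cfsg.Agent.Helper9.TCData.ONC0
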