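import Cfsg.Agent.Lib.Helper9.TCData.ONC0.Main

set_option autoImplicit false
set_option maxRecDepth 1000000

namespace Cfsg.Agent.Helper9.TCData.ONC0
open Cfsg.Agent.Helper9.TC2

theorem sl_6680 : allRange 120240 18 (fun u => chkSlp tab slp u) = true := by decide +kernel

theorem sl_6681 : allRange 120258 18 (fun u => chkSlp tab slp u) = true := by decide +kernel

theorem sl_6682 : allRange 120276 18 (fun u => chkSlp tab slp u) = true := by decide +kernel

theorem sl_6683 : allRange 120294 18 (fun u => chkSlp tab slp u) = true := by decide +kernel

theorem sl_6684 : allRange 120312 18 (fun u => chkSlp tab slp u) = true := by decide +kernel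

theorem sl_6685 : allRange 120330 18 (fun u => chkSlp tab slp u) = true := by decide +kernel

theorem sl_6686 : allRange 120348 18 (fun u => chkSlp tab slp u) = true := by decide +kernel

theorem sl_6687 : allRange 120366 18 (fun u => chkSlp tab slp u) = true := by decide +kernel


end Cfsg.Agent.Helper9.TCData.ONC0
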