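import Cfsg.Agent.Lib.Helper9.TCData.ONC0.Main

set_option autoImplicit false
set_option maxRecDepth 1000000

namespace Cfsg.Agent.Helper9.TCData.ONC0
open Cfsg.Agent.Helper9.TC2

theorem sl_6696 : allRange 120528 18 (fun u => chkSlp tab slp u) = true := by decide +kernel

theorem sl_6697 : allRange 120546 18 (fun u => chkSlp tab slp u) = true := by decide +kernel

theorem sl_6698 : allRange 120564 18 (fun u => chkSlp tab slp u) = true := by decide +kernel

theorem sl_6699 : allRange 120582 18 (fun u => chkSlp tab slp u) = true := by decide +kernel

theorem sl_6700 : allRange 120600 18 (fun u => chkSlp tab slp u) = true := by decide +kernel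

theorem sl_6701 : allRange 120618 18 (fun u => chkSlp tab slp u) = true := by decide +kernel

theorem sl_6702 : allRange 120636 18 (fun u => chkSlp tab slp u) = true := by decide +kernel

theorem sl_6703 : allRange 120654 18 (fun u => chkSlp tab slp u) = true := by decide +kernel


end Cfsg.Agent.Helper9.TCData.ONC0
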