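import Cfsg.Agent.Lib.Helper9.TCData.ONC0.Main

set_option autoImplicit false
set_option maxRecDepth 1000000

namespace Cfsg.Agent.Helper9.TCData.ONC0
open Cfsg.Agent.Helper9.TC2

theorem sl_6704 : allRange 120672 18 (fun u => chkSlp tab slp u) = true := by decide +kernel

theorem sl_6705 : allRange 120690 18 (fun u => chkSlp tab slp u) = true := by decide +kernel

theorem sl_6706 : allRange 120708 18 (fun u => chkSlp tab slp u) = true := by decide +kernel

theorem sl_6707 : allRange 120726 18 (fun u => chkSlp tab slp u) = true := by decide +kernel

theorem sl_6708 : allRange 120744 18 (fun u => chkSlp tab slp u) = true := by decide +kernel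

theorem sl_6709 : allRange 120762 18 (fun u => chkSlp tab slp u) = true := by decide +kernel

theorem sl_6710 : allRange 120780 18 (fun u => chkSlp tab slp u) = true := by decide +kernel

theorem sl_6711 : allRange 120798 18 (fun u => chkSlp tab slp u) = true := by decide +kernel


end Cfsg.Agent.Helper9.TCData.ONC0
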