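import Cfsg.Agent.Lib.Helper9.TCData.ONC0.Main

set_option autoImplicit false
set_option maxRecDepth 1000000

namespace Cfsg.Agent.Helper9.TCData.ONC0
open Cfsg.Agent.Helper9.TC2

theorem sl_6712 : allRange 120816 18 (fun u => chkSlp tab slp u) = true := by decide +kernel

theorem sl_6713 : allRange 120834 18 (fun u => chkSlp tab slp u) = true := by decide +kernel

theorem sl_6714 : allRange 120852 18 (fun u => chkSlp tab slp u) = true := by decide +kernel

theorem sl_6715 : allRange 120870 18 (fun u => chkSlp tab slp u) = true := by decide +kernel

theorem sl_6716 : allRange 120888 18 (fun u => chkSlp tab slp u) = true := by decide +kernel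

theorem sl_6717 : allRange 120906 18 (fun u => chkSlp tab slp u) = true := by decide +kernel

theorem sl_6718 : allRange 120924 18 (fun u => chkSlp tab slp u) = true := by decide +kernel

theorem sl_6719 : allRange 120942 18 (fun u => chkSlp tab slp u) = true := by decide +kernel


end Cfsg.Agent.Helper9.TCData.ONC0
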