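import Cfsg.Agent.Lib.Helper9.TCData.ONC0.Main

set_option autoImplicit false
set_option maxRecDepth 1000000

namespace Cfsg.Agent.Helper9.TCData.ONC0
open Cfsg.Agent.Helper9.TC2

theorem sl_6720 : allRange 120960 18 (fun u => chkSlp tab slp u) = true := by decide +kernel

theorem sl_6721 : allRange 120978 18 (fun u => chkSlp tab slp u) = true := by decide +kernel

theorem sl_6722 : allRange 120996 18 (fun u => chkSlp tab slp u) = true := by decide +kernel

theorem sl_6723 : allRange 121014 18 (fun u => chkSlp tab slp u) = true := by decide +kernel

theorem sl_6724 : allRange 121032 18 (fun u => chkSlp tab slp u) = true := by decide +kernel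

theorem sl_6725 : allRange 121050 18 (fun u => chkSlp tab slp u) = true := by decide +kernel

theorem sl_6726 : allRange 121068 18 (fun u => chkSlp tab slp u) = true := by decide +kernel

theorem sl_6727 : allRange 121086 18 (fun u => chkSlp tab slp u) = true := by decide +kernel


end Cfsg.Agent.Helper9.TCData.ONC0
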