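import Cfsg.Agent.Lib.Helper9.TCData.ONC0.Main

set_option autoImplicit false
set_option maxRecDepth 1000000

namespace Cfsg.Agent.Helper9.TCData.ONC0
open Cfsg.Agent.Helper9.TC2

theorem sl_6736 : allRange 121248 18 (fun u => chkSlp tab slp u) = true := by decide +kernel

theorem sl_6737 : allRange 121266 18 (fun u => chkSlp tab slp u) = true := by decide +kernel

theorem sl_6738 : allRange 121284 18 (fun u => chkSlp tab slp u) = true := by decide +kernel

theorem sl_6739 : allRange 121302 18 (fun u => chkSlp tab slp u) = true := by decide +kernel

theorem sl_6740 : allRange 121320 18 (fun u => chkSlp tab slp u) = true := by decide +kernel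

theorem sl_6741 : allRange 121338 18 (fun u => chkSlp tab slp u) = true := by decide +kernel

theorem sl_6742 : allRange 121356 18 (fun u => chkSlp tab slp u) = true := by decide +kernel

theorem sl_6743 : allRange 121374 18 (fun u => chkSlp tab slp u) = true := by decide +kernel


end Cfsg.Agent.Helper9.TCData.ONC0
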