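import Cfsg.Agent.Lib.Helper9.TCData.ONC0.Main

set_option autoImplicit false
set_option maxRecDepth 1000000

namespace Cfsg.Agent.Helper9.TCData.ONC0
open Cfsg.Agent.Helper9.TC2

theorem sl_6744 : allRange 121392 18 (fun u => chkSlp tab slp u) = true := by decide +kernel

theorem sl_6745 : allRange 121410 18 (fun u => chkSlp tab slp u) = true := by decide +kernel

theorem sl_6746 : allRange 121428 18 (fun u => chkSlp tab slp u) = true := by decide +kernel

theorem sl_6747 : allRange 121446 18 (fun u => chkSlp tab slp u) = true := by decide +kernel

theorem sl_6748 : allRange 121464 18 (fun u => chkSlp tab slp u) = true := by decide +kernel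

theorem sl_6749 : allRange 121482 18 (fun u => chkSlp tab slp u) = true := by decide +kernel

theorem sl_6750 : allRange 121500 18 (fun u => chkSlp tab slp u) = true := by decide +kernel

theorem sl_6751 : allRange 121518 18 (fun u => chkSlp tab slp u) = true := by decide +kernel


end Cfsg.Agent.Helper9.TCData.ONC0
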