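import Cfsg.Agent.Lib.Helper9.TCData.ONC0.Main

set_option autoImplicit false
set_option maxRecDepth 1000000

namespace Cfsg.Agent.Helper9.TCData.ONC0
open Cfsg.Agent.Helper9.TC2

theorem sl_6752 : allRange 121536 18 (fun u => chkSlp tab slp u) = true := by decide +kernel

theorem sl_6753 : allRange 121554 18 (fun u => chkSlp tab slp u) = true := by decide +kernel

theorem sl_6754 : allRange 121572 18 (fun u => chkSlp tab slp u) = true := by decide +kernel

theorem sl_6755 : allRange 121590 18 (fun u => chkSlp tab slp u) = true := by decide +kernel

theorem sl_6756 : allRange 121608 18 (fun u => chkSlp tab slp u) = true := by decide +kernel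

theorem sl_6757 : allRange 121626 18 (fun u => chkSlp tab slp u) = true := by decide +kernel

theorem sl_6758 : allRange 121644 18 (fun u => chkSlp tab slp u) = true := by decide +kernel

theorem sl_6759 : allRange 121662 18 (fun u => chkSlp tab slp u) = true := by decide +kernel


end Cfsg.Agent.Helper9.TCData.ONC0
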