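import Cfsg.Agent.Lib.Helper9.TCData.ONC0.Main

set_option autoImplicit false
set_option maxRecDepth 1000000

namespace Cfsg.Agent.Helper9.TCData.ONC0
open Cfsg.Agent.Helper9.TC2

theorem f_336 : allRange 103488 308 (fun u => chkFin tab u) = true := by decide +kernel

theorem f_337 : allRange 103796 308 (fun u => chkFin tab u) = true := by decide +kernel

theorem f_338 : allRange 104104 308 (fun u => chkFin tab u) = true := by decide +kernel

theorem f_339 : allRange 104412 308 (fun u => chkFin tab u) = true := by decide +kernel

theorem f_340 : allRange 104720 308 (fun u => chkFin tab u) = true := by decide +kernel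

theorem f_341 : allRange 105028 308 (fun u => chkFin tab u) = true := by decide +kernel

theorem f_342 : allRange 105336 308 (fun u => chkFin tab u) = true := by decide +kernel

theorem f_343 : allRange 105644 308 (fun u => chkFin tab u) = true := by decide +kernel


end Cfsg.Agent.Helper9.TCData.ONC0
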