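import Cfsg.Agent.Lib.Helper9.TCData.ONC0.Main

set_option autoImplicit false
set_option maxRecDepth 1000000

namespace Cfsg.Agent.Helper9.TCData.ONC0
open Cfsg.Agent.Helper9.TC2

theorem sl_6768 : allRange 121824 18 (fun u => chkSlp tab slp u) = true := by decide +kernel

theorem sl_6769 : allRange 121842 18 (fun u => chkSlp tab slp u) = true := by decide +kernel

theorem sl_6770 : allRange 121860 18 (fun u => chkSlp tab slp u) = true := by decide +kernel

theorem sl_6771 : allRange 121878 18 (fun u => chkSlp tab slp u) = true := by decide +kernel

theorem sl_6772 : allRange 121896 18 (fun u => chkSlp tab slp u) = true := by decide +kernel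

theorem sl_6773 : allRange 121914 18 (fun u => chkSlp tab slp u) = true := by decide +kernel

theorem sl_6774 : allRange 121932 18 (fun u => chkSlp tab slp u) = true := by decide +kernel

theorem sl_6775 : allRange 121950 18 (fun u => chkSlp tab slp u) = true := by decide +kernel


end Cfsg.Agent.Helper9.TCData.ONC0
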