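import Cfsg.Agent.Lib.Helper9.TCData.ONC0.Main

set_option autoImplicit false
set_option maxRecDepth 1000000

namespace Cfsg.Agent.Helper9.TCData.ONC0
open Cfsg.Agent.Helper9.TC2

theorem sl_6776 : allRange 121968 18 (fun u => chkSlp tab slp u) = true := by decide +kernel

theorem sl_6777 : allRange 121986 18 (fun u => chkSlp tab slp u) = true := by decide +kernel

theorem sl_6778 : allRange 122004 18 (fun u => chkSlp tab slp u) = true := by decide +kernel

theorem sl_6779 : allRange 122022 18 (fun u => chkSlp tab slp u) = true := by decide +kernel

theorem sl_6780 : allRange 122040 18 (fun u => chkSlp tab slp u) = true := by decide +kernel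

theorem sl_6781 : allRange 122058 18 (fun u => chkSlp tab slp u) = true := by decide +kernel

theorem sl_6782 : allRange 122076 18 (fun u => chkSlp tab slp u) = true := by decide +kernel

theorem sl_6783 : allRange 122094 18 (fun u => chkSlp tab slp u) = true := by decide +kernel


end Cfsg.Agent.Helper9.TCData.ONC0
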