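import Cfsg.Agent.Lib.Helper9.TCData.ONC0.Main

set_option autoImplicit false
set_option maxRecDepth 1000000

namespace Cfsg.Agent.Helper9.TCData.ONC0
open Cfsg.Agent.Helper9.TC2

theorem sl_6792 : allRange 122256 18 (fun u => chkSlp tab slp u) = true := by decide +kernel

theorem sl_6793 : allRange 122274 18 (fun u => chkSlp tab slp u) = true := by decide +kernel

theorem sl_6794 : allRange 122292 18 (fun u => chkSlp tab slp u) = true := by decide +kernel

theorem sl_6795 : allRange 122310 18 (fun u => chkSlp tab slp u) = true := by decide +kernel

theorem sl_6796 : allRange 122328 18 (fun u => chkSlp tab slp u) = true := by decide +kernel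

theorem sl_6797 : allRange 122346 18 (fun u => chkSlp tab slp u) = true := by decide +kernel

theorem sl_6798 : allRange 122364 18 (fun u => chkSlp tab slp u) = true := by decide +kernel

theorem sl_6799 : allRange 122382 18 (fun u => chkSlp tab slp u) = true := by decide +kernel


end Cfsg.Agent.Helper9.TCData.ONC0
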