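import Cfsg.Agent.Lib.Helper9.TCData.ONC0.Main

set_option autoImplicit false
set_option maxRecDepth 1000000

namespace Cfsg.Agent.Helper9.TCData.ONC0
open Cfsg.Agent.Helper9.TC2

theorem sl_6816 : allRange 122688 18 (fun u => chkSlp tab slp u) = true := by decide +kernel

theorem sl_6817 : allRange 122706 18 (fun u => chkSlp tab slp u) = true := by decide +kernel

theorem sl_6818 : allRange 122724 18 (fun u => chkSlp tab slp u) = true := by decide +kernel

theorem sl_6819 : allRange 122742 18 (fun u => chkSlp tab slp u) = true := by decide +kernel


end Cfsg.Agent.Helper9.TCData.ONC0
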