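import Cfsg.Agent.Lib.Helper9.TCData.ONC0.Main

set_option autoImplicit false
set_option maxRecDepth 1000000

namespace Cfsg.Agent.Helper9.TCData.ONC0
open Cfsg.Agent.Helper9.TC2

theorem f_376 : allRange 115808 308 (fun u => chkFin tab u) = true := by decide +kernel

theorem f_377 : allRange 116116 308 (fun u => chkFin tab u) = true := by decide +kernel

theorem f_378 : allRange 116424 308 (fun u => chkFin tab u) = true := by decide +kernel

theorem f_379 : allRange 116732 308 (fun u => chkFin tab u) = true := by decide +kernel

theorem f_380 : allRange 117040 308 (fun u => chkFin tab u) = true := by decide +kernel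

theorem f_381 : allRange 117348 308 (fun u => chkFin tab u) = true := by decide +kernel

theorem f_382 : allRange 117656 308 (fun u => chkFin tab u) = true := by decide +kernel

theorem f_383 : allRange 117964 308 (fun u => chkFin tab u) = true := by decide +kernel


end Cfsg.Agent.Helper9.TCData.ONC0
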