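import Cfsg.Agent.Lib.Helper9.TCData.ONC0.Main

set_option autoImplicit false
set_option maxRecDepth 1000000

namespace Cfsg.Agent.Helper9.TCData.ONC0
open Cfsg.Agent.Helper9.TC2

theorem tr3x_23 : allRange 23000 1000 (fun u => chkTree tab (lidx 3) (lpar 3) (lgi 3) 5 [7] u) = true := by decide +kernel

theorem tr3x_24 : allRange 24000 1000 (fun u => chkTree tab (lidx 3) (lpar 3) (lgi 3) 5 [7] u) = true := by decide +kernel

theorem tr3x_25 : allRange 25000 1000 (fun u => chkTree tab (lidx 3) (lpar 3) (lgi 3) 5 [7] u) = true := by decide +kernel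

theorem tr3x_26 : allRange 26000 1000 (fun u => chkTree tab (lidx 3) (lpar 3) (lgi 3) 5 [7] u) = true := by decide +kernel

theorem tr3x_27 : allRange 27000 1000 (fun u => chkTree tab (lidx 3) (lpar 3) (lgi 3) 5 [7] u) = true := by decide +kernel

theorem tr3x_28 : allRange 28000 1000 (fun u => chkTree tab (lidx 3) (lpar 3) (lgi 3) 5 [7] u) = true := by decide +kernel

theorem tr3x_29 : allRange 29000 1000 (fun u => chkTree tab (lidx 3) (lpar 3) (lgi 3) 5 [7] u) = true := by decide +kernel

theorem tr3x_30 : allRange 30000 1000 (fun u => chkTree tab (lidx 3) (lpar 3) (lgi 3) 5 [7] u) = true := by decide +kernel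


end Cfsg.Agent.Helper9.TCData.ONC0
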