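import Cfsg.Agent.Lib.Helper9.TCData.ONC0.Main

set_option autoImplicit false
set_option maxRecDepth 1000000

namespace Cfsg.Agent.Helper9.TCData.ONC0
open Cfsg.Agent.Helper9.TC2

theorem f_384 : allRange 118272 308 (fun u => chkFin tab u) = true := by decide +kernel

theorem f_385 : allRange 118580 308 (fun u => chkFin tab u) = true := by decide +kernel

theorem f_386 : allRange 118888 308 (fun u => chkFin tab u) = true := by decide +kernel

theorem f_387 : allRange 119196 308 (fun u => chkFin tab u) = true := by decide +kernel

theorem f_388 : allRange 119504 308 (fun u => chkFin tab u) = true := by decide +kernel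

theorem f_389 : allRange 119812 308 (fun u => chkFin tab u) = true := by decide +kernel

theorem f_390 : allRange 120120 308 (fun u => chkFin tab u) = true := by decide +kernel

theorem f_391 : allRange 120428 308 (fun u => chkFin tab u) = true := by decide +kernel


end Cfsg.Agent.Helper9.TCData.ONC0
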