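import Cfsg.Agent.Lib.Helper9.TCData.ONC0.Main

set_option autoImplicit false
set_option maxRecDepth 1000000

namespace Cfsg.Agent.Helper9.TCData.ONC0
open Cfsg.Agent.Helper9.TC2

theorem x_16 : allRange 8000 500 (fun u => Nat.beq ((runT tab xw)^[5] u) u) = true := by decide +kernel

theorem x_17 : allRange 8500 500 (fun u => Nat.beq ((runT tab xw)^[5] u) u) = true := by decide +kernel

theorem x_18 : allRange 9000 500 (fun u => Nat.beq ((runT tab xw)^[5] u) u) = true := by decide +kernel

theorem x_19 : allRange 9500 500 (fun u => Nat.beq ((runT tab xw)^[5] u) u) = true := by decide +kernel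

theorem x_20 : allRange 10000 500 (fun u => Nat.beq ((runT tab xw)^[5] u) u) = true := by decide +kernel

theorem x_21 : allRange 10500 500 (fun u => Nat.beq ((runT tab xw)^[5] u) u) = true := by decide +kernel

theorem x_22 : allRange 11000 500 (fun u => Nat.beq ((runT tab xw)^[5] u) u) = true := by decide +kernel

theorem x_23 : allRange 11500 500 (fun u => Nat.beq ((runT tab xw)^[5] u) u) = true := by decide +kernel


end Cfsg.Agent.Helper9.TCData.ONC0
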