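import Cfsg.Agent.Lib.Helper9.TCData.ONC0.Main

set_option autoImplicit false
set_option maxRecDepth 1000000

namespace Cfsg.Agent.Helper9.TCData.ONC0
open Cfsg.Agent.Helper9.TC2

theorem x_24 : allRange 12000 500 (fun u => Nat.beq ((runT tab xw)^[5] u) u) = true := by decide +kernel

theorem x_25 : allRange 12500 500 (fun u => Nat.beq ((runT tab xw)^[5] u) u) = true := by decide +kernel

theorem x_26 : allRange 13000 500 (fun u => Nat.beq ((runT tab xw)^[5] u) u) = true := by decide +kernel

theorem x_27 : allRange 13500 500 (fun u => Nat.beq ((runT tab xw)^[5] u) u) = true := by decide +kernel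

theorem x_28 : allRange 14000 500 (fun u => Nat.beq ((runT tab xw)^[5] u) u) = true := by decide +kernel

theorem x_29 : allRange 14500 500 (fun u => Nat.beq ((runT tab xw)^[5] u) u) = true := by decide +kernel

theorem x_30 : allRange 15000 500 (fun u => Nat.beq ((runT tab xw)^[5] u) u) = true := by decide +kernel

theorem x_31 : allRange 15500 500 (fun u => Nat.beq ((runT tab xw)^[5] u) u) = true := by decide +kernel


end Cfsg.Agent.Helper9.TCData.ONC0
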