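import Cfsg.Agent.Lib.Helper9.TCData.ONC0.Main

set_option autoImplicit false
set_option maxRecDepth 1000000

namespace Cfsg.Agent.Helper9.TCData.ONC0
open Cfsg.Agent.Helper9.TC2

theorem c_73 : allRange 194691 2667 (fun u => chkCls tab u) = true := by decide +kernel

theorem c_74 : allRange 197358 2667 (fun u => chkCls tab u) = true := by decide +kernel

theorem c_75 : allRange 200025 2667 (fun u => chkCls tab u) = true := by decide +kernel

theorem c_76 : allRange 202692 2667 (fun u => chkCls tab u) = true := by decide +kernel

theorem c_77 : allRange 205359 2667 (fun u => chkCls tab u) = true := by decide +kernel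

theorem c_78 : allRange 208026 2667 (fun u => chkCls tab u) = true := by decide +kernel

theorem c_79 : allRange 210693 2667 (fun u => chkCls tab u) = true := by decide +kernel

theorem c_80 : allRange 213360 2667 (fun u => chkCls tab u) = true := by decide +kernel


end Cfsg.Agent.Helper9.TCData.ONC0
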