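import Cfsg.Agent.Lib.Helper9.TCData.ONC0.Main

set_option autoImplicit false
set_option maxRecDepth 1000000

namespace Cfsg.Agent.Helper9.TCData.ONC0
open Cfsg.Agent.Helper9.TC2

theorem e1_31 : allRange 90951 3216 (fun u => chkE tab 1 u) = true := by decide +kernel

theorem e1_32 : allRange 94167 3468 (fun u => chkE tab 1 u) = true := by decide +kernel

theorem e1_33 : allRange 97635 3341 (fun u => chkE tab 1 u) = true := by decide +kernel

theorem e1_34 : allRange 100976 3500 (fun u => chkE tab 1 u) = true := by decide +kernel

theorem e1_35 : allRange 104476 3696 (fun u => chkE tab 1 u) = true := by decide +kernel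

theorem e1_36 : allRange 108172 2675 (fun u => chkE tab 1 u) = true := by decide +kernel

theorem e1_37 : allRange 110847 2947 (fun u => chkE tab 1 u) = true := by decide +kernel

theorem e1_38 : allRange 113794 2864 (fun u => chkE tab 1 u) = true := by decide +kernel


end Cfsg.Agent.Helper9.TCData.ONC0
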