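import Cfsg.Agent.Lib.Helper9.TCData.ONC0.Main

set_option autoImplicit false
set_option maxRecDepth 1000000

namespace Cfsg.Agent.Helper9.TCData.ONC0
open Cfsg.Agent.Helper9.TC2

theorem m1_0 : allRange 0 793 (fun u => chkM1 tab u) = true := by decide +kernel

theorem m1_1 : allRange 793 793 (fun u => chkM1 tab u) = true := by decide +kernel

theorem m1_2 : allRange 1586 793 (fun u => chkM1 tab u) = true := by decide +kernel

theorem m1_3 : allRange 2379 793 (fun u => chkM1 tab u) = true := by decide +kernel

theorem m1_4 : allRange 3172 793 (fun u => chkM1 tab u) = true := by decide +kernel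

theorem m1_5 : allRange 3965 793 (fun u => chkM1 tab u) = true := by decide +kernel

theorem m1_6 : allRange 4758 793 (fun u => chkM1 tab u) = true := by decide +kernel

theorem m1_7 : allRange 5551 793 (fun u => chkM1 tab u) = true := by decide +kernel


end Cfsg.Agent.Helper9.TCData.ONC0
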