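import Cfsg.Agent.Lib.Helper9.TCData.ONC0.Main

set_option autoImplicit false
set_option maxRecDepth 1000000

namespace Cfsg.Agent.Helper9.TCData.ONC0
open Cfsg.Agent.Helper9.TC2

theorem m1_24 : allRange 19032 793 (fun u => chkM1 tab u) = true := by decide +kernel

theorem m1_25 : allRange 19825 793 (fun u => chkM1 tab u) = true := by decide +kernel

theorem m1_26 : allRange 20618 793 (fun u => chkM1 tab u) = true := by decide +kernel

theorem m1_27 : allRange 21411 793 (fun u => chkM1 tab u) = true := by decide +kernel

theorem m1_28 : allRange 22204 793 (fun u => chkM1 tab u) = true := by decide +kernel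

theorem m1_29 : allRange 22997 793 (fun u => chkM1 tab u) = true := by decide +kernel

theorem m1_30 : allRange 23790 793 (fun u => chkM1 tab u) = true := by decide +kernel

theorem m1_31 : allRange 24583 793 (fun u => chkM1 tab u) = true := by decide +kernel


end Cfsg.Agent.Helper9.TCData.ONC0
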