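import Cfsg.Agent.Lib.Helper9.TCData.ONC0.Main

set_option autoImplicit false
set_option maxRecDepth 1000000

namespace Cfsg.Agent.Helper9.TCData.ONC0
open Cfsg.Agent.Helper9.TC2

theorem m1_48 : allRange 38064 793 (fun u => chkM1 tab u) = true := by decide +kernel

theorem m1_49 : allRange 38857 793 (fun u => chkM1 tab u) = true := by decide +kernel

theorem m1_50 : allRange 39650 793 (fun u => chkM1 tab u) = true := by decide +kernel

theorem m1_51 : allRange 40443 793 (fun u => chkM1 tab u) = true := by decide +kernel

theorem m1_52 : allRange 41236 793 (fun u => chkM1 tab u) = true := by decide +kernel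

theorem m1_53 : allRange 42029 793 (fun u => chkM1 tab u) = true := by decide +kernel

theorem m1_54 : allRange 42822 793 (fun u => chkM1 tab u) = true := by decide +kernel

theorem m1_55 : allRange 43615 793 (fun u => chkM1 tab u) = true := by decide +kernel


end Cfsg.Agent.Helper9.TCData.ONC0
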