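import Cfsg.Agent.Lib.Helper9.TCData.ONC0.Main

set_option autoImplicit false
set_option maxRecDepth 1000000

namespace Cfsg.Agent.Helper9.TCData.ONC0
open Cfsg.Agent.Helper9.TC2

theorem m1_56 : allRange 44408 793 (fun u => chkM1 tab u) = true := by decide +kernel

theorem m1_57 : allRange 45201 793 (fun u => chkM1 tab u) = true := by decide +kernel

theorem m1_58 : allRange 45994 793 (fun u => chkM1 tab u) = true := by decide +kernel

theorem m1_59 : allRange 46787 793 (fun u => chkM1 tab u) = true := by decide +kernel

theorem m1_60 : allRange 47580 793 (fun u => chkM1 tab u) = true := by decide +kernel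

theorem m1_61 : allRange 48373 793 (fun u => chkM1 tab u) = true := by decide +kernel

theorem m1_62 : allRange 49166 793 (fun u => chkM1 tab u) = true := by decide +kernel

theorem m1_63 : allRange 49959 793 (fun u => chkM1 tab u) = true := by decide +kernel


end Cfsg.Agent.Helper9.TCData.ONC0
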