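import Cfsg.Agent.Lib.Helper9.TCData.ONC0.Main

set_option autoImplicit false
set_option maxRecDepth 1000000

namespace Cfsg.Agent.Helper9.TCData.ONC0
open Cfsg.Agent.Helper9.TC2

theorem m1_64 : allRange 50752 793 (fun u => chkM1 tab u) = true := by decide +kernel

theorem m1_65 : allRange 51545 793 (fun u => chkM1 tab u) = true := by decide +kernel

theorem m1_66 : allRange 52338 793 (fun u => chkM1 tab u) = true := by decide +kernel

theorem m1_67 : allRange 53131 793 (fun u => chkM1 tab u) = true := by decide +kernel

theorem m1_68 : allRange 53924 793 (fun u => chkM1 tab u) = true := by decide +kernel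

theorem m1_69 : allRange 54717 793 (fun u => chkM1 tab u) = true := by decide +kernel

theorem m1_70 : allRange 55510 793 (fun u => chkM1 tab u) = true := by decide +kernel

theorem m1_71 : allRange 56303 793 (fun u => chkM1 tab u) = true := by decide +kernel


end Cfsg.Agent.Helper9.TCData.ONC0
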