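import Cfsg.Agent.Lib.Helper9.TCData.ONC0.Main

set_option autoImplicit false
set_option maxRecDepth 1000000

namespace Cfsg.Agent.Helper9.TCData.ONC0
open Cfsg.Agent.Helper9.TC2

theorem e1_39 : allRange 116658 2888 (fun u => chkE tab 1 u) = true := by decide +kernel

theorem e1_40 : allRange 119546 3113 (fun u => chkE tab 1 u) = true := by decide +kernel

theorem e1_41 : allRange 122659 3094 (fun u => chkE tab 1 u) = true := by decide +kernel

theorem e1_42 : allRange 125753 2899 (fun u => chkE tab 1 u) = true := by decide +kernel

theorem e1_43 : allRange 128652 2995 (fun u => chkE tab 1 u) = true := by decide +kernel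

theorem e1_44 : allRange 131647 2834 (fun u => chkE tab 1 u) = true := by decide +kernel

theorem e1_45 : allRange 134481 2847 (fun u => chkE tab 1 u) = true := by decide +kernel

theorem e1_46 : allRange 137328 2747 (fun u => chkE tab 1 u) = true := by decide +kernel


end Cfsg.Agent.Helper9.TCData.ONC0
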