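import Cfsg.Agent.Lib.Helper9.TCData.ONC0.Main

set_option autoImplicit false
set_option maxRecDepth 1000000

namespace Cfsg.Agent.Helper9.TCData.ONC0
open Cfsg.Agent.Helper9.TC2

theorem m1_96 : allRange 76128 793 (fun u => chkM1 tab u) = true := by decide +kernel

theorem m1_97 : allRange 76921 793 (fun u => chkM1 tab u) = true := by decide +kernel

theorem m1_98 : allRange 77714 793 (fun u => chkM1 tab u) = true := by decide +kernel

theorem m1_99 : allRange 78507 793 (fun u => chkM1 tab u) = true := by decide +kernel

theorem m1_100 : allRange 79300 793 (fun u => chkM1 tab u) = true := by decide +kernel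

theorem m1_101 : allRange 80093 793 (fun u => chkM1 tab u) = true := by decide +kernel

theorem m1_102 : allRange 80886 793 (fun u => chkM1 tab u) = true := by decide +kernel

theorem m1_103 : allRange 81679 793 (fun u => chkM1 tab u) = true := by decide +kernel


end Cfsg.Agent.Helper9.TCData.ONC0
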