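import Cfsg.Agent.Lib.Helper9.TCData.ONC0.Main

set_option autoImplicit false
set_option maxRecDepth 1000000

namespace Cfsg.Agent.Helper9.TCData.ONC0
open Cfsg.Agent.Helper9.TC2

theorem m1_144 : allRange 114192 793 (fun u => chkM1 tab u) = true := by decide +kernel

theorem m1_145 : allRange 114985 793 (fun u => chkM1 tab u) = true := by decide +kernel

theorem m1_146 : allRange 115778 793 (fun u => chkM1 tab u) = true := by decide +kernel

theorem m1_147 : allRange 116571 793 (fun u => chkM1 tab u) = true := by decide +kernel

theorem m1_148 : allRange 117364 793 (fun u => chkM1 tab u) = true := by decide +kernel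

theorem m1_149 : allRange 118157 793 (fun u => chkM1 tab u) = true := by decide +kernel

theorem m1_150 : allRange 118950 793 (fun u => chkM1 tab u) = true := by decide +kernel

theorem m1_151 : allRange 119743 793 (fun u => chkM1 tab u) = true := by decide +kernel


end Cfsg.Agent.Helper9.TCData.ONC0
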