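import Cfsg.Agent.Lib.Helper9.TCData.ONC0.Main

set_option autoImplicit false
set_option maxRecDepth 1000000

namespace Cfsg.Agent.Helper9.TCData.ONC0
open Cfsg.Agent.Helper9.TC2

theorem ma_29 : allRange 52751 1819 (fun u => chkAux tab aux u) = true := by decide +kernel

theorem ma_30 : allRange 54570 1819 (fun u => chkAux tab aux u) = true := by decide +kernel

theorem ma_31 : allRange 56389 1819 (fun u => chkAux tab aux u) = true := by decide +kernel

theorem ma_32 : allRange 58208 1819 (fun u => chkAux tab aux u) = true := by decide +kernel

theorem ma_33 : allRange 60027 1819 (fun u => chkAux tab aux u) = true := by decide +kernel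

theorem ma_34 : allRange 61846 1819 (fun u => chkAux tab aux u) = true := by decide +kernel

theorem ma_35 : allRange 63665 1819 (fun u => chkAux tab aux u) = true := by decide +kernel

theorem ma_36 : allRange 65484 1819 (fun u => chkAux tab aux u) = true := by decide +kernel


end Cfsg.Agent.Helper9.TCData.ONC0
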