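import Cfsg.Agent.Lib.Helper9.TCData.ONC0.Main

set_option autoImplicit false
set_option maxRecDepth 1000000

namespace Cfsg.Agent.Helper9.TCData.ONC0
open Cfsg.Agent.Helper9.TC2

theorem ma_45 : allRange 81855 1819 (fun u => chkAux tab aux u) = true := by decide +kernel

theorem ma_46 : allRange 83674 1819 (fun u => chkAux tab aux u) = true := by decide +kernel

theorem ma_47 : allRange 85493 1819 (fun u => chkAux tab aux u) = true := by decide +kernel

theorem ma_48 : allRange 87312 1819 (fun u => chkAux tab aux u) = true := by decide +kernel

theorem ma_49 : allRange 89131 1819 (fun u => chkAux tab aux u) = true := by decide +kernel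

theorem ma_50 : allRange 90950 1819 (fun u => chkAux tab aux u) = true := by decide +kernel

theorem ma_51 : allRange 92769 1819 (fun u => chkAux tab aux u) = true := by decide +kernel

theorem ma_52 : allRange 94588 1819 (fun u => chkAux tab aux u) = true := by decide +kernel


end Cfsg.Agent.Helper9.TCData.ONC0
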