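import Cfsg.Agent.Lib.Helper9.TCData.ONC0.Main

set_option autoImplicit false
set_option maxRecDepth 1000000

namespace Cfsg.Agent.Helper9.TCData.ONC0
open Cfsg.Agent.Helper9.TC2

theorem m2_41 : allRange 3895 95 (fun u => chkFix tab mwordsA u) = true := by decide +kernel

theorem m2_42 : allRange 3990 95 (fun u => chkFix tab mwordsA u) = true := by decide +kernel

theorem m2_43 : allRange 4085 95 (fun u => chkFix tab mwordsA u) = true := by decide +kernel

theorem m2_44 : allRange 4180 95 (fun u => chkFix tab mwordsA u) = true := by decide +kernel

theorem m2_45 : allRange 4275 95 (fun u => chkFix tab mwordsA u) = true := by decide +kernel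

theorem m2_46 : allRange 4370 95 (fun u => chkFix tab mwordsA u) = true := by decide +kernel

theorem m2_47 : allRange 4465 95 (fun u => chkFix tab mwordsA u) = true := by decide +kernel

theorem m2_48 : allRange 4560 95 (fun u => chkFix tab mwordsA u) = true := by decide +kernel


end Cfsg.Agent.Helper9.TCData.ONC0
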