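import Cfsg.Agent.Lib.Helper9.TCData.ONC0.Main

set_option autoImplicit false
set_option maxRecDepth 1000000

namespace Cfsg.Agent.Helper9.TCData.ONC0
open Cfsg.Agent.Helper9.TC2

theorem e1_63 : allRange 199795 2050 (fun u => chkE tab 1 u) = true := by decide +kernel

theorem e1_64 : allRange 201845 1989 (fun u => chkE tab 1 u) = true := by decide +kernel

theorem e1_65 : allRange 203834 2144 (fun u => chkE tab 1 u) = true := by decide +kernel

theorem e1_66 : allRange 205978 2083 (fun u => chkE tab 1 u) = true := by decide +kernel

theorem e1_67 : allRange 208061 2068 (fun u => chkE tab 1 u) = true := by decide +kernel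

theorem e1_68 : allRange 210129 2224 (fun u => chkE tab 1 u) = true := by decide +kernel

theorem e1_69 : allRange 212353 2168 (fun u => chkE tab 1 u) = true := by decide +kernel

theorem e1_70 : allRange 214521 2084 (fun u => chkE tab 1 u) = true := by decide +kernel


end Cfsg.Agent.Helper9.TCData.ONC0
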