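import Cfsg.Agent.Lib.Helper9.TCData.ONC0.Main

set_option autoImplicit false
set_option maxRecDepth 1000000

namespace Cfsg.Agent.Helper9.TCData.ONC0
open Cfsg.Agent.Helper9.TC2

theorem m2_113 : allRange 10735 95 (fun u => chkFix tab mwordsA u) = true := by decide +kernel

theorem m2_114 : allRange 10830 95 (fun u => chkFix tab mwordsA u) = true := by decide +kernel

theorem m2_115 : allRange 10925 95 (fun u => chkFix tab mwordsA u) = true := by decide +kernel

theorem m2_116 : allRange 11020 95 (fun u => chkFix tab mwordsA u) = true := by decide +kernel

theorem m2_117 : allRange 11115 95 (fun u => chkFix tab mwordsA u) = true := by decide +kernel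

theorem m2_118 : allRange 11210 95 (fun u => chkFix tab mwordsA u) = true := by decide +kernel

theorem m2_119 : allRange 11305 95 (fun u => chkFix tab mwordsA u) = true := by decide +kernel

theorem m2_120 : allRange 11400 95 (fun u => chkFix tab mwordsA u) = true := by decide +kernel


end Cfsg.Agent.Helper9.TCData.ONC0
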