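import Cfsg.Agent.Lib.Helper9.TCData.ONC0.Main

set_option autoImplicit false
set_option maxRecDepth 1000000

namespace Cfsg.Agent.Helper9.TCData.ONC0
open Cfsg.Agent.Helper9.TC2

theorem m2_145 : allRange 13775 95 (fun u => chkFix tab mwordsA u) = true := by decide +kernel

theorem m2_146 : allRange 13870 95 (fun u => chkFix tab mwordsA u) = true := by decide +kernel

theorem m2_147 : allRange 13965 95 (fun u => chkFix tab mwordsA u) = true := by decide +kernel

theorem m2_148 : allRange 14060 95 (fun u => chkFix tab mwordsA u) = true := by decide +kernel

theorem m2_149 : allRange 14155 95 (fun u => chkFix tab mwordsA u) = true := by decide +kernel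

theorem m2_150 : allRange 14250 95 (fun u => chkFix tab mwordsA u) = true := by decide +kernel

theorem m2_151 : allRange 14345 95 (fun u => chkFix tab mwordsA u) = true := by decide +kernel

theorem m2_152 : allRange 14440 95 (fun u => chkFix tab mwordsA u) = true := by decide +kernel


end Cfsg.Agent.Helper9.TCData.ONC0
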