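import Cfsg.Agent.Lib.Helper9.TCData.ONC0.Main

set_option autoImplicit false
set_option maxRecDepth 1000000

namespace Cfsg.Agent.Helper9.TCData.ONC0
open Cfsg.Agent.Helper9.TC2

theorem m2_153 : allRange 14535 95 (fun u => chkFix tab mwordsA u) = true := by decide +kernel

theorem m2_154 : allRange 14630 95 (fun u => chkFix tab mwordsA u) = true := by decide +kernel

theorem m2_155 : allRange 14725 95 (fun u => chkFix tab mwordsA u) = true := by decide +kernel

theorem m2_156 : allRange 14820 95 (fun u => chkFix tab mwordsA u) = true := by decide +kernel

theorem m2_157 : allRange 14915 95 (fun u => chkFix tab mwordsA u) = true := by decide +kernel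

theorem m2_158 : allRange 15010 95 (fun u => chkFix tab mwordsA u) = true := by decide +kernel

theorem m2_159 : allRange 15105 95 (fun u => chkFix tab mwordsA u) = true := by decide +kernel

theorem m2_160 : allRange 15200 95 (fun u => chkFix tab mwordsA u) = true := by decide +kernel


end Cfsg.Agent.Helper9.TCData.ONC0
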