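import Cfsg.Agent.Lib.Helper9.TCData.ONC0.Main

set_option autoImplicit false
set_option maxRecDepth 1000000

namespace Cfsg.Agent.Helper9.TCData.ONC0
open Cfsg.Agent.Helper9.TC2

theorem m2_161 : allRange 15295 95 (fun u => chkFix tab mwordsA u) = true := by decide +kernel

theorem m2_162 : allRange 15390 95 (fun u => chkFix tab mwordsA u) = true := by decide +kernel

theorem m2_163 : allRange 15485 95 (fun u => chkFix tab mwordsA u) = true := by decide +kernel

theorem m2_164 : allRange 15580 95 (fun u => chkFix tab mwordsA u) = true := by decide +kernel

theorem m2_165 : allRange 15675 95 (fun u => chkFix tab mwordsA u) = true := by decide +kernel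

theorem m2_166 : allRange 15770 95 (fun u => chkFix tab mwordsA u) = true := by decide +kernel

theorem m2_167 : allRange 15865 95 (fun u => chkFix tab mwordsA u) = true := by decide +kernel

theorem m2_168 : allRange 15960 95 (fun u => chkFix tab mwordsA u) = true := by decide +kernel


end Cfsg.Agent.Helper9.TCData.ONC0
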