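import Cfsg.Agent.Lib.Helper9.TCData.ONC0.Main

set_option autoImplicit false
set_option maxRecDepth 1000000

namespace Cfsg.Agent.Helper9.TCData.ONC0
open Cfsg.Agent.Helper9.TC2

theorem m2_201 : allRange 19095 95 (fun u => chkFix tab mwordsA u) = true := by decide +kernel

theorem m2_202 : allRange 19190 95 (fun u => chkFix tab mwordsA u) = true := by decide +kernel

theorem m2_203 : allRange 19285 95 (fun u => chkFix tab mwordsA u) = true := by decide +kernel

theorem m2_204 : allRange 19380 95 (fun u => chkFix tab mwordsA u) = true := by decide +kernel

theorem m2_205 : allRange 19475 95 (fun u => chkFix tab mwordsA u) = true := by decide +kernel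

theorem m2_206 : allRange 19570 95 (fun u => chkFix tab mwordsA u) = true := by decide +kernel

theorem m2_207 : allRange 19665 95 (fun u => chkFix tab mwordsA u) = true := by decide +kernel

theorem m2_208 : allRange 19760 95 (fun u => chkFix tab mwordsA u) = true := by decide +kernel


end Cfsg.Agent.Helper9.TCData.ONC0
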