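import Cfsg.Agent.Lib.Helper9.TCData.ONC0.Main

set_option autoImplicit false
set_option maxRecDepth 1000000

namespace Cfsg.Agent.Helper9.TCData.ONC0
open Cfsg.Agent.Helper9.TC2

theorem m2_217 : allRange 20615 95 (fun u => chkFix tab mwordsA u) = true := by decide +kernel

theorem m2_218 : allRange 20710 95 (fun u => chkFix tab mwordsA u) = true := by decide +kernel

theorem m2_219 : allRange 20805 95 (fun u => chkFix tab mwordsA u) = true := by decide +kernel

theorem m2_220 : allRange 20900 95 (fun u => chkFix tab mwordsA u) = true := by decide +kernel

theorem m2_221 : allRange 20995 95 (fun u => chkFix tab mwordsA u) = true := by decide +kernel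

theorem m2_222 : allRange 21090 95 (fun u => chkFix tab mwordsA u) = true := by decide +kernel

theorem m2_223 : allRange 21185 95 (fun u => chkFix tab mwordsA u) = true := by decide +kernel

theorem m2_224 : allRange 21280 95 (fun u => chkFix tab mwordsA u) = true := by decide +kernel


end Cfsg.Agent.Helper9.TCData.ONC0
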