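import Cfsg.Agent.Lib.Helper9.TCData.ONC0.Main

set_option autoImplicit false
set_option maxRecDepth 1000000

namespace Cfsg.Agent.Helper9.TCData.ONC0
open Cfsg.Agent.Helper9.TC2

theorem m2_241 : allRange 22895 95 (fun u => chkFix tab mwordsA u) = true := by decide +kernel

theorem m2_242 : allRange 22990 95 (fun u => chkFix tab mwordsA u) = true := by decide +kernel

theorem m2_243 : allRange 23085 95 (fun u => chkFix tab mwordsA u) = true := by decide +kernel

theorem m2_244 : allRange 23180 95 (fun u => chkFix tab mwordsA u) = true := by decide +kernel

theorem m2_245 : allRange 23275 95 (fun u => chkFix tab mwordsA u) = true := by decide +kernel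

theorem m2_246 : allRange 23370 95 (fun u => chkFix tab mwordsA u) = true := by decide +kernel

theorem m2_247 : allRange 23465 95 (fun u => chkFix tab mwordsA u) = true := by decide +kernel

theorem m2_248 : allRange 23560 95 (fun u => chkFix tab mwordsA u) = true := by decide +kernel


end Cfsg.Agent.Helper9.TCData.ONC0
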