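import Cfsg.Agent.Lib.Helper9.TCData.ONC0.Main

set_option autoImplicit false
set_option maxRecDepth 1000000

namespace Cfsg.Agent.Helper9.TCData.ONC0
open Cfsg.Agent.Helper9.TC2

theorem m2_249 : allRange 23655 95 (fun u => chkFix tab mwordsA u) = true := by decide +kernel

theorem m2_250 : allRange 23750 95 (fun u => chkFix tab mwordsA u) = true := by decide +kernel

theorem m2_251 : allRange 23845 95 (fun u => chkFix tab mwordsA u) = true := by decide +kernel

theorem m2_252 : allRange 23940 95 (fun u => chkFix tab mwordsA u) = true := by decide +kernel

theorem m2_253 : allRange 24035 95 (fun u => chkFix tab mwordsA u) = true := by decide +kernel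

theorem m2_254 : allRange 24130 95 (fun u => chkFix tab mwordsA u) = true := by decide +kernel

theorem m2_255 : allRange 24225 95 (fun u => chkFix tab mwordsA u) = true := by decide +kernel

theorem m2_256 : allRange 24320 95 (fun u => chkFix tab mwordsA u) = true := by decide +kernel


end Cfsg.Agent.Helper9.TCData.ONC0
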