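import Cfsg.Agent.Lib.Helper9.TCData.ONC0.Main

set_option autoImplicit false
set_option maxRecDepth 1000000

namespace Cfsg.Agent.Helper9.TCData.ONC0
open Cfsg.Agent.Helper9.TC2

theorem m2_257 : allRange 24415 95 (fun u => chkFix tab mwordsA u) = true := by decide +kernel

theorem m2_258 : allRange 24510 95 (fun u => chkFix tab mwordsA u) = true := by decide +kernel

theorem m2_259 : allRange 24605 95 (fun u => chkFix tab mwordsA u) = true := by decide +kernel

theorem m2_260 : allRange 24700 95 (fun u => chkFix tab mwordsA u) = true := by decide +kernel

theorem m2_261 : allRange 24795 95 (fun u => chkFix tab mwordsA u) = true := by decide +kernel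

theorem m2_262 : allRange 24890 95 (fun u => chkFix tab mwordsA u) = true := by decide +kernel

theorem m2_263 : allRange 24985 95 (fun u => chkFix tab mwordsA u) = true := by decide +kernel

theorem m2_264 : allRange 25080 95 (fun u => chkFix tab mwordsA u) = true := by decide +kernel


end Cfsg.Agent.Helper9.TCData.ONC0
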