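import Cfsg.Agent.Lib.Helper9.TCData.ONC0.Main

set_option autoImplicit false
set_option maxRecDepth 1000000

namespace Cfsg.Agent.Helper9.TCData.ONC0
open Cfsg.Agent.Helper9.TC2

theorem m2_281 : allRange 26695 95 (fun u => chkFix tab mwordsA u) = true := by decide +kernel

theorem m2_282 : allRange 26790 95 (fun u => chkFix tab mwordsA u) = true := by decide +kernel

theorem m2_283 : allRange 26885 95 (fun u => chkFix tab mwordsA u) = true := by decide +kernel

theorem m2_284 : allRange 26980 95 (fun u => chkFix tab mwordsA u) = true := by decide +kernel

theorem m2_285 : allRange 27075 95 (fun u => chkFix tab mwordsA u) = true := by decide +kernel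

theorem m2_286 : allRange 27170 95 (fun u => chkFix tab mwordsA u) = true := by decide +kernel

theorem m2_287 : allRange 27265 95 (fun u => chkFix tab mwordsA u) = true := by decide +kernel

theorem m2_288 : allRange 27360 95 (fun u => chkFix tab mwordsA u) = true := by decide +kernel


end Cfsg.Agent.Helper9.TCData.ONC0
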