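import Cfsg.Agent.Lib.Helper9.TCData.ONC0.Main

set_option autoImplicit false
set_option maxRecDepth 1000000

namespace Cfsg.Agent.Helper9.TCData.ONC0
open Cfsg.Agent.Helper9.TC2

theorem m2_289 : allRange 27455 95 (fun u => chkFix tab mwordsA u) = true := by decide +kernel

theorem m2_290 : allRange 27550 95 (fun u => chkFix tab mwordsA u) = true := by decide +kernel

theorem m2_291 : allRange 27645 95 (fun u => chkFix tab mwordsA u) = true := by decide +kernel

theorem m2_292 : allRange 27740 95 (fun u => chkFix tab mwordsA u) = true := by decide +kernel

theorem m2_293 : allRange 27835 95 (fun u => chkFix tab mwordsA u) = true := by decide +kernel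

theorem m2_294 : allRange 27930 95 (fun u => chkFix tab mwordsA u) = true := by decide +kernel

theorem m2_295 : allRange 28025 95 (fun u => chkFix tab mwordsA u) = true := by decide +kernel

theorem m2_296 : allRange 28120 95 (fun u => chkFix tab mwordsA u) = true := by decide +kernel


end Cfsg.Agent.Helper9.TCData.ONC0
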