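import Cfsg.Agent.Lib.Helper9.TCData.ONC0.Main

set_option autoImplicit false
set_option maxRecDepth 1000000

namespace Cfsg.Agent.Helper9.TCData.ONC0
open Cfsg.Agent.Helper9.TC2

theorem m2_313 : allRange 29735 95 (fun u => chkFix tab mwordsA u) = true := by decide +kernel

theorem m2_314 : allRange 29830 95 (fun u => chkFix tab mwordsA u) = true := by decide +kernel

theorem m2_315 : allRange 29925 95 (fun u => chkFix tab mwordsA u) = true := by decide +kernel

theorem m2_316 : allRange 30020 95 (fun u => chkFix tab mwordsA u) = true := by decide +kernel

theorem m2_317 : allRange 30115 95 (fun u => chkFix tab mwordsA u) = true := by decide +kernel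

theorem m2_318 : allRange 30210 95 (fun u => chkFix tab mwordsA u) = true := by decide +kernel

theorem m2_319 : allRange 30305 95 (fun u => chkFix tab mwordsA u) = true := by decide +kernel

theorem m2_320 : allRange 30400 95 (fun u => chkFix tab mwordsA u) = true := by decide +kernel


end Cfsg.Agent.Helper9.TCData.ONC0
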