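import Cfsg.Agent.Lib.Helper9.TCData.ONC0.Main

set_option autoImplicit false
set_option maxRecDepth 1000000

namespace Cfsg.Agent.Helper9.TCData.ONC0
open Cfsg.Agent.Helper9.TC2

theorem m2_321 : allRange 30495 95 (fun u => chkFix tab mwordsA u) = true := by decide +kernel

theorem m2_322 : allRange 30590 95 (fun u => chkFix tab mwordsA u) = true := by decide +kernel

theorem m2_323 : allRange 30685 95 (fun u => chkFix tab mwordsA u) = true := by decide +kernel

theorem m2_324 : allRange 30780 95 (fun u => chkFix tab mwordsA u) = true := by decide +kernel

theorem m2_325 : allRange 30875 95 (fun u => chkFix tab mwordsA u) = true := by decide +kernel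

theorem m2_326 : allRange 30970 95 (fun u => chkFix tab mwordsA u) = true := by decide +kernel

theorem m2_327 : allRange 31065 95 (fun u => chkFix tab mwordsA u) = true := by decide +kernel

theorem m2_328 : allRange 31160 95 (fun u => chkFix tab mwordsA u) = true := by decide +kernel


end Cfsg.Agent.Helper9.TCData.ONC0
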