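import Cfsg.Agent.Lib.Helper9.TCData.ONC0.Main

set_option autoImplicit false
set_option maxRecDepth 1000000

namespace Cfsg.Agent.Helper9.TCData.ONC0
open Cfsg.Agent.Helper9.TC2

theorem e2_9 : allRange 25567 2851 (fun u => chkE tab 2 u) = true := by decide +kernel

theorem e2_10 : allRange 28418 2703 (fun u => chkE tab 2 u) = true := by decide +kernel

theorem e2_11 : allRange 31121 2430 (fun u => chkE tab 2 u) = true := by decide +kernel

theorem e2_12 : allRange 33551 2450 (fun u => chkE tab 2 u) = true := by decide +kernel

theorem e2_13 : allRange 36001 2782 (fun u => chkE tab 2 u) = true := by decide +kernel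

theorem e2_14 : allRange 38783 3055 (fun u => chkE tab 2 u) = true := by decide +kernel

theorem e2_15 : allRange 41838 2776 (fun u => chkE tab 2 u) = true := by decide +kernel

theorem e2_16 : allRange 44614 2777 (fun u => chkE tab 2 u) = true := by decide +kernel


end Cfsg.Agent.Helper9.TCData.ONC0
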