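import Cfsg.Agent.Lib.Helper9.TCData.ONC0.Main

set_option autoImplicit false
set_option maxRecDepth 1000000

namespace Cfsg.Agent.Helper9.TCData.ONC0
open Cfsg.Agent.Helper9.TC2

theorem m2_329 : allRange 31255 95 (fun u => chkFix tab mwordsA u) = true := by decide +kernel

theorem m2_330 : allRange 31350 95 (fun u => chkFix tab mwordsA u) = true := by decide +kernel

theorem m2_331 : allRange 31445 95 (fun u => chkFix tab mwordsA u) = true := by decide +kernel

theorem m2_332 : allRange 31540 95 (fun u => chkFix tab mwordsA u) = true := by decide +kernel

theorem m2_333 : allRange 31635 95 (fun u => chkFix tab mwordsA u) = true := by decide +kernel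

theorem m2_334 : allRange 31730 95 (fun u => chkFix tab mwordsA u) = true := by decide +kernel

theorem m2_335 : allRange 31825 95 (fun u => chkFix tab mwordsA u) = true := by decide +kernel

theorem m2_336 : allRange 31920 95 (fun u => chkFix tab mwordsA u) = true := by decide +kernel


end Cfsg.Agent.Helper9.TCData.ONC0
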