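import Cfsg.Agent.Lib.Helper9.TCData.ONC0.Main

set_option autoImplicit false
set_option maxRecDepth 1000000

namespace Cfsg.Agent.Helper9.TCData.ONC0
open Cfsg.Agent.Helper9.TC2

theorem m2_337 : allRange 32015 95 (fun u => chkFix tab mwordsA u) = true := by decide +kernel

theorem m2_338 : allRange 32110 95 (fun u => chkFix tab mwordsA u) = true := by decide +kernel

theorem m2_339 : allRange 32205 95 (fun u => chkFix tab mwordsA u) = true := by decide +kernel

theorem m2_340 : allRange 32300 95 (fun u => chkFix tab mwordsA u) = true := by decide +kernel

theorem m2_341 : allRange 32395 95 (fun u => chkFix tab mwordsA u) = true := by decide +kernel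

theorem m2_342 : allRange 32490 95 (fun u => chkFix tab mwordsA u) = true := by decide +kernel

theorem m2_343 : allRange 32585 95 (fun u => chkFix tab mwordsA u) = true := by decide +kernel

theorem m2_344 : allRange 32680 95 (fun u => chkFix tab mwordsA u) = true := by decide +kernel


end Cfsg.Agent.Helper9.TCData.ONC0
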