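import Cfsg.Agent.Lib.Helper9.TCData.ONC0.Main

set_option autoImplicit false
set_option maxRecDepth 1000000

namespace Cfsg.Agent.Helper9.TCData.ONC0
open Cfsg.Agent.Helper9.TC2

theorem m2_393 : allRange 37335 95 (fun u => chkFix tab mwordsA u) = true := by decide +kernel

theorem m2_394 : allRange 37430 95 (fun u => chkFix tab mwordsA u) = true := by decide +kernel

theorem m2_395 : allRange 37525 95 (fun u => chkFix tab mwordsA u) = true := by decide +kernel

theorem m2_396 : allRange 37620 95 (fun u => chkFix tab mwordsA u) = true := by decide +kernel

theorem m2_397 : allRange 37715 95 (fun u => chkFix tab mwordsA u) = true := by decide +kernel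

theorem m2_398 : allRange 37810 95 (fun u => chkFix tab mwordsA u) = true := by decide +kernel

theorem m2_399 : allRange 37905 95 (fun u => chkFix tab mwordsA u) = true := by decide +kernel

theorem m2_400 : allRange 38000 95 (fun u => chkFix tab mwordsA u) = true := by decide +kernel


end Cfsg.Agent.Helper9.TCData.ONC0
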