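import Cfsg.Agent.Lib.Helper9.TCData.ONC0.Main

set_option autoImplicit false
set_option maxRecDepth 1000000

namespace Cfsg.Agent.Helper9.TCData.ONC0
open Cfsg.Agent.Helper9.TC2

theorem m2_401 : allRange 38095 95 (fun u => chkFix tab mwordsA u) = true := by decide +kernel

theorem m2_402 : allRange 38190 95 (fun u => chkFix tab mwordsA u) = true := by decide +kernel

theorem m2_403 : allRange 38285 95 (fun u => chkFix tab mwordsA u) = true := by decide +kernel

theorem m2_404 : allRange 38380 95 (fun u => chkFix tab mwordsA u) = true := by decide +kernel

theorem m2_405 : allRange 38475 95 (fun u => chkFix tab mwordsA u) = true := by decide +kernel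

theorem m2_406 : allRange 38570 95 (fun u => chkFix tab mwordsA u) = true := by decide +kernel

theorem m2_407 : allRange 38665 95 (fun u => chkFix tab mwordsA u) = true := by decide +kernel

theorem m2_408 : allRange 38760 95 (fun u => chkFix tab mwordsA u) = true := by decide +kernel


end Cfsg.Agent.Helper9.TCData.ONC0
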