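import Cfsg.Agent.Lib.Helper9.TCData.ONC0.Main

set_option autoImplicit false
set_option maxRecDepth 1000000

namespace Cfsg.Agent.Helper9.TCData.ONC0
open Cfsg.Agent.Helper9.TC2

theorem m2_409 : allRange 38855 95 (fun u => chkFix tab mwordsA u) = true := by decide +kernel

theorem m2_410 : allRange 38950 95 (fun u => chkFix tab mwordsA u) = true := by decide +kernel

theorem m2_411 : allRange 39045 95 (fun u => chkFix tab mwordsA u) = true := by decide +kernel

theorem m2_412 : allRange 39140 95 (fun u => chkFix tab mwordsA u) = true := by decide +kernel

theorem m2_413 : allRange 39235 95 (fun u => chkFix tab mwordsA u) = true := by decide +kernel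

theorem m2_414 : allRange 39330 95 (fun u => chkFix tab mwordsA u) = true := by decide +kernel

theorem m2_415 : allRange 39425 95 (fun u => chkFix tab mwordsA u) = true := by decide +kernel

theorem m2_416 : allRange 39520 95 (fun u => chkFix tab mwordsA u) = true := by decide +kernel


end Cfsg.Agent.Helper9.TCData.ONC0
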