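import Cfsg.Agent.Lib.Helper9.TCData.ONC0.Main

set_option autoImplicit false
set_option maxRecDepth 1000000

namespace Cfsg.Agent.Helper9.TCData.ONC0
open Cfsg.Agent.Helper9.TC2

theorem m2_425 : allRange 40375 95 (fun u => chkFix tab mwordsA u) = true := by decide +kernel

theorem m2_426 : allRange 40470 95 (fun u => chkFix tab mwordsA u) = true := by decide +kernel

theorem m2_427 : allRange 40565 95 (fun u => chkFix tab mwordsA u) = true := by decide +kernel

theorem m2_428 : allRange 40660 95 (fun u => chkFix tab mwordsA u) = true := by decide +kernel

theorem m2_429 : allRange 40755 95 (fun u => chkFix tab mwordsA u) = true := by decide +kernel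

theorem m2_430 : allRange 40850 95 (fun u => chkFix tab mwordsA u) = true := by decide +kernel

theorem m2_431 : allRange 40945 95 (fun u => chkFix tab mwordsA u) = true := by decide +kernel

theorem m2_432 : allRange 41040 95 (fun u => chkFix tab mwordsA u) = true := by decide +kernel


end Cfsg.Agent.Helper9.TCData.ONC0
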