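import Cfsg.Agent.Lib.Helper9.TCData.ONC0.Main

set_option autoImplicit false
set_option maxRecDepth 1000000

namespace Cfsg.Agent.Helper9.TCData.ONC0
open Cfsg.Agent.Helper9.TC2

theorem m2_433 : allRange 41135 95 (fun u => chkFix tab mwordsA u) = true := by decide +kernel

theorem m2_434 : allRange 41230 95 (fun u => chkFix tab mwordsA u) = true := by decide +kernel

theorem m2_435 : allRange 41325 95 (fun u => chkFix tab mwordsA u) = true := by decide +kernel

theorem m2_436 : allRange 41420 95 (fun u => chkFix tab mwordsA u) = true := by decide +kernel

theorem m2_437 : allRange 41515 95 (fun u => chkFix tab mwordsA u) = true := by decide +kernel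

theorem m2_438 : allRange 41610 95 (fun u => chkFix tab mwordsA u) = true := by decide +kernel

theorem m2_439 : allRange 41705 95 (fun u => chkFix tab mwordsA u) = true := by decide +kernel

theorem m2_440 : allRange 41800 95 (fun u => chkFix tab mwordsA u) = true := by decide +kernel


end Cfsg.Agent.Helper9.TCData.ONC0
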