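import Cfsg.Agent.Lib.Helper9.TCData.ONC0.Main

set_option autoImplicit false
set_option maxRecDepth 1000000

namespace Cfsg.Agent.Helper9.TCData.ONC0
open Cfsg.Agent.Helper9.TC2

theorem m2_441 : allRange 41895 95 (fun u => chkFix tab mwordsA u) = true := by decide +kernel

theorem m2_442 : allRange 41990 95 (fun u => chkFix tab mwordsA u) = true := by decide +kernel

theorem m2_443 : allRange 42085 95 (fun u => chkFix tab mwordsA u) = true := by decide +kernel

theorem m2_444 : allRange 42180 95 (fun u => chkFix tab mwordsA u) = true := by decide +kernel

theorem m2_445 : allRange 42275 95 (fun u => chkFix tab mwordsA u) = true := by decide +kernel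

theorem m2_446 : allRange 42370 95 (fun u => chkFix tab mwordsA u) = true := by decide +kernel

theorem m2_447 : allRange 42465 95 (fun u => chkFix tab mwordsA u) = true := by decide +kernel

theorem m2_448 : allRange 42560 95 (fun u => chkFix tab mwordsA u) = true := by decide +kernel


end Cfsg.Agent.Helper9.TCData.ONC0
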