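import Cfsg.Agent.Lib.Helper9.TCData.ONC0.Main

set_option autoImplicit false
set_option maxRecDepth 1000000

namespace Cfsg.Agent.Helper9.TCData.ONC0
open Cfsg.Agent.Helper9.TC2

theorem m2_481 : allRange 45695 95 (fun u => chkFix tab mwordsA u) = true := by decide +kernel

theorem m2_482 : allRange 45790 95 (fun u => chkFix tab mwordsA u) = true := by decide +kernel

theorem m2_483 : allRange 45885 95 (fun u => chkFix tab mwordsA u) = true := by decide +kernel

theorem m2_484 : allRange 45980 95 (fun u => chkFix tab mwordsA u) = true := by decide +kernel

theorem m2_485 : allRange 46075 95 (fun u => chkFix tab mwordsA u) = true := by decide +kernel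

theorem m2_486 : allRange 46170 95 (fun u => chkFix tab mwordsA u) = true := by decide +kernel

theorem m2_487 : allRange 46265 95 (fun u => chkFix tab mwordsA u) = true := by decide +kernel

theorem m2_488 : allRange 46360 95 (fun u => chkFix tab mwordsA u) = true := by decide +kernel


end Cfsg.Agent.Helper9.TCData.ONC0
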