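import Cfsg.Agent.Lib.Helper9.TCData.ONC0.Main

set_option autoImplicit false
set_option maxRecDepth 1000000

namespace Cfsg.Agent.Helper9.TCData.ONC0
open Cfsg.Agent.Helper9.TC2

theorem m2_489 : allRange 46455 95 (fun u => chkFix tab mwordsA u) = true := by decide +kernel

theorem m2_490 : allRange 46550 95 (fun u => chkFix tab mwordsA u) = true := by decide +kernel

theorem m2_491 : allRange 46645 95 (fun u => chkFix tab mwordsA u) = true := by decide +kernel

theorem m2_492 : allRange 46740 95 (fun u => chkFix tab mwordsA u) = true := by decide +kernel

theorem m2_493 : allRange 46835 95 (fun u => chkFix tab mwordsA u) = true := by decide +kernel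

theorem m2_494 : allRange 46930 95 (fun u => chkFix tab mwordsA u) = true := by decide +kernel

theorem m2_495 : allRange 47025 95 (fun u => chkFix tab mwordsA u) = true := by decide +kernel

theorem m2_496 : allRange 47120 95 (fun u => chkFix tab mwordsA u) = true := by decide +kernel


end Cfsg.Agent.Helper9.TCData.ONC0
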