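import Cfsg.Agent.Lib.Helper9.TCData.ONC0.Main

set_option autoImplicit false
set_option maxRecDepth 1000000

namespace Cfsg.Agent.Helper9.TCData.ONC0
open Cfsg.Agent.Helper9.TC2

theorem m2_529 : allRange 50255 95 (fun u => chkFix tab mwordsA u) = true := by decide +kernel

theorem m2_530 : allRange 50350 95 (fun u => chkFix tab mwordsA u) = true := by decide +kernel

theorem m2_531 : allRange 50445 95 (fun u => chkFix tab mwordsA u) = true := by decide +kernel

theorem m2_532 : allRange 50540 95 (fun u => chkFix tab mwordsA u) = true := by decide +kernel

theorem m2_533 : allRange 50635 95 (fun u => chkFix tab mwordsA u) = true := by decide +kernel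

theorem m2_534 : allRange 50730 95 (fun u => chkFix tab mwordsA u) = true := by decide +kernel

theorem m2_535 : allRange 50825 95 (fun u => chkFix tab mwordsA u) = true := by decide +kernel

theorem m2_536 : allRange 50920 95 (fun u => chkFix tab mwordsA u) = true := by decide +kernel


end Cfsg.Agent.Helper9.TCData.ONC0
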