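import Cfsg.Agent.Lib.Helper9.TCData.ONC0.Main

set_option autoImplicit false
set_option maxRecDepth 1000000

namespace Cfsg.Agent.Helper9.TCData.ONC0
open Cfsg.Agent.Helper9.TC2

theorem m2_553 : allRange 52535 95 (fun u => chkFix tab mwordsA u) = true := by decide +kernel

theorem m2_554 : allRange 52630 95 (fun u => chkFix tab mwordsA u) = true := by decide +kernel

theorem m2_555 : allRange 52725 95 (fun u => chkFix tab mwordsA u) = true := by decide +kernel

theorem m2_556 : allRange 52820 95 (fun u => chkFix tab mwordsA u) = true := by decide +kernel

theorem m2_557 : allRange 52915 95 (fun u => chkFix tab mwordsA u) = true := by decide +kernel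

theorem m2_558 : allRange 53010 95 (fun u => chkFix tab mwordsA u) = true := by decide +kernel

theorem m2_559 : allRange 53105 95 (fun u => chkFix tab mwordsA u) = true := by decide +kernel

theorem m2_560 : allRange 53200 95 (fun u => chkFix tab mwordsA u) = true := by decide +kernel


end Cfsg.Agent.Helper9.TCData.ONC0
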