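import Cfsg.Agent.Lib.Helper9.TCData.ONC0.Main

set_option autoImplicit false
set_option maxRecDepth 1000000

namespace Cfsg.Agent.Helper9.TCData.ONC0
open Cfsg.Agent.Helper9.TC2

theorem e2_33 : allRange 92274 4525 (fun u => chkE tab 2 u) = true := by decide +kernel

theorem e2_34 : allRange 96799 3849 (fun u => chkE tab 2 u) = true := by decide +kernel

theorem e2_35 : allRange 100648 3760 (fun u => chkE tab 2 u) = true := by decide +kernel

theorem e2_36 : allRange 104408 4188 (fun u => chkE tab 2 u) = true := by decide +kernel

theorem e2_37 : allRange 108596 3026 (fun u => chkE tab 2 u) = true := by decide +kernel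

theorem e2_38 : allRange 111622 3787 (fun u => chkE tab 2 u) = true := by decide +kernel

theorem e2_39 : allRange 115409 3310 (fun u => chkE tab 2 u) = true := by decide +kernel

theorem e2_40 : allRange 118719 4469 (fun u => chkE tab 2 u) = true := by decide +kernel


end Cfsg.Agent.Helper9.TCData.ONC0
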