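import Cfsg.Agent.Lib.Helper9.TCData.ONC0.Main

set_option autoImplicit false
set_option maxRecDepth 1000000

namespace Cfsg.Agent.Helper9.TCData.ONC0
open Cfsg.Agent.Helper9.TC2

theorem m2_585 : allRange 55575 95 (fun u => chkFix tab mwordsA u) = true := by decide +kernel

theorem m2_586 : allRange 55670 95 (fun u => chkFix tab mwordsA u) = true := by decide +kernel

theorem m2_587 : allRange 55765 95 (fun u => chkFix tab mwordsA u) = true := by decide +kernel

theorem m2_588 : allRange 55860 95 (fun u => chkFix tab mwordsA u) = true := by decide +kernel

theorem m2_589 : allRange 55955 95 (fun u => chkFix tab mwordsA u) = true := by decide +kernel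

theorem m2_590 : allRange 56050 95 (fun u => chkFix tab mwordsA u) = true := by decide +kernel

theorem m2_591 : allRange 56145 95 (fun u => chkFix tab mwordsA u) = true := by decide +kernel

theorem m2_592 : allRange 56240 95 (fun u => chkFix tab mwordsA u) = true := by decide +kernel


end Cfsg.Agent.Helper9.TCData.ONC0
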