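import Cfsg.Agent.Lib.Helper9.TCData.ONC0.Main

set_option autoImplicit false
set_option maxRecDepth 1000000

namespace Cfsg.Agent.Helper9.TCData.ONC0
open Cfsg.Agent.Helper9.TC2

theorem m2_601 : allRange 57095 95 (fun u => chkFix tab mwordsA u) = true := by decide +kernel

theorem m2_602 : allRange 57190 95 (fun u => chkFix tab mwordsA u) = true := by decide +kernel

theorem m2_603 : allRange 57285 95 (fun u => chkFix tab mwordsA u) = true := by decide +kernel

theorem m2_604 : allRange 57380 95 (fun u => chkFix tab mwordsA u) = true := by decide +kernel

theorem m2_605 : allRange 57475 95 (fun u => chkFix tab mwordsA u) = true := by decide +kernel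

theorem m2_606 : allRange 57570 95 (fun u => chkFix tab mwordsA u) = true := by decide +kernel

theorem m2_607 : allRange 57665 95 (fun u => chkFix tab mwordsA u) = true := by decide +kernel

theorem m2_608 : allRange 57760 95 (fun u => chkFix tab mwordsA u) = true := by decide +kernel


end Cfsg.Agent.Helper9.TCData.ONC0
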