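import Cfsg.Agent.Lib.Helper9.TCData.ONC0.Main

set_option autoImplicit false
set_option maxRecDepth 1000000

namespace Cfsg.Agent.Helper9.TCData.ONC0
open Cfsg.Agent.Helper9.TC2

theorem m2_633 : allRange 60135 95 (fun u => chkFix tab mwordsA u) = true := by decide +kernel

theorem m2_634 : allRange 60230 95 (fun u => chkFix tab mwordsA u) = true := by decide +kernel

theorem m2_635 : allRange 60325 95 (fun u => chkFix tab mwordsA u) = true := by decide +kernel

theorem m2_636 : allRange 60420 95 (fun u => chkFix tab mwordsA u) = true := by decide +kernel

theorem m2_637 : allRange 60515 95 (fun u => chkFix tab mwordsA u) = true := by decide +kernel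

theorem m2_638 : allRange 60610 95 (fun u => chkFix tab mwordsA u) = true := by decide +kernel

theorem m2_639 : allRange 60705 95 (fun u => chkFix tab mwordsA u) = true := by decide +kernel

theorem m2_640 : allRange 60800 95 (fun u => chkFix tab mwordsA u) = true := by decide +kernel


end Cfsg.Agent.Helper9.TCData.ONC0
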