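import Cfsg.Agent.Lib.Helper9.TCData.ONC0.Main

set_option autoImplicit false
set_option maxRecDepth 1000000

namespace Cfsg.Agent.Helper9.TCData.ONC0
open Cfsg.Agent.Helper9.TC2

theorem m2_697 : allRange 66215 95 (fun u => chkFix tab mwordsA u) = true := by decide +kernel

theorem m2_698 : allRange 66310 95 (fun u => chkFix tab mwordsA u) = true := by decide +kernel

theorem m2_699 : allRange 66405 95 (fun u => chkFix tab mwordsA u) = true := by decide +kernel

theorem m2_700 : allRange 66500 95 (fun u => chkFix tab mwordsA u) = true := by decide +kernel

theorem m2_701 : allRange 66595 95 (fun u => chkFix tab mwordsA u) = true := by decide +kernel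

theorem m2_702 : allRange 66690 95 (fun u => chkFix tab mwordsA u) = true := by decide +kernel

theorem m2_703 : allRange 66785 95 (fun u => chkFix tab mwordsA u) = true := by decide +kernel

theorem m2_704 : allRange 66880 95 (fun u => chkFix tab mwordsA u) = true := by decide +kernel


end Cfsg.Agent.Helper9.TCData.ONC0
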