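import Cfsg.Agent.Lib.Helper9.TCData.ONC0.Main

set_option autoImplicit false
set_option maxRecDepth 1000000

namespace Cfsg.Agent.Helper9.TCData.ONC0
open Cfsg.Agent.Helper9.TC2

theorem m2_705 : allRange 66975 95 (fun u => chkFix tab mwordsA u) = true := by decide +kernel

theorem m2_706 : allRange 67070 95 (fun u => chkFix tab mwordsA u) = true := by decide +kernel

theorem m2_707 : allRange 67165 95 (fun u => chkFix tab mwordsA u) = true := by decide +kernel

theorem m2_708 : allRange 67260 95 (fun u => chkFix tab mwordsA u) = true := by decide +kernel

theorem m2_709 : allRange 67355 95 (fun u => chkFix tab mwordsA u) = true := by decide +kernel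

theorem m2_710 : allRange 67450 95 (fun u => chkFix tab mwordsA u) = true := by decide +kernel

theorem m2_711 : allRange 67545 95 (fun u => chkFix tab mwordsA u) = true := by decide +kernel

theorem m2_712 : allRange 67640 95 (fun u => chkFix tab mwordsA u) = true := by decide +kernel


end Cfsg.Agent.Helper9.TCData.ONC0
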