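import Cfsg.Agent.Lib.Helper9.TCData.ONC0.Main

set_option autoImplicit false
set_option maxRecDepth 1000000

namespace Cfsg.Agent.Helper9.TCData.ONC0
open Cfsg.Agent.Helper9.TC2

theorem m2_713 : allRange 67735 95 (fun u => chkFix tab mwordsA u) = true := by decide +kernel

theorem m2_714 : allRange 67830 95 (fun u => chkFix tab mwordsA u) = true := by decide +kernel

theorem m2_715 : allRange 67925 95 (fun u => chkFix tab mwordsA u) = true := by decide +kernel

theorem m2_716 : allRange 68020 95 (fun u => chkFix tab mwordsA u) = true := by decide +kernel

theorem m2_717 : allRange 68115 95 (fun u => chkFix tab mwordsA u) = true := by decide +kernel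

theorem m2_718 : allRange 68210 95 (fun u => chkFix tab mwordsA u) = true := by decide +kernel

theorem m2_719 : allRange 68305 95 (fun u => chkFix tab mwordsA u) = true := by decide +kernel

theorem m2_720 : allRange 68400 95 (fun u => chkFix tab mwordsA u) = true := by decide +kernel


end Cfsg.Agent.Helper9.TCData.ONC0
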