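import Cfsg.Agent.Lib.Helper9.TCData.ONC0.Main

set_option autoImplicit false
set_option maxRecDepth 1000000

namespace Cfsg.Agent.Helper9.TCData.ONC0
open Cfsg.Agent.Helper9.TC2

theorem m2_729 : allRange 69255 95 (fun u => chkFix tab mwordsA u) = true := by decide +kernel

theorem m2_730 : allRange 69350 95 (fun u => chkFix tab mwordsA u) = true := by decide +kernel

theorem m2_731 : allRange 69445 95 (fun u => chkFix tab mwordsA u) = true := by decide +kernel

theorem m2_732 : allRange 69540 95 (fun u => chkFix tab mwordsA u) = true := by decide +kernel

theorem m2_733 : allRange 69635 95 (fun u => chkFix tab mwordsA u) = true := by decide +kernel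

theorem m2_734 : allRange 69730 95 (fun u => chkFix tab mwordsA u) = true := by decide +kernel

theorem m2_735 : allRange 69825 95 (fun u => chkFix tab mwordsA u) = true := by decide +kernel

theorem m2_736 : allRange 69920 95 (fun u => chkFix tab mwordsA u) = true := by decide +kernel


end Cfsg.Agent.Helper9.TCData.ONC0
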