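import Cfsg.Agent.Lib.Helper9.TCData.ONC0.Main

set_option autoImplicit false
set_option maxRecDepth 1000000

namespace Cfsg.Agent.Helper9.TCData.ONC0
open Cfsg.Agent.Helper9.TC2

theorem m2_737 : allRange 70015 95 (fun u => chkFix tab mwordsA u) = true := by decide +kernel

theorem m2_738 : allRange 70110 95 (fun u => chkFix tab mwordsA u) = true := by decide +kernel

theorem m2_739 : allRange 70205 95 (fun u => chkFix tab mwordsA u) = true := by decide +kernel

theorem m2_740 : allRange 70300 95 (fun u => chkFix tab mwordsA u) = true := by decide +kernel

theorem m2_741 : allRange 70395 95 (fun u => chkFix tab mwordsA u) = true := by decide +kernel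

theorem m2_742 : allRange 70490 95 (fun u => chkFix tab mwordsA u) = true := by decide +kernel

theorem m2_743 : allRange 70585 95 (fun u => chkFix tab mwordsA u) = true := by decide +kernel

theorem m2_744 : allRange 70680 95 (fun u => chkFix tab mwordsA u) = true := by decide +kernel


end Cfsg.Agent.Helper9.TCData.ONC0
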