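import Cfsg.Agent.Lib.Helper9.TCData.ONC0.Main

set_option autoImplicit false
set_option maxRecDepth 1000000

namespace Cfsg.Agent.Helper9.TCData.ONC0
open Cfsg.Agent.Helper9.TC2

theorem m2_745 : allRange 70775 95 (fun u => chkFix tab mwordsA u) = true := by decide +kernel

theorem m2_746 : allRange 70870 95 (fun u => chkFix tab mwordsA u) = true := by decide +kernel

theorem m2_747 : allRange 70965 95 (fun u => chkFix tab mwordsA u) = true := by decide +kernel

theorem m2_748 : allRange 71060 95 (fun u => chkFix tab mwordsA u) = true := by decide +kernel

theorem m2_749 : allRange 71155 95 (fun u => chkFix tab mwordsA u) = true := by decide +kernel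

theorem m2_750 : allRange 71250 95 (fun u => chkFix tab mwordsA u) = true := by decide +kernel

theorem m2_751 : allRange 71345 95 (fun u => chkFix tab mwordsA u) = true := by decide +kernel

theorem m2_752 : allRange 71440 95 (fun u => chkFix tab mwordsA u) = true := by decide +kernel


end Cfsg.Agent.Helper9.TCData.ONC0
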