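import Cfsg.Agent.Lib.Helper9.TCData.ONC0.Main

set_option autoImplicit false
set_option maxRecDepth 1000000

namespace Cfsg.Agent.Helper9.TCData.ONC0
open Cfsg.Agent.Helper9.TC2

theorem m2_761 : allRange 72295 95 (fun u => chkFix tab mwordsA u) = true := by decide +kernel

theorem m2_762 : allRange 72390 95 (fun u => chkFix tab mwordsA u) = true := by decide +kernel

theorem m2_763 : allRange 72485 95 (fun u => chkFix tab mwordsA u) = true := by decide +kernel

theorem m2_764 : allRange 72580 95 (fun u => chkFix tab mwordsA u) = true := by decide +kernel

theorem m2_765 : allRange 72675 95 (fun u => chkFix tab mwordsA u) = true := by decide +kernel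

theorem m2_766 : allRange 72770 95 (fun u => chkFix tab mwordsA u) = true := by decide +kernel

theorem m2_767 : allRange 72865 95 (fun u => chkFix tab mwordsA u) = true := by decide +kernel

theorem m2_768 : allRange 72960 95 (fun u => chkFix tab mwordsA u) = true := by decide +kernel


end Cfsg.Agent.Helper9.TCData.ONC0
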