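import Cfsg.Agent.Lib.Helper9.TCData.ONC0.Main

set_option autoImplicit false
set_option maxRecDepth 1000000

namespace Cfsg.Agent.Helper9.TCData.ONC0
open Cfsg.Agent.Helper9.TC2

theorem m2_769 : allRange 73055 95 (fun u => chkFix tab mwordsA u) = true := by decide +kernel

theorem m2_770 : allRange 73150 95 (fun u => chkFix tab mwordsA u) = true := by decide +kernel

theorem m2_771 : allRange 73245 95 (fun u => chkFix tab mwordsA u) = true := by decide +kernel

theorem m2_772 : allRange 73340 95 (fun u => chkFix tab mwordsA u) = true := by decide +kernel

theorem m2_773 : allRange 73435 95 (fun u => chkFix tab mwordsA u) = true := by decide +kernel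

theorem m2_774 : allRange 73530 95 (fun u => chkFix tab mwordsA u) = true := by decide +kernel

theorem m2_775 : allRange 73625 95 (fun u => chkFix tab mwordsA u) = true := by decide +kernel

theorem m2_776 : allRange 73720 95 (fun u => chkFix tab mwordsA u) = true := by decide +kernel


end Cfsg.Agent.Helper9.TCData.ONC0
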