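import Cfsg.Agent.Lib.Helper9.TCData.ONC0.Main

set_option autoImplicit false
set_option maxRecDepth 1000000

namespace Cfsg.Agent.Helper9.TCData.ONC0
open Cfsg.Agent.Helper9.TC2

theorem m2_777 : allRange 73815 95 (fun u => chkFix tab mwordsA u) = true := by decide +kernel

theorem m2_778 : allRange 73910 95 (fun u => chkFix tab mwordsA u) = true := by decide +kernel

theorem m2_779 : allRange 74005 95 (fun u => chkFix tab mwordsA u) = true := by decide +kernel

theorem m2_780 : allRange 74100 95 (fun u => chkFix tab mwordsA u) = true := by decide +kernel

theorem m2_781 : allRange 74195 95 (fun u => chkFix tab mwordsA u) = true := by decide +kernel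

theorem m2_782 : allRange 74290 95 (fun u => chkFix tab mwordsA u) = true := by decide +kernel

theorem m2_783 : allRange 74385 95 (fun u => chkFix tab mwordsA u) = true := by decide +kernel

theorem m2_784 : allRange 74480 95 (fun u => chkFix tab mwordsA u) = true := by decide +kernel


end Cfsg.Agent.Helper9.TCData.ONC0
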