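import Cfsg.Agent.Lib.Helper9.TCData.ONC0.Main

set_option autoImplicit false
set_option maxRecDepth 1000000

namespace Cfsg.Agent.Helper9.TCData.ONC0
open Cfsg.Agent.Helper9.TC2

theorem m2_785 : allRange 74575 95 (fun u => chkFix tab mwordsA u) = true := by decide +kernel

theorem m2_786 : allRange 74670 95 (fun u => chkFix tab mwordsA u) = true := by decide +kernel

theorem m2_787 : allRange 74765 95 (fun u => chkFix tab mwordsA u) = true := by decide +kernel

theorem m2_788 : allRange 74860 95 (fun u => chkFix tab mwordsA u) = true := by decide +kernel

theorem m2_789 : allRange 74955 95 (fun u => chkFix tab mwordsA u) = true := by decide +kernel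

theorem m2_790 : allRange 75050 95 (fun u => chkFix tab mwordsA u) = true := by decide +kernel

theorem m2_791 : allRange 75145 95 (fun u => chkFix tab mwordsA u) = true := by decide +kernel

theorem m2_792 : allRange 75240 95 (fun u => chkFix tab mwordsA u) = true := by decide +kernel


end Cfsg.Agent.Helper9.TCData.ONC0
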