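import Cfsg.Agent.Lib.Helper9.TCData.ONC0.Main

set_option autoImplicit false
set_option maxRecDepth 1000000

namespace Cfsg.Agent.Helper9.TCData.ONC0
open Cfsg.Agent.Helper9.TC2

theorem m2_801 : allRange 76095 95 (fun u => chkFix tab mwordsA u) = true := by decide +kernel

theorem m2_802 : allRange 76190 95 (fun u => chkFix tab mwordsA u) = true := by decide +kernel

theorem m2_803 : allRange 76285 95 (fun u => chkFix tab mwordsA u) = true := by decide +kernel

theorem m2_804 : allRange 76380 95 (fun u => chkFix tab mwordsA u) = true := by decide +kernel

theorem m2_805 : allRange 76475 95 (fun u => chkFix tab mwordsA u) = true := by decide +kernel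

theorem m2_806 : allRange 76570 95 (fun u => chkFix tab mwordsA u) = true := by decide +kernel

theorem m2_807 : allRange 76665 95 (fun u => chkFix tab mwordsA u) = true := by decide +kernel

theorem m2_808 : allRange 76760 95 (fun u => chkFix tab mwordsA u) = true := by decide +kernel


end Cfsg.Agent.Helper9.TCData.ONC0
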