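import Cfsg.Agent.Lib.Helper9.TCData.ONC0.Main

set_option autoImplicit false
set_option maxRecDepth 1000000

namespace Cfsg.Agent.Helper9.TCData.ONC0
open Cfsg.Agent.Helper9.TC2

theorem m2_841 : allRange 79895 95 (fun u => chkFix tab mwordsA u) = true := by decide +kernel

theorem m2_842 : allRange 79990 95 (fun u => chkFix tab mwordsA u) = true := by decide +kernel

theorem m2_843 : allRange 80085 95 (fun u => chkFix tab mwordsA u) = true := by decide +kernel

theorem m2_844 : allRange 80180 95 (fun u => chkFix tab mwordsA u) = true := by decide +kernel

theorem m2_845 : allRange 80275 95 (fun u => chkFix tab mwordsA u) = true := by decide +kernel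

theorem m2_846 : allRange 80370 95 (fun u => chkFix tab mwordsA u) = true := by decide +kernel

theorem m2_847 : allRange 80465 95 (fun u => chkFix tab mwordsA u) = true := by decide +kernel

theorem m2_848 : allRange 80560 95 (fun u => chkFix tab mwordsA u) = true := by decide +kernel


end Cfsg.Agent.Helper9.TCData.ONC0
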