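import Cfsg.Agent.Lib.Helper9.TCData.ONC0.Main

set_option autoImplicit false
set_option maxRecDepth 1000000

namespace Cfsg.Agent.Helper9.TCData.ONC0
open Cfsg.Agent.Helper9.TC2

theorem m2_857 : allRange 81415 95 (fun u => chkFix tab mwordsA u) = true := by decide +kernel

theorem m2_858 : allRange 81510 95 (fun u => chkFix tab mwordsA u) = true := by decide +kernel

theorem m2_859 : allRange 81605 95 (fun u => chkFix tab mwordsA u) = true := by decide +kernel

theorem m2_860 : allRange 81700 95 (fun u => chkFix tab mwordsA u) = true := by decide +kernel

theorem m2_861 : allRange 81795 95 (fun u => chkFix tab mwordsA u) = true := by decide +kernel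

theorem m2_862 : allRange 81890 95 (fun u => chkFix tab mwordsA u) = true := by decide +kernel

theorem m2_863 : allRange 81985 95 (fun u => chkFix tab mwordsA u) = true := by decide +kernel

theorem m2_864 : allRange 82080 95 (fun u => chkFix tab mwordsA u) = true := by decide +kernel


end Cfsg.Agent.Helper9.TCData.ONC0
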