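import Cfsg.Agent.Lib.Helper9.TCData.ONC0.Main

set_option autoImplicit false
set_option maxRecDepth 1000000

namespace Cfsg.Agent.Helper9.TCData.ONC0
open Cfsg.Agent.Helper9.TC2

theorem m2_865 : allRange 82175 95 (fun u => chkFix tab mwordsA u) = true := by decide +kernel

theorem m2_866 : allRange 82270 95 (fun u => chkFix tab mwordsA u) = true := by decide +kernel

theorem m2_867 : allRange 82365 95 (fun u => chkFix tab mwordsA u) = true := by decide +kernel

theorem m2_868 : allRange 82460 95 (fun u => chkFix tab mwordsA u) = true := by decide +kernel

theorem m2_869 : allRange 82555 95 (fun u => chkFix tab mwordsA u) = true := by decide +kernel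

theorem m2_870 : allRange 82650 95 (fun u => chkFix tab mwordsA u) = true := by decide +kernel

theorem m2_871 : allRange 82745 95 (fun u => chkFix tab mwordsA u) = true := by decide +kernel

theorem m2_872 : allRange 82840 95 (fun u => chkFix tab mwordsA u) = true := by decide +kernel


end Cfsg.Agent.Helper9.TCData.ONC0
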