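import Cfsg.Agent.Lib.Helper9.TCData.ONC0.Main

set_option autoImplicit false
set_option maxRecDepth 1000000

namespace Cfsg.Agent.Helper9.TCData.ONC0
open Cfsg.Agent.Helper9.TC2

theorem m2_873 : allRange 82935 95 (fun u => chkFix tab mwordsA u) = true := by decide +kernel

theorem m2_874 : allRange 83030 95 (fun u => chkFix tab mwordsA u) = true := by decide +kernel

theorem m2_875 : allRange 83125 95 (fun u => chkFix tab mwordsA u) = true := by decide +kernel

theorem m2_876 : allRange 83220 95 (fun u => chkFix tab mwordsA u) = true := by decide +kernel

theorem m2_877 : allRange 83315 95 (fun u => chkFix tab mwordsA u) = true := by decide +kernel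

theorem m2_878 : allRange 83410 95 (fun u => chkFix tab mwordsA u) = true := by decide +kernel

theorem m2_879 : allRange 83505 95 (fun u => chkFix tab mwordsA u) = true := by decide +kernel

theorem m2_880 : allRange 83600 95 (fun u => chkFix tab mwordsA u) = true := by decide +kernel


end Cfsg.Agent.Helper9.TCData.ONC0
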