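import Cfsg.Agent.Lib.Helper9.TCData.ONC0.Main

set_option autoImplicit false
set_option maxRecDepth 1000000

namespace Cfsg.Agent.Helper9.TCData.ONC0
open Cfsg.Agent.Helper9.TC2

theorem m2_889 : allRange 84455 95 (fun u => chkFix tab mwordsA u) = true := by decide +kernel

theorem m2_890 : allRange 84550 95 (fun u => chkFix tab mwordsA u) = true := by decide +kernel

theorem m2_891 : allRange 84645 95 (fun u => chkFix tab mwordsA u) = true := by decide +kernel

theorem m2_892 : allRange 84740 95 (fun u => chkFix tab mwordsA u) = true := by decide +kernel

theorem m2_893 : allRange 84835 95 (fun u => chkFix tab mwordsA u) = true := by decide +kernel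

theorem m2_894 : allRange 84930 95 (fun u => chkFix tab mwordsA u) = true := by decide +kernel

theorem m2_895 : allRange 85025 95 (fun u => chkFix tab mwordsA u) = true := by decide +kernel

theorem m2_896 : allRange 85120 95 (fun u => chkFix tab mwordsA u) = true := by decide +kernel


end Cfsg.Agent.Helper9.TCData.ONC0
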