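import Cfsg.Agent.Lib.Helper9.TCData.ONC0.Main

set_option autoImplicit false
set_option maxRecDepth 1000000

namespace Cfsg.Agent.Helper9.TCData.ONC0
open Cfsg.Agent.Helper9.TC2

theorem m2_913 : allRange 86735 95 (fun u => chkFix tab mwordsA u) = true := by decide +kernel

theorem m2_914 : allRange 86830 95 (fun u => chkFix tab mwordsA u) = true := by decide +kernel

theorem m2_915 : allRange 86925 95 (fun u => chkFix tab mwordsA u) = true := by decide +kernel

theorem m2_916 : allRange 87020 95 (fun u => chkFix tab mwordsA u) = true := by decide +kernel

theorem m2_917 : allRange 87115 95 (fun u => chkFix tab mwordsA u) = true := by decide +kernel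

theorem m2_918 : allRange 87210 95 (fun u => chkFix tab mwordsA u) = true := by decide +kernel

theorem m2_919 : allRange 87305 95 (fun u => chkFix tab mwordsA u) = true := by decide +kernel

theorem m2_920 : allRange 87400 95 (fun u => chkFix tab mwordsA u) = true := by decide +kernel


end Cfsg.Agent.Helper9.TCData.ONC0
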