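import Cfsg.Agent.Lib.Helper9.TCData.ONC0.Main

set_option autoImplicit false
set_option maxRecDepth 1000000

namespace Cfsg.Agent.Helper9.TCData.ONC0
open Cfsg.Agent.Helper9.TC2

theorem m2_921 : allRange 87495 95 (fun u => chkFix tab mwordsA u) = true := by decide +kernel

theorem m2_922 : allRange 87590 95 (fun u => chkFix tab mwordsA u) = true := by decide +kernel

theorem m2_923 : allRange 87685 95 (fun u => chkFix tab mwordsA u) = true := by decide +kernel

theorem m2_924 : allRange 87780 95 (fun u => chkFix tab mwordsA u) = true := by decide +kernel

theorem m2_925 : allRange 87875 95 (fun u => chkFix tab mwordsA u) = true := by decide +kernel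

theorem m2_926 : allRange 87970 95 (fun u => chkFix tab mwordsA u) = true := by decide +kernel

theorem m2_927 : allRange 88065 95 (fun u => chkFix tab mwordsA u) = true := by decide +kernel

theorem m2_928 : allRange 88160 95 (fun u => chkFix tab mwordsA u) = true := by decide +kernel


end Cfsg.Agent.Helper9.TCData.ONC0
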