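import Cfsg.Agent.Lib.Helper9.TCData.ONC0.Main

set_option autoImplicit false
set_option maxRecDepth 1000000

namespace Cfsg.Agent.Helper9.TCData.ONC0
open Cfsg.Agent.Helper9.TC2

theorem m2_937 : allRange 89015 95 (fun u => chkFix tab mwordsA u) = true := by decide +kernel

theorem m2_938 : allRange 89110 95 (fun u => chkFix tab mwordsA u) = true := by decide +kernel

theorem m2_939 : allRange 89205 95 (fun u => chkFix tab mwordsA u) = true := by decide +kernel

theorem m2_940 : allRange 89300 95 (fun u => chkFix tab mwordsA u) = true := by decide +kernel

theorem m2_941 : allRange 89395 95 (fun u => chkFix tab mwordsA u) = true := by decide +kernel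

theorem m2_942 : allRange 89490 95 (fun u => chkFix tab mwordsA u) = true := by decide +kernel

theorem m2_943 : allRange 89585 95 (fun u => chkFix tab mwordsA u) = true := by decide +kernel

theorem m2_944 : allRange 89680 95 (fun u => chkFix tab mwordsA u) = true := by decide +kernel


end Cfsg.Agent.Helper9.TCData.ONC0
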