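import Cfsg.Agent.Lib.Helper9.TCData.ONC0.Main

set_option autoImplicit false
set_option maxRecDepth 1000000

namespace Cfsg.Agent.Helper9.TCData.ONC0
open Cfsg.Agent.Helper9.TC2

theorem m2_953 : allRange 90535 95 (fun u => chkFix tab mwordsA u) = true := by decide +kernel

theorem m2_954 : allRange 90630 95 (fun u => chkFix tab mwordsA u) = true := by decide +kernel

theorem m2_955 : allRange 90725 95 (fun u => chkFix tab mwordsA u) = true := by decide +kernel

theorem m2_956 : allRange 90820 95 (fun u => chkFix tab mwordsA u) = true := by decide +kernel

theorem m2_957 : allRange 90915 95 (fun u => chkFix tab mwordsA u) = true := by decide +kernel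

theorem m2_958 : allRange 91010 95 (fun u => chkFix tab mwordsA u) = true := by decide +kernel

theorem m2_959 : allRange 91105 95 (fun u => chkFix tab mwordsA u) = true := by decide +kernel

theorem m2_960 : allRange 91200 95 (fun u => chkFix tab mwordsA u) = true := by decide +kernel


end Cfsg.Agent.Helper9.TCData.ONC0
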