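import Cfsg.Agent.Lib.Helper9.TCData.ONC0.Main

set_option autoImplicit false
set_option maxRecDepth 1000000

namespace Cfsg.Agent.Helper9.TCData.ONC0
open Cfsg.Agent.Helper9.TC2

theorem e3_4 : allRange 13145 3322 (fun u => chkE tab 3 u) = true := by decide +kernel

theorem e3_5 : allRange 16467 3258 (fun u => chkE tab 3 u) = true := by decide +kernel

theorem e3_6 : allRange 19725 3395 (fun u => chkE tab 3 u) = true := by decide +kernel

theorem e3_7 : allRange 23120 3204 (fun u => chkE tab 3 u) = true := by decide +kernel

theorem e3_8 : allRange 26324 3134 (fun u => chkE tab 3 u) = true := by decide +kernel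

theorem e3_9 : allRange 29458 3134 (fun u => chkE tab 3 u) = true := by decide +kernel

theorem e3_10 : allRange 32592 3110 (fun u => chkE tab 3 u) = true := by decide +kernel

theorem e3_11 : allRange 35702 3230 (fun u => chkE tab 3 u) = true := by decide +kernel


end Cfsg.Agent.Helper9.TCData.ONC0
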