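import Cfsg.Agent.Lib.Helper9.TCData.ONC0.Main

set_option autoImplicit false
set_option maxRecDepth 1000000

namespace Cfsg.Agent.Helper9.TCData.ONC0
open Cfsg.Agent.Helper9.TC2

theorem m2_977 : allRange 92815 95 (fun u => chkFix tab mwordsA u) = true := by decide +kernel

theorem m2_978 : allRange 92910 95 (fun u => chkFix tab mwordsA u) = true := by decide +kernel

theorem m2_979 : allRange 93005 95 (fun u => chkFix tab mwordsA u) = true := by decide +kernel

theorem m2_980 : allRange 93100 95 (fun u => chkFix tab mwordsA u) = true := by decide +kernel

theorem m2_981 : allRange 93195 95 (fun u => chkFix tab mwordsA u) = true := by decide +kernel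

theorem m2_982 : allRange 93290 95 (fun u => chkFix tab mwordsA u) = true := by decide +kernel

theorem m2_983 : allRange 93385 95 (fun u => chkFix tab mwordsA u) = true := by decide +kernel

theorem m2_984 : allRange 93480 95 (fun u => chkFix tab mwordsA u) = true := by decide +kernel


end Cfsg.Agent.Helper9.TCData.ONC0
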