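import Cfsg.Agent.Lib.Helper9.TCData.ONC0.Main

set_option autoImplicit false
set_option maxRecDepth 1000000

namespace Cfsg.Agent.Helper9.TCData.ONC0
open Cfsg.Agent.Helper9.TC2

theorem m2_985 : allRange 93575 95 (fun u => chkFix tab mwordsA u) = true := by decide +kernel

theorem m2_986 : allRange 93670 95 (fun u => chkFix tab mwordsA u) = true := by decide +kernel

theorem m2_987 : allRange 93765 95 (fun u => chkFix tab mwordsA u) = true := by decide +kernel

theorem m2_988 : allRange 93860 95 (fun u => chkFix tab mwordsA u) = true := by decide +kernel

theorem m2_989 : allRange 93955 95 (fun u => chkFix tab mwordsA u) = true := by decide +kernel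

theorem m2_990 : allRange 94050 95 (fun u => chkFix tab mwordsA u) = true := by decide +kernel

theorem m2_991 : allRange 94145 95 (fun u => chkFix tab mwordsA u) = true := by decide +kernel

theorem m2_992 : allRange 94240 95 (fun u => chkFix tab mwordsA u) = true := by decide +kernel


end Cfsg.Agent.Helper9.TCData.ONC0
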