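import Cfsg.Agent.Lib.Helper9.TCData.ONC0.Main

set_option autoImplicit false
set_option maxRecDepth 1000000

namespace Cfsg.Agent.Helper9.TCData.ONC0
open Cfsg.Agent.Helper9.TC2

theorem m2_993 : allRange 94335 95 (fun u => chkFix tab mwordsA u) = true := by decide +kernel

theorem m2_994 : allRange 94430 95 (fun u => chkFix tab mwordsA u) = true := by decide +kernel

theorem m2_995 : allRange 94525 95 (fun u => chkFix tab mwordsA u) = true := by decide +kernel

theorem m2_996 : allRange 94620 95 (fun u => chkFix tab mwordsA u) = true := by decide +kernel

theorem m2_997 : allRange 94715 95 (fun u => chkFix tab mwordsA u) = true := by decide +kernel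

theorem m2_998 : allRange 94810 95 (fun u => chkFix tab mwordsA u) = true := by decide +kernel

theorem m2_999 : allRange 94905 95 (fun u => chkFix tab mwordsA u) = true := by decide +kernel

theorem m2_1000 : allRange 95000 95 (fun u => chkFix tab mwordsA u) = true := by decide +kernel


end Cfsg.Agent.Helper9.TCData.ONC0
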