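import Cfsg.Agent.Lib.Helper9.TCData.ONC0.Main

set_option autoImplicit false
set_option maxRecDepth 1000000

namespace Cfsg.Agent.Helper9.TCData.ONC0
open Cfsg.Agent.Helper9.TC2

theorem m2_1009 : allRange 95855 95 (fun u => chkFix tab mwordsA u) = true := by decide +kernel

theorem m2_1010 : allRange 95950 95 (fun u => chkFix tab mwordsA u) = true := by decide +kernel

theorem m2_1011 : allRange 96045 95 (fun u => chkFix tab mwordsA u) = true := by decide +kernel

theorem m2_1012 : allRange 96140 95 (fun u => chkFix tab mwordsA u) = true := by decide +kernel

theorem m2_1013 : allRange 96235 95 (fun u => chkFix tab mwordsA u) = true := by decide +kernel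

theorem m2_1014 : allRange 96330 95 (fun u => chkFix tab mwordsA u) = true := by decide +kernel

theorem m2_1015 : allRange 96425 95 (fun u => chkFix tab mwordsA u) = true := by decide +kernel

theorem m2_1016 : allRange 96520 95 (fun u => chkFix tab mwordsA u) = true := by decide +kernel


end Cfsg.Agent.Helper9.TCData.ONC0
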