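import Cfsg.Agent.Lib.Helper9.TCData.ONC0.Main

set_option autoImplicit false
set_option maxRecDepth 1000000

namespace Cfsg.Agent.Helper9.TCData.ONC0
open Cfsg.Agent.Helper9.TC2

theorem m2_1025 : allRange 97375 95 (fun u => chkFix tab mwordsA u) = true := by decide +kernel

theorem m2_1026 : allRange 97470 95 (fun u => chkFix tab mwordsA u) = true := by decide +kernel

theorem m2_1027 : allRange 97565 95 (fun u => chkFix tab mwordsA u) = true := by decide +kernel

theorem m2_1028 : allRange 97660 95 (fun u => chkFix tab mwordsA u) = true := by decide +kernel

theorem m2_1029 : allRange 97755 95 (fun u => chkFix tab mwordsA u) = true := by decide +kernel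

theorem m2_1030 : allRange 97850 95 (fun u => chkFix tab mwordsA u) = true := by decide +kernel

theorem m2_1031 : allRange 97945 95 (fun u => chkFix tab mwordsA u) = true := by decide +kernel

theorem m2_1032 : allRange 98040 95 (fun u => chkFix tab mwordsA u) = true := by decide +kernel


end Cfsg.Agent.Helper9.TCData.ONC0
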