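import Cfsg.Agent.Lib.Helper9.TCData.ONC0.Main

set_option autoImplicit false
set_option maxRecDepth 1000000

namespace Cfsg.Agent.Helper9.TCData.ONC0
open Cfsg.Agent.Helper9.TC2

theorem m2_1033 : allRange 98135 95 (fun u => chkFix tab mwordsA u) = true := by decide +kernel

theorem m2_1034 : allRange 98230 95 (fun u => chkFix tab mwordsA u) = true := by decide +kernel

theorem m2_1035 : allRange 98325 95 (fun u => chkFix tab mwordsA u) = true := by decide +kernel

theorem m2_1036 : allRange 98420 95 (fun u => chkFix tab mwordsA u) = true := by decide +kernel

theorem m2_1037 : allRange 98515 95 (fun u => chkFix tab mwordsA u) = true := by decide +kernel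

theorem m2_1038 : allRange 98610 95 (fun u => chkFix tab mwordsA u) = true := by decide +kernel

theorem m2_1039 : allRange 98705 95 (fun u => chkFix tab mwordsA u) = true := by decide +kernel

theorem m2_1040 : allRange 98800 95 (fun u => chkFix tab mwordsA u) = true := by decide +kernel


end Cfsg.Agent.Helper9.TCData.ONC0
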