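import Cfsg.Agent.Lib.Helper9.TCData.ONC0.Main

set_option autoImplicit false
set_option maxRecDepth 1000000

namespace Cfsg.Agent.Helper9.TCData.ONC0
open Cfsg.Agent.Helper9.TC2

theorem m2_1049 : allRange 99655 95 (fun u => chkFix tab mwordsA u) = true := by decide +kernel

theorem m2_1050 : allRange 99750 95 (fun u => chkFix tab mwordsA u) = true := by decide +kernel

theorem m2_1051 : allRange 99845 95 (fun u => chkFix tab mwordsA u) = true := by decide +kernel

theorem m2_1052 : allRange 99940 95 (fun u => chkFix tab mwordsA u) = true := by decide +kernel

theorem m2_1053 : allRange 100035 95 (fun u => chkFix tab mwordsA u) = true := by decide +kernel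

theorem m2_1054 : allRange 100130 95 (fun u => chkFix tab mwordsA u) = true := by decide +kernel

theorem m2_1055 : allRange 100225 95 (fun u => chkFix tab mwordsA u) = true := by decide +kernel

theorem m2_1056 : allRange 100320 95 (fun u => chkFix tab mwordsA u) = true := by decide +kernel


end Cfsg.Agent.Helper9.TCData.ONC0
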