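import Cfsg.Agent.Lib.Helper9.TCData.ONC0.Main

set_option autoImplicit false
set_option maxRecDepth 1000000

namespace Cfsg.Agent.Helper9.TCData.ONC0
open Cfsg.Agent.Helper9.TC2

theorem m2_1057 : allRange 100415 95 (fun u => chkFix tab mwordsA u) = true := by decide +kernel

theorem m2_1058 : allRange 100510 95 (fun u => chkFix tab mwordsA u) = true := by decide +kernel

theorem m2_1059 : allRange 100605 95 (fun u => chkFix tab mwordsA u) = true := by decide +kernel

theorem m2_1060 : allRange 100700 95 (fun u => chkFix tab mwordsA u) = true := by decide +kernel

theorem m2_1061 : allRange 100795 95 (fun u => chkFix tab mwordsA u) = true := by decide +kernel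

theorem m2_1062 : allRange 100890 95 (fun u => chkFix tab mwordsA u) = true := by decide +kernel

theorem m2_1063 : allRange 100985 95 (fun u => chkFix tab mwordsA u) = true := by decide +kernel

theorem m2_1064 : allRange 101080 95 (fun u => chkFix tab mwordsA u) = true := by decide +kernel


end Cfsg.Agent.Helper9.TCData.ONC0
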