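import Cfsg.Agent.Lib.Helper9.TCData.ONC0.Main

set_option autoImplicit false
set_option maxRecDepth 1000000

namespace Cfsg.Agent.Helper9.TCData.ONC0
open Cfsg.Agent.Helper9.TC2

theorem m2_1065 : allRange 101175 95 (fun u => chkFix tab mwordsA u) = true := by decide +kernel

theorem m2_1066 : allRange 101270 95 (fun u => chkFix tab mwordsA u) = true := by decide +kernel

theorem m2_1067 : allRange 101365 95 (fun u => chkFix tab mwordsA u) = true := by decide +kernel

theorem m2_1068 : allRange 101460 95 (fun u => chkFix tab mwordsA u) = true := by decide +kernel

theorem m2_1069 : allRange 101555 95 (fun u => chkFix tab mwordsA u) = true := by decide +kernel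

theorem m2_1070 : allRange 101650 95 (fun u => chkFix tab mwordsA u) = true := by decide +kernel

theorem m2_1071 : allRange 101745 95 (fun u => chkFix tab mwordsA u) = true := by decide +kernel

theorem m2_1072 : allRange 101840 95 (fun u => chkFix tab mwordsA u) = true := by decide +kernel


end Cfsg.Agent.Helper9.TCData.ONC0
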