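import Cfsg.Agent.Lib.Helper9.TCData.ONC0.Main

set_option autoImplicit false
set_option maxRecDepth 1000000

namespace Cfsg.Agent.Helper9.TCData.ONC0
open Cfsg.Agent.Helper9.TC2

theorem m2_1081 : allRange 102695 95 (fun u => chkFix tab mwordsA u) = true := by decide +kernel

theorem m2_1082 : allRange 102790 95 (fun u => chkFix tab mwordsA u) = true := by decide +kernel

theorem m2_1083 : allRange 102885 95 (fun u => chkFix tab mwordsA u) = true := by decide +kernel

theorem m2_1084 : allRange 102980 95 (fun u => chkFix tab mwordsA u) = true := by decide +kernel

theorem m2_1085 : allRange 103075 95 (fun u => chkFix tab mwordsA u) = true := by decide +kernel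

theorem m2_1086 : allRange 103170 95 (fun u => chkFix tab mwordsA u) = true := by decide +kernel

theorem m2_1087 : allRange 103265 95 (fun u => chkFix tab mwordsA u) = true := by decide +kernel

theorem m2_1088 : allRange 103360 95 (fun u => chkFix tab mwordsA u) = true := by decide +kernel


end Cfsg.Agent.Helper9.TCData.ONC0
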