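import Cfsg.Agent.Lib.Helper9.TCData.ONC0.Main

set_option autoImplicit false
set_option maxRecDepth 1000000

namespace Cfsg.Agent.Helper9.TCData.ONC0
open Cfsg.Agent.Helper9.TC2

theorem m2_1089 : allRange 103455 95 (fun u => chkFix tab mwordsA u) = true := by decide +kernel

theorem m2_1090 : allRange 103550 95 (fun u => chkFix tab mwordsA u) = true := by decide +kernel

theorem m2_1091 : allRange 103645 95 (fun u => chkFix tab mwordsA u) = true := by decide +kernel

theorem m2_1092 : allRange 103740 95 (fun u => chkFix tab mwordsA u) = true := by decide +kernel

theorem m2_1093 : allRange 103835 95 (fun u => chkFix tab mwordsA u) = true := by decide +kernel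

theorem m2_1094 : allRange 103930 95 (fun u => chkFix tab mwordsA u) = true := by decide +kernel

theorem m2_1095 : allRange 104025 95 (fun u => chkFix tab mwordsA u) = true := by decide +kernel

theorem m2_1096 : allRange 104120 95 (fun u => chkFix tab mwordsA u) = true := by decide +kernel


end Cfsg.Agent.Helper9.TCData.ONC0
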