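import Cfsg.Agent.Lib.Helper9.TCData.ONC0.Main

set_option autoImplicit false
set_option maxRecDepth 1000000

namespace Cfsg.Agent.Helper9.TCData.ONC0
open Cfsg.Agent.Helper9.TC2

theorem m2_1105 : allRange 104975 95 (fun u => chkFix tab mwordsA u) = true := by decide +kernel

theorem m2_1106 : allRange 105070 95 (fun u => chkFix tab mwordsA u) = true := by decide +kernel

theorem m2_1107 : allRange 105165 95 (fun u => chkFix tab mwordsA u) = true := by decide +kernel

theorem m2_1108 : allRange 105260 95 (fun u => chkFix tab mwordsA u) = true := by decide +kernel

theorem m2_1109 : allRange 105355 95 (fun u => chkFix tab mwordsA u) = true := by decide +kernel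

theorem m2_1110 : allRange 105450 95 (fun u => chkFix tab mwordsA u) = true := by decide +kernel

theorem m2_1111 : allRange 105545 95 (fun u => chkFix tab mwordsA u) = true := by decide +kernel

theorem m2_1112 : allRange 105640 95 (fun u => chkFix tab mwordsA u) = true := by decide +kernel


end Cfsg.Agent.Helper9.TCData.ONC0
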