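import Cfsg.Agent.Lib.Helper9.TCData.ONC0.Main

set_option autoImplicit false
set_option maxRecDepth 1000000

namespace Cfsg.Agent.Helper9.TCData.ONC0
open Cfsg.Agent.Helper9.TC2

theorem m2_1113 : allRange 105735 95 (fun u => chkFix tab mwordsA u) = true := by decide +kernel

theorem m2_1114 : allRange 105830 95 (fun u => chkFix tab mwordsA u) = true := by decide +kernel

theorem m2_1115 : allRange 105925 95 (fun u => chkFix tab mwordsA u) = true := by decide +kernel

theorem m2_1116 : allRange 106020 95 (fun u => chkFix tab mwordsA u) = true := by decide +kernel

theorem m2_1117 : allRange 106115 95 (fun u => chkFix tab mwordsA u) = true := by decide +kernel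

theorem m2_1118 : allRange 106210 95 (fun u => chkFix tab mwordsA u) = true := by decide +kernel

theorem m2_1119 : allRange 106305 95 (fun u => chkFix tab mwordsA u) = true := by decide +kernel

theorem m2_1120 : allRange 106400 95 (fun u => chkFix tab mwordsA u) = true := by decide +kernel


end Cfsg.Agent.Helper9.TCData.ONC0
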