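import Cfsg.Agent.Lib.Helper9.TCData.ONC0.Main

set_option autoImplicit false
set_option maxRecDepth 1000000

namespace Cfsg.Agent.Helper9.TCData.ONC0
open Cfsg.Agent.Helper9.TC2

theorem m2_1121 : allRange 106495 95 (fun u => chkFix tab mwordsA u) = true := by decide +kernel

theorem m2_1122 : allRange 106590 95 (fun u => chkFix tab mwordsA u) = true := by decide +kernel

theorem m2_1123 : allRange 106685 95 (fun u => chkFix tab mwordsA u) = true := by decide +kernel

theorem m2_1124 : allRange 106780 95 (fun u => chkFix tab mwordsA u) = true := by decide +kernel

theorem m2_1125 : allRange 106875 95 (fun u => chkFix tab mwordsA u) = true := by decide +kernel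

theorem m2_1126 : allRange 106970 95 (fun u => chkFix tab mwordsA u) = true := by decide +kernel

theorem m2_1127 : allRange 107065 95 (fun u => chkFix tab mwordsA u) = true := by decide +kernel

theorem m2_1128 : allRange 107160 95 (fun u => chkFix tab mwordsA u) = true := by decide +kernel


end Cfsg.Agent.Helper9.TCData.ONC0
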