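import Cfsg.Agent.Lib.Helper9.TCData.ONC0.Main

set_option autoImplicit false
set_option maxRecDepth 1000000

namespace Cfsg.Agent.Helper9.TCData.ONC0
open Cfsg.Agent.Helper9.TC2

theorem e3_20 : allRange 63976 3108 (fun u => chkE tab 3 u) = true := by decide +kernel

theorem e3_21 : allRange 67084 3352 (fun u => chkE tab 3 u) = true := by decide +kernel

theorem e3_22 : allRange 70436 3426 (fun u => chkE tab 3 u) = true := by decide +kernel

theorem e3_23 : allRange 73862 3700 (fun u => chkE tab 3 u) = true := by decide +kernel

theorem e3_24 : allRange 77562 3337 (fun u => chkE tab 3 u) = true := by decide +kernel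

theorem e3_25 : allRange 80899 3028 (fun u => chkE tab 3 u) = true := by decide +kernel

theorem e3_26 : allRange 83927 3009 (fun u => chkE tab 3 u) = true := by decide +kernel

theorem e3_27 : allRange 86936 3067 (fun u => chkE tab 3 u) = true := by decide +kernel


end Cfsg.Agent.Helper9.TCData.ONC0
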