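import Cfsg.Agent.Lib.Helper9.TCData.ONC0.Main

set_option autoImplicit false
set_option maxRecDepth 1000000

namespace Cfsg.Agent.Helper9.TCData.ONC0
open Cfsg.Agent.Helper9.TC2

theorem m2_1153 : allRange 109535 95 (fun u => chkFix tab mwordsA u) = true := by decide +kernel

theorem m2_1154 : allRange 109630 95 (fun u => chkFix tab mwordsA u) = true := by decide +kernel

theorem m2_1155 : allRange 109725 95 (fun u => chkFix tab mwordsA u) = true := by decide +kernel

theorem m2_1156 : allRange 109820 95 (fun u => chkFix tab mwordsA u) = true := by decide +kernel

theorem m2_1157 : allRange 109915 95 (fun u => chkFix tab mwordsA u) = true := by decide +kernel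

theorem m2_1158 : allRange 110010 95 (fun u => chkFix tab mwordsA u) = true := by decide +kernel

theorem m2_1159 : allRange 110105 95 (fun u => chkFix tab mwordsA u) = true := by decide +kernel

theorem m2_1160 : allRange 110200 95 (fun u => chkFix tab mwordsA u) = true := by decide +kernel


end Cfsg.Agent.Helper9.TCData.ONC0
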