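import Cfsg.Agent.Lib.Helper9.TCData.ONC0.Main

set_option autoImplicit false
set_option maxRecDepth 1000000

namespace Cfsg.Agent.Helper9.TCData.ONC0
open Cfsg.Agent.Helper9.TC2

theorem m2_1185 : allRange 112575 95 (fun u => chkFix tab mwordsA u) = true := by decide +kernel

theorem m2_1186 : allRange 112670 95 (fun u => chkFix tab mwordsA u) = true := by decide +kernel

theorem m2_1187 : allRange 112765 95 (fun u => chkFix tab mwordsA u) = true := by decide +kernel

theorem m2_1188 : allRange 112860 95 (fun u => chkFix tab mwordsA u) = true := by decide +kernel

theorem m2_1189 : allRange 112955 95 (fun u => chkFix tab mwordsA u) = true := by decide +kernel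

theorem m2_1190 : allRange 113050 95 (fun u => chkFix tab mwordsA u) = true := by decide +kernel

theorem m2_1191 : allRange 113145 95 (fun u => chkFix tab mwordsA u) = true := by decide +kernel

theorem m2_1192 : allRange 113240 95 (fun u => chkFix tab mwordsA u) = true := by decide +kernel


end Cfsg.Agent.Helper9.TCData.ONC0
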