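import Cfsg.Agent.Lib.Helper9.TCData.ONC0.Main

set_option autoImplicit false
set_option maxRecDepth 1000000

namespace Cfsg.Agent.Helper9.TCData.ONC0
open Cfsg.Agent.Helper9.TC2

theorem m2_1193 : allRange 113335 95 (fun u => chkFix tab mwordsA u) = true := by decide +kernel

theorem m2_1194 : allRange 113430 95 (fun u => chkFix tab mwordsA u) = true := by decide +kernel

theorem m2_1195 : allRange 113525 95 (fun u => chkFix tab mwordsA u) = true := by decide +kernel

theorem m2_1196 : allRange 113620 95 (fun u => chkFix tab mwordsA u) = true := by decide +kernel

theorem m2_1197 : allRange 113715 95 (fun u => chkFix tab mwordsA u) = true := by decide +kernel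

theorem m2_1198 : allRange 113810 95 (fun u => chkFix tab mwordsA u) = true := by decide +kernel

theorem m2_1199 : allRange 113905 95 (fun u => chkFix tab mwordsA u) = true := by decide +kernel

theorem m2_1200 : allRange 114000 95 (fun u => chkFix tab mwordsA u) = true := by decide +kernel


end Cfsg.Agent.Helper9.TCData.ONC0
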