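import Cfsg.Agent.Lib.Helper9.TCData.ONC0.Main

set_option autoImplicit false
set_option maxRecDepth 1000000

namespace Cfsg.Agent.Helper9.TCData.ONC0
open Cfsg.Agent.Helper9.TC2

theorem e3_28 : allRange 90003 3696 (fun u => chkE tab 3 u) = true := by decide +kernel

theorem e3_29 : allRange 93699 4818 (fun u => chkE tab 3 u) = true := by decide +kernel

theorem e3_30 : allRange 98517 4614 (fun u => chkE tab 3 u) = true := by decide +kernel

theorem e3_31 : allRange 103131 4817 (fun u => chkE tab 3 u) = true := by decide +kernel

theorem e3_32 : allRange 107948 3051 (fun u => chkE tab 3 u) = true := by decide +kernel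

theorem e3_33 : allRange 110999 3938 (fun u => chkE tab 3 u) = true := by decide +kernel

theorem e3_34 : allRange 114937 3101 (fun u => chkE tab 3 u) = true := by decide +kernel

theorem e3_35 : allRange 118038 4871 (fun u => chkE tab 3 u) = true := by decide +kernel


end Cfsg.Agent.Helper9.TCData.ONC0
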