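import Cfsg.Agent.Lib.Helper9.TCData.ONC0.Main

set_option autoImplicit false
set_option maxRecDepth 1000000

namespace Cfsg.Agent.Helper9.TCData.ONC0
open Cfsg.Agent.Helper9.TC2

theorem m2_1209 : allRange 114855 95 (fun u => chkFix tab mwordsA u) = true := by decide +kernel

theorem m2_1210 : allRange 114950 95 (fun u => chkFix tab mwordsA u) = true := by decide +kernel

theorem m2_1211 : allRange 115045 95 (fun u => chkFix tab mwordsA u) = true := by decide +kernel

theorem m2_1212 : allRange 115140 95 (fun u => chkFix tab mwordsA u) = true := by decide +kernel

theorem m2_1213 : allRange 115235 95 (fun u => chkFix tab mwordsA u) = true := by decide +kernel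

theorem m2_1214 : allRange 115330 95 (fun u => chkFix tab mwordsA u) = true := by decide +kernel

theorem m2_1215 : allRange 115425 95 (fun u => chkFix tab mwordsA u) = true := by decide +kernel

theorem m2_1216 : allRange 115520 95 (fun u => chkFix tab mwordsA u) = true := by decide +kernel


end Cfsg.Agent.Helper9.TCData.ONC0
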