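import Cfsg.Agent.Lib.Helper9.TCData.ONC0.Main

set_option autoImplicit false
set_option maxRecDepth 1000000

namespace Cfsg.Agent.Helper9.TCData.ONC0
open Cfsg.Agent.Helper9.TC2

theorem m2_1225 : allRange 116375 95 (fun u => chkFix tab mwordsA u) = true := by decide +kernel

theorem m2_1226 : allRange 116470 95 (fun u => chkFix tab mwordsA u) = true := by decide +kernel

theorem m2_1227 : allRange 116565 95 (fun u => chkFix tab mwordsA u) = true := by decide +kernel

theorem m2_1228 : allRange 116660 95 (fun u => chkFix tab mwordsA u) = true := by decide +kernel

theorem m2_1229 : allRange 116755 95 (fun u => chkFix tab mwordsA u) = true := by decide +kernel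

theorem m2_1230 : allRange 116850 95 (fun u => chkFix tab mwordsA u) = true := by decide +kernel

theorem m2_1231 : allRange 116945 95 (fun u => chkFix tab mwordsA u) = true := by decide +kernel

theorem m2_1232 : allRange 117040 95 (fun u => chkFix tab mwordsA u) = true := by decide +kernel


end Cfsg.Agent.Helper9.TCData.ONC0
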