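import Cfsg.Agent.Lib.Helper9.TCData.ONC0.Main

set_option autoImplicit false
set_option maxRecDepth 1000000

namespace Cfsg.Agent.Helper9.TCData.ONC0
open Cfsg.Agent.Helper9.TC2

theorem m2_1281 : allRange 121695 95 (fun u => chkFix tab mwordsA u) = true := by decide +kernel

theorem m2_1282 : allRange 121790 95 (fun u => chkFix tab mwordsA u) = true := by decide +kernel

theorem m2_1283 : allRange 121885 95 (fun u => chkFix tab mwordsA u) = true := by decide +kernel

theorem m2_1284 : allRange 121980 95 (fun u => chkFix tab mwordsA u) = true := by decide +kernel

theorem m2_1285 : allRange 122075 95 (fun u => chkFix tab mwordsA u) = true := by decide +kernel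

theorem m2_1286 : allRange 122170 95 (fun u => chkFix tab mwordsA u) = true := by decide +kernel

theorem m2_1287 : allRange 122265 95 (fun u => chkFix tab mwordsA u) = true := by decide +kernel

theorem m2_1288 : allRange 122360 95 (fun u => chkFix tab mwordsA u) = true := by decide +kernel


end Cfsg.Agent.Helper9.TCData.ONC0
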