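import Cfsg.Agent.Lib.Helper9.TCData.ONC0.Main

set_option autoImplicit false
set_option maxRecDepth 1000000

namespace Cfsg.Agent.Helper9.TCData.ONC0
open Cfsg.Agent.Helper9.TC2

theorem m2_1289 : allRange 122455 95 (fun u => chkFix tab mwordsA u) = true := by decide +kernel

theorem m2_1290 : allRange 122550 95 (fun u => chkFix tab mwordsA u) = true := by decide +kernel

theorem m2_1291 : allRange 122645 95 (fun u => chkFix tab mwordsA u) = true := by decide +kernel

theorem m2_1292 : allRange 122740 20 (fun u => chkFix tab mwordsA u) = true := by decide +kernel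


end Cfsg.Agent.Helper9.TCData.ONC0
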