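import Cfsg.Agent.Lib.Helper9.TCData.ONC0.Main

set_option autoImplicit false
set_option maxRecDepth 1000000

namespace Cfsg.Agent.Helper9.TCData.ONC0
open Cfsg.Agent.Helper9.TC2

theorem o1_0 : allRange 0 513 (fun u => chkO1 tab orb u) = true := by decide +kernel

theorem o1_1 : allRange 513 513 (fun u => chkO1 tab orb u) = true := by decide +kernel

theorem o1_2 : allRange 1026 513 (fun u => chkO1 tab orb u) = true := by decide +kernel

theorem o1_3 : allRange 1539 513 (fun u => chkO1 tab orb u) = true := by decide +kernel

theorem o1_4 : allRange 2052 513 (fun u => chkO1 tab orb u) = true := by decide +kernel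

theorem o1_5 : allRange 2565 513 (fun u => chkO1 tab orb u) = true := by decide +kernel

theorem o1_6 : allRange 3078 513 (fun u => chkO1 tab orb u) = true := by decide +kernel

theorem o1_7 : allRange 3591 513 (fun u => chkO1 tab orb u) = true := by decide +kernel


end Cfsg.Agent.Helper9.TCData.ONC0
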