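import Cfsg.Agent.Lib.Helper9.TCData.ONC0.Main

set_option autoImplicit false
set_option maxRecDepth 1000000

namespace Cfsg.Agent.Helper9.TCData.ONC0
open Cfsg.Agent.Helper9.TC2

theorem o1_48 : allRange 24624 513 (fun u => chkO1 tab orb u) = true := by decide +kernel

theorem o1_49 : allRange 25137 513 (fun u => chkO1 tab orb u) = true := by decide +kernel

theorem o1_50 : allRange 25650 513 (fun u => chkO1 tab orb u) = true := by decide +kernel

theorem o1_51 : allRange 26163 513 (fun u => chkO1 tab orb u) = true := by decide +kernel

theorem o1_52 : allRange 26676 513 (fun u => chkO1 tab orb u) = true := by decide +kernel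

theorem o1_53 : allRange 27189 513 (fun u => chkO1 tab orb u) = true := by decide +kernel

theorem o1_54 : allRange 27702 513 (fun u => chkO1 tab orb u) = true := by decide +kernel

theorem o1_55 : allRange 28215 513 (fun u => chkO1 tab orb u) = true := by decide +kernel


end Cfsg.Agent.Helper9.TCData.ONC0
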