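import Cfsg.Agent.Lib.Helper9.TCData.ONC0.Main

set_option autoImplicit false
set_option maxRecDepth 1000000

namespace Cfsg.Agent.Helper9.TCData.ONC0
open Cfsg.Agent.Helper9.TC2

theorem o1_56 : allRange 28728 513 (fun u => chkO1 tab orb u) = true := by decide +kernel

theorem o1_57 : allRange 29241 513 (fun u => chkO1 tab orb u) = true := by decide +kernel

theorem o1_58 : allRange 29754 513 (fun u => chkO1 tab orb u) = true := by decide +kernel

theorem o1_59 : allRange 30267 513 (fun u => chkO1 tab orb u) = true := by decide +kernel

theorem o1_60 : allRange 30780 513 (fun u => chkO1 tab orb u) = true := by decide +kernel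

theorem o1_61 : allRange 31293 513 (fun u => chkO1 tab orb u) = true := by decide +kernel

theorem o1_62 : allRange 31806 513 (fun u => chkO1 tab orb u) = true := by decide +kernel

theorem o1_63 : allRange 32319 513 (fun u => chkO1 tab orb u) = true := by decide +kernel


end Cfsg.Agent.Helper9.TCData.ONC0
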