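import Cfsg.Agent.Lib.Helper9.TCData.ONC0.Main

set_option autoImplicit false
set_option maxRecDepth 1000000

namespace Cfsg.Agent.Helper9.TCData.ONC0
open Cfsg.Agent.Helper9.TC2

theorem o1_88 : allRange 45144 513 (fun u => chkO1 tab orb u) = true := by decide +kernel

theorem o1_89 : allRange 45657 513 (fun u => chkO1 tab orb u) = true := by decide +kernel

theorem o1_90 : allRange 46170 513 (fun u => chkO1 tab orb u) = true := by decide +kernel

theorem o1_91 : allRange 46683 513 (fun u => chkO1 tab orb u) = true := by decide +kernel

theorem o1_92 : allRange 47196 513 (fun u => chkO1 tab orb u) = true := by decide +kernel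

theorem o1_93 : allRange 47709 513 (fun u => chkO1 tab orb u) = true := by decide +kernel

theorem o1_94 : allRange 48222 513 (fun u => chkO1 tab orb u) = true := by decide +kernel

theorem o1_95 : allRange 48735 513 (fun u => chkO1 tab orb u) = true := by decide +kernel


end Cfsg.Agent.Helper9.TCData.ONC0
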