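import Cfsg.Agent.Lib.Helper9.TCData.ONC0.Main

set_option autoImplicit false
set_option maxRecDepth 1000000

namespace Cfsg.Agent.Helper9.TCData.ONC0
open Cfsg.Agent.Helper9.TC2

theorem o1_96 : allRange 49248 513 (fun u => chkO1 tab orb u) = true := by decide +kernel

theorem o1_97 : allRange 49761 513 (fun u => chkO1 tab orb u) = true := by decide +kernel

theorem o1_98 : allRange 50274 513 (fun u => chkO1 tab orb u) = true := by decide +kernel

theorem o1_99 : allRange 50787 513 (fun u => chkO1 tab orb u) = true := by decide +kernel

theorem o1_100 : allRange 51300 513 (fun u => chkO1 tab orb u) = true := by decide +kernel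

theorem o1_101 : allRange 51813 513 (fun u => chkO1 tab orb u) = true := by decide +kernel

theorem o1_102 : allRange 52326 513 (fun u => chkO1 tab orb u) = true := by decide +kernel

theorem o1_103 : allRange 52839 513 (fun u => chkO1 tab orb u) = true := by decide +kernel


end Cfsg.Agent.Helper9.TCData.ONC0
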