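import Cfsg.Agent.Lib.Helper9.TCData.ONC0.Main

set_option autoImplicit false
set_option maxRecDepth 1000000

namespace Cfsg.Agent.Helper9.TCData.ONC0
open Cfsg.Agent.Helper9.TC2

theorem o1_104 : allRange 53352 513 (fun u => chkO1 tab orb u) = true := by decide +kernel

theorem o1_105 : allRange 53865 513 (fun u => chkO1 tab orb u) = true := by decide +kernel

theorem o1_106 : allRange 54378 513 (fun u => chkO1 tab orb u) = true := by decide +kernel

theorem o1_107 : allRange 54891 513 (fun u => chkO1 tab orb u) = true := by decide +kernel

theorem o1_108 : allRange 55404 513 (fun u => chkO1 tab orb u) = true := by decide +kernel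

theorem o1_109 : allRange 55917 513 (fun u => chkO1 tab orb u) = true := by decide +kernel

theorem o1_110 : allRange 56430 513 (fun u => chkO1 tab orb u) = true := by decide +kernel

theorem o1_111 : allRange 56943 513 (fun u => chkO1 tab orb u) = true := by decide +kernel


end Cfsg.Agent.Helper9.TCData.ONC0
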