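import Cfsg.Agent.Lib.Helper9.TCData.ONC0.Main

set_option autoImplicit false
set_option maxRecDepth 1000000

namespace Cfsg.Agent.Helper9.TCData.ONC0
open Cfsg.Agent.Helper9.TC2

theorem o1_112 : allRange 57456 513 (fun u => chkO1 tab orb u) = true := by decide +kernel

theorem o1_113 : allRange 57969 513 (fun u => chkO1 tab orb u) = true := by decide +kernel

theorem o1_114 : allRange 58482 513 (fun u => chkO1 tab orb u) = true := by decide +kernel

theorem o1_115 : allRange 58995 513 (fun u => chkO1 tab orb u) = true := by decide +kernel

theorem o1_116 : allRange 59508 513 (fun u => chkO1 tab orb u) = true := by decide +kernel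

theorem o1_117 : allRange 60021 513 (fun u => chkO1 tab orb u) = true := by decide +kernel

theorem o1_118 : allRange 60534 513 (fun u => chkO1 tab orb u) = true := by decide +kernel

theorem o1_119 : allRange 61047 513 (fun u => chkO1 tab orb u) = true := by decide +kernel


end Cfsg.Agent.Helper9.TCData.ONC0
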