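import Cfsg.Agent.Lib.Helper9.TCData.ONC0.Main

set_option autoImplicit false
set_option maxRecDepth 1000000

namespace Cfsg.Agent.Helper9.TCData.ONC0
open Cfsg.Agent.Helper9.TC2

theorem o1_136 : allRange 69768 513 (fun u => chkO1 tab orb u) = true := by decide +kernel

theorem o1_137 : allRange 70281 513 (fun u => chkO1 tab orb u) = true := by decide +kernel

theorem o1_138 : allRange 70794 513 (fun u => chkO1 tab orb u) = true := by decide +kernel

theorem o1_139 : allRange 71307 513 (fun u => chkO1 tab orb u) = true := by decide +kernel

theorem o1_140 : allRange 71820 513 (fun u => chkO1 tab orb u) = true := by decide +kernel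

theorem o1_141 : allRange 72333 513 (fun u => chkO1 tab orb u) = true := by decide +kernel

theorem o1_142 : allRange 72846 513 (fun u => chkO1 tab orb u) = true := by decide +kernel

theorem o1_143 : allRange 73359 513 (fun u => chkO1 tab orb u) = true := by decide +kernel


end Cfsg.Agent.Helper9.TCData.ONC0
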