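import Cfsg.Agent.Lib.Helper9.TCData.ONC0.Main

set_option autoImplicit false
set_option maxRecDepth 1000000

namespace Cfsg.Agent.Helper9.TCData.ONC0
open Cfsg.Agent.Helper9.TC2

theorem o1_152 : allRange 77976 513 (fun u => chkO1 tab orb u) = true := by decide +kernel

theorem o1_153 : allRange 78489 513 (fun u => chkO1 tab orb u) = true := by decide +kernel

theorem o1_154 : allRange 79002 513 (fun u => chkO1 tab orb u) = true := by decide +kernel

theorem o1_155 : allRange 79515 513 (fun u => chkO1 tab orb u) = true := by decide +kernel

theorem o1_156 : allRange 80028 513 (fun u => chkO1 tab orb u) = true := by decide +kernel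

theorem o1_157 : allRange 80541 513 (fun u => chkO1 tab orb u) = true := by decide +kernel

theorem o1_158 : allRange 81054 513 (fun u => chkO1 tab orb u) = true := by decide +kernel

theorem o1_159 : allRange 81567 513 (fun u => chkO1 tab orb u) = true := by decide +kernel


end Cfsg.Agent.Helper9.TCData.ONC0
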