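import Cfsg.Agent.Lib.Helper9.TCData.ONC0.Main

set_option autoImplicit false
set_option maxRecDepth 1000000

namespace Cfsg.Agent.Helper9.TCData.ONC0
open Cfsg.Agent.Helper9.TC2

theorem o1_160 : allRange 82080 513 (fun u => chkO1 tab orb u) = true := by decide +kernel

theorem o1_161 : allRange 82593 513 (fun u => chkO1 tab orb u) = true := by decide +kernel

theorem o1_162 : allRange 83106 513 (fun u => chkO1 tab orb u) = true := by decide +kernel

theorem o1_163 : allRange 83619 513 (fun u => chkO1 tab orb u) = true := by decide +kernel

theorem o1_164 : allRange 84132 513 (fun u => chkO1 tab orb u) = true := by decide +kernel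

theorem o1_165 : allRange 84645 513 (fun u => chkO1 tab orb u) = true := by decide +kernel

theorem o1_166 : allRange 85158 513 (fun u => chkO1 tab orb u) = true := by decide +kernel

theorem o1_167 : allRange 85671 513 (fun u => chkO1 tab orb u) = true := by decide +kernel


end Cfsg.Agent.Helper9.TCData.ONC0
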