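import Cfsg.Agent.Lib.Helper9.TCData.ONC0.Main

set_option autoImplicit false
set_option maxRecDepth 1000000

namespace Cfsg.Agent.Helper9.TCData.ONC0
open Cfsg.Agent.Helper9.TC2

theorem o1_184 : allRange 94392 513 (fun u => chkO1 tab orb u) = true := by decide +kernel

theorem o1_185 : allRange 94905 513 (fun u => chkO1 tab orb u) = true := by decide +kernel

theorem o1_186 : allRange 95418 513 (fun u => chkO1 tab orb u) = true := by decide +kernel

theorem o1_187 : allRange 95931 513 (fun u => chkO1 tab orb u) = true := by decide +kernel

theorem o1_188 : allRange 96444 513 (fun u => chkO1 tab orb u) = true := by decide +kernel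

theorem o1_189 : allRange 96957 513 (fun u => chkO1 tab orb u) = true := by decide +kernel

theorem o1_190 : allRange 97470 513 (fun u => chkO1 tab orb u) = true := by decide +kernel

theorem o1_191 : allRange 97983 513 (fun u => chkO1 tab orb u) = true := by decide +kernel


end Cfsg.Agent.Helper9.TCData.ONC0
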