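import Cfsg.Agent.Lib.Helper9.TCData.ONC0.Main

set_option autoImplicit false
set_option maxRecDepth 1000000

namespace Cfsg.Agent.Helper9.TCData.ONC0
open Cfsg.Agent.Helper9.TC2

theorem o1_192 : allRange 98496 513 (fun u => chkO1 tab orb u) = true := by decide +kernel

theorem o1_193 : allRange 99009 513 (fun u => chkO1 tab orb u) = true := by decide +kernel

theorem o1_194 : allRange 99522 513 (fun u => chkO1 tab orb u) = true := by decide +kernel

theorem o1_195 : allRange 100035 513 (fun u => chkO1 tab orb u) = true := by decide +kernel

theorem o1_196 : allRange 100548 513 (fun u => chkO1 tab orb u) = true := by decide +kernel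

theorem o1_197 : allRange 101061 513 (fun u => chkO1 tab orb u) = true := by decide +kernel

theorem o1_198 : allRange 101574 513 (fun u => chkO1 tab orb u) = true := by decide +kernel

theorem o1_199 : allRange 102087 513 (fun u => chkO1 tab orb u) = true := by decide +kernel


end Cfsg.Agent.Helper9.TCData.ONC0
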