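import Cfsg.Agent.Lib.Helper9.TCData.ONC0.Main

set_option autoImplicit false
set_option maxRecDepth 1000000

namespace Cfsg.Agent.Helper9.TCData.ONC0
open Cfsg.Agent.Helper9.TC2

theorem o1_200 : allRange 102600 513 (fun u => chkO1 tab orb u) = true := by decide +kernel

theorem o1_201 : allRange 103113 513 (fun u => chkO1 tab orb u) = true := by decide +kernel

theorem o1_202 : allRange 103626 513 (fun u => chkO1 tab orb u) = true := by decide +kernel

theorem o1_203 : allRange 104139 513 (fun u => chkO1 tab orb u) = true := by decide +kernel

theorem o1_204 : allRange 104652 513 (fun u => chkO1 tab orb u) = true := by decide +kernel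

theorem o1_205 : allRange 105165 513 (fun u => chkO1 tab orb u) = true := by decide +kernel

theorem o1_206 : allRange 105678 513 (fun u => chkO1 tab orb u) = true := by decide +kernel

theorem o1_207 : allRange 106191 513 (fun u => chkO1 tab orb u) = true := by decide +kernel


end Cfsg.Agent.Helper9.TCData.ONC0
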