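import Cfsg.Agent.Lib.Helper9.TCData.ONC0.Main

set_option autoImplicit false
set_option maxRecDepth 1000000

namespace Cfsg.Agent.Helper9.TCData.ONC0
open Cfsg.Agent.Helper9.TC2

theorem o1_208 : allRange 106704 513 (fun u => chkO1 tab orb u) = true := by decide +kernel

theorem o1_209 : allRange 107217 513 (fun u => chkO1 tab orb u) = true := by decide +kernel

theorem o1_210 : allRange 107730 513 (fun u => chkO1 tab orb u) = true := by decide +kernel

theorem o1_211 : allRange 108243 513 (fun u => chkO1 tab orb u) = true := by decide +kernel

theorem o1_212 : allRange 108756 513 (fun u => chkO1 tab orb u) = true := by decide +kernel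

theorem o1_213 : allRange 109269 513 (fun u => chkO1 tab orb u) = true := by decide +kernel

theorem o1_214 : allRange 109782 513 (fun u => chkO1 tab orb u) = true := by decide +kernel

theorem o1_215 : allRange 110295 513 (fun u => chkO1 tab orb u) = true := by decide +kernel


end Cfsg.Agent.Helper9.TCData.ONC0
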