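import Cfsg.Agent.Lib.Helper9.TCData.ONC0.Main

set_option autoImplicit false
set_option maxRecDepth 1000000

namespace Cfsg.Agent.Helper9.TCData.ONC0
open Cfsg.Agent.Helper9.TC2

theorem o1_216 : allRange 110808 513 (fun u => chkO1 tab orb u) = true := by decide +kernel

theorem o1_217 : allRange 111321 513 (fun u => chkO1 tab orb u) = true := by decide +kernel

theorem o1_218 : allRange 111834 513 (fun u => chkO1 tab orb u) = true := by decide +kernel

theorem o1_219 : allRange 112347 513 (fun u => chkO1 tab orb u) = true := by decide +kernel

theorem o1_220 : allRange 112860 513 (fun u => chkO1 tab orb u) = true := by decide +kernel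

theorem o1_221 : allRange 113373 513 (fun u => chkO1 tab orb u) = true := by decide +kernel

theorem o1_222 : allRange 113886 513 (fun u => chkO1 tab orb u) = true := by decide +kernel

theorem o1_223 : allRange 114399 513 (fun u => chkO1 tab orb u) = true := by decide +kernel


end Cfsg.Agent.Helper9.TCData.ONC0
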