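import Cfsg.Agent.Lib.Helper9.TCData.ONC0.Main

set_option autoImplicit false
set_option maxRecDepth 1000000

namespace Cfsg.Agent.Helper9.TCData.ONC0
open Cfsg.Agent.Helper9.TC2

theorem e3_60 : allRange 218799 2728 (fun u => chkE tab 3 u) = true := by decide +kernel

theorem e3_61 : allRange 221527 2807 (fun u => chkE tab 3 u) = true := by decide +kernel

theorem e3_62 : allRange 224334 3051 (fun u => chkE tab 3 u) = true := by decide +kernel

theorem e3_63 : allRange 227385 3512 (fun u => chkE tab 3 u) = true := by decide +kernel

theorem e3_64 : allRange 230897 697 (fun u => chkE tab 3 u) = true := by decide +kernel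

theorem e4_0 : allRange 0 3146 (fun u => chkE tab 4 u) = true := by decide +kernel

theorem e4_1 : allRange 3146 3453 (fun u => chkE tab 4 u) = true := by decide +kernel

theorem e4_2 : allRange 6599 3047 (fun u => chkE tab 4 u) = true := by decide +kernel


end Cfsg.Agent.Helper9.TCData.ONC0
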