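import Cfsg.Agent.Lib.Helper9.TCData.ONC0.Main

set_option autoImplicit false
set_option maxRecDepth 1000000

namespace Cfsg.Agent.Helper9.TCData.ONC0
open Cfsg.Agent.Helper9.TC2

theorem o2_24 : allRange 32016 1334 (fun u => chkO2 tab orb u) = true := by decide +kernel

theorem o2_25 : allRange 33350 1334 (fun u => chkO2 tab orb u) = true := by decide +kernel

theorem o2_26 : allRange 34684 1334 (fun u => chkO2 tab orb u) = true := by decide +kernel

theorem o2_27 : allRange 36018 1334 (fun u => chkO2 tab orb u) = true := by decide +kernel

theorem o2_28 : allRange 37352 1334 (fun u => chkO2 tab orb u) = true := by decide +kernel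

theorem o2_29 : allRange 38686 1334 (fun u => chkO2 tab orb u) = true := by decide +kernel

theorem o2_30 : allRange 40020 1334 (fun u => chkO2 tab orb u) = true := by decide +kernel

theorem o2_31 : allRange 41354 1334 (fun u => chkO2 tab orb u) = true := by decide +kernel


end Cfsg.Agent.Helper9.TCData.ONC0
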