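import Cfsg.Agent.Lib.Helper9.TCData.ONC0.Main

set_option autoImplicit false
set_option maxRecDepth 1000000

namespace Cfsg.Agent.Helper9.TCData.ONC0
open Cfsg.Agent.Helper9.TC2

theorem o2_40 : allRange 53360 1334 (fun u => chkO2 tab orb u) = true := by decide +kernel

theorem o2_41 : allRange 54694 1334 (fun u => chkO2 tab orb u) = true := by decide +kernel

theorem o2_42 : allRange 56028 1334 (fun u => chkO2 tab orb u) = true := by decide +kernel

theorem o2_43 : allRange 57362 1334 (fun u => chkO2 tab orb u) = true := by decide +kernel

theorem o2_44 : allRange 58696 1334 (fun u => chkO2 tab orb u) = true := by decide +kernel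

theorem o2_45 : allRange 60030 1334 (fun u => chkO2 tab orb u) = true := by decide +kernel

theorem o2_46 : allRange 61364 1334 (fun u => chkO2 tab orb u) = true := by decide +kernel

theorem o2_47 : allRange 62698 1334 (fun u => chkO2 tab orb u) = true := by decide +kernel


end Cfsg.Agent.Helper9.TCData.ONC0
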