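import Cfsg.Agent.Lib.Helper9.TCData.ONC0.Main

set_option autoImplicit false
set_option maxRecDepth 1000000

namespace Cfsg.Agent.Helper9.TCData.ONC0
open Cfsg.Agent.Helper9.TC2

theorem o2_48 : allRange 64032 1334 (fun u => chkO2 tab orb u) = true := by decide +kernel

theorem o2_49 : allRange 65366 1334 (fun u => chkO2 tab orb u) = true := by decide +kernel

theorem o2_50 : allRange 66700 1334 (fun u => chkO2 tab orb u) = true := by decide +kernel

theorem o2_51 : allRange 68034 1334 (fun u => chkO2 tab orb u) = true := by decide +kernel

theorem o2_52 : allRange 69368 1334 (fun u => chkO2 tab orb u) = true := by decide +kernel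

theorem o2_53 : allRange 70702 1334 (fun u => chkO2 tab orb u) = true := by decide +kernel

theorem o2_54 : allRange 72036 1334 (fun u => chkO2 tab orb u) = true := by decide +kernel

theorem o2_55 : allRange 73370 1334 (fun u => chkO2 tab orb u) = true := by decide +kernel


end Cfsg.Agent.Helper9.TCData.ONC0
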