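import Cfsg.Agent.Lib.Helper9.TCData.ONC0.Main

set_option autoImplicit false
set_option maxRecDepth 1000000

namespace Cfsg.Agent.Helper9.TCData.ONC0
open Cfsg.Agent.Helper9.TC2

theorem o2_64 : allRange 85376 1334 (fun u => chkO2 tab orb u) = true := by decide +kernel

theorem o2_65 : allRange 86710 1334 (fun u => chkO2 tab orb u) = true := by decide +kernel

theorem o2_66 : allRange 88044 1334 (fun u => chkO2 tab orb u) = true := by decide +kernel

theorem o2_67 : allRange 89378 1334 (fun u => chkO2 tab orb u) = true := by decide +kernel

theorem o2_68 : allRange 90712 1334 (fun u => chkO2 tab orb u) = true := by decide +kernel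

theorem o2_69 : allRange 92046 1334 (fun u => chkO2 tab orb u) = true := by decide +kernel

theorem o2_70 : allRange 93380 1334 (fun u => chkO2 tab orb u) = true := by decide +kernel

theorem o2_71 : allRange 94714 1334 (fun u => chkO2 tab orb u) = true := by decide +kernel


end Cfsg.Agent.Helper9.TCData.ONC0
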