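import Cfsg.Agent.Lib.Helper9.TCData.ONC0.Main

set_option autoImplicit false
set_option maxRecDepth 1000000

namespace Cfsg.Agent.Helper9.TCData.ONC0
open Cfsg.Agent.Helper9.TC2

theorem e4_3 : allRange 9646 3003 (fun u => chkE tab 4 u) = true := by decide +kernel

theorem e4_4 : allRange 12649 2992 (fun u => chkE tab 4 u) = true := by decide +kernel

theorem e4_5 : allRange 15641 3222 (fun u => chkE tab 4 u) = true := by decide +kernel

theorem e4_6 : allRange 18863 3143 (fun u => chkE tab 4 u) = true := by decide +kernel

theorem e4_7 : allRange 22006 3076 (fun u => chkE tab 4 u) = true := by decide +kernel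

theorem e4_8 : allRange 25082 2573 (fun u => chkE tab 4 u) = true := by decide +kernel

theorem e4_9 : allRange 27655 2895 (fun u => chkE tab 4 u) = true := by decide +kernel

theorem e4_10 : allRange 30550 2674 (fun u => chkE tab 4 u) = true := by decide +kernel


end Cfsg.Agent.Helper9.TCData.ONC0
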