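import Cfsg.Agent.Lib.Helper9.TCData.ONC0.Main

set_option autoImplicit false
set_option maxRecDepth 1000000

namespace Cfsg.Agent.Helper9.TCData.ONC0
open Cfsg.Agent.Helper9.TC2

theorem o2_88 : allRange 117392 1334 (fun u => chkO2 tab orb u) = true := by decide +kernel

theorem o2_89 : allRange 118726 1334 (fun u => chkO2 tab orb u) = true := by decide +kernel

theorem o2_90 : allRange 120060 1334 (fun u => chkO2 tab orb u) = true := by decide +kernel

theorem o2_91 : allRange 121394 1334 (fun u => chkO2 tab orb u) = true := by decide +kernel

theorem o2_92 : allRange 122728 32 (fun u => chkO2 tab orb u) = true := by decide +kernel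


end Cfsg.Agent.Helper9.TCData.ONC0
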