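import Cfsg.Agent.Lib.Helper9.TCData.ONC0.Main

set_option autoImplicit false
set_option maxRecDepth 1000000

namespace Cfsg.Agent.Helper9.TCData.ONC0
open Cfsg.Agent.Helper9.TC2

theorem sl_0 : allRange 0 18 (fun u => chkSlp tab slp u) = true := by decide +kernel

theorem sl_1 : allRange 18 18 (fun u => chkSlp tab slp u) = true := by decide +kernel

theorem sl_2 : allRange 36 18 (fun u => chkSlp tab slp u) = true := by decide +kernel

theorem sl_3 : allRange 54 18 (fun u => chkSlp tab slp u) = true := by decide +kernel

theorem sl_4 : allRange 72 18 (fun u => chkSlp tab slp u) = true := by decide +kernel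

theorem sl_5 : allRange 90 18 (fun u => chkSlp tab slp u) = true := by decide +kernel

theorem sl_6 : allRange 108 18 (fun u => chkSlp tab slp u) = true := by decide +kernel

theorem sl_7 : allRange 126 18 (fun u => chkSlp tab slp u) = true := by decide +kernel


end Cfsg.Agent.Helper9.TCData.ONC0
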