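import Cfsg.Agent.Lib.Helper9.TCData.ONC0.Main

set_option autoImplicit false
set_option maxRecDepth 1000000

namespace Cfsg.Agent.Helper9.TCData.ONC0
open Cfsg.Agent.Helper9.TC2

theorem sl_40 : allRange 720 18 (fun u => chkSlp tab slp u) = true := by decide +kernel

theorem sl_41 : allRange 738 18 (fun u => chkSlp tab slp u) = true := by decide +kernel

theorem sl_42 : allRange 756 18 (fun u => chkSlp tab slp u) = true := by decide +kernel

theorem sl_43 : allRange 774 18 (fun u => chkSlp tab slp u) = true := by decide +kernel

theorem sl_44 : allRange 792 18 (fun u => chkSlp tab slp u) = true := by decide +kernel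

theorem sl_45 : allRange 810 18 (fun u => chkSlp tab slp u) = true := by decide +kernel

theorem sl_46 : allRange 828 18 (fun u => chkSlp tab slp u) = true := by decide +kernel

theorem sl_47 : allRange 846 18 (fun u => chkSlp tab slp u) = true := by decide +kernel


end Cfsg.Agent.Helper9.TCData.ONC0
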