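import Cfsg.Agent.Lib.Helper9.TCData.ONC0.Main

set_option autoImplicit false
set_option maxRecDepth 1000000

namespace Cfsg.Agent.Helper9.TCData.ONC0
open Cfsg.Agent.Helper9.TC2

theorem sl_48 : allRange 864 18 (fun u => chkSlp tab slp u) = true := by decide +kernel

theorem sl_49 : allRange 882 18 (fun u => chkSlp tab slp u) = true := by decide +kernel

theorem sl_50 : allRange 900 18 (fun u => chkSlp tab slp u) = true := by decide +kernel

theorem sl_51 : allRange 918 18 (fun u => chkSlp tab slp u) = true := by decide +kernel

theorem sl_52 : allRange 936 18 (fun u => chkSlp tab slp u) = true := by decide +kernel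

theorem sl_53 : allRange 954 18 (fun u => chkSlp tab slp u) = true := by decide +kernel

theorem sl_54 : allRange 972 18 (fun u => chkSlp tab slp u) = true := by decide +kernel

theorem sl_55 : allRange 990 18 (fun u => chkSlp tab slp u) = true := by decide +kernel


end Cfsg.Agent.Helper9.TCData.ONC0
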