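import Cfsg.Agent.Lib.Helper9.TCData.ONC0.Main

set_option autoImplicit false
set_option maxRecDepth 1000000

namespace Cfsg.Agent.Helper9.TCData.ONC0
open Cfsg.Agent.Helper9.TC2

theorem sl_72 : allRange 1296 18 (fun u => chkSlp tab slp u) = true := by decide +kernel

theorem sl_73 : allRange 1314 18 (fun u => chkSlp tab slp u) = true := by decide +kernel

theorem sl_74 : allRange 1332 18 (fun u => chkSlp tab slp u) = true := by decide +kernel

theorem sl_75 : allRange 1350 18 (fun u => chkSlp tab slp u) = true := by decide +kernel

theorem sl_76 : allRange 1368 18 (fun u => chkSlp tab slp u) = true := by decide +kernel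

theorem sl_77 : allRange 1386 18 (fun u => chkSlp tab slp u) = true := by decide +kernel

theorem sl_78 : allRange 1404 18 (fun u => chkSlp tab slp u) = true := by decide +kernel

theorem sl_79 : allRange 1422 18 (fun u => chkSlp tab slp u) = true := by decide +kernel


end Cfsg.Agent.Helper9.TCData.ONC0
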