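import Cfsg.Agent.Lib.Helper9.TCData.ONC0.Main

set_option autoImplicit false
set_option maxRecDepth 1000000

namespace Cfsg.Agent.Helper9.TCData.ONC0
open Cfsg.Agent.Helper9.TC2

theorem sl_96 : allRange 1728 18 (fun u => chkSlp tab slp u) = true := by decide +kernel

theorem sl_97 : allRange 1746 18 (fun u => chkSlp tab slp u) = true := by decide +kernel

theorem sl_98 : allRange 1764 18 (fun u => chkSlp tab slp u) = true := by decide +kernel

theorem sl_99 : allRange 1782 18 (fun u => chkSlp tab slp u) = true := by decide +kernel

theorem sl_100 : allRange 1800 18 (fun u => chkSlp tab slp u) = true := by decide +kernel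

theorem sl_101 : allRange 1818 18 (fun u => chkSlp tab slp u) = true := by decide +kernel

theorem sl_102 : allRange 1836 18 (fun u => chkSlp tab slp u) = true := by decide +kernel

theorem sl_103 : allRange 1854 18 (fun u => chkSlp tab slp u) = true := by decide +kernel


end Cfsg.Agent.Helper9.TCData.ONC0
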