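import Cfsg.Agent.Lib.Helper9.TCData.ONC0.Main

set_option autoImplicit false
set_option maxRecDepth 1000000

namespace Cfsg.Agent.Helper9.TCData.ONC0
open Cfsg.Agent.Helper9.TC2

theorem sl_112 : allRange 2016 18 (fun u => chkSlp tab slp u) = true := by decide +kernel

theorem sl_113 : allRange 2034 18 (fun u => chkSlp tab slp u) = true := by decide +kernel

theorem sl_114 : allRange 2052 18 (fun u => chkSlp tab slp u) = true := by decide +kernel

theorem sl_115 : allRange 2070 18 (fun u => chkSlp tab slp u) = true := by decide +kernel

theorem sl_116 : allRange 2088 18 (fun u => chkSlp tab slp u) = true := by decide +kernel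

theorem sl_117 : allRange 2106 18 (fun u => chkSlp tab slp u) = true := by decide +kernel

theorem sl_118 : allRange 2124 18 (fun u => chkSlp tab slp u) = true := by decide +kernel

theorem sl_119 : allRange 2142 18 (fun u => chkSlp tab slp u) = true := by decide +kernel


end Cfsg.Agent.Helper9.TCData.ONC0
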