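import Cfsg.Agent.Lib.Helper9.TCData.ONC0.Main

set_option autoImplicit false
set_option maxRecDepth 1000000

namespace Cfsg.Agent.Helper9.TCData.ONC0
open Cfsg.Agent.Helper9.TC2

theorem sl_120 : allRange 2160 18 (fun u => chkSlp tab slp u) = true := by decide +kernel

theorem sl_121 : allRange 2178 18 (fun u => chkSlp tab slp u) = true := by decide +kernel

theorem sl_122 : allRange 2196 18 (fun u => chkSlp tab slp u) = true := by decide +kernel

theorem sl_123 : allRange 2214 18 (fun u => chkSlp tab slp u) = true := by decide +kernel

theorem sl_124 : allRange 2232 18 (fun u => chkSlp tab slp u) = true := by decide +kernel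

theorem sl_125 : allRange 2250 18 (fun u => chkSlp tab slp u) = true := by decide +kernel

theorem sl_126 : allRange 2268 18 (fun u => chkSlp tab slp u) = true := by decide +kernel

theorem sl_127 : allRange 2286 18 (fun u => chkSlp tab slp u) = true := by decide +kernel


end Cfsg.Agent.Helper9.TCData.ONC0
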