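import Cfsg.Agent.Lib.Helper9.TCData.ONC0.Main

set_option autoImplicit false
set_option maxRecDepth 1000000

namespace Cfsg.Agent.Helper9.TCData.ONC0
open Cfsg.Agent.Helper9.TC2

theorem sl_136 : allRange 2448 18 (fun u => chkSlp tab slp u) = true := by decide +kernel

theorem sl_137 : allRange 2466 18 (fun u => chkSlp tab slp u) = true := by decide +kernel

theorem sl_138 : allRange 2484 18 (fun u => chkSlp tab slp u) = true := by decide +kernel

theorem sl_139 : allRange 2502 18 (fun u => chkSlp tab slp u) = true := by decide +kernel

theorem sl_140 : allRange 2520 18 (fun u => chkSlp tab slp u) = true := by decide +kernel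

theorem sl_141 : allRange 2538 18 (fun u => chkSlp tab slp u) = true := by decide +kernel

theorem sl_142 : allRange 2556 18 (fun u => chkSlp tab slp u) = true := by decide +kernel

theorem sl_143 : allRange 2574 18 (fun u => chkSlp tab slp u) = true := by decide +kernel


end Cfsg.Agent.Helper9.TCData.ONC0
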