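import Cfsg.Agent.Lib.Helper9.TCData.ONC0.Main

set_option autoImplicit false
set_option maxRecDepth 1000000

namespace Cfsg.Agent.Helper9.TCData.ONC0
open Cfsg.Agent.Helper9.TC2

theorem sl_144 : allRange 2592 18 (fun u => chkSlp tab slp u) = true := by decide +kernel

theorem sl_145 : allRange 2610 18 (fun u => chkSlp tab slp u) = true := by decide +kernel

theorem sl_146 : allRange 2628 18 (fun u => chkSlp tab slp u) = true := by decide +kernel

theorem sl_147 : allRange 2646 18 (fun u => chkSlp tab slp u) = true := by decide +kernel

theorem sl_148 : allRange 2664 18 (fun u => chkSlp tab slp u) = true := by decide +kernel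

theorem sl_149 : allRange 2682 18 (fun u => chkSlp tab slp u) = true := by decide +kernel

theorem sl_150 : allRange 2700 18 (fun u => chkSlp tab slp u) = true := by decide +kernel

theorem sl_151 : allRange 2718 18 (fun u => chkSlp tab slp u) = true := by decide +kernel


end Cfsg.Agent.Helper9.TCData.ONC0
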