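import Cfsg.Agent.Lib.Helper9.TCData.ONC0.Main

set_option autoImplicit false
set_option maxRecDepth 1000000

namespace Cfsg.Agent.Helper9.TCData.ONC0
open Cfsg.Agent.Helper9.TC2

theorem sl_152 : allRange 2736 18 (fun u => chkSlp tab slp u) = true := by decide +kernel

theorem sl_153 : allRange 2754 18 (fun u => chkSlp tab slp u) = true := by decide +kernel

theorem sl_154 : allRange 2772 18 (fun u => chkSlp tab slp u) = true := by decide +kernel

theorem sl_155 : allRange 2790 18 (fun u => chkSlp tab slp u) = true := by decide +kernel

theorem sl_156 : allRange 2808 18 (fun u => chkSlp tab slp u) = true := by decide +kernel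

theorem sl_157 : allRange 2826 18 (fun u => chkSlp tab slp u) = true := by decide +kernel

theorem sl_158 : allRange 2844 18 (fun u => chkSlp tab slp u) = true := by decide +kernel

theorem sl_159 : allRange 2862 18 (fun u => chkSlp tab slp u) = true := by decide +kernel


end Cfsg.Agent.Helper9.TCData.ONC0
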