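import Cfsg.Agent.Lib.Helper9.TCData.ONC0.Main

set_option autoImplicit false
set_option maxRecDepth 1000000

namespace Cfsg.Agent.Helper9.TCData.ONC0
open Cfsg.Agent.Helper9.TC2

theorem sl_184 : allRange 3312 18 (fun u => chkSlp tab slp u) = true := by decide +kernel

theorem sl_185 : allRange 3330 18 (fun u => chkSlp tab slp u) = true := by decide +kernel

theorem sl_186 : allRange 3348 18 (fun u => chkSlp tab slp u) = true := by decide +kernel

theorem sl_187 : allRange 3366 18 (fun u => chkSlp tab slp u) = true := by decide +kernel

theorem sl_188 : allRange 3384 18 (fun u => chkSlp tab slp u) = true := by decide +kernel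

theorem sl_189 : allRange 3402 18 (fun u => chkSlp tab slp u) = true := by decide +kernel

theorem sl_190 : allRange 3420 18 (fun u => chkSlp tab slp u) = true := by decide +kernel

theorem sl_191 : allRange 3438 18 (fun u => chkSlp tab slp u) = true := by decide +kernel


end Cfsg.Agent.Helper9.TCData.ONC0
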