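import Cfsg.Agent.Lib.Helper9.TCData.ONC0.Main

set_option autoImplicit false
set_option maxRecDepth 1000000

namespace Cfsg.Agent.Helper9.TCData.ONC0
open Cfsg.Agent.Helper9.TC2

theorem sl_200 : allRange 3600 18 (fun u => chkSlp tab slp u) = true := by decide +kernel

theorem sl_201 : allRange 3618 18 (fun u => chkSlp tab slp u) = true := by decide +kernel

theorem sl_202 : allRange 3636 18 (fun u => chkSlp tab slp u) = true := by decide +kernel

theorem sl_203 : allRange 3654 18 (fun u => chkSlp tab slp u) = true := by decide +kernel

theorem sl_204 : allRange 3672 18 (fun u => chkSlp tab slp u) = true := by decide +kernel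

theorem sl_205 : allRange 3690 18 (fun u => chkSlp tab slp u) = true := by decide +kernel

theorem sl_206 : allRange 3708 18 (fun u => chkSlp tab slp u) = true := by decide +kernel

theorem sl_207 : allRange 3726 18 (fun u => chkSlp tab slp u) = true := by decide +kernel


end Cfsg.Agent.Helper9.TCData.ONC0
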