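import Cfsg.Agent.Lib.Helper9.TCData.ONC0.Main

set_option autoImplicit false
set_option maxRecDepth 1000000

namespace Cfsg.Agent.Helper9.TCData.ONC0
open Cfsg.Agent.Helper9.TC2

theorem sl_208 : allRange 3744 18 (fun u => chkSlp tab slp u) = true := by decide +kernel

theorem sl_209 : allRange 3762 18 (fun u => chkSlp tab slp u) = true := by decide +kernel

theorem sl_210 : allRange 3780 18 (fun u => chkSlp tab slp u) = true := by decide +kernel

theorem sl_211 : allRange 3798 18 (fun u => chkSlp tab slp u) = true := by decide +kernel

theorem sl_212 : allRange 3816 18 (fun u => chkSlp tab slp u) = true := by decide +kernel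

theorem sl_213 : allRange 3834 18 (fun u => chkSlp tab slp u) = true := by decide +kernel

theorem sl_214 : allRange 3852 18 (fun u => chkSlp tab slp u) = true := by decide +kernel

theorem sl_215 : allRange 3870 18 (fun u => chkSlp tab slp u) = true := by decide +kernel


end Cfsg.Agent.Helper9.TCData.ONC0
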