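import Cfsg.Agent.Lib.Helper9.TCData.ONC0.Main

set_option autoImplicit false
set_option maxRecDepth 1000000

namespace Cfsg.Agent.Helper9.TCData.ONC0
open Cfsg.Agent.Helper9.TC2

theorem sl_216 : allRange 3888 18 (fun u => chkSlp tab slp u) = true := by decide +kernel

theorem sl_217 : allRange 3906 18 (fun u => chkSlp tab slp u) = true := by decide +kernel

theorem sl_218 : allRange 3924 18 (fun u => chkSlp tab slp u) = true := by decide +kernel

theorem sl_219 : allRange 3942 18 (fun u => chkSlp tab slp u) = true := by decide +kernel

theorem sl_220 : allRange 3960 18 (fun u => chkSlp tab slp u) = true := by decide +kernel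

theorem sl_221 : allRange 3978 18 (fun u => chkSlp tab slp u) = true := by decide +kernel

theorem sl_222 : allRange 3996 18 (fun u => chkSlp tab slp u) = true := by decide +kernel

theorem sl_223 : allRange 4014 18 (fun u => chkSlp tab slp u) = true := by decide +kernel


end Cfsg.Agent.Helper9.TCData.ONC0
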