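import Cfsg.Agent.Lib.Helper9.TCData.ONC0.Main

set_option autoImplicit false
set_option maxRecDepth 1000000

namespace Cfsg.Agent.Helper9.TCData.ONC0
open Cfsg.Agent.Helper9.TC2

theorem sl_232 : allRange 4176 18 (fun u => chkSlp tab slp u) = true := by decide +kernel

theorem sl_233 : allRange 4194 18 (fun u => chkSlp tab slp u) = true := by decide +kernel

theorem sl_234 : allRange 4212 18 (fun u => chkSlp tab slp u) = true := by decide +kernel

theorem sl_235 : allRange 4230 18 (fun u => chkSlp tab slp u) = true := by decide +kernel

theorem sl_236 : allRange 4248 18 (fun u => chkSlp tab slp u) = true := by decide +kernel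

theorem sl_237 : allRange 4266 18 (fun u => chkSlp tab slp u) = true := by decide +kernel

theorem sl_238 : allRange 4284 18 (fun u => chkSlp tab slp u) = true := by decide +kernel

theorem sl_239 : allRange 4302 18 (fun u => chkSlp tab slp u) = true := by decide +kernel


end Cfsg.Agent.Helper9.TCData.ONC0
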