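import Cfsg.Agent.Lib.Helper9.TCData.ONC0.Main

set_option autoImplicit false
set_option maxRecDepth 1000000

namespace Cfsg.Agent.Helper9.TCData.ONC0
open Cfsg.Agent.Helper9.TC2

theorem sl_240 : allRange 4320 18 (fun u => chkSlp tab slp u) = true := by decide +kernel

theorem sl_241 : allRange 4338 18 (fun u => chkSlp tab slp u) = true := by decide +kernel

theorem sl_242 : allRange 4356 18 (fun u => chkSlp tab slp u) = true := by decide +kernel

theorem sl_243 : allRange 4374 18 (fun u => chkSlp tab slp u) = true := by decide +kernel

theorem sl_244 : allRange 4392 18 (fun u => chkSlp tab slp u) = true := by decide +kernel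

theorem sl_245 : allRange 4410 18 (fun u => chkSlp tab slp u) = true := by decide +kernel

theorem sl_246 : allRange 4428 18 (fun u => chkSlp tab slp u) = true := by decide +kernel

theorem sl_247 : allRange 4446 18 (fun u => chkSlp tab slp u) = true := by decide +kernel


end Cfsg.Agent.Helper9.TCData.ONC0
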