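import Cfsg.Agent.Lib.Helper9.TCData.ONC0.Main

set_option autoImplicit false
set_option maxRecDepth 1000000

namespace Cfsg.Agent.Helper9.TCData.ONC0
open Cfsg.Agent.Helper9.TC2

theorem sl_248 : allRange 4464 18 (fun u => chkSlp tab slp u) = true := by decide +kernel

theorem sl_249 : allRange 4482 18 (fun u => chkSlp tab slp u) = true := by decide +kernel

theorem sl_250 : allRange 4500 18 (fun u => chkSlp tab slp u) = true := by decide +kernel

theorem sl_251 : allRange 4518 18 (fun u => chkSlp tab slp u) = true := by decide +kernel

theorem sl_252 : allRange 4536 18 (fun u => chkSlp tab slp u) = true := by decide +kernel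

theorem sl_253 : allRange 4554 18 (fun u => chkSlp tab slp u) = true := by decide +kernel

theorem sl_254 : allRange 4572 18 (fun u => chkSlp tab slp u) = true := by decide +kernel

theorem sl_255 : allRange 4590 18 (fun u => chkSlp tab slp u) = true := by decide +kernel


end Cfsg.Agent.Helper9.TCData.ONC0
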