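import Cfsg.Agent.Lib.Helper9.TCData.ONC0.Main

set_option autoImplicit false
set_option maxRecDepth 1000000

namespace Cfsg.Agent.Helper9.TCData.ONC0
open Cfsg.Agent.Helper9.TC2

theorem sl_264 : allRange 4752 18 (fun u => chkSlp tab slp u) = true := by decide +kernel

theorem sl_265 : allRange 4770 18 (fun u => chkSlp tab slp u) = true := by decide +kernel

theorem sl_266 : allRange 4788 18 (fun u => chkSlp tab slp u) = true := by decide +kernel

theorem sl_267 : allRange 4806 18 (fun u => chkSlp tab slp u) = true := by decide +kernel

theorem sl_268 : allRange 4824 18 (fun u => chkSlp tab slp u) = true := by decide +kernel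

theorem sl_269 : allRange 4842 18 (fun u => chkSlp tab slp u) = true := by decide +kernel

theorem sl_270 : allRange 4860 18 (fun u => chkSlp tab slp u) = true := by decide +kernel

theorem sl_271 : allRange 4878 18 (fun u => chkSlp tab slp u) = true := by decide +kernel


end Cfsg.Agent.Helper9.TCData.ONC0
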