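import Cfsg.Agent.Lib.Helper9.TCData.ONC0.Main

set_option autoImplicit false
set_option maxRecDepth 1000000

namespace Cfsg.Agent.Helper9.TCData.ONC0
open Cfsg.Agent.Helper9.TC2

theorem e4_35 : allRange 106988 2868 (fun u => chkE tab 4 u) = true := by decide +kernel

theorem e4_36 : allRange 109856 3119 (fun u => chkE tab 4 u) = true := by decide +kernel

theorem e4_37 : allRange 112975 3043 (fun u => chkE tab 4 u) = true := by decide +kernel

theorem e4_38 : allRange 116018 3170 (fun u => chkE tab 4 u) = true := by decide +kernel

theorem e4_39 : allRange 119188 3705 (fun u => chkE tab 4 u) = true := by decide +kernel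

theorem e4_40 : allRange 122893 3745 (fun u => chkE tab 4 u) = true := by decide +kernel

theorem e4_41 : allRange 126638 2939 (fun u => chkE tab 4 u) = true := by decide +kernel

theorem e4_42 : allRange 129577 2901 (fun u => chkE tab 4 u) = true := by decide +kernel


end Cfsg.Agent.Helper9.TCData.ONC0
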