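import Cfsg.Agent.Lib.Helper9.TCData.ONC0.Main

set_option autoImplicit false
set_option maxRecDepth 1000000

namespace Cfsg.Agent.Helper9.TCData.ONC0
open Cfsg.Agent.Helper9.TC2

theorem sl_288 : allRange 5184 18 (fun u => chkSlp tab slp u) = true := by decide +kernel

theorem sl_289 : allRange 5202 18 (fun u => chkSlp tab slp u) = true := by decide +kernel

theorem sl_290 : allRange 5220 18 (fun u => chkSlp tab slp u) = true := by decide +kernel

theorem sl_291 : allRange 5238 18 (fun u => chkSlp tab slp u) = true := by decide +kernel

theorem sl_292 : allRange 5256 18 (fun u => chkSlp tab slp u) = true := by decide +kernel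

theorem sl_293 : allRange 5274 18 (fun u => chkSlp tab slp u) = true := by decide +kernel

theorem sl_294 : allRange 5292 18 (fun u => chkSlp tab slp u) = true := by decide +kernel

theorem sl_295 : allRange 5310 18 (fun u => chkSlp tab slp u) = true := by decide +kernel


end Cfsg.Agent.Helper9.TCData.ONC0
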