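import Cfsg.Agent.Lib.Helper9.TCData.ONC0.Main

set_option autoImplicit false
set_option maxRecDepth 1000000

namespace Cfsg.Agent.Helper9.TCData.ONC0
open Cfsg.Agent.Helper9.TC2

theorem sl_296 : allRange 5328 18 (fun u => chkSlp tab slp u) = true := by decide +kernel

theorem sl_297 : allRange 5346 18 (fun u => chkSlp tab slp u) = true := by decide +kernel

theorem sl_298 : allRange 5364 18 (fun u => chkSlp tab slp u) = true := by decide +kernel

theorem sl_299 : allRange 5382 18 (fun u => chkSlp tab slp u) = true := by decide +kernel

theorem sl_300 : allRange 5400 18 (fun u => chkSlp tab slp u) = true := by decide +kernel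

theorem sl_301 : allRange 5418 18 (fun u => chkSlp tab slp u) = true := by decide +kernel

theorem sl_302 : allRange 5436 18 (fun u => chkSlp tab slp u) = true := by decide +kernel

theorem sl_303 : allRange 5454 18 (fun u => chkSlp tab slp u) = true := by decide +kernel


end Cfsg.Agent.Helper9.TCData.ONC0
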