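import Cfsg.Agent.Lib.Helper9.TCData.ONC0.Main

set_option autoImplicit false
set_option maxRecDepth 1000000

namespace Cfsg.Agent.Helper9.TCData.ONC0
open Cfsg.Agent.Helper9.TC2

theorem sl_304 : allRange 5472 18 (fun u => chkSlp tab slp u) = true := by decide +kernel

theorem sl_305 : allRange 5490 18 (fun u => chkSlp tab slp u) = true := by decide +kernel

theorem sl_306 : allRange 5508 18 (fun u => chkSlp tab slp u) = true := by decide +kernel

theorem sl_307 : allRange 5526 18 (fun u => chkSlp tab slp u) = true := by decide +kernel

theorem sl_308 : allRange 5544 18 (fun u => chkSlp tab slp u) = true := by decide +kernel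

theorem sl_309 : allRange 5562 18 (fun u => chkSlp tab slp u) = true := by decide +kernel

theorem sl_310 : allRange 5580 18 (fun u => chkSlp tab slp u) = true := by decide +kernel

theorem sl_311 : allRange 5598 18 (fun u => chkSlp tab slp u) = true := by decide +kernel


end Cfsg.Agent.Helper9.TCData.ONC0
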