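import Cfsg.Agent.Lib.Helper9.TCData.ONC0.Main

set_option autoImplicit false
set_option maxRecDepth 1000000

namespace Cfsg.Agent.Helper9.TCData.ONC0
open Cfsg.Agent.Helper9.TC2

theorem sl_320 : allRange 5760 18 (fun u => chkSlp tab slp u) = true := by decide +kernel

theorem sl_321 : allRange 5778 18 (fun u => chkSlp tab slp u) = true := by decide +kernel

theorem sl_322 : allRange 5796 18 (fun u => chkSlp tab slp u) = true := by decide +kernel

theorem sl_323 : allRange 5814 18 (fun u => chkSlp tab slp u) = true := by decide +kernel

theorem sl_324 : allRange 5832 18 (fun u => chkSlp tab slp u) = true := by decide +kernel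

theorem sl_325 : allRange 5850 18 (fun u => chkSlp tab slp u) = true := by decide +kernel

theorem sl_326 : allRange 5868 18 (fun u => chkSlp tab slp u) = true := by decide +kernel

theorem sl_327 : allRange 5886 18 (fun u => chkSlp tab slp u) = true := by decide +kernel


end Cfsg.Agent.Helper9.TCData.ONC0
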