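import Cfsg.Agent.Lib.Helper9.TCData.ONC0.Main

set_option autoImplicit false
set_option maxRecDepth 1000000

namespace Cfsg.Agent.Helper9.TCData.ONC0
open Cfsg.Agent.Helper9.TC2

theorem sl_328 : allRange 5904 18 (fun u => chkSlp tab slp u) = true := by decide +kernel

theorem sl_329 : allRange 5922 18 (fun u => chkSlp tab slp u) = true := by decide +kernel

theorem sl_330 : allRange 5940 18 (fun u => chkSlp tab slp u) = true := by decide +kernel

theorem sl_331 : allRange 5958 18 (fun u => chkSlp tab slp u) = true := by decide +kernel

theorem sl_332 : allRange 5976 18 (fun u => chkSlp tab slp u) = true := by decide +kernel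

theorem sl_333 : allRange 5994 18 (fun u => chkSlp tab slp u) = true := by decide +kernel

theorem sl_334 : allRange 6012 18 (fun u => chkSlp tab slp u) = true := by decide +kernel

theorem sl_335 : allRange 6030 18 (fun u => chkSlp tab slp u) = true := by decide +kernel


end Cfsg.Agent.Helper9.TCData.ONC0
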