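import Cfsg.Agent.Lib.Helper9.TCData.ONC0.Main

set_option autoImplicit false
set_option maxRecDepth 1000000

namespace Cfsg.Agent.Helper9.TCData.ONC0
open Cfsg.Agent.Helper9.TC2

theorem sl_336 : allRange 6048 18 (fun u => chkSlp tab slp u) = true := by decide +kernel

theorem sl_337 : allRange 6066 18 (fun u => chkSlp tab slp u) = true := by decide +kernel

theorem sl_338 : allRange 6084 18 (fun u => chkSlp tab slp u) = true := by decide +kernel

theorem sl_339 : allRange 6102 18 (fun u => chkSlp tab slp u) = true := by decide +kernel

theorem sl_340 : allRange 6120 18 (fun u => chkSlp tab slp u) = true := by decide +kernel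

theorem sl_341 : allRange 6138 18 (fun u => chkSlp tab slp u) = true := by decide +kernel

theorem sl_342 : allRange 6156 18 (fun u => chkSlp tab slp u) = true := by decide +kernel

theorem sl_343 : allRange 6174 18 (fun u => chkSlp tab slp u) = true := by decide +kernel


end Cfsg.Agent.Helper9.TCData.ONC0
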