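import Cfsg.Agent.Lib.Helper9.TCData.ONC0.Main

set_option autoImplicit false
set_option maxRecDepth 1000000

namespace Cfsg.Agent.Helper9.TCData.ONC0
open Cfsg.Agent.Helper9.TC2

theorem sl_344 : allRange 6192 18 (fun u => chkSlp tab slp u) = true := by decide +kernel

theorem sl_345 : allRange 6210 18 (fun u => chkSlp tab slp u) = true := by decide +kernel

theorem sl_346 : allRange 6228 18 (fun u => chkSlp tab slp u) = true := by decide +kernel

theorem sl_347 : allRange 6246 18 (fun u => chkSlp tab slp u) = true := by decide +kernel

theorem sl_348 : allRange 6264 18 (fun u => chkSlp tab slp u) = true := by decide +kernel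

theorem sl_349 : allRange 6282 18 (fun u => chkSlp tab slp u) = true := by decide +kernel

theorem sl_350 : allRange 6300 18 (fun u => chkSlp tab slp u) = true := by decide +kernel

theorem sl_351 : allRange 6318 18 (fun u => chkSlp tab slp u) = true := by decide +kernel


end Cfsg.Agent.Helper9.TCData.ONC0
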