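import Cfsg.Agent.Lib.Helper9.TCData.ONC0.Main

set_option autoImplicit false
set_option maxRecDepth 1000000

namespace Cfsg.Agent.Helper9.TCData.ONC0
open Cfsg.Agent.Helper9.TC2

theorem e4_43 : allRange 132478 3113 (fun u => chkE tab 4 u) = true := by decide +kernel

theorem e4_44 : allRange 135591 3179 (fun u => chkE tab 4 u) = true := by decide +kernel

theorem e4_45 : allRange 138770 3225 (fun u => chkE tab 4 u) = true := by decide +kernel

theorem e4_46 : allRange 141995 3839 (fun u => chkE tab 4 u) = true := by decide +kernel

theorem e4_47 : allRange 145834 4265 (fun u => chkE tab 4 u) = true := by decide +kernel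

theorem e4_48 : allRange 150099 4516 (fun u => chkE tab 4 u) = true := by decide +kernel

theorem e4_49 : allRange 154615 3709 (fun u => chkE tab 4 u) = true := by decide +kernel

theorem e4_50 : allRange 158324 4244 (fun u => chkE tab 4 u) = true := by decide +kernel


end Cfsg.Agent.Helper9.TCData.ONC0
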