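import Cfsg.Agent.Lib.Helper9.TCData.ONC0.Main

set_option autoImplicit false
set_option maxRecDepth 1000000

namespace Cfsg.Agent.Helper9.TCData.ONC0
open Cfsg.Agent.Helper9.TC2

theorem sl_360 : allRange 6480 18 (fun u => chkSlp tab slp u) = true := by decide +kernel

theorem sl_361 : allRange 6498 18 (fun u => chkSlp tab slp u) = true := by decide +kernel

theorem sl_362 : allRange 6516 18 (fun u => chkSlp tab slp u) = true := by decide +kernel

theorem sl_363 : allRange 6534 18 (fun u => chkSlp tab slp u) = true := by decide +kernel

theorem sl_364 : allRange 6552 18 (fun u => chkSlp tab slp u) = true := by decide +kernel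

theorem sl_365 : allRange 6570 18 (fun u => chkSlp tab slp u) = true := by decide +kernel

theorem sl_366 : allRange 6588 18 (fun u => chkSlp tab slp u) = true := by decide +kernel

theorem sl_367 : allRange 6606 18 (fun u => chkSlp tab slp u) = true := by decide +kernel


end Cfsg.Agent.Helper9.TCData.ONC0
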