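import Cfsg.Agent.Lib.Helper9.TCData.ONC0.Main

set_option autoImplicit false
set_option maxRecDepth 1000000

namespace Cfsg.Agent.Helper9.TCData.ONC0
open Cfsg.Agent.Helper9.TC2

theorem sl_368 : allRange 6624 18 (fun u => chkSlp tab slp u) = true := by decide +kernel

theorem sl_369 : allRange 6642 18 (fun u => chkSlp tab slp u) = true := by decide +kernel

theorem sl_370 : allRange 6660 18 (fun u => chkSlp tab slp u) = true := by decide +kernel

theorem sl_371 : allRange 6678 18 (fun u => chkSlp tab slp u) = true := by decide +kernel

theorem sl_372 : allRange 6696 18 (fun u => chkSlp tab slp u) = true := by decide +kernel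

theorem sl_373 : allRange 6714 18 (fun u => chkSlp tab slp u) = true := by decide +kernel

theorem sl_374 : allRange 6732 18 (fun u => chkSlp tab slp u) = true := by decide +kernel

theorem sl_375 : allRange 6750 18 (fun u => chkSlp tab slp u) = true := by decide +kernel


end Cfsg.Agent.Helper9.TCData.ONC0
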