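import Cfsg.Agent.Lib.Helper9.TCData.ONC0.Main

set_option autoImplicit false
set_option maxRecDepth 1000000

namespace Cfsg.Agent.Helper9.TCData.ONC0
open Cfsg.Agent.Helper9.TC2

theorem sl_376 : allRange 6768 18 (fun u => chkSlp tab slp u) = true := by decide +kernel

theorem sl_377 : allRange 6786 18 (fun u => chkSlp tab slp u) = true := by decide +kernel

theorem sl_378 : allRange 6804 18 (fun u => chkSlp tab slp u) = true := by decide +kernel

theorem sl_379 : allRange 6822 18 (fun u => chkSlp tab slp u) = true := by decide +kernel

theorem sl_380 : allRange 6840 18 (fun u => chkSlp tab slp u) = true := by decide +kernel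

theorem sl_381 : allRange 6858 18 (fun u => chkSlp tab slp u) = true := by decide +kernel

theorem sl_382 : allRange 6876 18 (fun u => chkSlp tab slp u) = true := by decide +kernel

theorem sl_383 : allRange 6894 18 (fun u => chkSlp tab slp u) = true := by decide +kernel


end Cfsg.Agent.Helper9.TCData.ONC0
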