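import Cfsg.Agent.Lib.Helper9.TCData.ONC0.Main

set_option autoImplicit false
set_option maxRecDepth 1000000

namespace Cfsg.Agent.Helper9.TCData.ONC0
open Cfsg.Agent.Helper9.TC2

theorem sl_384 : allRange 6912 18 (fun u => chkSlp tab slp u) = true := by decide +kernel

theorem sl_385 : allRange 6930 18 (fun u => chkSlp tab slp u) = true := by decide +kernel

theorem sl_386 : allRange 6948 18 (fun u => chkSlp tab slp u) = true := by decide +kernel

theorem sl_387 : allRange 6966 18 (fun u => chkSlp tab slp u) = true := by decide +kernel

theorem sl_388 : allRange 6984 18 (fun u => chkSlp tab slp u) = true := by decide +kernel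

theorem sl_389 : allRange 7002 18 (fun u => chkSlp tab slp u) = true := by decide +kernel

theorem sl_390 : allRange 7020 18 (fun u => chkSlp tab slp u) = true := by decide +kernel

theorem sl_391 : allRange 7038 18 (fun u => chkSlp tab slp u) = true := by decide +kernel


end Cfsg.Agent.Helper9.TCData.ONC0
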