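import Cfsg.Agent.Lib.Helper9.TCData.ONC0.Main

set_option autoImplicit false
set_option maxRecDepth 1000000

namespace Cfsg.Agent.Helper9.TCData.ONC0
open Cfsg.Agent.Helper9.TC2

theorem sl_400 : allRange 7200 18 (fun u => chkSlp tab slp u) = true := by decide +kernel

theorem sl_401 : allRange 7218 18 (fun u => chkSlp tab slp u) = true := by decide +kernel

theorem sl_402 : allRange 7236 18 (fun u => chkSlp tab slp u) = true := by decide +kernel

theorem sl_403 : allRange 7254 18 (fun u => chkSlp tab slp u) = true := by decide +kernel

theorem sl_404 : allRange 7272 18 (fun u => chkSlp tab slp u) = true := by decide +kernel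

theorem sl_405 : allRange 7290 18 (fun u => chkSlp tab slp u) = true := by decide +kernel

theorem sl_406 : allRange 7308 18 (fun u => chkSlp tab slp u) = true := by decide +kernel

theorem sl_407 : allRange 7326 18 (fun u => chkSlp tab slp u) = true := by decide +kernel


end Cfsg.Agent.Helper9.TCData.ONC0
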