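import Cfsg.Agent.Lib.Helper9.TCData.ONC0.Main

set_option autoImplicit false
set_option maxRecDepth 1000000

namespace Cfsg.Agent.Helper9.TCData.ONC0
open Cfsg.Agent.Helper9.TC2

theorem sl_408 : allRange 7344 18 (fun u => chkSlp tab slp u) = true := by decide +kernel

theorem sl_409 : allRange 7362 18 (fun u => chkSlp tab slp u) = true := by decide +kernel

theorem sl_410 : allRange 7380 18 (fun u => chkSlp tab slp u) = true := by decide +kernel

theorem sl_411 : allRange 7398 18 (fun u => chkSlp tab slp u) = true := by decide +kernel

theorem sl_412 : allRange 7416 18 (fun u => chkSlp tab slp u) = true := by decide +kernel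

theorem sl_413 : allRange 7434 18 (fun u => chkSlp tab slp u) = true := by decide +kernel

theorem sl_414 : allRange 7452 18 (fun u => chkSlp tab slp u) = true := by decide +kernel

theorem sl_415 : allRange 7470 18 (fun u => chkSlp tab slp u) = true := by decide +kernel


end Cfsg.Agent.Helper9.TCData.ONC0
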