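import Cfsg.Agent.Lib.Helper9.TCData.ONC0.Main

set_option autoImplicit false
set_option maxRecDepth 1000000

namespace Cfsg.Agent.Helper9.TCData.ONC0
open Cfsg.Agent.Helper9.TC2

theorem sl_432 : allRange 7776 18 (fun u => chkSlp tab slp u) = true := by decide +kernel

theorem sl_433 : allRange 7794 18 (fun u => chkSlp tab slp u) = true := by decide +kernel

theorem sl_434 : allRange 7812 18 (fun u => chkSlp tab slp u) = true := by decide +kernel

theorem sl_435 : allRange 7830 18 (fun u => chkSlp tab slp u) = true := by decide +kernel

theorem sl_436 : allRange 7848 18 (fun u => chkSlp tab slp u) = true := by decide +kernel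

theorem sl_437 : allRange 7866 18 (fun u => chkSlp tab slp u) = true := by decide +kernel

theorem sl_438 : allRange 7884 18 (fun u => chkSlp tab slp u) = true := by decide +kernel

theorem sl_439 : allRange 7902 18 (fun u => chkSlp tab slp u) = true := by decide +kernel


end Cfsg.Agent.Helper9.TCData.ONC0
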