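import Cfsg.Agent.Lib.Helper9.TCData.ONC0.Main

set_option autoImplicit false
set_option maxRecDepth 1000000

namespace Cfsg.Agent.Helper9.TCData.ONC0
open Cfsg.Agent.Helper9.TC2

theorem e4_51 : allRange 162568 4059 (fun u => chkE tab 4 u) = true := by decide +kernel

theorem e4_52 : allRange 166627 5707 (fun u => chkE tab 4 u) = true := by decide +kernel

theorem e4_53 : allRange 172334 6114 (fun u => chkE tab 4 u) = true := by decide +kernel

theorem e4_54 : allRange 178448 5098 (fun u => chkE tab 4 u) = true := by decide +kernel

theorem e4_55 : allRange 183546 5389 (fun u => chkE tab 4 u) = true := by decide +kernel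

theorem e4_56 : allRange 188935 3947 (fun u => chkE tab 4 u) = true := by decide +kernel

theorem e4_57 : allRange 192882 2038 (fun u => chkE tab 4 u) = true := by decide +kernel

theorem e4_58 : allRange 194920 1972 (fun u => chkE tab 4 u) = true := by decide +kernel


end Cfsg.Agent.Helper9.TCData.ONC0
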