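import Cfsg.Agent.Lib.Helper9.TCData.ONC0.Main

set_option autoImplicit false
set_option maxRecDepth 1000000

namespace Cfsg.Agent.Helper9.TCData.ONC0
open Cfsg.Agent.Helper9.TC2

theorem sl_440 : allRange 7920 18 (fun u => chkSlp tab slp u) = true := by decide +kernel

theorem sl_441 : allRange 7938 18 (fun u => chkSlp tab slp u) = true := by decide +kernel

theorem sl_442 : allRange 7956 18 (fun u => chkSlp tab slp u) = true := by decide +kernel

theorem sl_443 : allRange 7974 18 (fun u => chkSlp tab slp u) = true := by decide +kernel

theorem sl_444 : allRange 7992 18 (fun u => chkSlp tab slp u) = true := by decide +kernel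

theorem sl_445 : allRange 8010 18 (fun u => chkSlp tab slp u) = true := by decide +kernel

theorem sl_446 : allRange 8028 18 (fun u => chkSlp tab slp u) = true := by decide +kernel

theorem sl_447 : allRange 8046 18 (fun u => chkSlp tab slp u) = true := by decide +kernel


end Cfsg.Agent.Helper9.TCData.ONC0
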