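import Cfsg.Agent.Lib.Helper9.TCData.ONC0.Main

set_option autoImplicit false
set_option maxRecDepth 1000000

namespace Cfsg.Agent.Helper9.TCData.ONC0
open Cfsg.Agent.Helper9.TC2

theorem sl_456 : allRange 8208 18 (fun u => chkSlp tab slp u) = true := by decide +kernel

theorem sl_457 : allRange 8226 18 (fun u => chkSlp tab slp u) = true := by decide +kernel

theorem sl_458 : allRange 8244 18 (fun u => chkSlp tab slp u) = true := by decide +kernel

theorem sl_459 : allRange 8262 18 (fun u => chkSlp tab slp u) = true := by decide +kernel

theorem sl_460 : allRange 8280 18 (fun u => chkSlp tab slp u) = true := by decide +kernel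

theorem sl_461 : allRange 8298 18 (fun u => chkSlp tab slp u) = true := by decide +kernel

theorem sl_462 : allRange 8316 18 (fun u => chkSlp tab slp u) = true := by decide +kernel

theorem sl_463 : allRange 8334 18 (fun u => chkSlp tab slp u) = true := by decide +kernel


end Cfsg.Agent.Helper9.TCData.ONC0
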