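import Cfsg.Agent.Lib.Helper9.TCData.ONC0.Main

set_option autoImplicit false
set_option maxRecDepth 1000000

namespace Cfsg.Agent.Helper9.TCData.ONC0
open Cfsg.Agent.Helper9.TC2

theorem sl_472 : allRange 8496 18 (fun u => chkSlp tab slp u) = true := by decide +kernel

theorem sl_473 : allRange 8514 18 (fun u => chkSlp tab slp u) = true := by decide +kernel

theorem sl_474 : allRange 8532 18 (fun u => chkSlp tab slp u) = true := by decide +kernel

theorem sl_475 : allRange 8550 18 (fun u => chkSlp tab slp u) = true := by decide +kernel

theorem sl_476 : allRange 8568 18 (fun u => chkSlp tab slp u) = true := by decide +kernel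

theorem sl_477 : allRange 8586 18 (fun u => chkSlp tab slp u) = true := by decide +kernel

theorem sl_478 : allRange 8604 18 (fun u => chkSlp tab slp u) = true := by decide +kernel

theorem sl_479 : allRange 8622 18 (fun u => chkSlp tab slp u) = true := by decide +kernel


end Cfsg.Agent.Helper9.TCData.ONC0
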