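import Cfsg.Agent.Lib.Helper9.TCData.ONC0.Main

set_option autoImplicit false
set_option maxRecDepth 1000000

namespace Cfsg.Agent.Helper9.TCData.ONC0
open Cfsg.Agent.Helper9.TC2

theorem sl_480 : allRange 8640 18 (fun u => chkSlp tab slp u) = true := by decide +kernel

theorem sl_481 : allRange 8658 18 (fun u => chkSlp tab slp u) = true := by decide +kernel

theorem sl_482 : allRange 8676 18 (fun u => chkSlp tab slp u) = true := by decide +kernel

theorem sl_483 : allRange 8694 18 (fun u => chkSlp tab slp u) = true := by decide +kernel

theorem sl_484 : allRange 8712 18 (fun u => chkSlp tab slp u) = true := by decide +kernel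

theorem sl_485 : allRange 8730 18 (fun u => chkSlp tab slp u) = true := by decide +kernel

theorem sl_486 : allRange 8748 18 (fun u => chkSlp tab slp u) = true := by decide +kernel

theorem sl_487 : allRange 8766 18 (fun u => chkSlp tab slp u) = true := by decide +kernel


end Cfsg.Agent.Helper9.TCData.ONC0
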