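import Cfsg.Agent.Lib.Helper9.TCData.ONC0.Main

set_option autoImplicit false
set_option maxRecDepth 1000000

namespace Cfsg.Agent.Helper9.TCData.ONC0
open Cfsg.Agent.Helper9.TC2

theorem sl_504 : allRange 9072 18 (fun u => chkSlp tab slp u) = true := by decide +kernel

theorem sl_505 : allRange 9090 18 (fun u => chkSlp tab slp u) = true := by decide +kernel

theorem sl_506 : allRange 9108 18 (fun u => chkSlp tab slp u) = true := by decide +kernel

theorem sl_507 : allRange 9126 18 (fun u => chkSlp tab slp u) = true := by decide +kernel

theorem sl_508 : allRange 9144 18 (fun u => chkSlp tab slp u) = true := by decide +kernel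

theorem sl_509 : allRange 9162 18 (fun u => chkSlp tab slp u) = true := by decide +kernel

theorem sl_510 : allRange 9180 18 (fun u => chkSlp tab slp u) = true := by decide +kernel

theorem sl_511 : allRange 9198 18 (fun u => chkSlp tab slp u) = true := by decide +kernel


end Cfsg.Agent.Helper9.TCData.ONC0
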