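import Cfsg.Agent.Lib.Helper9.TCData.ONC0.Main

set_option autoImplicit false
set_option maxRecDepth 1000000

namespace Cfsg.Agent.Helper9.TCData.ONC0
open Cfsg.Agent.Helper9.TC2

theorem sl_512 : allRange 9216 18 (fun u => chkSlp tab slp u) = true := by decide +kernel

theorem sl_513 : allRange 9234 18 (fun u => chkSlp tab slp u) = true := by decide +kernel

theorem sl_514 : allRange 9252 18 (fun u => chkSlp tab slp u) = true := by decide +kernel

theorem sl_515 : allRange 9270 18 (fun u => chkSlp tab slp u) = true := by decide +kernel

theorem sl_516 : allRange 9288 18 (fun u => chkSlp tab slp u) = true := by decide +kernel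

theorem sl_517 : allRange 9306 18 (fun u => chkSlp tab slp u) = true := by decide +kernel

theorem sl_518 : allRange 9324 18 (fun u => chkSlp tab slp u) = true := by decide +kernel

theorem sl_519 : allRange 9342 18 (fun u => chkSlp tab slp u) = true := by decide +kernel


end Cfsg.Agent.Helper9.TCData.ONC0
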