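import Cfsg.Agent.Lib.Helper9.TCData.ONC0.Main

set_option autoImplicit false
set_option maxRecDepth 1000000

namespace Cfsg.Agent.Helper9.TCData.ONC0
open Cfsg.Agent.Helper9.TC2

theorem sl_568 : allRange 10224 18 (fun u => chkSlp tab slp u) = true := by decide +kernel

theorem sl_569 : allRange 10242 18 (fun u => chkSlp tab slp u) = true := by decide +kernel

theorem sl_570 : allRange 10260 18 (fun u => chkSlp tab slp u) = true := by decide +kernel

theorem sl_571 : allRange 10278 18 (fun u => chkSlp tab slp u) = true := by decide +kernel

theorem sl_572 : allRange 10296 18 (fun u => chkSlp tab slp u) = true := by decide +kernel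

theorem sl_573 : allRange 10314 18 (fun u => chkSlp tab slp u) = true := by decide +kernel

theorem sl_574 : allRange 10332 18 (fun u => chkSlp tab slp u) = true := by decide +kernel

theorem sl_575 : allRange 10350 18 (fun u => chkSlp tab slp u) = true := by decide +kernel


end Cfsg.Agent.Helper9.TCData.ONC0
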