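import Cfsg.Agent.Lib.Helper9.TCData.ONC0.Main

set_option autoImplicit false
set_option maxRecDepth 1000000

namespace Cfsg.Agent.Helper9.TCData.ONC0
open Cfsg.Agent.Helper9.TC2

theorem sl_576 : allRange 10368 18 (fun u => chkSlp tab slp u) = true := by decide +kernel

theorem sl_577 : allRange 10386 18 (fun u => chkSlp tab slp u) = true := by decide +kernel

theorem sl_578 : allRange 10404 18 (fun u => chkSlp tab slp u) = true := by decide +kernel

theorem sl_579 : allRange 10422 18 (fun u => chkSlp tab slp u) = true := by decide +kernel

theorem sl_580 : allRange 10440 18 (fun u => chkSlp tab slp u) = true := by decide +kernel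

theorem sl_581 : allRange 10458 18 (fun u => chkSlp tab slp u) = true := by decide +kernel

theorem sl_582 : allRange 10476 18 (fun u => chkSlp tab slp u) = true := by decide +kernel

theorem sl_583 : allRange 10494 18 (fun u => chkSlp tab slp u) = true := by decide +kernel


end Cfsg.Agent.Helper9.TCData.ONC0
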