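import Cfsg.Agent.Lib.Helper9.TCData.ONC0.Main

set_option autoImplicit false
set_option maxRecDepth 1000000

namespace Cfsg.Agent.Helper9.TCData.ONC0
open Cfsg.Agent.Helper9.TC2

theorem sl_584 : allRange 10512 18 (fun u => chkSlp tab slp u) = true := by decide +kernel

theorem sl_585 : allRange 10530 18 (fun u => chkSlp tab slp u) = true := by decide +kernel

theorem sl_586 : allRange 10548 18 (fun u => chkSlp tab slp u) = true := by decide +kernel

theorem sl_587 : allRange 10566 18 (fun u => chkSlp tab slp u) = true := by decide +kernel

theorem sl_588 : allRange 10584 18 (fun u => chkSlp tab slp u) = true := by decide +kernel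

theorem sl_589 : allRange 10602 18 (fun u => chkSlp tab slp u) = true := by decide +kernel

theorem sl_590 : allRange 10620 18 (fun u => chkSlp tab slp u) = true := by decide +kernel

theorem sl_591 : allRange 10638 18 (fun u => chkSlp tab slp u) = true := by decide +kernel


end Cfsg.Agent.Helper9.TCData.ONC0
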