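import Cfsg.Agent.Lib.Helper9.TCData.ONC0.Main

set_option autoImplicit false
set_option maxRecDepth 1000000

namespace Cfsg.Agent.Helper9.TCData.ONC0
open Cfsg.Agent.Helper9.TC2

theorem sl_600 : allRange 10800 18 (fun u => chkSlp tab slp u) = true := by decide +kernel

theorem sl_601 : allRange 10818 18 (fun u => chkSlp tab slp u) = true := by decide +kernel

theorem sl_602 : allRange 10836 18 (fun u => chkSlp tab slp u) = true := by decide +kernel

theorem sl_603 : allRange 10854 18 (fun u => chkSlp tab slp u) = true := by decide +kernel

theorem sl_604 : allRange 10872 18 (fun u => chkSlp tab slp u) = true := by decide +kernel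

theorem sl_605 : allRange 10890 18 (fun u => chkSlp tab slp u) = true := by decide +kernel

theorem sl_606 : allRange 10908 18 (fun u => chkSlp tab slp u) = true := by decide +kernel

theorem sl_607 : allRange 10926 18 (fun u => chkSlp tab slp u) = true := by decide +kernel


end Cfsg.Agent.Helper9.TCData.ONC0
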