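import Cfsg.Agent.Lib.Helper9.TCData.ONC0.Main

set_option autoImplicit false
set_option maxRecDepth 1000000

namespace Cfsg.Agent.Helper9.TCData.ONC0
open Cfsg.Agent.Helper9.TC2

theorem sl_608 : allRange 10944 18 (fun u => chkSlp tab slp u) = true := by decide +kernel

theorem sl_609 : allRange 10962 18 (fun u => chkSlp tab slp u) = true := by decide +kernel

theorem sl_610 : allRange 10980 18 (fun u => chkSlp tab slp u) = true := by decide +kernel

theorem sl_611 : allRange 10998 18 (fun u => chkSlp tab slp u) = true := by decide +kernel

theorem sl_612 : allRange 11016 18 (fun u => chkSlp tab slp u) = true := by decide +kernel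

theorem sl_613 : allRange 11034 18 (fun u => chkSlp tab slp u) = true := by decide +kernel

theorem sl_614 : allRange 11052 18 (fun u => chkSlp tab slp u) = true := by decide +kernel

theorem sl_615 : allRange 11070 18 (fun u => chkSlp tab slp u) = true := by decide +kernel


end Cfsg.Agent.Helper9.TCData.ONC0
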