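import Cfsg.Agent.Lib.Helper9.TCData.ONC0.Main

set_option autoImplicit false
set_option maxRecDepth 1000000

namespace Cfsg.Agent.Helper9.TCData.ONC0
open Cfsg.Agent.Helper9.TC2

theorem sl_632 : allRange 11376 18 (fun u => chkSlp tab slp u) = true := by decide +kernel

theorem sl_633 : allRange 11394 18 (fun u => chkSlp tab slp u) = true := by decide +kernel

theorem sl_634 : allRange 11412 18 (fun u => chkSlp tab slp u) = true := by decide +kernel

theorem sl_635 : allRange 11430 18 (fun u => chkSlp tab slp u) = true := by decide +kernel

theorem sl_636 : allRange 11448 18 (fun u => chkSlp tab slp u) = true := by decide +kernel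

theorem sl_637 : allRange 11466 18 (fun u => chkSlp tab slp u) = true := by decide +kernel

theorem sl_638 : allRange 11484 18 (fun u => chkSlp tab slp u) = true := by decide +kernel

theorem sl_639 : allRange 11502 18 (fun u => chkSlp tab slp u) = true := by decide +kernel


end Cfsg.Agent.Helper9.TCData.ONC0
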