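import Cfsg.Agent.Lib.Helper9.TCData.ONC0.Main

set_option autoImplicit false
set_option maxRecDepth 1000000

namespace Cfsg.Agent.Helper9.TCData.ONC0
open Cfsg.Agent.Helper9.TC2

theorem sl_648 : allRange 11664 18 (fun u => chkSlp tab slp u) = true := by decide +kernel

theorem sl_649 : allRange 11682 18 (fun u => chkSlp tab slp u) = true := by decide +kernel

theorem sl_650 : allRange 11700 18 (fun u => chkSlp tab slp u) = true := by decide +kernel

theorem sl_651 : allRange 11718 18 (fun u => chkSlp tab slp u) = true := by decide +kernel

theorem sl_652 : allRange 11736 18 (fun u => chkSlp tab slp u) = true := by decide +kernel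

theorem sl_653 : allRange 11754 18 (fun u => chkSlp tab slp u) = true := by decide +kernel

theorem sl_654 : allRange 11772 18 (fun u => chkSlp tab slp u) = true := by decide +kernel

theorem sl_655 : allRange 11790 18 (fun u => chkSlp tab slp u) = true := by decide +kernel


end Cfsg.Agent.Helper9.TCData.ONC0
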