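import Cfsg.Agent.Lib.Helper9.TCData.ONC0.Main

set_option autoImplicit false
set_option maxRecDepth 1000000

namespace Cfsg.Agent.Helper9.TCData.ONC0
open Cfsg.Agent.Helper9.TC2

theorem sl_656 : allRange 11808 18 (fun u => chkSlp tab slp u) = true := by decide +kernel

theorem sl_657 : allRange 11826 18 (fun u => chkSlp tab slp u) = true := by decide +kernel

theorem sl_658 : allRange 11844 18 (fun u => chkSlp tab slp u) = true := by decide +kernel

theorem sl_659 : allRange 11862 18 (fun u => chkSlp tab slp u) = true := by decide +kernel

theorem sl_660 : allRange 11880 18 (fun u => chkSlp tab slp u) = true := by decide +kernel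

theorem sl_661 : allRange 11898 18 (fun u => chkSlp tab slp u) = true := by decide +kernel

theorem sl_662 : allRange 11916 18 (fun u => chkSlp tab slp u) = true := by decide +kernel

theorem sl_663 : allRange 11934 18 (fun u => chkSlp tab slp u) = true := by decide +kernel


end Cfsg.Agent.Helper9.TCData.ONC0
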