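import Cfsg.Agent.Lib.Helper9.TCData.ONC0.Main

set_option autoImplicit false
set_option maxRecDepth 1000000

namespace Cfsg.Agent.Helper9.TCData.ONC0
open Cfsg.Agent.Helper9.TC2

theorem sl_664 : allRange 11952 18 (fun u => chkSlp tab slp u) = true := by decide +kernel

theorem sl_665 : allRange 11970 18 (fun u => chkSlp tab slp u) = true := by decide +kernel

theorem sl_666 : allRange 11988 18 (fun u => chkSlp tab slp u) = true := by decide +kernel

theorem sl_667 : allRange 12006 18 (fun u => chkSlp tab slp u) = true := by decide +kernel

theorem sl_668 : allRange 12024 18 (fun u => chkSlp tab slp u) = true := by decide +kernel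

theorem sl_669 : allRange 12042 18 (fun u => chkSlp tab slp u) = true := by decide +kernel

theorem sl_670 : allRange 12060 18 (fun u => chkSlp tab slp u) = true := by decide +kernel

theorem sl_671 : allRange 12078 18 (fun u => chkSlp tab slp u) = true := by decide +kernel


end Cfsg.Agent.Helper9.TCData.ONC0
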