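import Cfsg.Agent.Lib.Helper9.TCData.ONC0.Main

set_option autoImplicit false
set_option maxRecDepth 1000000

namespace Cfsg.Agent.Helper9.TCData.ONC0
open Cfsg.Agent.Helper9.TC2

theorem sl_680 : allRange 12240 18 (fun u => chkSlp tab slp u) = true := by decide +kernel

theorem sl_681 : allRange 12258 18 (fun u => chkSlp tab slp u) = true := by decide +kernel

theorem sl_682 : allRange 12276 18 (fun u => chkSlp tab slp u) = true := by decide +kernel

theorem sl_683 : allRange 12294 18 (fun u => chkSlp tab slp u) = true := by decide +kernel

theorem sl_684 : allRange 12312 18 (fun u => chkSlp tab slp u) = true := by decide +kernel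

theorem sl_685 : allRange 12330 18 (fun u => chkSlp tab slp u) = true := by decide +kernel

theorem sl_686 : allRange 12348 18 (fun u => chkSlp tab slp u) = true := by decide +kernel

theorem sl_687 : allRange 12366 18 (fun u => chkSlp tab slp u) = true := by decide +kernel


end Cfsg.Agent.Helper9.TCData.ONC0
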