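import Cfsg.Agent.Lib.Helper9.TCData.ONC0.Main

set_option autoImplicit false
set_option maxRecDepth 1000000

namespace Cfsg.Agent.Helper9.TCData.ONC0
open Cfsg.Agent.Helper9.TC2

theorem sl_696 : allRange 12528 18 (fun u => chkSlp tab slp u) = true := by decide +kernel

theorem sl_697 : allRange 12546 18 (fun u => chkSlp tab slp u) = true := by decide +kernel

theorem sl_698 : allRange 12564 18 (fun u => chkSlp tab slp u) = true := by decide +kernel

theorem sl_699 : allRange 12582 18 (fun u => chkSlp tab slp u) = true := by decide +kernel

theorem sl_700 : allRange 12600 18 (fun u => chkSlp tab slp u) = true := by decide +kernel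

theorem sl_701 : allRange 12618 18 (fun u => chkSlp tab slp u) = true := by decide +kernel

theorem sl_702 : allRange 12636 18 (fun u => chkSlp tab slp u) = true := by decide +kernel

theorem sl_703 : allRange 12654 18 (fun u => chkSlp tab slp u) = true := by decide +kernel


end Cfsg.Agent.Helper9.TCData.ONC0
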