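import Cfsg.Agent.Lib.Helper9.TCData.ONC0.Main

set_option autoImplicit false
set_option maxRecDepth 1000000

namespace Cfsg.Agent.Helper9.TCData.ONC0
open Cfsg.Agent.Helper9.TC2

theorem sl_712 : allRange 12816 18 (fun u => chkSlp tab slp u) = true := by decide +kernel

theorem sl_713 : allRange 12834 18 (fun u => chkSlp tab slp u) = true := by decide +kernel

theorem sl_714 : allRange 12852 18 (fun u => chkSlp tab slp u) = true := by decide +kernel

theorem sl_715 : allRange 12870 18 (fun u => chkSlp tab slp u) = true := by decide +kernel

theorem sl_716 : allRange 12888 18 (fun u => chkSlp tab slp u) = true := by decide +kernel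

theorem sl_717 : allRange 12906 18 (fun u => chkSlp tab slp u) = true := by decide +kernel

theorem sl_718 : allRange 12924 18 (fun u => chkSlp tab slp u) = true := by decide +kernel

theorem sl_719 : allRange 12942 18 (fun u => chkSlp tab slp u) = true := by decide +kernel


end Cfsg.Agent.Helper9.TCData.ONC0
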