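import Cfsg.Agent.Lib.Helper9.TCData.ONC0.Main

set_option autoImplicit false
set_option maxRecDepth 1000000

namespace Cfsg.Agent.Helper9.TCData.ONC0
open Cfsg.Agent.Helper9.TC2

theorem sl_728 : allRange 13104 18 (fun u => chkSlp tab slp u) = true := by decide +kernel

theorem sl_729 : allRange 13122 18 (fun u => chkSlp tab slp u) = true := by decide +kernel

theorem sl_730 : allRange 13140 18 (fun u => chkSlp tab slp u) = true := by decide +kernel

theorem sl_731 : allRange 13158 18 (fun u => chkSlp tab slp u) = true := by decide +kernel

theorem sl_732 : allRange 13176 18 (fun u => chkSlp tab slp u) = true := by decide +kernel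

theorem sl_733 : allRange 13194 18 (fun u => chkSlp tab slp u) = true := by decide +kernel

theorem sl_734 : allRange 13212 18 (fun u => chkSlp tab slp u) = true := by decide +kernel

theorem sl_735 : allRange 13230 18 (fun u => chkSlp tab slp u) = true := by decide +kernel


end Cfsg.Agent.Helper9.TCData.ONC0
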