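import Cfsg.Agent.Lib.Helper9.TCData.ONC0.Main

set_option autoImplicit false
set_option maxRecDepth 1000000

namespace Cfsg.Agent.Helper9.TCData.ONC0
open Cfsg.Agent.Helper9.TC2

theorem sl_744 : allRange 13392 18 (fun u => chkSlp tab slp u) = true := by decide +kernel

theorem sl_745 : allRange 13410 18 (fun u => chkSlp tab slp u) = true := by decide +kernel

theorem sl_746 : allRange 13428 18 (fun u => chkSlp tab slp u) = true := by decide +kernel

theorem sl_747 : allRange 13446 18 (fun u => chkSlp tab slp u) = true := by decide +kernel

theorem sl_748 : allRange 13464 18 (fun u => chkSlp tab slp u) = true := by decide +kernel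

theorem sl_749 : allRange 13482 18 (fun u => chkSlp tab slp u) = true := by decide +kernel

theorem sl_750 : allRange 13500 18 (fun u => chkSlp tab slp u) = true := by decide +kernel

theorem sl_751 : allRange 13518 18 (fun u => chkSlp tab slp u) = true := by decide +kernel


end Cfsg.Agent.Helper9.TCData.ONC0
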