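import Cfsg.Agent.Lib.Helper9.TCData.ONC0.Main

set_option autoImplicit false
set_option maxRecDepth 1000000

namespace Cfsg.Agent.Helper9.TCData.ONC0
open Cfsg.Agent.Helper9.TC2

theorem sl_760 : allRange 13680 18 (fun u => chkSlp tab slp u) = true := by decide +kernel

theorem sl_761 : allRange 13698 18 (fun u => chkSlp tab slp u) = true := by decide +kernel

theorem sl_762 : allRange 13716 18 (fun u => chkSlp tab slp u) = true := by decide +kernel

theorem sl_763 : allRange 13734 18 (fun u => chkSlp tab slp u) = true := by decide +kernel

theorem sl_764 : allRange 13752 18 (fun u => chkSlp tab slp u) = true := by decide +kernel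

theorem sl_765 : allRange 13770 18 (fun u => chkSlp tab slp u) = true := by decide +kernel

theorem sl_766 : allRange 13788 18 (fun u => chkSlp tab slp u) = true := by decide +kernel

theorem sl_767 : allRange 13806 18 (fun u => chkSlp tab slp u) = true := by decide +kernel


end Cfsg.Agent.Helper9.TCData.ONC0
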