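import Cfsg.Agent.Lib.Helper9.TCData.ONC0.Main

set_option autoImplicit false
set_option maxRecDepth 1000000

namespace Cfsg.Agent.Helper9.TCData.ONC0
open Cfsg.Agent.Helper9.TC2

theorem sl_808 : allRange 14544 18 (fun u => chkSlp tab slp u) = true := by decide +kernel

theorem sl_809 : allRange 14562 18 (fun u => chkSlp tab slp u) = true := by decide +kernel

theorem sl_810 : allRange 14580 18 (fun u => chkSlp tab slp u) = true := by decide +kernel

theorem sl_811 : allRange 14598 18 (fun u => chkSlp tab slp u) = true := by decide +kernel

theorem sl_812 : allRange 14616 18 (fun u => chkSlp tab slp u) = true := by decide +kernel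

theorem sl_813 : allRange 14634 18 (fun u => chkSlp tab slp u) = true := by decide +kernel

theorem sl_814 : allRange 14652 18 (fun u => chkSlp tab slp u) = true := by decide +kernel

theorem sl_815 : allRange 14670 18 (fun u => chkSlp tab slp u) = true := by decide +kernel


end Cfsg.Agent.Helper9.TCData.ONC0
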