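import Cfsg.Agent.Lib.Helper9.TCData.ONC0.Main

set_option autoImplicit false
set_option maxRecDepth 1000000

namespace Cfsg.Agent.Helper9.TCData.ONC0
open Cfsg.Agent.Helper9.TC2

theorem sl_816 : allRange 14688 18 (fun u => chkSlp tab slp u) = true := by decide +kernel

theorem sl_817 : allRange 14706 18 (fun u => chkSlp tab slp u) = true := by decide +kernel

theorem sl_818 : allRange 14724 18 (fun u => chkSlp tab slp u) = true := by decide +kernel

theorem sl_819 : allRange 14742 18 (fun u => chkSlp tab slp u) = true := by decide +kernel

theorem sl_820 : allRange 14760 18 (fun u => chkSlp tab slp u) = true := by decide +kernel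

theorem sl_821 : allRange 14778 18 (fun u => chkSlp tab slp u) = true := by decide +kernel

theorem sl_822 : allRange 14796 18 (fun u => chkSlp tab slp u) = true := by decide +kernel

theorem sl_823 : allRange 14814 18 (fun u => chkSlp tab slp u) = true := by decide +kernel


end Cfsg.Agent.Helper9.TCData.ONC0
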