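import Cfsg.Agent.Lib.Helper9.TCData.ONC0.Main

set_option autoImplicit false
set_option maxRecDepth 1000000

namespace Cfsg.Agent.Helper9.TCData.ONC0
open Cfsg.Agent.Helper9.TC2

theorem sl_824 : allRange 14832 18 (fun u => chkSlp tab slp u) = true := by decide +kernel

theorem sl_825 : allRange 14850 18 (fun u => chkSlp tab slp u) = true := by decide +kernel

theorem sl_826 : allRange 14868 18 (fun u => chkSlp tab slp u) = true := by decide +kernel

theorem sl_827 : allRange 14886 18 (fun u => chkSlp tab slp u) = true := by decide +kernel

theorem sl_828 : allRange 14904 18 (fun u => chkSlp tab slp u) = true := by decide +kernel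

theorem sl_829 : allRange 14922 18 (fun u => chkSlp tab slp u) = true := by decide +kernel

theorem sl_830 : allRange 14940 18 (fun u => chkSlp tab slp u) = true := by decide +kernel

theorem sl_831 : allRange 14958 18 (fun u => chkSlp tab slp u) = true := by decide +kernel


end Cfsg.Agent.Helper9.TCData.ONC0
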