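import Cfsg.Agent.Lib.Helper9.TCData.ONC0.Main

set_option autoImplicit false
set_option maxRecDepth 1000000

namespace Cfsg.Agent.Helper9.TCData.ONC0
open Cfsg.Agent.Helper9.TC2

theorem e5_16 : allRange 56871 4129 (fun u => chkE tab 5 u) = true := by decide +kernel

theorem e5_17 : allRange 61000 3494 (fun u => chkE tab 5 u) = true := by decide +kernel

theorem e5_18 : allRange 64494 4228 (fun u => chkE tab 5 u) = true := by decide +kernel

theorem e5_19 : allRange 68722 3600 (fun u => chkE tab 5 u) = true := by decide +kernel

theorem e5_20 : allRange 72322 3885 (fun u => chkE tab 5 u) = true := by decide +kernel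

theorem e5_21 : allRange 76207 3988 (fun u => chkE tab 5 u) = true := by decide +kernel

theorem e5_22 : allRange 80195 3321 (fun u => chkE tab 5 u) = true := by decide +kernel

theorem e5_23 : allRange 83516 3519 (fun u => chkE tab 5 u) = true := by decide +kernel


end Cfsg.Agent.Helper9.TCData.ONC0
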