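import Cfsg.Agent.Lib.Helper9.TCData.ONC0.Main

set_option autoImplicit false
set_option maxRecDepth 1000000

namespace Cfsg.Agent.Helper9.TCData.ONC0
open Cfsg.Agent.Helper9.TC2

theorem sl_840 : allRange 15120 18 (fun u => chkSlp tab slp u) = true := by decide +kernel

theorem sl_841 : allRange 15138 18 (fun u => chkSlp tab slp u) = true := by decide +kernel

theorem sl_842 : allRange 15156 18 (fun u => chkSlp tab slp u) = true := by decide +kernel

theorem sl_843 : allRange 15174 18 (fun u => chkSlp tab slp u) = true := by decide +kernel

theorem sl_844 : allRange 15192 18 (fun u => chkSlp tab slp u) = true := by decide +kernel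

theorem sl_845 : allRange 15210 18 (fun u => chkSlp tab slp u) = true := by decide +kernel

theorem sl_846 : allRange 15228 18 (fun u => chkSlp tab slp u) = true := by decide +kernel

theorem sl_847 : allRange 15246 18 (fun u => chkSlp tab slp u) = true := by decide +kernel


end Cfsg.Agent.Helper9.TCData.ONC0
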