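import Cfsg.Agent.Lib.Helper9.TCData.ONC0.Main

set_option autoImplicit false
set_option maxRecDepth 1000000

namespace Cfsg.Agent.Helper9.TCData.ONC0
open Cfsg.Agent.Helper9.TC2

theorem sl_856 : allRange 15408 18 (fun u => chkSlp tab slp u) = true := by decide +kernel

theorem sl_857 : allRange 15426 18 (fun u => chkSlp tab slp u) = true := by decide +kernel

theorem sl_858 : allRange 15444 18 (fun u => chkSlp tab slp u) = true := by decide +kernel

theorem sl_859 : allRange 15462 18 (fun u => chkSlp tab slp u) = true := by decide +kernel

theorem sl_860 : allRange 15480 18 (fun u => chkSlp tab slp u) = true := by decide +kernel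

theorem sl_861 : allRange 15498 18 (fun u => chkSlp tab slp u) = true := by decide +kernel

theorem sl_862 : allRange 15516 18 (fun u => chkSlp tab slp u) = true := by decide +kernel

theorem sl_863 : allRange 15534 18 (fun u => chkSlp tab slp u) = true := by decide +kernel


end Cfsg.Agent.Helper9.TCData.ONC0
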