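import Cfsg.Agent.Lib.Helper9.TCData.ONC0.Main

set_option autoImplicit false
set_option maxRecDepth 1000000

namespace Cfsg.Agent.Helper9.TCData.ONC0
open Cfsg.Agent.Helper9.TC2

theorem sl_864 : allRange 15552 18 (fun u => chkSlp tab slp u) = true := by decide +kernel

theorem sl_865 : allRange 15570 18 (fun u => chkSlp tab slp u) = true := by decide +kernel

theorem sl_866 : allRange 15588 18 (fun u => chkSlp tab slp u) = true := by decide +kernel

theorem sl_867 : allRange 15606 18 (fun u => chkSlp tab slp u) = true := by decide +kernel

theorem sl_868 : allRange 15624 18 (fun u => chkSlp tab slp u) = true := by decide +kernel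

theorem sl_869 : allRange 15642 18 (fun u => chkSlp tab slp u) = true := by decide +kernel

theorem sl_870 : allRange 15660 18 (fun u => chkSlp tab slp u) = true := by decide +kernel

theorem sl_871 : allRange 15678 18 (fun u => chkSlp tab slp u) = true := by decide +kernel


end Cfsg.Agent.Helper9.TCData.ONC0
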