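import Cfsg.Agent.Lib.Helper9.TCData.ONC0.Main

set_option autoImplicit false
set_option maxRecDepth 1000000

namespace Cfsg.Agent.Helper9.TCData.ONC0
open Cfsg.Agent.Helper9.TC2

theorem sl_888 : allRange 15984 18 (fun u => chkSlp tab slp u) = true := by decide +kernel

theorem sl_889 : allRange 16002 18 (fun u => chkSlp tab slp u) = true := by decide +kernel

theorem sl_890 : allRange 16020 18 (fun u => chkSlp tab slp u) = true := by decide +kernel

theorem sl_891 : allRange 16038 18 (fun u => chkSlp tab slp u) = true := by decide +kernel

theorem sl_892 : allRange 16056 18 (fun u => chkSlp tab slp u) = true := by decide +kernel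

theorem sl_893 : allRange 16074 18 (fun u => chkSlp tab slp u) = true := by decide +kernel

theorem sl_894 : allRange 16092 18 (fun u => chkSlp tab slp u) = true := by decide +kernel

theorem sl_895 : allRange 16110 18 (fun u => chkSlp tab slp u) = true := by decide +kernel


end Cfsg.Agent.Helper9.TCData.ONC0
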