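import Cfsg.Agent.Lib.Helper9.TCData.ONC0.Main

set_option autoImplicit false
set_option maxRecDepth 1000000

namespace Cfsg.Agent.Helper9.TCData.ONC0
open Cfsg.Agent.Helper9.TC2

theorem sl_896 : allRange 16128 18 (fun u => chkSlp tab slp u) = true := by decide +kernel

theorem sl_897 : allRange 16146 18 (fun u => chkSlp tab slp u) = true := by decide +kernel

theorem sl_898 : allRange 16164 18 (fun u => chkSlp tab slp u) = true := by decide +kernel

theorem sl_899 : allRange 16182 18 (fun u => chkSlp tab slp u) = true := by decide +kernel

theorem sl_900 : allRange 16200 18 (fun u => chkSlp tab slp u) = true := by decide +kernel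

theorem sl_901 : allRange 16218 18 (fun u => chkSlp tab slp u) = true := by decide +kernel

theorem sl_902 : allRange 16236 18 (fun u => chkSlp tab slp u) = true := by decide +kernel

theorem sl_903 : allRange 16254 18 (fun u => chkSlp tab slp u) = true := by decide +kernel


end Cfsg.Agent.Helper9.TCData.ONC0
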