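import Cfsg.Agent.Lib.Helper9.TCData.ONC0.Main

set_option autoImplicit false
set_option maxRecDepth 1000000

namespace Cfsg.Agent.Helper9.TCData.ONC0
open Cfsg.Agent.Helper9.TC2

theorem sl_904 : allRange 16272 18 (fun u => chkSlp tab slp u) = true := by decide +kernel

theorem sl_905 : allRange 16290 18 (fun u => chkSlp tab slp u) = true := by decide +kernel

theorem sl_906 : allRange 16308 18 (fun u => chkSlp tab slp u) = true := by decide +kernel

theorem sl_907 : allRange 16326 18 (fun u => chkSlp tab slp u) = true := by decide +kernel

theorem sl_908 : allRange 16344 18 (fun u => chkSlp tab slp u) = true := by decide +kernel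

theorem sl_909 : allRange 16362 18 (fun u => chkSlp tab slp u) = true := by decide +kernel

theorem sl_910 : allRange 16380 18 (fun u => chkSlp tab slp u) = true := by decide +kernel

theorem sl_911 : allRange 16398 18 (fun u => chkSlp tab slp u) = true := by decide +kernel


end Cfsg.Agent.Helper9.TCData.ONC0
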