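import Cfsg.Agent.Lib.Helper9.TCData.ONC0.Main

set_option autoImplicit false
set_option maxRecDepth 1000000

namespace Cfsg.Agent.Helper9.TCData.ONC0
open Cfsg.Agent.Helper9.TC2

theorem sl_912 : allRange 16416 18 (fun u => chkSlp tab slp u) = true := by decide +kernel

theorem sl_913 : allRange 16434 18 (fun u => chkSlp tab slp u) = true := by decide +kernel

theorem sl_914 : allRange 16452 18 (fun u => chkSlp tab slp u) = true := by decide +kernel

theorem sl_915 : allRange 16470 18 (fun u => chkSlp tab slp u) = true := by decide +kernel

theorem sl_916 : allRange 16488 18 (fun u => chkSlp tab slp u) = true := by decide +kernel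

theorem sl_917 : allRange 16506 18 (fun u => chkSlp tab slp u) = true := by decide +kernel

theorem sl_918 : allRange 16524 18 (fun u => chkSlp tab slp u) = true := by decide +kernel

theorem sl_919 : allRange 16542 18 (fun u => chkSlp tab slp u) = true := by decide +kernel


end Cfsg.Agent.Helper9.TCData.ONC0
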