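import Cfsg.Agent.Lib.Helper9.TCData.ONC0.Main

set_option autoImplicit false
set_option maxRecDepth 1000000

namespace Cfsg.Agent.Helper9.TCData.ONC0
open Cfsg.Agent.Helper9.TC2

theorem e5_24 : allRange 87035 3261 (fun u => chkE tab 5 u) = true := by decide +kernel

theorem e5_25 : allRange 90296 3866 (fun u => chkE tab 5 u) = true := by decide +kernel

theorem e5_26 : allRange 94162 4101 (fun u => chkE tab 5 u) = true := by decide +kernel

theorem e5_27 : allRange 98263 4255 (fun u => chkE tab 5 u) = true := by decide +kernel

theorem e5_28 : allRange 102518 4167 (fun u => chkE tab 5 u) = true := by decide +kernel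

theorem e5_29 : allRange 106685 3199 (fun u => chkE tab 5 u) = true := by decide +kernel

theorem e5_30 : allRange 109884 3261 (fun u => chkE tab 5 u) = true := by decide +kernel

theorem e5_31 : allRange 113145 3154 (fun u => chkE tab 5 u) = true := by decide +kernel


end Cfsg.Agent.Helper9.TCData.ONC0
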