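import Cfsg.Agent.Lib.Helper9.TCData.ONC0.Main

set_option autoImplicit false
set_option maxRecDepth 1000000

namespace Cfsg.Agent.Helper9.TCData.ONC0
open Cfsg.Agent.Helper9.TC2

theorem sl_920 : allRange 16560 18 (fun u => chkSlp tab slp u) = true := by decide +kernel

theorem sl_921 : allRange 16578 18 (fun u => chkSlp tab slp u) = true := by decide +kernel

theorem sl_922 : allRange 16596 18 (fun u => chkSlp tab slp u) = true := by decide +kernel

theorem sl_923 : allRange 16614 18 (fun u => chkSlp tab slp u) = true := by decide +kernel

theorem sl_924 : allRange 16632 18 (fun u => chkSlp tab slp u) = true := by decide +kernel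

theorem sl_925 : allRange 16650 18 (fun u => chkSlp tab slp u) = true := by decide +kernel

theorem sl_926 : allRange 16668 18 (fun u => chkSlp tab slp u) = true := by decide +kernel

theorem sl_927 : allRange 16686 18 (fun u => chkSlp tab slp u) = true := by decide +kernel


end Cfsg.Agent.Helper9.TCData.ONC0
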