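import Cfsg.Agent.Lib.Helper9.TCData.ONC0.Main

set_option autoImplicit false
set_option maxRecDepth 1000000

namespace Cfsg.Agent.Helper9.TCData.ONC0
open Cfsg.Agent.Helper9.TC2

theorem sl_936 : allRange 16848 18 (fun u => chkSlp tab slp u) = true := by decide +kernel

theorem sl_937 : allRange 16866 18 (fun u => chkSlp tab slp u) = true := by decide +kernel

theorem sl_938 : allRange 16884 18 (fun u => chkSlp tab slp u) = true := by decide +kernel

theorem sl_939 : allRange 16902 18 (fun u => chkSlp tab slp u) = true := by decide +kernel

theorem sl_940 : allRange 16920 18 (fun u => chkSlp tab slp u) = true := by decide +kernel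

theorem sl_941 : allRange 16938 18 (fun u => chkSlp tab slp u) = true := by decide +kernel

theorem sl_942 : allRange 16956 18 (fun u => chkSlp tab slp u) = true := by decide +kernel

theorem sl_943 : allRange 16974 18 (fun u => chkSlp tab slp u) = true := by decide +kernel


end Cfsg.Agent.Helper9.TCData.ONC0
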