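import Cfsg.Agent.Lib.Helper9.TCData.ONC0.Main

set_option autoImplicit false
set_option maxRecDepth 1000000

namespace Cfsg.Agent.Helper9.TCData.ONC0
open Cfsg.Agent.Helper9.TC2

theorem sl_952 : allRange 17136 18 (fun u => chkSlp tab slp u) = true := by decide +kernel

theorem sl_953 : allRange 17154 18 (fun u => chkSlp tab slp u) = true := by decide +kernel

theorem sl_954 : allRange 17172 18 (fun u => chkSlp tab slp u) = true := by decide +kernel

theorem sl_955 : allRange 17190 18 (fun u => chkSlp tab slp u) = true := by decide +kernel

theorem sl_956 : allRange 17208 18 (fun u => chkSlp tab slp u) = true := by decide +kernel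

theorem sl_957 : allRange 17226 18 (fun u => chkSlp tab slp u) = true := by decide +kernel

theorem sl_958 : allRange 17244 18 (fun u => chkSlp tab slp u) = true := by decide +kernel

theorem sl_959 : allRange 17262 18 (fun u => chkSlp tab slp u) = true := by decide +kernel


end Cfsg.Agent.Helper9.TCData.ONC0
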