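import Cfsg.Agent.Lib.Helper9.TCData.ONC0.Main

set_option autoImplicit false
set_option maxRecDepth 1000000

namespace Cfsg.Agent.Helper9.TCData.ONC0
open Cfsg.Agent.Helper9.TC2

theorem sl_968 : allRange 17424 18 (fun u => chkSlp tab slp u) = true := by decide +kernel

theorem sl_969 : allRange 17442 18 (fun u => chkSlp tab slp u) = true := by decide +kernel

theorem sl_970 : allRange 17460 18 (fun u => chkSlp tab slp u) = true := by decide +kernel

theorem sl_971 : allRange 17478 18 (fun u => chkSlp tab slp u) = true := by decide +kernel

theorem sl_972 : allRange 17496 18 (fun u => chkSlp tab slp u) = true := by decide +kernel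

theorem sl_973 : allRange 17514 18 (fun u => chkSlp tab slp u) = true := by decide +kernel

theorem sl_974 : allRange 17532 18 (fun u => chkSlp tab slp u) = true := by decide +kernel

theorem sl_975 : allRange 17550 18 (fun u => chkSlp tab slp u) = true := by decide +kernel


end Cfsg.Agent.Helper9.TCData.ONC0
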