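import Cfsg.Agent.Lib.Helper9.TCData.ONC0.Main

set_option autoImplicit false
set_option maxRecDepth 1000000

namespace Cfsg.Agent.Helper9.TCData.ONC0
open Cfsg.Agent.Helper9.TC2

theorem sl_976 : allRange 17568 18 (fun u => chkSlp tab slp u) = true := by decide +kernel

theorem sl_977 : allRange 17586 18 (fun u => chkSlp tab slp u) = true := by decide +kernel

theorem sl_978 : allRange 17604 18 (fun u => chkSlp tab slp u) = true := by decide +kernel

theorem sl_979 : allRange 17622 18 (fun u => chkSlp tab slp u) = true := by decide +kernel

theorem sl_980 : allRange 17640 18 (fun u => chkSlp tab slp u) = true := by decide +kernel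

theorem sl_981 : allRange 17658 18 (fun u => chkSlp tab slp u) = true := by decide +kernel

theorem sl_982 : allRange 17676 18 (fun u => chkSlp tab slp u) = true := by decide +kernel

theorem sl_983 : allRange 17694 18 (fun u => chkSlp tab slp u) = true := by decide +kernel


end Cfsg.Agent.Helper9.TCData.ONC0
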