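import Cfsg.Agent.Lib.Helper9.TCData.ONC0.Main

set_option autoImplicit false
set_option maxRecDepth 1000000

namespace Cfsg.Agent.Helper9.TCData.ONC0
open Cfsg.Agent.Helper9.TC2

theorem sl_992 : allRange 17856 18 (fun u => chkSlp tab slp u) = true := by decide +kernel

theorem sl_993 : allRange 17874 18 (fun u => chkSlp tab slp u) = true := by decide +kernel

theorem sl_994 : allRange 17892 18 (fun u => chkSlp tab slp u) = true := by decide +kernel

theorem sl_995 : allRange 17910 18 (fun u => chkSlp tab slp u) = true := by decide +kernel

theorem sl_996 : allRange 17928 18 (fun u => chkSlp tab slp u) = true := by decide +kernel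

theorem sl_997 : allRange 17946 18 (fun u => chkSlp tab slp u) = true := by decide +kernel

theorem sl_998 : allRange 17964 18 (fun u => chkSlp tab slp u) = true := by decide +kernel

theorem sl_999 : allRange 17982 18 (fun u => chkSlp tab slp u) = true := by decide +kernel


end Cfsg.Agent.Helper9.TCData.ONC0
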