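import Cfsg.Agent.Lib.Helper9.TCData.ONC0.Main

set_option autoImplicit false
set_option maxRecDepth 1000000

namespace Cfsg.Agent.Helper9.TCData.ONC0
open Cfsg.Agent.Helper9.TC2

theorem sl_1008 : allRange 18144 18 (fun u => chkSlp tab slp u) = true := by decide +kernel

theorem sl_1009 : allRange 18162 18 (fun u => chkSlp tab slp u) = true := by decide +kernel

theorem sl_1010 : allRange 18180 18 (fun u => chkSlp tab slp u) = true := by decide +kernel

theorem sl_1011 : allRange 18198 18 (fun u => chkSlp tab slp u) = true := by decide +kernel

theorem sl_1012 : allRange 18216 18 (fun u => chkSlp tab slp u) = true := by decide +kernel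

theorem sl_1013 : allRange 18234 18 (fun u => chkSlp tab slp u) = true := by decide +kernel

theorem sl_1014 : allRange 18252 18 (fun u => chkSlp tab slp u) = true := by decide +kernel

theorem sl_1015 : allRange 18270 18 (fun u => chkSlp tab slp u) = true := by decide +kernel


end Cfsg.Agent.Helper9.TCData.ONC0
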