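import Cfsg.Agent.Lib.Helper9.TCData.ONC0.Main

set_option autoImplicit false
set_option maxRecDepth 1000000

namespace Cfsg.Agent.Helper9.TCData.ONC0
open Cfsg.Agent.Helper9.TC2

theorem sl_1016 : allRange 18288 18 (fun u => chkSlp tab slp u) = true := by decide +kernel

theorem sl_1017 : allRange 18306 18 (fun u => chkSlp tab slp u) = true := by decide +kernel

theorem sl_1018 : allRange 18324 18 (fun u => chkSlp tab slp u) = true := by decide +kernel

theorem sl_1019 : allRange 18342 18 (fun u => chkSlp tab slp u) = true := by decide +kernel

theorem sl_1020 : allRange 18360 18 (fun u => chkSlp tab slp u) = true := by decide +kernel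

theorem sl_1021 : allRange 18378 18 (fun u => chkSlp tab slp u) = true := by decide +kernel

theorem sl_1022 : allRange 18396 18 (fun u => chkSlp tab slp u) = true := by decide +kernel

theorem sl_1023 : allRange 18414 18 (fun u => chkSlp tab slp u) = true := by decide +kernel


end Cfsg.Agent.Helper9.TCData.ONC0
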