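import Cfsg.Agent.Lib.Helper9.TCData.ONC0.Main

set_option autoImplicit false
set_option maxRecDepth 1000000

namespace Cfsg.Agent.Helper9.TCData.ONC0
open Cfsg.Agent.Helper9.TC2

theorem sl_1032 : allRange 18576 18 (fun u => chkSlp tab slp u) = true := by decide +kernel

theorem sl_1033 : allRange 18594 18 (fun u => chkSlp tab slp u) = true := by decide +kernel

theorem sl_1034 : allRange 18612 18 (fun u => chkSlp tab slp u) = true := by decide +kernel

theorem sl_1035 : allRange 18630 18 (fun u => chkSlp tab slp u) = true := by decide +kernel

theorem sl_1036 : allRange 18648 18 (fun u => chkSlp tab slp u) = true := by decide +kernel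

theorem sl_1037 : allRange 18666 18 (fun u => chkSlp tab slp u) = true := by decide +kernel

theorem sl_1038 : allRange 18684 18 (fun u => chkSlp tab slp u) = true := by decide +kernel

theorem sl_1039 : allRange 18702 18 (fun u => chkSlp tab slp u) = true := by decide +kernel


end Cfsg.Agent.Helper9.TCData.ONC0
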