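import Cfsg.Agent.Lib.Helper9.TCData.ONC0.Main

set_option autoImplicit false
set_option maxRecDepth 1000000

namespace Cfsg.Agent.Helper9.TCData.ONC0
open Cfsg.Agent.Helper9.TC2

theorem sl_1040 : allRange 18720 18 (fun u => chkSlp tab slp u) = true := by decide +kernel

theorem sl_1041 : allRange 18738 18 (fun u => chkSlp tab slp u) = true := by decide +kernel

theorem sl_1042 : allRange 18756 18 (fun u => chkSlp tab slp u) = true := by decide +kernel

theorem sl_1043 : allRange 18774 18 (fun u => chkSlp tab slp u) = true := by decide +kernel

theorem sl_1044 : allRange 18792 18 (fun u => chkSlp tab slp u) = true := by decide +kernel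

theorem sl_1045 : allRange 18810 18 (fun u => chkSlp tab slp u) = true := by decide +kernel

theorem sl_1046 : allRange 18828 18 (fun u => chkSlp tab slp u) = true := by decide +kernel

theorem sl_1047 : allRange 18846 18 (fun u => chkSlp tab slp u) = true := by decide +kernel


end Cfsg.Agent.Helper9.TCData.ONC0
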