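import Cfsg.Agent.Lib.Helper9.TCData.ONC0.Main

set_option autoImplicit false
set_option maxRecDepth 1000000

namespace Cfsg.Agent.Helper9.TCData.ONC0
open Cfsg.Agent.Helper9.TC2

theorem sl_1048 : allRange 18864 18 (fun u => chkSlp tab slp u) = true := by decide +kernel

theorem sl_1049 : allRange 18882 18 (fun u => chkSlp tab slp u) = true := by decide +kernel

theorem sl_1050 : allRange 18900 18 (fun u => chkSlp tab slp u) = true := by decide +kernel

theorem sl_1051 : allRange 18918 18 (fun u => chkSlp tab slp u) = true := by decide +kernel

theorem sl_1052 : allRange 18936 18 (fun u => chkSlp tab slp u) = true := by decide +kernel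

theorem sl_1053 : allRange 18954 18 (fun u => chkSlp tab slp u) = true := by decide +kernel

theorem sl_1054 : allRange 18972 18 (fun u => chkSlp tab slp u) = true := by decide +kernel

theorem sl_1055 : allRange 18990 18 (fun u => chkSlp tab slp u) = true := by decide +kernel


end Cfsg.Agent.Helper9.TCData.ONC0
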