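import Cfsg.Agent.Lib.Helper9.TCData.ONC0.Main

set_option autoImplicit false
set_option maxRecDepth 1000000

namespace Cfsg.Agent.Helper9.TCData.ONC0
open Cfsg.Agent.Helper9.TC2

theorem sl_1056 : allRange 19008 18 (fun u => chkSlp tab slp u) = true := by decide +kernel

theorem sl_1057 : allRange 19026 18 (fun u => chkSlp tab slp u) = true := by decide +kernel

theorem sl_1058 : allRange 19044 18 (fun u => chkSlp tab slp u) = true := by decide +kernel

theorem sl_1059 : allRange 19062 18 (fun u => chkSlp tab slp u) = true := by decide +kernel

theorem sl_1060 : allRange 19080 18 (fun u => chkSlp tab slp u) = true := by decide +kernel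

theorem sl_1061 : allRange 19098 18 (fun u => chkSlp tab slp u) = true := by decide +kernel

theorem sl_1062 : allRange 19116 18 (fun u => chkSlp tab slp u) = true := by decide +kernel

theorem sl_1063 : allRange 19134 18 (fun u => chkSlp tab slp u) = true := by decide +kernel


end Cfsg.Agent.Helper9.TCData.ONC0
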