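import Cfsg.Agent.Lib.Helper9.TCData.ONC0.Main

set_option autoImplicit false
set_option maxRecDepth 1000000

namespace Cfsg.Agent.Helper9.TCData.ONC0
open Cfsg.Agent.Helper9.TC2

theorem e5_40 : allRange 143605 4428 (fun u => chkE tab 5 u) = true := by decide +kernel

theorem e5_41 : allRange 148033 4093 (fun u => chkE tab 5 u) = true := by decide +kernel

theorem e5_42 : allRange 152126 4252 (fun u => chkE tab 5 u) = true := by decide +kernel

theorem e5_43 : allRange 156378 4122 (fun u => chkE tab 5 u) = true := by decide +kernel

theorem e5_44 : allRange 160500 4149 (fun u => chkE tab 5 u) = true := by decide +kernel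

theorem e5_45 : allRange 164649 5211 (fun u => chkE tab 5 u) = true := by decide +kernel

theorem e5_46 : allRange 169860 6417 (fun u => chkE tab 5 u) = true := by decide +kernel

theorem e5_47 : allRange 176277 5210 (fun u => chkE tab 5 u) = true := by decide +kernel


end Cfsg.Agent.Helper9.TCData.ONC0
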