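import Cfsg.Agent.Lib.Helper9.TCData.ONC0.Main

set_option autoImplicit false
set_option maxRecDepth 1000000

namespace Cfsg.Agent.Helper9.TCData.ONC0
open Cfsg.Agent.Helper9.TC2

theorem sl_1088 : allRange 19584 18 (fun u => chkSlp tab slp u) = true := by decide +kernel

theorem sl_1089 : allRange 19602 18 (fun u => chkSlp tab slp u) = true := by decide +kernel

theorem sl_1090 : allRange 19620 18 (fun u => chkSlp tab slp u) = true := by decide +kernel

theorem sl_1091 : allRange 19638 18 (fun u => chkSlp tab slp u) = true := by decide +kernel

theorem sl_1092 : allRange 19656 18 (fun u => chkSlp tab slp u) = true := by decide +kernel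

theorem sl_1093 : allRange 19674 18 (fun u => chkSlp tab slp u) = true := by decide +kernel

theorem sl_1094 : allRange 19692 18 (fun u => chkSlp tab slp u) = true := by decide +kernel

theorem sl_1095 : allRange 19710 18 (fun u => chkSlp tab slp u) = true := by decide +kernel


end Cfsg.Agent.Helper9.TCData.ONC0
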