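import Cfsg.Agent.Lib.Helper9.TCData.ONC0.Main

set_option autoImplicit false
set_option maxRecDepth 1000000

namespace Cfsg.Agent.Helper9.TCData.ONC0
open Cfsg.Agent.Helper9.TC2

theorem sl_1096 : allRange 19728 18 (fun u => chkSlp tab slp u) = true := by decide +kernel

theorem sl_1097 : allRange 19746 18 (fun u => chkSlp tab slp u) = true := by decide +kernel

theorem sl_1098 : allRange 19764 18 (fun u => chkSlp tab slp u) = true := by decide +kernel

theorem sl_1099 : allRange 19782 18 (fun u => chkSlp tab slp u) = true := by decide +kernel

theorem sl_1100 : allRange 19800 18 (fun u => chkSlp tab slp u) = true := by decide +kernel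

theorem sl_1101 : allRange 19818 18 (fun u => chkSlp tab slp u) = true := by decide +kernel

theorem sl_1102 : allRange 19836 18 (fun u => chkSlp tab slp u) = true := by decide +kernel

theorem sl_1103 : allRange 19854 18 (fun u => chkSlp tab slp u) = true := by decide +kernel


end Cfsg.Agent.Helper9.TCData.ONC0
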