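import Cfsg.Agent.Lib.Helper9.TCData.ONC0.Main

set_option autoImplicit false
set_option maxRecDepth 1000000

namespace Cfsg.Agent.Helper9.TCData.ONC0
open Cfsg.Agent.Helper9.TC2

theorem sl_1104 : allRange 19872 18 (fun u => chkSlp tab slp u) = true := by decide +kernel

theorem sl_1105 : allRange 19890 18 (fun u => chkSlp tab slp u) = true := by decide +kernel

theorem sl_1106 : allRange 19908 18 (fun u => chkSlp tab slp u) = true := by decide +kernel

theorem sl_1107 : allRange 19926 18 (fun u => chkSlp tab slp u) = true := by decide +kernel

theorem sl_1108 : allRange 19944 18 (fun u => chkSlp tab slp u) = true := by decide +kernel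

theorem sl_1109 : allRange 19962 18 (fun u => chkSlp tab slp u) = true := by decide +kernel

theorem sl_1110 : allRange 19980 18 (fun u => chkSlp tab slp u) = true := by decide +kernel

theorem sl_1111 : allRange 19998 18 (fun u => chkSlp tab slp u) = true := by decide +kernel


end Cfsg.Agent.Helper9.TCData.ONC0
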