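import Cfsg.Agent.Lib.Helper9.TCData.ONC0.Main

set_option autoImplicit false
set_option maxRecDepth 1000000

namespace Cfsg.Agent.Helper9.TCData.ONC0
open Cfsg.Agent.Helper9.TC2

theorem sl_1136 : allRange 20448 18 (fun u => chkSlp tab slp u) = true := by decide +kernel

theorem sl_1137 : allRange 20466 18 (fun u => chkSlp tab slp u) = true := by decide +kernel

theorem sl_1138 : allRange 20484 18 (fun u => chkSlp tab slp u) = true := by decide +kernel

theorem sl_1139 : allRange 20502 18 (fun u => chkSlp tab slp u) = true := by decide +kernel

theorem sl_1140 : allRange 20520 18 (fun u => chkSlp tab slp u) = true := by decide +kernel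

theorem sl_1141 : allRange 20538 18 (fun u => chkSlp tab slp u) = true := by decide +kernel

theorem sl_1142 : allRange 20556 18 (fun u => chkSlp tab slp u) = true := by decide +kernel

theorem sl_1143 : allRange 20574 18 (fun u => chkSlp tab slp u) = true := by decide +kernel


end Cfsg.Agent.Helper9.TCData.ONC0
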