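import Cfsg.Agent.Lib.Helper9.TCData.ONC0.Main

set_option autoImplicit false
set_option maxRecDepth 1000000

namespace Cfsg.Agent.Helper9.TCData.ONC0
open Cfsg.Agent.Helper9.TC2

theorem sl_1144 : allRange 20592 18 (fun u => chkSlp tab slp u) = true := by decide +kernel

theorem sl_1145 : allRange 20610 18 (fun u => chkSlp tab slp u) = true := by decide +kernel

theorem sl_1146 : allRange 20628 18 (fun u => chkSlp tab slp u) = true := by decide +kernel

theorem sl_1147 : allRange 20646 18 (fun u => chkSlp tab slp u) = true := by decide +kernel

theorem sl_1148 : allRange 20664 18 (fun u => chkSlp tab slp u) = true := by decide +kernel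

theorem sl_1149 : allRange 20682 18 (fun u => chkSlp tab slp u) = true := by decide +kernel

theorem sl_1150 : allRange 20700 18 (fun u => chkSlp tab slp u) = true := by decide +kernel

theorem sl_1151 : allRange 20718 18 (fun u => chkSlp tab slp u) = true := by decide +kernel


end Cfsg.Agent.Helper9.TCData.ONC0
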