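import Cfsg.Agent.Lib.Helper9.TCData.ONC0.Main

set_option autoImplicit false
set_option maxRecDepth 1000000

namespace Cfsg.Agent.Helper9.TCData.ONC0
open Cfsg.Agent.Helper9.TC2

theorem e5_48 : allRange 181487 5571 (fun u => chkE tab 5 u) = true := by decide +kernel

theorem e5_49 : allRange 187058 4398 (fun u => chkE tab 5 u) = true := by decide +kernel

theorem e5_50 : allRange 191456 2820 (fun u => chkE tab 5 u) = true := by decide +kernel

theorem e5_51 : allRange 194276 2078 (fun u => chkE tab 5 u) = true := by decide +kernel

theorem e5_52 : allRange 196354 2042 (fun u => chkE tab 5 u) = true := by decide +kernel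

theorem e5_53 : allRange 198396 1968 (fun u => chkE tab 5 u) = true := by decide +kernel

theorem e5_54 : allRange 200364 2112 (fun u => chkE tab 5 u) = true := by decide +kernel

theorem e5_55 : allRange 202476 2034 (fun u => chkE tab 5 u) = true := by decide +kernel


end Cfsg.Agent.Helper9.TCData.ONC0
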