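import Cfsg.Agent.Lib.Helper9.TCData.ONC0.Main

set_option autoImplicit false
set_option maxRecDepth 1000000

namespace Cfsg.Agent.Helper9.TCData.ONC0
open Cfsg.Agent.Helper9.TC2

theorem sl_1160 : allRange 20880 18 (fun u => chkSlp tab slp u) = true := by decide +kernel

theorem sl_1161 : allRange 20898 18 (fun u => chkSlp tab slp u) = true := by decide +kernel

theorem sl_1162 : allRange 20916 18 (fun u => chkSlp tab slp u) = true := by decide +kernel

theorem sl_1163 : allRange 20934 18 (fun u => chkSlp tab slp u) = true := by decide +kernel

theorem sl_1164 : allRange 20952 18 (fun u => chkSlp tab slp u) = true := by decide +kernel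

theorem sl_1165 : allRange 20970 18 (fun u => chkSlp tab slp u) = true := by decide +kernel

theorem sl_1166 : allRange 20988 18 (fun u => chkSlp tab slp u) = true := by decide +kernel

theorem sl_1167 : allRange 21006 18 (fun u => chkSlp tab slp u) = true := by decide +kernel


end Cfsg.Agent.Helper9.TCData.ONC0
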