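import Cfsg.Agent.Lib.Helper9.TCData.ONC0.Main

set_option autoImplicit false
set_option maxRecDepth 1000000

namespace Cfsg.Agent.Helper9.TCData.ONC0
open Cfsg.Agent.Helper9.TC2

theorem sl_1168 : allRange 21024 18 (fun u => chkSlp tab slp u) = true := by decide +kernel

theorem sl_1169 : allRange 21042 18 (fun u => chkSlp tab slp u) = true := by decide +kernel

theorem sl_1170 : allRange 21060 18 (fun u => chkSlp tab slp u) = true := by decide +kernel

theorem sl_1171 : allRange 21078 18 (fun u => chkSlp tab slp u) = true := by decide +kernel

theorem sl_1172 : allRange 21096 18 (fun u => chkSlp tab slp u) = true := by decide +kernel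

theorem sl_1173 : allRange 21114 18 (fun u => chkSlp tab slp u) = true := by decide +kernel

theorem sl_1174 : allRange 21132 18 (fun u => chkSlp tab slp u) = true := by decide +kernel

theorem sl_1175 : allRange 21150 18 (fun u => chkSlp tab slp u) = true := by decide +kernel


end Cfsg.Agent.Helper9.TCData.ONC0
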