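import Cfsg.Agent.Lib.Helper9.TCData.ONC0.Main

set_option autoImplicit false
set_option maxRecDepth 1000000

namespace Cfsg.Agent.Helper9.TCData.ONC0
open Cfsg.Agent.Helper9.TC2

theorem sl_1208 : allRange 21744 18 (fun u => chkSlp tab slp u) = true := by decide +kernel

theorem sl_1209 : allRange 21762 18 (fun u => chkSlp tab slp u) = true := by decide +kernel

theorem sl_1210 : allRange 21780 18 (fun u => chkSlp tab slp u) = true := by decide +kernel

theorem sl_1211 : allRange 21798 18 (fun u => chkSlp tab slp u) = true := by decide +kernel

theorem sl_1212 : allRange 21816 18 (fun u => chkSlp tab slp u) = true := by decide +kernel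

theorem sl_1213 : allRange 21834 18 (fun u => chkSlp tab slp u) = true := by decide +kernel

theorem sl_1214 : allRange 21852 18 (fun u => chkSlp tab slp u) = true := by decide +kernel

theorem sl_1215 : allRange 21870 18 (fun u => chkSlp tab slp u) = true := by decide +kernel


end Cfsg.Agent.Helper9.TCData.ONC0
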