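import Cfsg.Agent.Lib.Helper9.TCData.ONC0.Main

set_option autoImplicit false
set_option maxRecDepth 1000000

namespace Cfsg.Agent.Helper9.TCData.ONC0
open Cfsg.Agent.Helper9.TC2

theorem sl_1224 : allRange 22032 18 (fun u => chkSlp tab slp u) = true := by decide +kernel

theorem sl_1225 : allRange 22050 18 (fun u => chkSlp tab slp u) = true := by decide +kernel

theorem sl_1226 : allRange 22068 18 (fun u => chkSlp tab slp u) = true := by decide +kernel

theorem sl_1227 : allRange 22086 18 (fun u => chkSlp tab slp u) = true := by decide +kernel

theorem sl_1228 : allRange 22104 18 (fun u => chkSlp tab slp u) = true := by decide +kernel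

theorem sl_1229 : allRange 22122 18 (fun u => chkSlp tab slp u) = true := by decide +kernel

theorem sl_1230 : allRange 22140 18 (fun u => chkSlp tab slp u) = true := by decide +kernel

theorem sl_1231 : allRange 22158 18 (fun u => chkSlp tab slp u) = true := by decide +kernel


end Cfsg.Agent.Helper9.TCData.ONC0
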