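import Cfsg.Agent.Lib.Helper9.TCData.ONC0.Main

set_option autoImplicit false
set_option maxRecDepth 1000000

namespace Cfsg.Agent.Helper9.TCData.ONC0
open Cfsg.Agent.Helper9.TC2

theorem e5_56 : allRange 204510 2049 (fun u => chkE tab 5 u) = true := by decide +kernel

theorem e5_57 : allRange 206559 2190 (fun u => chkE tab 5 u) = true := by decide +kernel

theorem e5_58 : allRange 208749 2101 (fun u => chkE tab 5 u) = true := by decide +kernel

theorem e5_59 : allRange 210850 2148 (fun u => chkE tab 5 u) = true := by decide +kernel

theorem e5_60 : allRange 212998 2118 (fun u => chkE tab 5 u) = true := by decide +kernel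

theorem e5_61 : allRange 215116 2153 (fun u => chkE tab 5 u) = true := by decide +kernel

theorem e5_62 : allRange 217269 2362 (fun u => chkE tab 5 u) = true := by decide +kernel

theorem e5_63 : allRange 219631 2461 (fun u => chkE tab 5 u) = true := by decide +kernel


end Cfsg.Agent.Helper9.TCData.ONC0
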