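import Cfsg.Agent.Lib.Helper9.TCData.ONC0.Main

set_option autoImplicit false
set_option maxRecDepth 1000000

namespace Cfsg.Agent.Helper9.TCData.ONC0
open Cfsg.Agent.Helper9.TC2

theorem sl_1248 : allRange 22464 18 (fun u => chkSlp tab slp u) = true := by decide +kernel

theorem sl_1249 : allRange 22482 18 (fun u => chkSlp tab slp u) = true := by decide +kernel

theorem sl_1250 : allRange 22500 18 (fun u => chkSlp tab slp u) = true := by decide +kernel

theorem sl_1251 : allRange 22518 18 (fun u => chkSlp tab slp u) = true := by decide +kernel

theorem sl_1252 : allRange 22536 18 (fun u => chkSlp tab slp u) = true := by decide +kernel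

theorem sl_1253 : allRange 22554 18 (fun u => chkSlp tab slp u) = true := by decide +kernel

theorem sl_1254 : allRange 22572 18 (fun u => chkSlp tab slp u) = true := by decide +kernel

theorem sl_1255 : allRange 22590 18 (fun u => chkSlp tab slp u) = true := by decide +kernel


end Cfsg.Agent.Helper9.TCData.ONC0
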