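import Cfsg.Agent.Lib.Helper9.TCData.ONC0.Main

set_option autoImplicit false
set_option maxRecDepth 1000000

namespace Cfsg.Agent.Helper9.TCData.ONC0
open Cfsg.Agent.Helper9.TC2

theorem sl_1256 : allRange 22608 18 (fun u => chkSlp tab slp u) = true := by decide +kernel

theorem sl_1257 : allRange 22626 18 (fun u => chkSlp tab slp u) = true := by decide +kernel

theorem sl_1258 : allRange 22644 18 (fun u => chkSlp tab slp u) = true := by decide +kernel

theorem sl_1259 : allRange 22662 18 (fun u => chkSlp tab slp u) = true := by decide +kernel

theorem sl_1260 : allRange 22680 18 (fun u => chkSlp tab slp u) = true := by decide +kernel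

theorem sl_1261 : allRange 22698 18 (fun u => chkSlp tab slp u) = true := by decide +kernel

theorem sl_1262 : allRange 22716 18 (fun u => chkSlp tab slp u) = true := by decide +kernel

theorem sl_1263 : allRange 22734 18 (fun u => chkSlp tab slp u) = true := by decide +kernel


end Cfsg.Agent.Helper9.TCData.ONC0
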