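import Cfsg.Agent.Lib.Helper9.TCData.ONC0.Main

set_option autoImplicit false
set_option maxRecDepth 1000000

namespace Cfsg.Agent.Helper9.TCData.ONC0
open Cfsg.Agent.Helper9.TC2

theorem sl_1272 : allRange 22896 18 (fun u => chkSlp tab slp u) = true := by decide +kernel

theorem sl_1273 : allRange 22914 18 (fun u => chkSlp tab slp u) = true := by decide +kernel

theorem sl_1274 : allRange 22932 18 (fun u => chkSlp tab slp u) = true := by decide +kernel

theorem sl_1275 : allRange 22950 18 (fun u => chkSlp tab slp u) = true := by decide +kernel

theorem sl_1276 : allRange 22968 18 (fun u => chkSlp tab slp u) = true := by decide +kernel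

theorem sl_1277 : allRange 22986 18 (fun u => chkSlp tab slp u) = true := by decide +kernel

theorem sl_1278 : allRange 23004 18 (fun u => chkSlp tab slp u) = true := by decide +kernel

theorem sl_1279 : allRange 23022 18 (fun u => chkSlp tab slp u) = true := by decide +kernel


end Cfsg.Agent.Helper9.TCData.ONC0
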