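import Cfsg.Agent.Lib.Helper9.TCData.ONC0.Main

set_option autoImplicit false
set_option maxRecDepth 1000000

namespace Cfsg.Agent.Helper9.TCData.ONC0
open Cfsg.Agent.Helper9.TC2

theorem sl_1288 : allRange 23184 18 (fun u => chkSlp tab slp u) = true := by decide +kernel

theorem sl_1289 : allRange 23202 18 (fun u => chkSlp tab slp u) = true := by decide +kernel

theorem sl_1290 : allRange 23220 18 (fun u => chkSlp tab slp u) = true := by decide +kernel

theorem sl_1291 : allRange 23238 18 (fun u => chkSlp tab slp u) = true := by decide +kernel

theorem sl_1292 : allRange 23256 18 (fun u => chkSlp tab slp u) = true := by decide +kernel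

theorem sl_1293 : allRange 23274 18 (fun u => chkSlp tab slp u) = true := by decide +kernel

theorem sl_1294 : allRange 23292 18 (fun u => chkSlp tab slp u) = true := by decide +kernel

theorem sl_1295 : allRange 23310 18 (fun u => chkSlp tab slp u) = true := by decide +kernel


end Cfsg.Agent.Helper9.TCData.ONC0
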