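import Cfsg.Agent.Lib.Helper9.TCData.ONC0.Main

set_option autoImplicit false
set_option maxRecDepth 1000000

namespace Cfsg.Agent.Helper9.TCData.ONC0
open Cfsg.Agent.Helper9.TC2

theorem sl_1296 : allRange 23328 18 (fun u => chkSlp tab slp u) = true := by decide +kernel

theorem sl_1297 : allRange 23346 18 (fun u => chkSlp tab slp u) = true := by decide +kernel

theorem sl_1298 : allRange 23364 18 (fun u => chkSlp tab slp u) = true := by decide +kernel

theorem sl_1299 : allRange 23382 18 (fun u => chkSlp tab slp u) = true := by decide +kernel

theorem sl_1300 : allRange 23400 18 (fun u => chkSlp tab slp u) = true := by decide +kernel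

theorem sl_1301 : allRange 23418 18 (fun u => chkSlp tab slp u) = true := by decide +kernel

theorem sl_1302 : allRange 23436 18 (fun u => chkSlp tab slp u) = true := by decide +kernel

theorem sl_1303 : allRange 23454 18 (fun u => chkSlp tab slp u) = true := by decide +kernel


end Cfsg.Agent.Helper9.TCData.ONC0
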