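import Cfsg.Agent.Lib.Helper9.TCData.ONC0.Main

set_option autoImplicit false
set_option maxRecDepth 1000000

namespace Cfsg.Agent.Helper9.TCData.ONC0
open Cfsg.Agent.Helper9.TC2

theorem sl_1320 : allRange 23760 18 (fun u => chkSlp tab slp u) = true := by decide +kernel

theorem sl_1321 : allRange 23778 18 (fun u => chkSlp tab slp u) = true := by decide +kernel

theorem sl_1322 : allRange 23796 18 (fun u => chkSlp tab slp u) = true := by decide +kernel

theorem sl_1323 : allRange 23814 18 (fun u => chkSlp tab slp u) = true := by decide +kernel

theorem sl_1324 : allRange 23832 18 (fun u => chkSlp tab slp u) = true := by decide +kernel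

theorem sl_1325 : allRange 23850 18 (fun u => chkSlp tab slp u) = true := by decide +kernel

theorem sl_1326 : allRange 23868 18 (fun u => chkSlp tab slp u) = true := by decide +kernel

theorem sl_1327 : allRange 23886 18 (fun u => chkSlp tab slp u) = true := by decide +kernel


end Cfsg.Agent.Helper9.TCData.ONC0
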