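import Cfsg.Agent.Lib.Helper9.TCData.ONC0.Main

set_option autoImplicit false
set_option maxRecDepth 1000000

namespace Cfsg.Agent.Helper9.TCData.ONC0
open Cfsg.Agent.Helper9.TC2

theorem sl_1328 : allRange 23904 18 (fun u => chkSlp tab slp u) = true := by decide +kernel

theorem sl_1329 : allRange 23922 18 (fun u => chkSlp tab slp u) = true := by decide +kernel

theorem sl_1330 : allRange 23940 18 (fun u => chkSlp tab slp u) = true := by decide +kernel

theorem sl_1331 : allRange 23958 18 (fun u => chkSlp tab slp u) = true := by decide +kernel

theorem sl_1332 : allRange 23976 18 (fun u => chkSlp tab slp u) = true := by decide +kernel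

theorem sl_1333 : allRange 23994 18 (fun u => chkSlp tab slp u) = true := by decide +kernel

theorem sl_1334 : allRange 24012 18 (fun u => chkSlp tab slp u) = true := by decide +kernel

theorem sl_1335 : allRange 24030 18 (fun u => chkSlp tab slp u) = true := by decide +kernel


end Cfsg.Agent.Helper9.TCData.ONC0
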