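import Cfsg.Agent.Lib.Helper9.TCData.ONC0.Main

set_option autoImplicit false
set_option maxRecDepth 1000000

namespace Cfsg.Agent.Helper9.TCData.ONC0
open Cfsg.Agent.Helper9.TC2

theorem sl_1344 : allRange 24192 18 (fun u => chkSlp tab slp u) = true := by decide +kernel

theorem sl_1345 : allRange 24210 18 (fun u => chkSlp tab slp u) = true := by decide +kernel

theorem sl_1346 : allRange 24228 18 (fun u => chkSlp tab slp u) = true := by decide +kernel

theorem sl_1347 : allRange 24246 18 (fun u => chkSlp tab slp u) = true := by decide +kernel

theorem sl_1348 : allRange 24264 18 (fun u => chkSlp tab slp u) = true := by decide +kernel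

theorem sl_1349 : allRange 24282 18 (fun u => chkSlp tab slp u) = true := by decide +kernel

theorem sl_1350 : allRange 24300 18 (fun u => chkSlp tab slp u) = true := by decide +kernel

theorem sl_1351 : allRange 24318 18 (fun u => chkSlp tab slp u) = true := by decide +kernel


end Cfsg.Agent.Helper9.TCData.ONC0
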