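import Cfsg.Agent.Lib.Helper9.TCData.ONC0.Main

set_option autoImplicit false
set_option maxRecDepth 1000000

namespace Cfsg.Agent.Helper9.TCData.ONC0
open Cfsg.Agent.Helper9.TC2

theorem sl_1352 : allRange 24336 18 (fun u => chkSlp tab slp u) = true := by decide +kernel

theorem sl_1353 : allRange 24354 18 (fun u => chkSlp tab slp u) = true := by decide +kernel

theorem sl_1354 : allRange 24372 18 (fun u => chkSlp tab slp u) = true := by decide +kernel

theorem sl_1355 : allRange 24390 18 (fun u => chkSlp tab slp u) = true := by decide +kernel

theorem sl_1356 : allRange 24408 18 (fun u => chkSlp tab slp u) = true := by decide +kernel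

theorem sl_1357 : allRange 24426 18 (fun u => chkSlp tab slp u) = true := by decide +kernel

theorem sl_1358 : allRange 24444 18 (fun u => chkSlp tab slp u) = true := by decide +kernel

theorem sl_1359 : allRange 24462 18 (fun u => chkSlp tab slp u) = true := by decide +kernel


end Cfsg.Agent.Helper9.TCData.ONC0
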