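import Cfsg.Agent.Lib.Helper9.TCData.ONC0.Main

set_option autoImplicit false
set_option maxRecDepth 1000000

namespace Cfsg.Agent.Helper9.TCData.ONC0
open Cfsg.Agent.Helper9.TC2

theorem sl_1368 : allRange 24624 18 (fun u => chkSlp tab slp u) = true := by decide +kernel

theorem sl_1369 : allRange 24642 18 (fun u => chkSlp tab slp u) = true := by decide +kernel

theorem sl_1370 : allRange 24660 18 (fun u => chkSlp tab slp u) = true := by decide +kernel

theorem sl_1371 : allRange 24678 18 (fun u => chkSlp tab slp u) = true := by decide +kernel

theorem sl_1372 : allRange 24696 18 (fun u => chkSlp tab slp u) = true := by decide +kernel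

theorem sl_1373 : allRange 24714 18 (fun u => chkSlp tab slp u) = true := by decide +kernel

theorem sl_1374 : allRange 24732 18 (fun u => chkSlp tab slp u) = true := by decide +kernel

theorem sl_1375 : allRange 24750 18 (fun u => chkSlp tab slp u) = true := by decide +kernel


end Cfsg.Agent.Helper9.TCData.ONC0
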