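import Cfsg.Agent.Lib.Helper9.TCData.ONC0.Main

set_option autoImplicit false
set_option maxRecDepth 1000000

namespace Cfsg.Agent.Helper9.TCData.ONC0
open Cfsg.Agent.Helper9.TC2

theorem sl_1376 : allRange 24768 18 (fun u => chkSlp tab slp u) = true := by decide +kernel

theorem sl_1377 : allRange 24786 18 (fun u => chkSlp tab slp u) = true := by decide +kernel

theorem sl_1378 : allRange 24804 18 (fun u => chkSlp tab slp u) = true := by decide +kernel

theorem sl_1379 : allRange 24822 18 (fun u => chkSlp tab slp u) = true := by decide +kernel

theorem sl_1380 : allRange 24840 18 (fun u => chkSlp tab slp u) = true := by decide +kernel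

theorem sl_1381 : allRange 24858 18 (fun u => chkSlp tab slp u) = true := by decide +kernel

theorem sl_1382 : allRange 24876 18 (fun u => chkSlp tab slp u) = true := by decide +kernel

theorem sl_1383 : allRange 24894 18 (fun u => chkSlp tab slp u) = true := by decide +kernel


end Cfsg.Agent.Helper9.TCData.ONC0
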