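import Cfsg.Agent.Lib.Helper9.TCData.ONC0.Main

set_option autoImplicit false
set_option maxRecDepth 1000000

namespace Cfsg.Agent.Helper9.TCData.ONC0
open Cfsg.Agent.Helper9.TC2

theorem sl_1384 : allRange 24912 18 (fun u => chkSlp tab slp u) = true := by decide +kernel

theorem sl_1385 : allRange 24930 18 (fun u => chkSlp tab slp u) = true := by decide +kernel

theorem sl_1386 : allRange 24948 18 (fun u => chkSlp tab slp u) = true := by decide +kernel

theorem sl_1387 : allRange 24966 18 (fun u => chkSlp tab slp u) = true := by decide +kernel

theorem sl_1388 : allRange 24984 18 (fun u => chkSlp tab slp u) = true := by decide +kernel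

theorem sl_1389 : allRange 25002 18 (fun u => chkSlp tab slp u) = true := by decide +kernel

theorem sl_1390 : allRange 25020 18 (fun u => chkSlp tab slp u) = true := by decide +kernel

theorem sl_1391 : allRange 25038 18 (fun u => chkSlp tab slp u) = true := by decide +kernel


end Cfsg.Agent.Helper9.TCData.ONC0
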