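import Cfsg.Agent.Lib.Helper9.TCData.ONC0.Main

set_option autoImplicit false
set_option maxRecDepth 1000000

namespace Cfsg.Agent.Helper9.TCData.ONC0
open Cfsg.Agent.Helper9.TC2

theorem sl_1400 : allRange 25200 18 (fun u => chkSlp tab slp u) = true := by decide +kernel

theorem sl_1401 : allRange 25218 18 (fun u => chkSlp tab slp u) = true := by decide +kernel

theorem sl_1402 : allRange 25236 18 (fun u => chkSlp tab slp u) = true := by decide +kernel

theorem sl_1403 : allRange 25254 18 (fun u => chkSlp tab slp u) = true := by decide +kernel

theorem sl_1404 : allRange 25272 18 (fun u => chkSlp tab slp u) = true := by decide +kernel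

theorem sl_1405 : allRange 25290 18 (fun u => chkSlp tab slp u) = true := by decide +kernel

theorem sl_1406 : allRange 25308 18 (fun u => chkSlp tab slp u) = true := by decide +kernel

theorem sl_1407 : allRange 25326 18 (fun u => chkSlp tab slp u) = true := by decide +kernel


end Cfsg.Agent.Helper9.TCData.ONC0
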