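import Cfsg.Agent.Lib.Helper9.TCData.ONC0.Main

set_option autoImplicit false
set_option maxRecDepth 1000000

namespace Cfsg.Agent.Helper9.TCData.ONC0
open Cfsg.Agent.Helper9.TC2

theorem sl_1440 : allRange 25920 18 (fun u => chkSlp tab slp u) = true := by decide +kernel

theorem sl_1441 : allRange 25938 18 (fun u => chkSlp tab slp u) = true := by decide +kernel

theorem sl_1442 : allRange 25956 18 (fun u => chkSlp tab slp u) = true := by decide +kernel

theorem sl_1443 : allRange 25974 18 (fun u => chkSlp tab slp u) = true := by decide +kernel

theorem sl_1444 : allRange 25992 18 (fun u => chkSlp tab slp u) = true := by decide +kernel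

theorem sl_1445 : allRange 26010 18 (fun u => chkSlp tab slp u) = true := by decide +kernel

theorem sl_1446 : allRange 26028 18 (fun u => chkSlp tab slp u) = true := by decide +kernel

theorem sl_1447 : allRange 26046 18 (fun u => chkSlp tab slp u) = true := by decide +kernel


end Cfsg.Agent.Helper9.TCData.ONC0
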