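import Cfsg.Agent.Lib.Helper9.TCData.ONC0.Main

set_option autoImplicit false
set_option maxRecDepth 1000000

namespace Cfsg.Agent.Helper9.TCData.ONC0
open Cfsg.Agent.Helper9.TC2

theorem sl_1448 : allRange 26064 18 (fun u => chkSlp tab slp u) = true := by decide +kernel

theorem sl_1449 : allRange 26082 18 (fun u => chkSlp tab slp u) = true := by decide +kernel

theorem sl_1450 : allRange 26100 18 (fun u => chkSlp tab slp u) = true := by decide +kernel

theorem sl_1451 : allRange 26118 18 (fun u => chkSlp tab slp u) = true := by decide +kernel

theorem sl_1452 : allRange 26136 18 (fun u => chkSlp tab slp u) = true := by decide +kernel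

theorem sl_1453 : allRange 26154 18 (fun u => chkSlp tab slp u) = true := by decide +kernel

theorem sl_1454 : allRange 26172 18 (fun u => chkSlp tab slp u) = true := by decide +kernel

theorem sl_1455 : allRange 26190 18 (fun u => chkSlp tab slp u) = true := by decide +kernel


end Cfsg.Agent.Helper9.TCData.ONC0
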