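import Cfsg.Agent.Lib.Helper9.TCData.ONC0.Main

set_option autoImplicit false
set_option maxRecDepth 1000000

namespace Cfsg.Agent.Helper9.TCData.ONC0
open Cfsg.Agent.Helper9.TC2

theorem sl_1456 : allRange 26208 18 (fun u => chkSlp tab slp u) = true := by decide +kernel

theorem sl_1457 : allRange 26226 18 (fun u => chkSlp tab slp u) = true := by decide +kernel

theorem sl_1458 : allRange 26244 18 (fun u => chkSlp tab slp u) = true := by decide +kernel

theorem sl_1459 : allRange 26262 18 (fun u => chkSlp tab slp u) = true := by decide +kernel

theorem sl_1460 : allRange 26280 18 (fun u => chkSlp tab slp u) = true := by decide +kernel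

theorem sl_1461 : allRange 26298 18 (fun u => chkSlp tab slp u) = true := by decide +kernel

theorem sl_1462 : allRange 26316 18 (fun u => chkSlp tab slp u) = true := by decide +kernel

theorem sl_1463 : allRange 26334 18 (fun u => chkSlp tab slp u) = true := by decide +kernel


end Cfsg.Agent.Helper9.TCData.ONC0
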