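import Cfsg.Agent.Lib.Helper9.TCData.ONC0.Main

set_option autoImplicit false
set_option maxRecDepth 1000000

namespace Cfsg.Agent.Helper9.TCData.ONC0
open Cfsg.Agent.Helper9.TC2

theorem e6_12 : allRange 53641 4741 (fun u => chkE tab 6 u) = true := by decide +kernel

theorem e6_13 : allRange 58382 4601 (fun u => chkE tab 6 u) = true := by decide +kernel

theorem e6_14 : allRange 62983 4498 (fun u => chkE tab 6 u) = true := by decide +kernel

theorem e6_15 : allRange 67481 4457 (fun u => chkE tab 6 u) = true := by decide +kernel

theorem e6_16 : allRange 71938 4637 (fun u => chkE tab 6 u) = true := by decide +kernel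

theorem e6_17 : allRange 76575 4587 (fun u => chkE tab 6 u) = true := by decide +kernel

theorem e6_18 : allRange 81162 4082 (fun u => chkE tab 6 u) = true := by decide +kernel

theorem e6_19 : allRange 85244 4313 (fun u => chkE tab 6 u) = true := by decide +kernel


end Cfsg.Agent.Helper9.TCData.ONC0
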