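import Cfsg.Agent.Lib.Helper9.TCData.ONC0.Main

set_option autoImplicit false
set_option maxRecDepth 1000000

namespace Cfsg.Agent.Helper9.TCData.ONC0
open Cfsg.Agent.Helper9.TC2

theorem sl_1480 : allRange 26640 18 (fun u => chkSlp tab slp u) = true := by decide +kernel

theorem sl_1481 : allRange 26658 18 (fun u => chkSlp tab slp u) = true := by decide +kernel

theorem sl_1482 : allRange 26676 18 (fun u => chkSlp tab slp u) = true := by decide +kernel

theorem sl_1483 : allRange 26694 18 (fun u => chkSlp tab slp u) = true := by decide +kernel

theorem sl_1484 : allRange 26712 18 (fun u => chkSlp tab slp u) = true := by decide +kernel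

theorem sl_1485 : allRange 26730 18 (fun u => chkSlp tab slp u) = true := by decide +kernel

theorem sl_1486 : allRange 26748 18 (fun u => chkSlp tab slp u) = true := by decide +kernel

theorem sl_1487 : allRange 26766 18 (fun u => chkSlp tab slp u) = true := by decide +kernel


end Cfsg.Agent.Helper9.TCData.ONC0
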