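import Cfsg.Agent.Lib.Helper9.TCData.ONC0.Main

set_option autoImplicit false
set_option maxRecDepth 1000000

namespace Cfsg.Agent.Helper9.TCData.ONC0
open Cfsg.Agent.Helper9.TC2

theorem sl_1488 : allRange 26784 18 (fun u => chkSlp tab slp u) = true := by decide +kernel

theorem sl_1489 : allRange 26802 18 (fun u => chkSlp tab slp u) = true := by decide +kernel

theorem sl_1490 : allRange 26820 18 (fun u => chkSlp tab slp u) = true := by decide +kernel

theorem sl_1491 : allRange 26838 18 (fun u => chkSlp tab slp u) = true := by decide +kernel

theorem sl_1492 : allRange 26856 18 (fun u => chkSlp tab slp u) = true := by decide +kernel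

theorem sl_1493 : allRange 26874 18 (fun u => chkSlp tab slp u) = true := by decide +kernel

theorem sl_1494 : allRange 26892 18 (fun u => chkSlp tab slp u) = true := by decide +kernel

theorem sl_1495 : allRange 26910 18 (fun u => chkSlp tab slp u) = true := by decide +kernel


end Cfsg.Agent.Helper9.TCData.ONC0
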