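import Cfsg.Agent.Lib.Helper9.TCData.ONC0.Main

set_option autoImplicit false
set_option maxRecDepth 1000000

namespace Cfsg.Agent.Helper9.TCData.ONC0
open Cfsg.Agent.Helper9.TC2

theorem sl_1520 : allRange 27360 18 (fun u => chkSlp tab slp u) = true := by decide +kernel

theorem sl_1521 : allRange 27378 18 (fun u => chkSlp tab slp u) = true := by decide +kernel

theorem sl_1522 : allRange 27396 18 (fun u => chkSlp tab slp u) = true := by decide +kernel

theorem sl_1523 : allRange 27414 18 (fun u => chkSlp tab slp u) = true := by decide +kernel

theorem sl_1524 : allRange 27432 18 (fun u => chkSlp tab slp u) = true := by decide +kernel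

theorem sl_1525 : allRange 27450 18 (fun u => chkSlp tab slp u) = true := by decide +kernel

theorem sl_1526 : allRange 27468 18 (fun u => chkSlp tab slp u) = true := by decide +kernel

theorem sl_1527 : allRange 27486 18 (fun u => chkSlp tab slp u) = true := by decide +kernel


end Cfsg.Agent.Helper9.TCData.ONC0
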