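import Cfsg.Agent.Lib.Helper9.TCData.ONC0.Main

set_option autoImplicit false
set_option maxRecDepth 1000000

namespace Cfsg.Agent.Helper9.TCData.ONC0
open Cfsg.Agent.Helper9.TC2

theorem sl_1536 : allRange 27648 18 (fun u => chkSlp tab slp u) = true := by decide +kernel

theorem sl_1537 : allRange 27666 18 (fun u => chkSlp tab slp u) = true := by decide +kernel

theorem sl_1538 : allRange 27684 18 (fun u => chkSlp tab slp u) = true := by decide +kernel

theorem sl_1539 : allRange 27702 18 (fun u => chkSlp tab slp u) = true := by decide +kernel

theorem sl_1540 : allRange 27720 18 (fun u => chkSlp tab slp u) = true := by decide +kernel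

theorem sl_1541 : allRange 27738 18 (fun u => chkSlp tab slp u) = true := by decide +kernel

theorem sl_1542 : allRange 27756 18 (fun u => chkSlp tab slp u) = true := by decide +kernel

theorem sl_1543 : allRange 27774 18 (fun u => chkSlp tab slp u) = true := by decide +kernel


end Cfsg.Agent.Helper9.TCData.ONC0
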