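import Cfsg.Agent.Lib.Helper9.TCData.ONC0.Main

set_option autoImplicit false
set_option maxRecDepth 1000000

namespace Cfsg.Agent.Helper9.TCData.ONC0
open Cfsg.Agent.Helper9.TC2

theorem sl_1560 : allRange 28080 18 (fun u => chkSlp tab slp u) = true := by decide +kernel

theorem sl_1561 : allRange 28098 18 (fun u => chkSlp tab slp u) = true := by decide +kernel

theorem sl_1562 : allRange 28116 18 (fun u => chkSlp tab slp u) = true := by decide +kernel

theorem sl_1563 : allRange 28134 18 (fun u => chkSlp tab slp u) = true := by decide +kernel

theorem sl_1564 : allRange 28152 18 (fun u => chkSlp tab slp u) = true := by decide +kernel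

theorem sl_1565 : allRange 28170 18 (fun u => chkSlp tab slp u) = true := by decide +kernel

theorem sl_1566 : allRange 28188 18 (fun u => chkSlp tab slp u) = true := by decide +kernel

theorem sl_1567 : allRange 28206 18 (fun u => chkSlp tab slp u) = true := by decide +kernel


end Cfsg.Agent.Helper9.TCData.ONC0
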