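import Cfsg.Agent.Lib.Helper9.TCData.ONC0.Main

set_option autoImplicit false
set_option maxRecDepth 1000000

namespace Cfsg.Agent.Helper9.TCData.ONC0
open Cfsg.Agent.Helper9.TC2

theorem sl_1568 : allRange 28224 18 (fun u => chkSlp tab slp u) = true := by decide +kernel

theorem sl_1569 : allRange 28242 18 (fun u => chkSlp tab slp u) = true := by decide +kernel

theorem sl_1570 : allRange 28260 18 (fun u => chkSlp tab slp u) = true := by decide +kernel

theorem sl_1571 : allRange 28278 18 (fun u => chkSlp tab slp u) = true := by decide +kernel

theorem sl_1572 : allRange 28296 18 (fun u => chkSlp tab slp u) = true := by decide +kernel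

theorem sl_1573 : allRange 28314 18 (fun u => chkSlp tab slp u) = true := by decide +kernel

theorem sl_1574 : allRange 28332 18 (fun u => chkSlp tab slp u) = true := by decide +kernel

theorem sl_1575 : allRange 28350 18 (fun u => chkSlp tab slp u) = true := by decide +kernel


end Cfsg.Agent.Helper9.TCData.ONC0
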