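import Cfsg.Agent.Lib.Helper9.TCData.ONC0.Main

set_option autoImplicit false
set_option maxRecDepth 1000000

namespace Cfsg.Agent.Helper9.TCData.ONC0
open Cfsg.Agent.Helper9.TC2

theorem sl_1576 : allRange 28368 18 (fun u => chkSlp tab slp u) = true := by decide +kernel

theorem sl_1577 : allRange 28386 18 (fun u => chkSlp tab slp u) = true := by decide +kernel

theorem sl_1578 : allRange 28404 18 (fun u => chkSlp tab slp u) = true := by decide +kernel

theorem sl_1579 : allRange 28422 18 (fun u => chkSlp tab slp u) = true := by decide +kernel

theorem sl_1580 : allRange 28440 18 (fun u => chkSlp tab slp u) = true := by decide +kernel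

theorem sl_1581 : allRange 28458 18 (fun u => chkSlp tab slp u) = true := by decide +kernel

theorem sl_1582 : allRange 28476 18 (fun u => chkSlp tab slp u) = true := by decide +kernel

theorem sl_1583 : allRange 28494 18 (fun u => chkSlp tab slp u) = true := by decide +kernel


end Cfsg.Agent.Helper9.TCData.ONC0
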