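import Cfsg.Agent.Lib.Helper9.TCData.ONC0.Main

set_option autoImplicit false
set_option maxRecDepth 1000000

namespace Cfsg.Agent.Helper9.TCData.ONC0
open Cfsg.Agent.Helper9.TC2

theorem sl_1584 : allRange 28512 18 (fun u => chkSlp tab slp u) = true := by decide +kernel

theorem sl_1585 : allRange 28530 18 (fun u => chkSlp tab slp u) = true := by decide +kernel

theorem sl_1586 : allRange 28548 18 (fun u => chkSlp tab slp u) = true := by decide +kernel

theorem sl_1587 : allRange 28566 18 (fun u => chkSlp tab slp u) = true := by decide +kernel

theorem sl_1588 : allRange 28584 18 (fun u => chkSlp tab slp u) = true := by decide +kernel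

theorem sl_1589 : allRange 28602 18 (fun u => chkSlp tab slp u) = true := by decide +kernel

theorem sl_1590 : allRange 28620 18 (fun u => chkSlp tab slp u) = true := by decide +kernel

theorem sl_1591 : allRange 28638 18 (fun u => chkSlp tab slp u) = true := by decide +kernel


end Cfsg.Agent.Helper9.TCData.ONC0
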