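import Cfsg.Agent.Lib.Helper9.TCData.ONC0.Main

set_option autoImplicit false
set_option maxRecDepth 1000000

namespace Cfsg.Agent.Helper9.TCData.ONC0
open Cfsg.Agent.Helper9.TC2

theorem sl_1592 : allRange 28656 18 (fun u => chkSlp tab slp u) = true := by decide +kernel

theorem sl_1593 : allRange 28674 18 (fun u => chkSlp tab slp u) = true := by decide +kernel

theorem sl_1594 : allRange 28692 18 (fun u => chkSlp tab slp u) = true := by decide +kernel

theorem sl_1595 : allRange 28710 18 (fun u => chkSlp tab slp u) = true := by decide +kernel

theorem sl_1596 : allRange 28728 18 (fun u => chkSlp tab slp u) = true := by decide +kernel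

theorem sl_1597 : allRange 28746 18 (fun u => chkSlp tab slp u) = true := by decide +kernel

theorem sl_1598 : allRange 28764 18 (fun u => chkSlp tab slp u) = true := by decide +kernel

theorem sl_1599 : allRange 28782 18 (fun u => chkSlp tab slp u) = true := by decide +kernel


end Cfsg.Agent.Helper9.TCData.ONC0
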