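import Cfsg.Agent.Lib.Helper9.TCData.ONC0.Main

set_option autoImplicit false
set_option maxRecDepth 1000000

namespace Cfsg.Agent.Helper9.TCData.ONC0
open Cfsg.Agent.Helper9.TC2

theorem sl_1632 : allRange 29376 18 (fun u => chkSlp tab slp u) = true := by decide +kernel

theorem sl_1633 : allRange 29394 18 (fun u => chkSlp tab slp u) = true := by decide +kernel

theorem sl_1634 : allRange 29412 18 (fun u => chkSlp tab slp u) = true := by decide +kernel

theorem sl_1635 : allRange 29430 18 (fun u => chkSlp tab slp u) = true := by decide +kernel

theorem sl_1636 : allRange 29448 18 (fun u => chkSlp tab slp u) = true := by decide +kernel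

theorem sl_1637 : allRange 29466 18 (fun u => chkSlp tab slp u) = true := by decide +kernel

theorem sl_1638 : allRange 29484 18 (fun u => chkSlp tab slp u) = true := by decide +kernel

theorem sl_1639 : allRange 29502 18 (fun u => chkSlp tab slp u) = true := by decide +kernel


end Cfsg.Agent.Helper9.TCData.ONC0
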