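import Cfsg.Agent.Lib.Helper9.TCData.ONC0.Main

set_option autoImplicit false
set_option maxRecDepth 1000000

namespace Cfsg.Agent.Helper9.TCData.ONC0
open Cfsg.Agent.Helper9.TC2

theorem e6_28 : allRange 127624 3816 (fun u => chkE tab 6 u) = true := by decide +kernel

theorem e6_29 : allRange 131440 3926 (fun u => chkE tab 6 u) = true := by decide +kernel

theorem e6_30 : allRange 135366 4018 (fun u => chkE tab 6 u) = true := by decide +kernel

theorem e6_31 : allRange 139384 4292 (fun u => chkE tab 6 u) = true := by decide +kernel

theorem e6_32 : allRange 143676 5540 (fun u => chkE tab 6 u) = true := by decide +kernel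

theorem e6_33 : allRange 149216 4746 (fun u => chkE tab 6 u) = true := by decide +kernel

theorem e6_34 : allRange 153962 5119 (fun u => chkE tab 6 u) = true := by decide +kernel

theorem e6_35 : allRange 159081 5118 (fun u => chkE tab 6 u) = true := by decide +kernel


end Cfsg.Agent.Helper9.TCData.ONC0
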