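import Cfsg.Agent.Lib.Helper9.TCData.ONC0.Main

set_option autoImplicit false
set_option maxRecDepth 1000000

namespace Cfsg.Agent.Helper9.TCData.ONC0
open Cfsg.Agent.Helper9.TC2

theorem sl_1640 : allRange 29520 18 (fun u => chkSlp tab slp u) = true := by decide +kernel

theorem sl_1641 : allRange 29538 18 (fun u => chkSlp tab slp u) = true := by decide +kernel

theorem sl_1642 : allRange 29556 18 (fun u => chkSlp tab slp u) = true := by decide +kernel

theorem sl_1643 : allRange 29574 18 (fun u => chkSlp tab slp u) = true := by decide +kernel

theorem sl_1644 : allRange 29592 18 (fun u => chkSlp tab slp u) = true := by decide +kernel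

theorem sl_1645 : allRange 29610 18 (fun u => chkSlp tab slp u) = true := by decide +kernel

theorem sl_1646 : allRange 29628 18 (fun u => chkSlp tab slp u) = true := by decide +kernel

theorem sl_1647 : allRange 29646 18 (fun u => chkSlp tab slp u) = true := by decide +kernel


end Cfsg.Agent.Helper9.TCData.ONC0
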