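import Cfsg.Agent.Lib.Helper9.TCData.ONC0.Main

set_option autoImplicit false
set_option maxRecDepth 1000000

namespace Cfsg.Agent.Helper9.TCData.ONC0
open Cfsg.Agent.Helper9.TC2

theorem sl_1648 : allRange 29664 18 (fun u => chkSlp tab slp u) = true := by decide +kernel

theorem sl_1649 : allRange 29682 18 (fun u => chkSlp tab slp u) = true := by decide +kernel

theorem sl_1650 : allRange 29700 18 (fun u => chkSlp tab slp u) = true := by decide +kernel

theorem sl_1651 : allRange 29718 18 (fun u => chkSlp tab slp u) = true := by decide +kernel

theorem sl_1652 : allRange 29736 18 (fun u => chkSlp tab slp u) = true := by decide +kernel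

theorem sl_1653 : allRange 29754 18 (fun u => chkSlp tab slp u) = true := by decide +kernel

theorem sl_1654 : allRange 29772 18 (fun u => chkSlp tab slp u) = true := by decide +kernel

theorem sl_1655 : allRange 29790 18 (fun u => chkSlp tab slp u) = true := by decide +kernel


end Cfsg.Agent.Helper9.TCData.ONC0
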