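import Cfsg.Agent.Lib.Helper9.TCData.ONC0.Main

set_option autoImplicit false
set_option maxRecDepth 1000000

namespace Cfsg.Agent.Helper9.TCData.ONC0
open Cfsg.Agent.Helper9.TC2

theorem sl_1656 : allRange 29808 18 (fun u => chkSlp tab slp u) = true := by decide +kernel

theorem sl_1657 : allRange 29826 18 (fun u => chkSlp tab slp u) = true := by decide +kernel

theorem sl_1658 : allRange 29844 18 (fun u => chkSlp tab slp u) = true := by decide +kernel

theorem sl_1659 : allRange 29862 18 (fun u => chkSlp tab slp u) = true := by decide +kernel

theorem sl_1660 : allRange 29880 18 (fun u => chkSlp tab slp u) = true := by decide +kernel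

theorem sl_1661 : allRange 29898 18 (fun u => chkSlp tab slp u) = true := by decide +kernel

theorem sl_1662 : allRange 29916 18 (fun u => chkSlp tab slp u) = true := by decide +kernel

theorem sl_1663 : allRange 29934 18 (fun u => chkSlp tab slp u) = true := by decide +kernel


end Cfsg.Agent.Helper9.TCData.ONC0
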