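import Cfsg.Agent.Lib.Helper9.TCData.ONC0.Main

set_option autoImplicit false
set_option maxRecDepth 1000000

namespace Cfsg.Agent.Helper9.TCData.ONC0
open Cfsg.Agent.Helper9.TC2

theorem sl_1672 : allRange 30096 18 (fun u => chkSlp tab slp u) = true := by decide +kernel

theorem sl_1673 : allRange 30114 18 (fun u => chkSlp tab slp u) = true := by decide +kernel

theorem sl_1674 : allRange 30132 18 (fun u => chkSlp tab slp u) = true := by decide +kernel

theorem sl_1675 : allRange 30150 18 (fun u => chkSlp tab slp u) = true := by decide +kernel

theorem sl_1676 : allRange 30168 18 (fun u => chkSlp tab slp u) = true := by decide +kernel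

theorem sl_1677 : allRange 30186 18 (fun u => chkSlp tab slp u) = true := by decide +kernel

theorem sl_1678 : allRange 30204 18 (fun u => chkSlp tab slp u) = true := by decide +kernel

theorem sl_1679 : allRange 30222 18 (fun u => chkSlp tab slp u) = true := by decide +kernel


end Cfsg.Agent.Helper9.TCData.ONC0
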