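import Cfsg.Agent.Lib.Helper9.TCData.ONC0.Main

set_option autoImplicit false
set_option maxRecDepth 1000000

namespace Cfsg.Agent.Helper9.TCData.ONC0
open Cfsg.Agent.Helper9.TC2

theorem sl_1704 : allRange 30672 18 (fun u => chkSlp tab slp u) = true := by decide +kernel

theorem sl_1705 : allRange 30690 18 (fun u => chkSlp tab slp u) = true := by decide +kernel

theorem sl_1706 : allRange 30708 18 (fun u => chkSlp tab slp u) = true := by decide +kernel

theorem sl_1707 : allRange 30726 18 (fun u => chkSlp tab slp u) = true := by decide +kernel

theorem sl_1708 : allRange 30744 18 (fun u => chkSlp tab slp u) = true := by decide +kernel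

theorem sl_1709 : allRange 30762 18 (fun u => chkSlp tab slp u) = true := by decide +kernel

theorem sl_1710 : allRange 30780 18 (fun u => chkSlp tab slp u) = true := by decide +kernel

theorem sl_1711 : allRange 30798 18 (fun u => chkSlp tab slp u) = true := by decide +kernel


end Cfsg.Agent.Helper9.TCData.ONC0
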