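import Cfsg.Agent.Lib.Helper9.TCData.ONC0.Main

set_option autoImplicit false
set_option maxRecDepth 1000000

namespace Cfsg.Agent.Helper9.TCData.ONC0
open Cfsg.Agent.Helper9.TC2

theorem sl_1720 : allRange 30960 18 (fun u => chkSlp tab slp u) = true := by decide +kernel

theorem sl_1721 : allRange 30978 18 (fun u => chkSlp tab slp u) = true := by decide +kernel

theorem sl_1722 : allRange 30996 18 (fun u => chkSlp tab slp u) = true := by decide +kernel

theorem sl_1723 : allRange 31014 18 (fun u => chkSlp tab slp u) = true := by decide +kernel

theorem sl_1724 : allRange 31032 18 (fun u => chkSlp tab slp u) = true := by decide +kernel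

theorem sl_1725 : allRange 31050 18 (fun u => chkSlp tab slp u) = true := by decide +kernel

theorem sl_1726 : allRange 31068 18 (fun u => chkSlp tab slp u) = true := by decide +kernel

theorem sl_1727 : allRange 31086 18 (fun u => chkSlp tab slp u) = true := by decide +kernel


end Cfsg.Agent.Helper9.TCData.ONC0
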