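import Cfsg.Agent.Lib.Helper9.TCData.ONC0.Main

set_option autoImplicit false
set_option maxRecDepth 1000000

namespace Cfsg.Agent.Helper9.TCData.ONC0
open Cfsg.Agent.Helper9.TC2

theorem sl_1736 : allRange 31248 18 (fun u => chkSlp tab slp u) = true := by decide +kernel

theorem sl_1737 : allRange 31266 18 (fun u => chkSlp tab slp u) = true := by decide +kernel

theorem sl_1738 : allRange 31284 18 (fun u => chkSlp tab slp u) = true := by decide +kernel

theorem sl_1739 : allRange 31302 18 (fun u => chkSlp tab slp u) = true := by decide +kernel

theorem sl_1740 : allRange 31320 18 (fun u => chkSlp tab slp u) = true := by decide +kernel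

theorem sl_1741 : allRange 31338 18 (fun u => chkSlp tab slp u) = true := by decide +kernel

theorem sl_1742 : allRange 31356 18 (fun u => chkSlp tab slp u) = true := by decide +kernel

theorem sl_1743 : allRange 31374 18 (fun u => chkSlp tab slp u) = true := by decide +kernel


end Cfsg.Agent.Helper9.TCData.ONC0
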