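import Cfsg.Agent.Lib.Helper9.TCData.ONC0.Main

set_option autoImplicit false
set_option maxRecDepth 1000000

namespace Cfsg.Agent.Helper9.TCData.ONC0
open Cfsg.Agent.Helper9.TC2

theorem sl_1744 : allRange 31392 18 (fun u => chkSlp tab slp u) = true := by decide +kernel

theorem sl_1745 : allRange 31410 18 (fun u => chkSlp tab slp u) = true := by decide +kernel

theorem sl_1746 : allRange 31428 18 (fun u => chkSlp tab slp u) = true := by decide +kernel

theorem sl_1747 : allRange 31446 18 (fun u => chkSlp tab slp u) = true := by decide +kernel

theorem sl_1748 : allRange 31464 18 (fun u => chkSlp tab slp u) = true := by decide +kernel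

theorem sl_1749 : allRange 31482 18 (fun u => chkSlp tab slp u) = true := by decide +kernel

theorem sl_1750 : allRange 31500 18 (fun u => chkSlp tab slp u) = true := by decide +kernel

theorem sl_1751 : allRange 31518 18 (fun u => chkSlp tab slp u) = true := by decide +kernel


end Cfsg.Agent.Helper9.TCData.ONC0
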