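import Cfsg.Agent.Lib.Helper9.TCData.ONC0.Main

set_option autoImplicit false
set_option maxRecDepth 1000000

namespace Cfsg.Agent.Helper9.TCData.ONC0
open Cfsg.Agent.Helper9.TC2

theorem sl_1752 : allRange 31536 18 (fun u => chkSlp tab slp u) = true := by decide +kernel

theorem sl_1753 : allRange 31554 18 (fun u => chkSlp tab slp u) = true := by decide +kernel

theorem sl_1754 : allRange 31572 18 (fun u => chkSlp tab slp u) = true := by decide +kernel

theorem sl_1755 : allRange 31590 18 (fun u => chkSlp tab slp u) = true := by decide +kernel

theorem sl_1756 : allRange 31608 18 (fun u => chkSlp tab slp u) = true := by decide +kernel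

theorem sl_1757 : allRange 31626 18 (fun u => chkSlp tab slp u) = true := by decide +kernel

theorem sl_1758 : allRange 31644 18 (fun u => chkSlp tab slp u) = true := by decide +kernel

theorem sl_1759 : allRange 31662 18 (fun u => chkSlp tab slp u) = true := by decide +kernel


end Cfsg.Agent.Helper9.TCData.ONC0
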