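import Cfsg.Agent.Lib.Helper9.TCData.ONC0.Main

set_option autoImplicit false
set_option maxRecDepth 1000000

namespace Cfsg.Agent.Helper9.TCData.ONC0
open Cfsg.Agent.Helper9.TC2

theorem sl_1760 : allRange 31680 18 (fun u => chkSlp tab slp u) = true := by decide +kernel

theorem sl_1761 : allRange 31698 18 (fun u => chkSlp tab slp u) = true := by decide +kernel

theorem sl_1762 : allRange 31716 18 (fun u => chkSlp tab slp u) = true := by decide +kernel

theorem sl_1763 : allRange 31734 18 (fun u => chkSlp tab slp u) = true := by decide +kernel

theorem sl_1764 : allRange 31752 18 (fun u => chkSlp tab slp u) = true := by decide +kernel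

theorem sl_1765 : allRange 31770 18 (fun u => chkSlp tab slp u) = true := by decide +kernel

theorem sl_1766 : allRange 31788 18 (fun u => chkSlp tab slp u) = true := by decide +kernel

theorem sl_1767 : allRange 31806 18 (fun u => chkSlp tab slp u) = true := by decide +kernel


end Cfsg.Agent.Helper9.TCData.ONC0
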