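import Cfsg.Agent.Lib.Helper9.TCData.ONC0.Main

set_option autoImplicit false
set_option maxRecDepth 1000000

namespace Cfsg.Agent.Helper9.TCData.ONC0
open Cfsg.Agent.Helper9.TC2

theorem sl_1768 : allRange 31824 18 (fun u => chkSlp tab slp u) = true := by decide +kernel

theorem sl_1769 : allRange 31842 18 (fun u => chkSlp tab slp u) = true := by decide +kernel

theorem sl_1770 : allRange 31860 18 (fun u => chkSlp tab slp u) = true := by decide +kernel

theorem sl_1771 : allRange 31878 18 (fun u => chkSlp tab slp u) = true := by decide +kernel

theorem sl_1772 : allRange 31896 18 (fun u => chkSlp tab slp u) = true := by decide +kernel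

theorem sl_1773 : allRange 31914 18 (fun u => chkSlp tab slp u) = true := by decide +kernel

theorem sl_1774 : allRange 31932 18 (fun u => chkSlp tab slp u) = true := by decide +kernel

theorem sl_1775 : allRange 31950 18 (fun u => chkSlp tab slp u) = true := by decide +kernel


end Cfsg.Agent.Helper9.TCData.ONC0
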