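import Cfsg.Agent.Lib.Helper9.TCData.ONC0.Main

set_option autoImplicit false
set_option maxRecDepth 1000000

namespace Cfsg.Agent.Helper9.TCData.ONC0
open Cfsg.Agent.Helper9.TC2

theorem sl_1784 : allRange 32112 18 (fun u => chkSlp tab slp u) = true := by decide +kernel

theorem sl_1785 : allRange 32130 18 (fun u => chkSlp tab slp u) = true := by decide +kernel

theorem sl_1786 : allRange 32148 18 (fun u => chkSlp tab slp u) = true := by decide +kernel

theorem sl_1787 : allRange 32166 18 (fun u => chkSlp tab slp u) = true := by decide +kernel

theorem sl_1788 : allRange 32184 18 (fun u => chkSlp tab slp u) = true := by decide +kernel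

theorem sl_1789 : allRange 32202 18 (fun u => chkSlp tab slp u) = true := by decide +kernel

theorem sl_1790 : allRange 32220 18 (fun u => chkSlp tab slp u) = true := by decide +kernel

theorem sl_1791 : allRange 32238 18 (fun u => chkSlp tab slp u) = true := by decide +kernel


end Cfsg.Agent.Helper9.TCData.ONC0
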