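import Cfsg.Agent.Lib.Helper9.TCData.ONC0.Main

set_option autoImplicit false
set_option maxRecDepth 1000000

namespace Cfsg.Agent.Helper9.TCData.ONC0
open Cfsg.Agent.Helper9.TC2

theorem e0_48 : allRange 151692 3402 (fun u => chkE tab 0 u) = true := by decide +kernel

theorem e0_49 : allRange 155094 3200 (fun u => chkE tab 0 u) = true := by decide +kernel

theorem e0_50 : allRange 158294 3782 (fun u => chkE tab 0 u) = true := by decide +kernel

theorem e0_51 : allRange 162076 3926 (fun u => chkE tab 0 u) = true := by decide +kernel

theorem e0_52 : allRange 166002 4372 (fun u => chkE tab 0 u) = true := by decide +kernel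

theorem e0_53 : allRange 170374 5764 (fun u => chkE tab 0 u) = true := by decide +kernel

theorem e0_54 : allRange 176138 4539 (fun u => chkE tab 0 u) = true := by decide +kernel

theorem e0_55 : allRange 180677 4817 (fun u => chkE tab 0 u) = true := by decide +kernel


end Cfsg.Agent.Helper9.TCData.ONC0
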