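import Cfsg.Agent.Lib.Helper9.TCData.ONC0.Main

set_option autoImplicit false
set_option maxRecDepth 1000000

namespace Cfsg.Agent.Helper9.TCData.ONC0
open Cfsg.Agent.Helper9.TC2

theorem sl_1800 : allRange 32400 18 (fun u => chkSlp tab slp u) = true := by decide +kernel

theorem sl_1801 : allRange 32418 18 (fun u => chkSlp tab slp u) = true := by decide +kernel

theorem sl_1802 : allRange 32436 18 (fun u => chkSlp tab slp u) = true := by decide +kernel

theorem sl_1803 : allRange 32454 18 (fun u => chkSlp tab slp u) = true := by decide +kernel

theorem sl_1804 : allRange 32472 18 (fun u => chkSlp tab slp u) = true := by decide +kernel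

theorem sl_1805 : allRange 32490 18 (fun u => chkSlp tab slp u) = true := by decide +kernel

theorem sl_1806 : allRange 32508 18 (fun u => chkSlp tab slp u) = true := by decide +kernel

theorem sl_1807 : allRange 32526 18 (fun u => chkSlp tab slp u) = true := by decide +kernel


end Cfsg.Agent.Helper9.TCData.ONC0
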