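import Cfsg.Agent.Lib.Helper9.TCData.ONC0.Main

set_option autoImplicit false
set_option maxRecDepth 1000000

namespace Cfsg.Agent.Helper9.TCData.ONC0
open Cfsg.Agent.Helper9.TC2

theorem sl_1832 : allRange 32976 18 (fun u => chkSlp tab slp u) = true := by decide +kernel

theorem sl_1833 : allRange 32994 18 (fun u => chkSlp tab slp u) = true := by decide +kernel

theorem sl_1834 : allRange 33012 18 (fun u => chkSlp tab slp u) = true := by decide +kernel

theorem sl_1835 : allRange 33030 18 (fun u => chkSlp tab slp u) = true := by decide +kernel

theorem sl_1836 : allRange 33048 18 (fun u => chkSlp tab slp u) = true := by decide +kernel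

theorem sl_1837 : allRange 33066 18 (fun u => chkSlp tab slp u) = true := by decide +kernel

theorem sl_1838 : allRange 33084 18 (fun u => chkSlp tab slp u) = true := by decide +kernel

theorem sl_1839 : allRange 33102 18 (fun u => chkSlp tab slp u) = true := by decide +kernel


end Cfsg.Agent.Helper9.TCData.ONC0
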