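import Cfsg.Agent.Lib.Helper9.TCData.ONC0.Main

set_option autoImplicit false
set_option maxRecDepth 1000000

namespace Cfsg.Agent.Helper9.TCData.ONC0
open Cfsg.Agent.Helper9.TC2

theorem sl_1840 : allRange 33120 18 (fun u => chkSlp tab slp u) = true := by decide +kernel

theorem sl_1841 : allRange 33138 18 (fun u => chkSlp tab slp u) = true := by decide +kernel

theorem sl_1842 : allRange 33156 18 (fun u => chkSlp tab slp u) = true := by decide +kernel

theorem sl_1843 : allRange 33174 18 (fun u => chkSlp tab slp u) = true := by decide +kernel

theorem sl_1844 : allRange 33192 18 (fun u => chkSlp tab slp u) = true := by decide +kernel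

theorem sl_1845 : allRange 33210 18 (fun u => chkSlp tab slp u) = true := by decide +kernel

theorem sl_1846 : allRange 33228 18 (fun u => chkSlp tab slp u) = true := by decide +kernel

theorem sl_1847 : allRange 33246 18 (fun u => chkSlp tab slp u) = true := by decide +kernel


end Cfsg.Agent.Helper9.TCData.ONC0
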