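import Cfsg.Agent.Lib.Helper9.TCData.ONC0.Main

set_option autoImplicit false
set_option maxRecDepth 1000000

namespace Cfsg.Agent.Helper9.TCData.ONC0
open Cfsg.Agent.Helper9.TC2

theorem sl_1848 : allRange 33264 18 (fun u => chkSlp tab slp u) = true := by decide +kernel

theorem sl_1849 : allRange 33282 18 (fun u => chkSlp tab slp u) = true := by decide +kernel

theorem sl_1850 : allRange 33300 18 (fun u => chkSlp tab slp u) = true := by decide +kernel

theorem sl_1851 : allRange 33318 18 (fun u => chkSlp tab slp u) = true := by decide +kernel

theorem sl_1852 : allRange 33336 18 (fun u => chkSlp tab slp u) = true := by decide +kernel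

theorem sl_1853 : allRange 33354 18 (fun u => chkSlp tab slp u) = true := by decide +kernel

theorem sl_1854 : allRange 33372 18 (fun u => chkSlp tab slp u) = true := by decide +kernel

theorem sl_1855 : allRange 33390 18 (fun u => chkSlp tab slp u) = true := by decide +kernel


end Cfsg.Agent.Helper9.TCData.ONC0
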