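import Cfsg.Agent.Lib.Helper9.TCData.ONC0.Main

set_option autoImplicit false
set_option maxRecDepth 1000000

namespace Cfsg.Agent.Helper9.TCData.ONC0
open Cfsg.Agent.Helper9.TC2

theorem sl_1856 : allRange 33408 18 (fun u => chkSlp tab slp u) = true := by decide +kernel

theorem sl_1857 : allRange 33426 18 (fun u => chkSlp tab slp u) = true := by decide +kernel

theorem sl_1858 : allRange 33444 18 (fun u => chkSlp tab slp u) = true := by decide +kernel

theorem sl_1859 : allRange 33462 18 (fun u => chkSlp tab slp u) = true := by decide +kernel

theorem sl_1860 : allRange 33480 18 (fun u => chkSlp tab slp u) = true := by decide +kernel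

theorem sl_1861 : allRange 33498 18 (fun u => chkSlp tab slp u) = true := by decide +kernel

theorem sl_1862 : allRange 33516 18 (fun u => chkSlp tab slp u) = true := by decide +kernel

theorem sl_1863 : allRange 33534 18 (fun u => chkSlp tab slp u) = true := by decide +kernel


end Cfsg.Agent.Helper9.TCData.ONC0
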