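import Cfsg.Agent.Lib.Helper9.TCData.ONC0.Main

set_option autoImplicit false
set_option maxRecDepth 1000000

namespace Cfsg.Agent.Helper9.TCData.ONC0
open Cfsg.Agent.Helper9.TC2

theorem sl_1864 : allRange 33552 18 (fun u => chkSlp tab slp u) = true := by decide +kernel

theorem sl_1865 : allRange 33570 18 (fun u => chkSlp tab slp u) = true := by decide +kernel

theorem sl_1866 : allRange 33588 18 (fun u => chkSlp tab slp u) = true := by decide +kernel

theorem sl_1867 : allRange 33606 18 (fun u => chkSlp tab slp u) = true := by decide +kernel

theorem sl_1868 : allRange 33624 18 (fun u => chkSlp tab slp u) = true := by decide +kernel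

theorem sl_1869 : allRange 33642 18 (fun u => chkSlp tab slp u) = true := by decide +kernel

theorem sl_1870 : allRange 33660 18 (fun u => chkSlp tab slp u) = true := by decide +kernel

theorem sl_1871 : allRange 33678 18 (fun u => chkSlp tab slp u) = true := by decide +kernel


end Cfsg.Agent.Helper9.TCData.ONC0
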