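import Cfsg.Agent.Lib.Helper9.TCData.ONC0.Main

set_option autoImplicit false
set_option maxRecDepth 1000000

namespace Cfsg.Agent.Helper9.TCData.ONC0
open Cfsg.Agent.Helper9.TC2

theorem sl_1872 : allRange 33696 18 (fun u => chkSlp tab slp u) = true := by decide +kernel

theorem sl_1873 : allRange 33714 18 (fun u => chkSlp tab slp u) = true := by decide +kernel

theorem sl_1874 : allRange 33732 18 (fun u => chkSlp tab slp u) = true := by decide +kernel

theorem sl_1875 : allRange 33750 18 (fun u => chkSlp tab slp u) = true := by decide +kernel

theorem sl_1876 : allRange 33768 18 (fun u => chkSlp tab slp u) = true := by decide +kernel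

theorem sl_1877 : allRange 33786 18 (fun u => chkSlp tab slp u) = true := by decide +kernel

theorem sl_1878 : allRange 33804 18 (fun u => chkSlp tab slp u) = true := by decide +kernel

theorem sl_1879 : allRange 33822 18 (fun u => chkSlp tab slp u) = true := by decide +kernel


end Cfsg.Agent.Helper9.TCData.ONC0
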