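import Cfsg.Agent.Lib.Helper9.TCData.ONC0.Main

set_option autoImplicit false
set_option maxRecDepth 1000000

namespace Cfsg.Agent.Helper9.TCData.ONC0
open Cfsg.Agent.Helper9.TC2

theorem e6_52 : allRange 223932 3081 (fun u => chkE tab 6 u) = true := by decide +kernel

theorem e6_53 : allRange 227013 3493 (fun u => chkE tab 6 u) = true := by decide +kernel

theorem e6_54 : allRange 230506 1088 (fun u => chkE tab 6 u) = true := by decide +kernel

theorem e7_0 : allRange 0 3458 (fun u => chkE tab 7 u) = true := by decide +kernel

theorem e7_1 : allRange 3458 3579 (fun u => chkE tab 7 u) = true := by decide +kernel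

theorem e7_2 : allRange 7037 3342 (fun u => chkE tab 7 u) = true := by decide +kernel

theorem e7_3 : allRange 10379 3459 (fun u => chkE tab 7 u) = true := by decide +kernel

theorem e7_4 : allRange 13838 3321 (fun u => chkE tab 7 u) = true := by decide +kernel


end Cfsg.Agent.Helper9.TCData.ONC0
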