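import Cfsg.Agent.Lib.Helper9.TCData.ONC0.Main

set_option autoImplicit false
set_option maxRecDepth 1000000

namespace Cfsg.Agent.Helper9.TCData.ONC0
open Cfsg.Agent.Helper9.TC2

theorem sl_1880 : allRange 33840 18 (fun u => chkSlp tab slp u) = true := by decide +kernel

theorem sl_1881 : allRange 33858 18 (fun u => chkSlp tab slp u) = true := by decide +kernel

theorem sl_1882 : allRange 33876 18 (fun u => chkSlp tab slp u) = true := by decide +kernel

theorem sl_1883 : allRange 33894 18 (fun u => chkSlp tab slp u) = true := by decide +kernel

theorem sl_1884 : allRange 33912 18 (fun u => chkSlp tab slp u) = true := by decide +kernel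

theorem sl_1885 : allRange 33930 18 (fun u => chkSlp tab slp u) = true := by decide +kernel

theorem sl_1886 : allRange 33948 18 (fun u => chkSlp tab slp u) = true := by decide +kernel

theorem sl_1887 : allRange 33966 18 (fun u => chkSlp tab slp u) = true := by decide +kernel


end Cfsg.Agent.Helper9.TCData.ONC0
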