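import Cfsg.Agent.Lib.Helper9.TCData.ONC0.Main

set_option autoImplicit false
set_option maxRecDepth 1000000

namespace Cfsg.Agent.Helper9.TCData.ONC0
open Cfsg.Agent.Helper9.TC2

theorem sl_1904 : allRange 34272 18 (fun u => chkSlp tab slp u) = true := by decide +kernel

theorem sl_1905 : allRange 34290 18 (fun u => chkSlp tab slp u) = true := by decide +kernel

theorem sl_1906 : allRange 34308 18 (fun u => chkSlp tab slp u) = true := by decide +kernel

theorem sl_1907 : allRange 34326 18 (fun u => chkSlp tab slp u) = true := by decide +kernel

theorem sl_1908 : allRange 34344 18 (fun u => chkSlp tab slp u) = true := by decide +kernel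

theorem sl_1909 : allRange 34362 18 (fun u => chkSlp tab slp u) = true := by decide +kernel

theorem sl_1910 : allRange 34380 18 (fun u => chkSlp tab slp u) = true := by decide +kernel

theorem sl_1911 : allRange 34398 18 (fun u => chkSlp tab slp u) = true := by decide +kernel


end Cfsg.Agent.Helper9.TCData.ONC0
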