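import Cfsg.Agent.Lib.Helper9.TCData.ONC0.Main

set_option autoImplicit false
set_option maxRecDepth 1000000

namespace Cfsg.Agent.Helper9.TCData.ONC0
open Cfsg.Agent.Helper9.TC2

theorem sl_1912 : allRange 34416 18 (fun u => chkSlp tab slp u) = true := by decide +kernel

theorem sl_1913 : allRange 34434 18 (fun u => chkSlp tab slp u) = true := by decide +kernel

theorem sl_1914 : allRange 34452 18 (fun u => chkSlp tab slp u) = true := by decide +kernel

theorem sl_1915 : allRange 34470 18 (fun u => chkSlp tab slp u) = true := by decide +kernel

theorem sl_1916 : allRange 34488 18 (fun u => chkSlp tab slp u) = true := by decide +kernel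

theorem sl_1917 : allRange 34506 18 (fun u => chkSlp tab slp u) = true := by decide +kernel

theorem sl_1918 : allRange 34524 18 (fun u => chkSlp tab slp u) = true := by decide +kernel

theorem sl_1919 : allRange 34542 18 (fun u => chkSlp tab slp u) = true := by decide +kernel


end Cfsg.Agent.Helper9.TCData.ONC0
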