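import Cfsg.Agent.Lib.Helper9.TCData.ONC0.Main

set_option autoImplicit false
set_option maxRecDepth 1000000

namespace Cfsg.Agent.Helper9.TCData.ONC0
open Cfsg.Agent.Helper9.TC2

theorem sl_1936 : allRange 34848 18 (fun u => chkSlp tab slp u) = true := by decide +kernel

theorem sl_1937 : allRange 34866 18 (fun u => chkSlp tab slp u) = true := by decide +kernel

theorem sl_1938 : allRange 34884 18 (fun u => chkSlp tab slp u) = true := by decide +kernel

theorem sl_1939 : allRange 34902 18 (fun u => chkSlp tab slp u) = true := by decide +kernel

theorem sl_1940 : allRange 34920 18 (fun u => chkSlp tab slp u) = true := by decide +kernel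

theorem sl_1941 : allRange 34938 18 (fun u => chkSlp tab slp u) = true := by decide +kernel

theorem sl_1942 : allRange 34956 18 (fun u => chkSlp tab slp u) = true := by decide +kernel

theorem sl_1943 : allRange 34974 18 (fun u => chkSlp tab slp u) = true := by decide +kernel


end Cfsg.Agent.Helper9.TCData.ONC0
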