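import Cfsg.Agent.Lib.Helper9.TCData.ONC0.Main

set_option autoImplicit false
set_option maxRecDepth 1000000

namespace Cfsg.Agent.Helper9.TCData.ONC0
open Cfsg.Agent.Helper9.TC2

theorem e7_5 : allRange 17159 3033 (fun u => chkE tab 7 u) = true := by decide +kernel

theorem e7_6 : allRange 20192 3451 (fun u => chkE tab 7 u) = true := by decide +kernel

theorem e7_7 : allRange 23643 3360 (fun u => chkE tab 7 u) = true := by decide +kernel

theorem e7_8 : allRange 27003 3291 (fun u => chkE tab 7 u) = true := by decide +kernel

theorem e7_9 : allRange 30294 2987 (fun u => chkE tab 7 u) = true := by decide +kernel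

theorem e7_10 : allRange 33281 3059 (fun u => chkE tab 7 u) = true := by decide +kernel

theorem e7_11 : allRange 36340 3241 (fun u => chkE tab 7 u) = true := by decide +kernel

theorem e7_12 : allRange 39581 3346 (fun u => chkE tab 7 u) = true := by decide +kernel


end Cfsg.Agent.Helper9.TCData.ONC0
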