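import Cfsg.Agent.Lib.Helper9.TCData.ONC0.Main

set_option autoImplicit false
set_option maxRecDepth 1000000

namespace Cfsg.Agent.Helper9.TCData.ONC0
open Cfsg.Agent.Helper9.TC2

theorem sl_1960 : allRange 35280 18 (fun u => chkSlp tab slp u) = true := by decide +kernel

theorem sl_1961 : allRange 35298 18 (fun u => chkSlp tab slp u) = true := by decide +kernel

theorem sl_1962 : allRange 35316 18 (fun u => chkSlp tab slp u) = true := by decide +kernel

theorem sl_1963 : allRange 35334 18 (fun u => chkSlp tab slp u) = true := by decide +kernel

theorem sl_1964 : allRange 35352 18 (fun u => chkSlp tab slp u) = true := by decide +kernel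

theorem sl_1965 : allRange 35370 18 (fun u => chkSlp tab slp u) = true := by decide +kernel

theorem sl_1966 : allRange 35388 18 (fun u => chkSlp tab slp u) = true := by decide +kernel

theorem sl_1967 : allRange 35406 18 (fun u => chkSlp tab slp u) = true := by decide +kernel


end Cfsg.Agent.Helper9.TCData.ONC0
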