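import Cfsg.Agent.Lib.Helper9.TCData.ONC0.Main

set_option autoImplicit false
set_option maxRecDepth 1000000

namespace Cfsg.Agent.Helper9.TCData.ONC0
open Cfsg.Agent.Helper9.TC2

theorem sl_1968 : allRange 35424 18 (fun u => chkSlp tab slp u) = true := by decide +kernel

theorem sl_1969 : allRange 35442 18 (fun u => chkSlp tab slp u) = true := by decide +kernel

theorem sl_1970 : allRange 35460 18 (fun u => chkSlp tab slp u) = true := by decide +kernel

theorem sl_1971 : allRange 35478 18 (fun u => chkSlp tab slp u) = true := by decide +kernel

theorem sl_1972 : allRange 35496 18 (fun u => chkSlp tab slp u) = true := by decide +kernel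

theorem sl_1973 : allRange 35514 18 (fun u => chkSlp tab slp u) = true := by decide +kernel

theorem sl_1974 : allRange 35532 18 (fun u => chkSlp tab slp u) = true := by decide +kernel

theorem sl_1975 : allRange 35550 18 (fun u => chkSlp tab slp u) = true := by decide +kernel


end Cfsg.Agent.Helper9.TCData.ONC0
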