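import Cfsg.Agent.Lib.Helper9.TCData.ONC0.Main

set_option autoImplicit false
set_option maxRecDepth 1000000

namespace Cfsg.Agent.Helper9.TCData.ONC0
open Cfsg.Agent.Helper9.TC2

theorem sl_1992 : allRange 35856 18 (fun u => chkSlp tab slp u) = true := by decide +kernel

theorem sl_1993 : allRange 35874 18 (fun u => chkSlp tab slp u) = true := by decide +kernel

theorem sl_1994 : allRange 35892 18 (fun u => chkSlp tab slp u) = true := by decide +kernel

theorem sl_1995 : allRange 35910 18 (fun u => chkSlp tab slp u) = true := by decide +kernel

theorem sl_1996 : allRange 35928 18 (fun u => chkSlp tab slp u) = true := by decide +kernel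

theorem sl_1997 : allRange 35946 18 (fun u => chkSlp tab slp u) = true := by decide +kernel

theorem sl_1998 : allRange 35964 18 (fun u => chkSlp tab slp u) = true := by decide +kernel

theorem sl_1999 : allRange 35982 18 (fun u => chkSlp tab slp u) = true := by decide +kernel


end Cfsg.Agent.Helper9.TCData.ONC0
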