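import Cfsg.Agent.Lib.Helper9.TCData.ONC0.Main

set_option autoImplicit false
set_option maxRecDepth 1000000

namespace Cfsg.Agent.Helper9.TCData.ONC0
open Cfsg.Agent.Helper9.TC2

theorem sl_2032 : allRange 36576 18 (fun u => chkSlp tab slp u) = true := by decide +kernel

theorem sl_2033 : allRange 36594 18 (fun u => chkSlp tab slp u) = true := by decide +kernel

theorem sl_2034 : allRange 36612 18 (fun u => chkSlp tab slp u) = true := by decide +kernel

theorem sl_2035 : allRange 36630 18 (fun u => chkSlp tab slp u) = true := by decide +kernel

theorem sl_2036 : allRange 36648 18 (fun u => chkSlp tab slp u) = true := by decide +kernel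

theorem sl_2037 : allRange 36666 18 (fun u => chkSlp tab slp u) = true := by decide +kernel

theorem sl_2038 : allRange 36684 18 (fun u => chkSlp tab slp u) = true := by decide +kernel

theorem sl_2039 : allRange 36702 18 (fun u => chkSlp tab slp u) = true := by decide +kernel


end Cfsg.Agent.Helper9.TCData.ONC0
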