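import Cfsg.Agent.Lib.Helper9.TCData.ONC0.Main

set_option autoImplicit false
set_option maxRecDepth 1000000

namespace Cfsg.Agent.Helper9.TCData.ONC0
open Cfsg.Agent.Helper9.TC2

theorem e7_13 : allRange 42927 2980 (fun u => chkE tab 7 u) = true := by decide +kernel

theorem e7_14 : allRange 45907 3075 (fun u => chkE tab 7 u) = true := by decide +kernel

theorem e7_15 : allRange 48982 3040 (fun u => chkE tab 7 u) = true := by decide +kernel

theorem e7_16 : allRange 52022 3483 (fun u => chkE tab 7 u) = true := by decide +kernel

theorem e7_17 : allRange 55505 3747 (fun u => chkE tab 7 u) = true := by decide +kernel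

theorem e7_18 : allRange 59252 3184 (fun u => chkE tab 7 u) = true := by decide +kernel

theorem e7_19 : allRange 62436 3362 (fun u => chkE tab 7 u) = true := by decide +kernel

theorem e7_20 : allRange 65798 3210 (fun u => chkE tab 7 u) = true := by decide +kernel


end Cfsg.Agent.Helper9.TCData.ONC0
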