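import Cfsg.Agent.Lib.Helper9.TCData.ONC0.Main

set_option autoImplicit false
set_option maxRecDepth 1000000

namespace Cfsg.Agent.Helper9.TCData.ONC0
open Cfsg.Agent.Helper9.TC2

theorem sl_2040 : allRange 36720 18 (fun u => chkSlp tab slp u) = true := by decide +kernel

theorem sl_2041 : allRange 36738 18 (fun u => chkSlp tab slp u) = true := by decide +kernel

theorem sl_2042 : allRange 36756 18 (fun u => chkSlp tab slp u) = true := by decide +kernel

theorem sl_2043 : allRange 36774 18 (fun u => chkSlp tab slp u) = true := by decide +kernel

theorem sl_2044 : allRange 36792 18 (fun u => chkSlp tab slp u) = true := by decide +kernel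

theorem sl_2045 : allRange 36810 18 (fun u => chkSlp tab slp u) = true := by decide +kernel

theorem sl_2046 : allRange 36828 18 (fun u => chkSlp tab slp u) = true := by decide +kernel

theorem sl_2047 : allRange 36846 18 (fun u => chkSlp tab slp u) = true := by decide +kernel


end Cfsg.Agent.Helper9.TCData.ONC0
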