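import Cfsg.Agent.Lib.Helper9.TCData.ONC0.Main

set_option autoImplicit false
set_option maxRecDepth 1000000

namespace Cfsg.Agent.Helper9.TCData.ONC0
open Cfsg.Agent.Helper9.TC2

theorem sl_2048 : allRange 36864 18 (fun u => chkSlp tab slp u) = true := by decide +kernel

theorem sl_2049 : allRange 36882 18 (fun u => chkSlp tab slp u) = true := by decide +kernel

theorem sl_2050 : allRange 36900 18 (fun u => chkSlp tab slp u) = true := by decide +kernel

theorem sl_2051 : allRange 36918 18 (fun u => chkSlp tab slp u) = true := by decide +kernel

theorem sl_2052 : allRange 36936 18 (fun u => chkSlp tab slp u) = true := by decide +kernel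

theorem sl_2053 : allRange 36954 18 (fun u => chkSlp tab slp u) = true := by decide +kernel

theorem sl_2054 : allRange 36972 18 (fun u => chkSlp tab slp u) = true := by decide +kernel

theorem sl_2055 : allRange 36990 18 (fun u => chkSlp tab slp u) = true := by decide +kernel


end Cfsg.Agent.Helper9.TCData.ONC0
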