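import Cfsg.Agent.Lib.Helper9.TCData.ONC0.Main

set_option autoImplicit false
set_option maxRecDepth 1000000

namespace Cfsg.Agent.Helper9.TCData.ONC0
open Cfsg.Agent.Helper9.TC2

theorem sl_2056 : allRange 37008 18 (fun u => chkSlp tab slp u) = true := by decide +kernel

theorem sl_2057 : allRange 37026 18 (fun u => chkSlp tab slp u) = true := by decide +kernel

theorem sl_2058 : allRange 37044 18 (fun u => chkSlp tab slp u) = true := by decide +kernel

theorem sl_2059 : allRange 37062 18 (fun u => chkSlp tab slp u) = true := by decide +kernel

theorem sl_2060 : allRange 37080 18 (fun u => chkSlp tab slp u) = true := by decide +kernel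

theorem sl_2061 : allRange 37098 18 (fun u => chkSlp tab slp u) = true := by decide +kernel

theorem sl_2062 : allRange 37116 18 (fun u => chkSlp tab slp u) = true := by decide +kernel

theorem sl_2063 : allRange 37134 18 (fun u => chkSlp tab slp u) = true := by decide +kernel


end Cfsg.Agent.Helper9.TCData.ONC0
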