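import Cfsg.Agent.Lib.Helper9.TCData.ONC0.Main

set_option autoImplicit false
set_option maxRecDepth 1000000

namespace Cfsg.Agent.Helper9.TCData.ONC0
open Cfsg.Agent.Helper9.TC2

theorem sl_2064 : allRange 37152 18 (fun u => chkSlp tab slp u) = true := by decide +kernel

theorem sl_2065 : allRange 37170 18 (fun u => chkSlp tab slp u) = true := by decide +kernel

theorem sl_2066 : allRange 37188 18 (fun u => chkSlp tab slp u) = true := by decide +kernel

theorem sl_2067 : allRange 37206 18 (fun u => chkSlp tab slp u) = true := by decide +kernel

theorem sl_2068 : allRange 37224 18 (fun u => chkSlp tab slp u) = true := by decide +kernel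

theorem sl_2069 : allRange 37242 18 (fun u => chkSlp tab slp u) = true := by decide +kernel

theorem sl_2070 : allRange 37260 18 (fun u => chkSlp tab slp u) = true := by decide +kernel

theorem sl_2071 : allRange 37278 18 (fun u => chkSlp tab slp u) = true := by decide +kernel


end Cfsg.Agent.Helper9.TCData.ONC0
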