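import Cfsg.Agent.Lib.Helper9.TCData.ONC0.Main

set_option autoImplicit false
set_option maxRecDepth 1000000

namespace Cfsg.Agent.Helper9.TCData.ONC0
open Cfsg.Agent.Helper9.TC2

theorem sl_2072 : allRange 37296 18 (fun u => chkSlp tab slp u) = true := by decide +kernel

theorem sl_2073 : allRange 37314 18 (fun u => chkSlp tab slp u) = true := by decide +kernel

theorem sl_2074 : allRange 37332 18 (fun u => chkSlp tab slp u) = true := by decide +kernel

theorem sl_2075 : allRange 37350 18 (fun u => chkSlp tab slp u) = true := by decide +kernel

theorem sl_2076 : allRange 37368 18 (fun u => chkSlp tab slp u) = true := by decide +kernel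

theorem sl_2077 : allRange 37386 18 (fun u => chkSlp tab slp u) = true := by decide +kernel

theorem sl_2078 : allRange 37404 18 (fun u => chkSlp tab slp u) = true := by decide +kernel

theorem sl_2079 : allRange 37422 18 (fun u => chkSlp tab slp u) = true := by decide +kernel


end Cfsg.Agent.Helper9.TCData.ONC0
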