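import Cfsg.Agent.Lib.Helper9.TCData.ONC0.Main

set_option autoImplicit false
set_option maxRecDepth 1000000

namespace Cfsg.Agent.Helper9.TCData.ONC0
open Cfsg.Agent.Helper9.TC2

theorem sl_2088 : allRange 37584 18 (fun u => chkSlp tab slp u) = true := by decide +kernel

theorem sl_2089 : allRange 37602 18 (fun u => chkSlp tab slp u) = true := by decide +kernel

theorem sl_2090 : allRange 37620 18 (fun u => chkSlp tab slp u) = true := by decide +kernel

theorem sl_2091 : allRange 37638 18 (fun u => chkSlp tab slp u) = true := by decide +kernel

theorem sl_2092 : allRange 37656 18 (fun u => chkSlp tab slp u) = true := by decide +kernel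

theorem sl_2093 : allRange 37674 18 (fun u => chkSlp tab slp u) = true := by decide +kernel

theorem sl_2094 : allRange 37692 18 (fun u => chkSlp tab slp u) = true := by decide +kernel

theorem sl_2095 : allRange 37710 18 (fun u => chkSlp tab slp u) = true := by decide +kernel


end Cfsg.Agent.Helper9.TCData.ONC0
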