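import Cfsg.Agent.Lib.Helper9.TCData.ONC0.Main

set_option autoImplicit false
set_option maxRecDepth 1000000

namespace Cfsg.Agent.Helper9.TCData.ONC0
open Cfsg.Agent.Helper9.TC2

theorem sl_2096 : allRange 37728 18 (fun u => chkSlp tab slp u) = true := by decide +kernel

theorem sl_2097 : allRange 37746 18 (fun u => chkSlp tab slp u) = true := by decide +kernel

theorem sl_2098 : allRange 37764 18 (fun u => chkSlp tab slp u) = true := by decide +kernel

theorem sl_2099 : allRange 37782 18 (fun u => chkSlp tab slp u) = true := by decide +kernel

theorem sl_2100 : allRange 37800 18 (fun u => chkSlp tab slp u) = true := by decide +kernel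

theorem sl_2101 : allRange 37818 18 (fun u => chkSlp tab slp u) = true := by decide +kernel

theorem sl_2102 : allRange 37836 18 (fun u => chkSlp tab slp u) = true := by decide +kernel

theorem sl_2103 : allRange 37854 18 (fun u => chkSlp tab slp u) = true := by decide +kernel


end Cfsg.Agent.Helper9.TCData.ONC0
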