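import Cfsg.Agent.Lib.Helper9.TCData.ONC0.Main

set_option autoImplicit false
set_option maxRecDepth 1000000

namespace Cfsg.Agent.Helper9.TCData.ONC0
open Cfsg.Agent.Helper9.TC2

theorem sl_2104 : allRange 37872 18 (fun u => chkSlp tab slp u) = true := by decide +kernel

theorem sl_2105 : allRange 37890 18 (fun u => chkSlp tab slp u) = true := by decide +kernel

theorem sl_2106 : allRange 37908 18 (fun u => chkSlp tab slp u) = true := by decide +kernel

theorem sl_2107 : allRange 37926 18 (fun u => chkSlp tab slp u) = true := by decide +kernel

theorem sl_2108 : allRange 37944 18 (fun u => chkSlp tab slp u) = true := by decide +kernel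

theorem sl_2109 : allRange 37962 18 (fun u => chkSlp tab slp u) = true := by decide +kernel

theorem sl_2110 : allRange 37980 18 (fun u => chkSlp tab slp u) = true := by decide +kernel

theorem sl_2111 : allRange 37998 18 (fun u => chkSlp tab slp u) = true := by decide +kernel


end Cfsg.Agent.Helper9.TCData.ONC0
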