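import Cfsg.Agent.Lib.Helper9.TCData.ONC0.Main

set_option autoImplicit false
set_option maxRecDepth 1000000

namespace Cfsg.Agent.Helper9.TCData.ONC0
open Cfsg.Agent.Helper9.TC2

theorem sl_2112 : allRange 38016 18 (fun u => chkSlp tab slp u) = true := by decide +kernel

theorem sl_2113 : allRange 38034 18 (fun u => chkSlp tab slp u) = true := by decide +kernel

theorem sl_2114 : allRange 38052 18 (fun u => chkSlp tab slp u) = true := by decide +kernel

theorem sl_2115 : allRange 38070 18 (fun u => chkSlp tab slp u) = true := by decide +kernel

theorem sl_2116 : allRange 38088 18 (fun u => chkSlp tab slp u) = true := by decide +kernel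

theorem sl_2117 : allRange 38106 18 (fun u => chkSlp tab slp u) = true := by decide +kernel

theorem sl_2118 : allRange 38124 18 (fun u => chkSlp tab slp u) = true := by decide +kernel

theorem sl_2119 : allRange 38142 18 (fun u => chkSlp tab slp u) = true := by decide +kernel


end Cfsg.Agent.Helper9.TCData.ONC0
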