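import Cfsg.Agent.Lib.Helper9.TCData.ONC0.Main

set_option autoImplicit false
set_option maxRecDepth 1000000

namespace Cfsg.Agent.Helper9.TCData.ONC0
open Cfsg.Agent.Helper9.TC2

theorem e7_21 : allRange 69008 3120 (fun u => chkE tab 7 u) = true := by decide +kernel

theorem e7_22 : allRange 72128 3400 (fun u => chkE tab 7 u) = true := by decide +kernel

theorem e7_23 : allRange 75528 3615 (fun u => chkE tab 7 u) = true := by decide +kernel

theorem e7_24 : allRange 79143 3115 (fun u => chkE tab 7 u) = true := by decide +kernel

theorem e7_25 : allRange 82258 2791 (fun u => chkE tab 7 u) = true := by decide +kernel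

theorem e7_26 : allRange 85049 3088 (fun u => chkE tab 7 u) = true := by decide +kernel

theorem e7_27 : allRange 88137 3107 (fun u => chkE tab 7 u) = true := by decide +kernel

theorem e7_28 : allRange 91244 3998 (fun u => chkE tab 7 u) = true := by decide +kernel


end Cfsg.Agent.Helper9.TCData.ONC0
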