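import Cfsg.Agent.Lib.Helper9.TCData.ONC0.Main

set_option autoImplicit false
set_option maxRecDepth 1000000

namespace Cfsg.Agent.Helper9.TCData.ONC0
open Cfsg.Agent.Helper9.TC2

theorem sl_2120 : allRange 38160 18 (fun u => chkSlp tab slp u) = true := by decide +kernel

theorem sl_2121 : allRange 38178 18 (fun u => chkSlp tab slp u) = true := by decide +kernel

theorem sl_2122 : allRange 38196 18 (fun u => chkSlp tab slp u) = true := by decide +kernel

theorem sl_2123 : allRange 38214 18 (fun u => chkSlp tab slp u) = true := by decide +kernel

theorem sl_2124 : allRange 38232 18 (fun u => chkSlp tab slp u) = true := by decide +kernel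

theorem sl_2125 : allRange 38250 18 (fun u => chkSlp tab slp u) = true := by decide +kernel

theorem sl_2126 : allRange 38268 18 (fun u => chkSlp tab slp u) = true := by decide +kernel

theorem sl_2127 : allRange 38286 18 (fun u => chkSlp tab slp u) = true := by decide +kernel


end Cfsg.Agent.Helper9.TCData.ONC0
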