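import Cfsg.Agent.Lib.Helper9.TCData.ONC0.Main

set_option autoImplicit false
set_option maxRecDepth 1000000

namespace Cfsg.Agent.Helper9.TCData.ONC0
open Cfsg.Agent.Helper9.TC2

theorem sl_2128 : allRange 38304 18 (fun u => chkSlp tab slp u) = true := by decide +kernel

theorem sl_2129 : allRange 38322 18 (fun u => chkSlp tab slp u) = true := by decide +kernel

theorem sl_2130 : allRange 38340 18 (fun u => chkSlp tab slp u) = true := by decide +kernel

theorem sl_2131 : allRange 38358 18 (fun u => chkSlp tab slp u) = true := by decide +kernel

theorem sl_2132 : allRange 38376 18 (fun u => chkSlp tab slp u) = true := by decide +kernel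

theorem sl_2133 : allRange 38394 18 (fun u => chkSlp tab slp u) = true := by decide +kernel

theorem sl_2134 : allRange 38412 18 (fun u => chkSlp tab slp u) = true := by decide +kernel

theorem sl_2135 : allRange 38430 18 (fun u => chkSlp tab slp u) = true := by decide +kernel


end Cfsg.Agent.Helper9.TCData.ONC0
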