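import Cfsg.Agent.Lib.Helper9.TCData.ONC0.Main

set_option autoImplicit false
set_option maxRecDepth 1000000

namespace Cfsg.Agent.Helper9.TCData.ONC0
open Cfsg.Agent.Helper9.TC2

theorem sl_2144 : allRange 38592 18 (fun u => chkSlp tab slp u) = true := by decide +kernel

theorem sl_2145 : allRange 38610 18 (fun u => chkSlp tab slp u) = true := by decide +kernel

theorem sl_2146 : allRange 38628 18 (fun u => chkSlp tab slp u) = true := by decide +kernel

theorem sl_2147 : allRange 38646 18 (fun u => chkSlp tab slp u) = true := by decide +kernel

theorem sl_2148 : allRange 38664 18 (fun u => chkSlp tab slp u) = true := by decide +kernel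

theorem sl_2149 : allRange 38682 18 (fun u => chkSlp tab slp u) = true := by decide +kernel

theorem sl_2150 : allRange 38700 18 (fun u => chkSlp tab slp u) = true := by decide +kernel

theorem sl_2151 : allRange 38718 18 (fun u => chkSlp tab slp u) = true := by decide +kernel


end Cfsg.Agent.Helper9.TCData.ONC0
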