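import Cfsg.Agent.Lib.Helper9.TCData.ONC0.Main

set_option autoImplicit false
set_option maxRecDepth 1000000

namespace Cfsg.Agent.Helper9.TCData.ONC0
open Cfsg.Agent.Helper9.TC2

theorem sl_2152 : allRange 38736 18 (fun u => chkSlp tab slp u) = true := by decide +kernel

theorem sl_2153 : allRange 38754 18 (fun u => chkSlp tab slp u) = true := by decide +kernel

theorem sl_2154 : allRange 38772 18 (fun u => chkSlp tab slp u) = true := by decide +kernel

theorem sl_2155 : allRange 38790 18 (fun u => chkSlp tab slp u) = true := by decide +kernel

theorem sl_2156 : allRange 38808 18 (fun u => chkSlp tab slp u) = true := by decide +kernel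

theorem sl_2157 : allRange 38826 18 (fun u => chkSlp tab slp u) = true := by decide +kernel

theorem sl_2158 : allRange 38844 18 (fun u => chkSlp tab slp u) = true := by decide +kernel

theorem sl_2159 : allRange 38862 18 (fun u => chkSlp tab slp u) = true := by decide +kernel


end Cfsg.Agent.Helper9.TCData.ONC0
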