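import Cfsg.Agent.Lib.Helper9.TCData.ONC0.Main

set_option autoImplicit false
set_option maxRecDepth 1000000

namespace Cfsg.Agent.Helper9.TCData.ONC0
open Cfsg.Agent.Helper9.TC2

theorem sl_2160 : allRange 38880 18 (fun u => chkSlp tab slp u) = true := by decide +kernel

theorem sl_2161 : allRange 38898 18 (fun u => chkSlp tab slp u) = true := by decide +kernel

theorem sl_2162 : allRange 38916 18 (fun u => chkSlp tab slp u) = true := by decide +kernel

theorem sl_2163 : allRange 38934 18 (fun u => chkSlp tab slp u) = true := by decide +kernel

theorem sl_2164 : allRange 38952 18 (fun u => chkSlp tab slp u) = true := by decide +kernel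

theorem sl_2165 : allRange 38970 18 (fun u => chkSlp tab slp u) = true := by decide +kernel

theorem sl_2166 : allRange 38988 18 (fun u => chkSlp tab slp u) = true := by decide +kernel

theorem sl_2167 : allRange 39006 18 (fun u => chkSlp tab slp u) = true := by decide +kernel


end Cfsg.Agent.Helper9.TCData.ONC0
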