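import Cfsg.Agent.Lib.Helper9.TCData.ONC0.Main

set_option autoImplicit false
set_option maxRecDepth 1000000

namespace Cfsg.Agent.Helper9.TCData.ONC0
open Cfsg.Agent.Helper9.TC2

theorem sl_2168 : allRange 39024 18 (fun u => chkSlp tab slp u) = true := by decide +kernel

theorem sl_2169 : allRange 39042 18 (fun u => chkSlp tab slp u) = true := by decide +kernel

theorem sl_2170 : allRange 39060 18 (fun u => chkSlp tab slp u) = true := by decide +kernel

theorem sl_2171 : allRange 39078 18 (fun u => chkSlp tab slp u) = true := by decide +kernel

theorem sl_2172 : allRange 39096 18 (fun u => chkSlp tab slp u) = true := by decide +kernel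

theorem sl_2173 : allRange 39114 18 (fun u => chkSlp tab slp u) = true := by decide +kernel

theorem sl_2174 : allRange 39132 18 (fun u => chkSlp tab slp u) = true := by decide +kernel

theorem sl_2175 : allRange 39150 18 (fun u => chkSlp tab slp u) = true := by decide +kernel


end Cfsg.Agent.Helper9.TCData.ONC0
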