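import Cfsg.Agent.Lib.Helper9.TCData.ONC0.Main

set_option autoImplicit false
set_option maxRecDepth 1000000

namespace Cfsg.Agent.Helper9.TCData.ONC0
open Cfsg.Agent.Helper9.TC2

theorem sl_2184 : allRange 39312 18 (fun u => chkSlp tab slp u) = true := by decide +kernel

theorem sl_2185 : allRange 39330 18 (fun u => chkSlp tab slp u) = true := by decide +kernel

theorem sl_2186 : allRange 39348 18 (fun u => chkSlp tab slp u) = true := by decide +kernel

theorem sl_2187 : allRange 39366 18 (fun u => chkSlp tab slp u) = true := by decide +kernel

theorem sl_2188 : allRange 39384 18 (fun u => chkSlp tab slp u) = true := by decide +kernel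

theorem sl_2189 : allRange 39402 18 (fun u => chkSlp tab slp u) = true := by decide +kernel

theorem sl_2190 : allRange 39420 18 (fun u => chkSlp tab slp u) = true := by decide +kernel

theorem sl_2191 : allRange 39438 18 (fun u => chkSlp tab slp u) = true := by decide +kernel


end Cfsg.Agent.Helper9.TCData.ONC0
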