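import Cfsg.Agent.Lib.Helper9.TCData.ONC0.Main

set_option autoImplicit false
set_option maxRecDepth 1000000

namespace Cfsg.Agent.Helper9.TCData.ONC0
open Cfsg.Agent.Helper9.TC2

theorem sl_2192 : allRange 39456 18 (fun u => chkSlp tab slp u) = true := by decide +kernel

theorem sl_2193 : allRange 39474 18 (fun u => chkSlp tab slp u) = true := by decide +kernel

theorem sl_2194 : allRange 39492 18 (fun u => chkSlp tab slp u) = true := by decide +kernel

theorem sl_2195 : allRange 39510 18 (fun u => chkSlp tab slp u) = true := by decide +kernel

theorem sl_2196 : allRange 39528 18 (fun u => chkSlp tab slp u) = true := by decide +kernel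

theorem sl_2197 : allRange 39546 18 (fun u => chkSlp tab slp u) = true := by decide +kernel

theorem sl_2198 : allRange 39564 18 (fun u => chkSlp tab slp u) = true := by decide +kernel

theorem sl_2199 : allRange 39582 18 (fun u => chkSlp tab slp u) = true := by decide +kernel


end Cfsg.Agent.Helper9.TCData.ONC0
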