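import Cfsg.Agent.Lib.Helper9.TCData.ONC0.Main

set_option autoImplicit false
set_option maxRecDepth 1000000

namespace Cfsg.Agent.Helper9.TCData.ONC0
open Cfsg.Agent.Helper9.TC2

theorem sl_2208 : allRange 39744 18 (fun u => chkSlp tab slp u) = true := by decide +kernel

theorem sl_2209 : allRange 39762 18 (fun u => chkSlp tab slp u) = true := by decide +kernel

theorem sl_2210 : allRange 39780 18 (fun u => chkSlp tab slp u) = true := by decide +kernel

theorem sl_2211 : allRange 39798 18 (fun u => chkSlp tab slp u) = true := by decide +kernel

theorem sl_2212 : allRange 39816 18 (fun u => chkSlp tab slp u) = true := by decide +kernel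

theorem sl_2213 : allRange 39834 18 (fun u => chkSlp tab slp u) = true := by decide +kernel

theorem sl_2214 : allRange 39852 18 (fun u => chkSlp tab slp u) = true := by decide +kernel

theorem sl_2215 : allRange 39870 18 (fun u => chkSlp tab slp u) = true := by decide +kernel


end Cfsg.Agent.Helper9.TCData.ONC0
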