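import Cfsg.Agent.Lib.Helper9.TCData.ONC0.Main

set_option autoImplicit false
set_option maxRecDepth 1000000

namespace Cfsg.Agent.Helper9.TCData.ONC0
open Cfsg.Agent.Helper9.TC2

theorem sl_2216 : allRange 39888 18 (fun u => chkSlp tab slp u) = true := by decide +kernel

theorem sl_2217 : allRange 39906 18 (fun u => chkSlp tab slp u) = true := by decide +kernel

theorem sl_2218 : allRange 39924 18 (fun u => chkSlp tab slp u) = true := by decide +kernel

theorem sl_2219 : allRange 39942 18 (fun u => chkSlp tab slp u) = true := by decide +kernel

theorem sl_2220 : allRange 39960 18 (fun u => chkSlp tab slp u) = true := by decide +kernel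

theorem sl_2221 : allRange 39978 18 (fun u => chkSlp tab slp u) = true := by decide +kernel

theorem sl_2222 : allRange 39996 18 (fun u => chkSlp tab slp u) = true := by decide +kernel

theorem sl_2223 : allRange 40014 18 (fun u => chkSlp tab slp u) = true := by decide +kernel


end Cfsg.Agent.Helper9.TCData.ONC0
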