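import Cfsg.Agent.Lib.Helper9.TCData.ONC0.Main

set_option autoImplicit false
set_option maxRecDepth 1000000

namespace Cfsg.Agent.Helper9.TCData.ONC0
open Cfsg.Agent.Helper9.TC2

theorem sl_2224 : allRange 40032 18 (fun u => chkSlp tab slp u) = true := by decide +kernel

theorem sl_2225 : allRange 40050 18 (fun u => chkSlp tab slp u) = true := by decide +kernel

theorem sl_2226 : allRange 40068 18 (fun u => chkSlp tab slp u) = true := by decide +kernel

theorem sl_2227 : allRange 40086 18 (fun u => chkSlp tab slp u) = true := by decide +kernel

theorem sl_2228 : allRange 40104 18 (fun u => chkSlp tab slp u) = true := by decide +kernel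

theorem sl_2229 : allRange 40122 18 (fun u => chkSlp tab slp u) = true := by decide +kernel

theorem sl_2230 : allRange 40140 18 (fun u => chkSlp tab slp u) = true := by decide +kernel

theorem sl_2231 : allRange 40158 18 (fun u => chkSlp tab slp u) = true := by decide +kernel


end Cfsg.Agent.Helper9.TCData.ONC0
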