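import Cfsg.Agent.Lib.Helper9.TCData.ONC0.Main

set_option autoImplicit false
set_option maxRecDepth 1000000

namespace Cfsg.Agent.Helper9.TCData.ONC0
open Cfsg.Agent.Helper9.TC2

theorem sl_2232 : allRange 40176 18 (fun u => chkSlp tab slp u) = true := by decide +kernel

theorem sl_2233 : allRange 40194 18 (fun u => chkSlp tab slp u) = true := by decide +kernel

theorem sl_2234 : allRange 40212 18 (fun u => chkSlp tab slp u) = true := by decide +kernel

theorem sl_2235 : allRange 40230 18 (fun u => chkSlp tab slp u) = true := by decide +kernel

theorem sl_2236 : allRange 40248 18 (fun u => chkSlp tab slp u) = true := by decide +kernel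

theorem sl_2237 : allRange 40266 18 (fun u => chkSlp tab slp u) = true := by decide +kernel

theorem sl_2238 : allRange 40284 18 (fun u => chkSlp tab slp u) = true := by decide +kernel

theorem sl_2239 : allRange 40302 18 (fun u => chkSlp tab slp u) = true := by decide +kernel


end Cfsg.Agent.Helper9.TCData.ONC0
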