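import Cfsg.Agent.Lib.Helper9.TCData.ONC0.Main

set_option autoImplicit false
set_option maxRecDepth 1000000

namespace Cfsg.Agent.Helper9.TCData.ONC0
open Cfsg.Agent.Helper9.TC2

theorem sl_2240 : allRange 40320 18 (fun u => chkSlp tab slp u) = true := by decide +kernel

theorem sl_2241 : allRange 40338 18 (fun u => chkSlp tab slp u) = true := by decide +kernel

theorem sl_2242 : allRange 40356 18 (fun u => chkSlp tab slp u) = true := by decide +kernel

theorem sl_2243 : allRange 40374 18 (fun u => chkSlp tab slp u) = true := by decide +kernel

theorem sl_2244 : allRange 40392 18 (fun u => chkSlp tab slp u) = true := by decide +kernel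

theorem sl_2245 : allRange 40410 18 (fun u => chkSlp tab slp u) = true := by decide +kernel

theorem sl_2246 : allRange 40428 18 (fun u => chkSlp tab slp u) = true := by decide +kernel

theorem sl_2247 : allRange 40446 18 (fun u => chkSlp tab slp u) = true := by decide +kernel


end Cfsg.Agent.Helper9.TCData.ONC0
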