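import Cfsg.Agent.Lib.Helper9.TCData.ONC0.Main

set_option autoImplicit false
set_option maxRecDepth 1000000

namespace Cfsg.Agent.Helper9.TCData.ONC0
open Cfsg.Agent.Helper9.TC2

theorem sl_2248 : allRange 40464 18 (fun u => chkSlp tab slp u) = true := by decide +kernel

theorem sl_2249 : allRange 40482 18 (fun u => chkSlp tab slp u) = true := by decide +kernel

theorem sl_2250 : allRange 40500 18 (fun u => chkSlp tab slp u) = true := by decide +kernel

theorem sl_2251 : allRange 40518 18 (fun u => chkSlp tab slp u) = true := by decide +kernel

theorem sl_2252 : allRange 40536 18 (fun u => chkSlp tab slp u) = true := by decide +kernel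

theorem sl_2253 : allRange 40554 18 (fun u => chkSlp tab slp u) = true := by decide +kernel

theorem sl_2254 : allRange 40572 18 (fun u => chkSlp tab slp u) = true := by decide +kernel

theorem sl_2255 : allRange 40590 18 (fun u => chkSlp tab slp u) = true := by decide +kernel


end Cfsg.Agent.Helper9.TCData.ONC0
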