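import Cfsg.Agent.Lib.Helper9.TCData.ONC0.Main

set_option autoImplicit false
set_option maxRecDepth 1000000

namespace Cfsg.Agent.Helper9.TCData.ONC0
open Cfsg.Agent.Helper9.TC2

theorem sl_2264 : allRange 40752 18 (fun u => chkSlp tab slp u) = true := by decide +kernel

theorem sl_2265 : allRange 40770 18 (fun u => chkSlp tab slp u) = true := by decide +kernel

theorem sl_2266 : allRange 40788 18 (fun u => chkSlp tab slp u) = true := by decide +kernel

theorem sl_2267 : allRange 40806 18 (fun u => chkSlp tab slp u) = true := by decide +kernel

theorem sl_2268 : allRange 40824 18 (fun u => chkSlp tab slp u) = true := by decide +kernel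

theorem sl_2269 : allRange 40842 18 (fun u => chkSlp tab slp u) = true := by decide +kernel

theorem sl_2270 : allRange 40860 18 (fun u => chkSlp tab slp u) = true := by decide +kernel

theorem sl_2271 : allRange 40878 18 (fun u => chkSlp tab slp u) = true := by decide +kernel


end Cfsg.Agent.Helper9.TCData.ONC0
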