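import Cfsg.Agent.Lib.Helper9.TCData.ONC0.Main

set_option autoImplicit false
set_option maxRecDepth 1000000

namespace Cfsg.Agent.Helper9.TCData.ONC0
open Cfsg.Agent.Helper9.TC2

theorem e7_37 : allRange 127540 3779 (fun u => chkE tab 7 u) = true := by decide +kernel

theorem e7_38 : allRange 131319 3135 (fun u => chkE tab 7 u) = true := by decide +kernel

theorem e7_39 : allRange 134454 3866 (fun u => chkE tab 7 u) = true := by decide +kernel

theorem e7_40 : allRange 138320 3689 (fun u => chkE tab 7 u) = true := by decide +kernel

theorem e7_41 : allRange 142009 4763 (fun u => chkE tab 7 u) = true := by decide +kernel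

theorem e7_42 : allRange 146772 4663 (fun u => chkE tab 7 u) = true := by decide +kernel

theorem e7_43 : allRange 151435 4400 (fun u => chkE tab 7 u) = true := by decide +kernel

theorem e7_44 : allRange 155835 5257 (fun u => chkE tab 7 u) = true := by decide +kernel


end Cfsg.Agent.Helper9.TCData.ONC0
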