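import Cfsg.Agent.Lib.Helper9.TCData.ONC0.Main

set_option autoImplicit false
set_option maxRecDepth 1000000

namespace Cfsg.Agent.Helper9.TCData.ONC0
open Cfsg.Agent.Helper9.TC2

theorem sl_2280 : allRange 41040 18 (fun u => chkSlp tab slp u) = true := by decide +kernel

theorem sl_2281 : allRange 41058 18 (fun u => chkSlp tab slp u) = true := by decide +kernel

theorem sl_2282 : allRange 41076 18 (fun u => chkSlp tab slp u) = true := by decide +kernel

theorem sl_2283 : allRange 41094 18 (fun u => chkSlp tab slp u) = true := by decide +kernel

theorem sl_2284 : allRange 41112 18 (fun u => chkSlp tab slp u) = true := by decide +kernel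

theorem sl_2285 : allRange 41130 18 (fun u => chkSlp tab slp u) = true := by decide +kernel

theorem sl_2286 : allRange 41148 18 (fun u => chkSlp tab slp u) = true := by decide +kernel

theorem sl_2287 : allRange 41166 18 (fun u => chkSlp tab slp u) = true := by decide +kernel


end Cfsg.Agent.Helper9.TCData.ONC0
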