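import Cfsg.Agent.Lib.Helper9.TCData.ONC0.Main

set_option autoImplicit false
set_option maxRecDepth 1000000

namespace Cfsg.Agent.Helper9.TCData.ONC0
open Cfsg.Agent.Helper9.TC2

theorem sl_2288 : allRange 41184 18 (fun u => chkSlp tab slp u) = true := by decide +kernel

theorem sl_2289 : allRange 41202 18 (fun u => chkSlp tab slp u) = true := by decide +kernel

theorem sl_2290 : allRange 41220 18 (fun u => chkSlp tab slp u) = true := by decide +kernel

theorem sl_2291 : allRange 41238 18 (fun u => chkSlp tab slp u) = true := by decide +kernel

theorem sl_2292 : allRange 41256 18 (fun u => chkSlp tab slp u) = true := by decide +kernel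

theorem sl_2293 : allRange 41274 18 (fun u => chkSlp tab slp u) = true := by decide +kernel

theorem sl_2294 : allRange 41292 18 (fun u => chkSlp tab slp u) = true := by decide +kernel

theorem sl_2295 : allRange 41310 18 (fun u => chkSlp tab slp u) = true := by decide +kernel


end Cfsg.Agent.Helper9.TCData.ONC0
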