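import Cfsg.Agent.Lib.Helper9.TCData.ONC0.Main

set_option autoImplicit false
set_option maxRecDepth 1000000

namespace Cfsg.Agent.Helper9.TCData.ONC0
open Cfsg.Agent.Helper9.TC2

theorem sl_2296 : allRange 41328 18 (fun u => chkSlp tab slp u) = true := by decide +kernel

theorem sl_2297 : allRange 41346 18 (fun u => chkSlp tab slp u) = true := by decide +kernel

theorem sl_2298 : allRange 41364 18 (fun u => chkSlp tab slp u) = true := by decide +kernel

theorem sl_2299 : allRange 41382 18 (fun u => chkSlp tab slp u) = true := by decide +kernel

theorem sl_2300 : allRange 41400 18 (fun u => chkSlp tab slp u) = true := by decide +kernel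

theorem sl_2301 : allRange 41418 18 (fun u => chkSlp tab slp u) = true := by decide +kernel

theorem sl_2302 : allRange 41436 18 (fun u => chkSlp tab slp u) = true := by decide +kernel

theorem sl_2303 : allRange 41454 18 (fun u => chkSlp tab slp u) = true := by decide +kernel


end Cfsg.Agent.Helper9.TCData.ONC0
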