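import Cfsg.Agent.Lib.Helper9.TCData.ONC0.Main

set_option autoImplicit false
set_option maxRecDepth 1000000

namespace Cfsg.Agent.Helper9.TCData.ONC0
open Cfsg.Agent.Helper9.TC2

theorem sl_2304 : allRange 41472 18 (fun u => chkSlp tab slp u) = true := by decide +kernel

theorem sl_2305 : allRange 41490 18 (fun u => chkSlp tab slp u) = true := by decide +kernel

theorem sl_2306 : allRange 41508 18 (fun u => chkSlp tab slp u) = true := by decide +kernel

theorem sl_2307 : allRange 41526 18 (fun u => chkSlp tab slp u) = true := by decide +kernel

theorem sl_2308 : allRange 41544 18 (fun u => chkSlp tab slp u) = true := by decide +kernel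

theorem sl_2309 : allRange 41562 18 (fun u => chkSlp tab slp u) = true := by decide +kernel

theorem sl_2310 : allRange 41580 18 (fun u => chkSlp tab slp u) = true := by decide +kernel

theorem sl_2311 : allRange 41598 18 (fun u => chkSlp tab slp u) = true := by decide +kernel


end Cfsg.Agent.Helper9.TCData.ONC0
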