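import Cfsg.Agent.Lib.Helper9.TCData.ONC0.Main

set_option autoImplicit false
set_option maxRecDepth 1000000

namespace Cfsg.Agent.Helper9.TCData.ONC0
open Cfsg.Agent.Helper9.TC2

theorem sl_2312 : allRange 41616 18 (fun u => chkSlp tab slp u) = true := by decide +kernel

theorem sl_2313 : allRange 41634 18 (fun u => chkSlp tab slp u) = true := by decide +kernel

theorem sl_2314 : allRange 41652 18 (fun u => chkSlp tab slp u) = true := by decide +kernel

theorem sl_2315 : allRange 41670 18 (fun u => chkSlp tab slp u) = true := by decide +kernel

theorem sl_2316 : allRange 41688 18 (fun u => chkSlp tab slp u) = true := by decide +kernel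

theorem sl_2317 : allRange 41706 18 (fun u => chkSlp tab slp u) = true := by decide +kernel

theorem sl_2318 : allRange 41724 18 (fun u => chkSlp tab slp u) = true := by decide +kernel

theorem sl_2319 : allRange 41742 18 (fun u => chkSlp tab slp u) = true := by decide +kernel


end Cfsg.Agent.Helper9.TCData.ONC0
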