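import Cfsg.Agent.Lib.Helper9.TCData.ONC0.Main

set_option autoImplicit false
set_option maxRecDepth 1000000

namespace Cfsg.Agent.Helper9.TCData.ONC0
open Cfsg.Agent.Helper9.TC2

theorem sl_2320 : allRange 41760 18 (fun u => chkSlp tab slp u) = true := by decide +kernel

theorem sl_2321 : allRange 41778 18 (fun u => chkSlp tab slp u) = true := by decide +kernel

theorem sl_2322 : allRange 41796 18 (fun u => chkSlp tab slp u) = true := by decide +kernel

theorem sl_2323 : allRange 41814 18 (fun u => chkSlp tab slp u) = true := by decide +kernel

theorem sl_2324 : allRange 41832 18 (fun u => chkSlp tab slp u) = true := by decide +kernel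

theorem sl_2325 : allRange 41850 18 (fun u => chkSlp tab slp u) = true := by decide +kernel

theorem sl_2326 : allRange 41868 18 (fun u => chkSlp tab slp u) = true := by decide +kernel

theorem sl_2327 : allRange 41886 18 (fun u => chkSlp tab slp u) = true := by decide +kernel


end Cfsg.Agent.Helper9.TCData.ONC0
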