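import Cfsg.Agent.Lib.Helper9.TCData.ONC0.Main

set_option autoImplicit false
set_option maxRecDepth 1000000

namespace Cfsg.Agent.Helper9.TCData.ONC0
open Cfsg.Agent.Helper9.TC2

theorem sl_2328 : allRange 41904 18 (fun u => chkSlp tab slp u) = true := by decide +kernel

theorem sl_2329 : allRange 41922 18 (fun u => chkSlp tab slp u) = true := by decide +kernel

theorem sl_2330 : allRange 41940 18 (fun u => chkSlp tab slp u) = true := by decide +kernel

theorem sl_2331 : allRange 41958 18 (fun u => chkSlp tab slp u) = true := by decide +kernel

theorem sl_2332 : allRange 41976 18 (fun u => chkSlp tab slp u) = true := by decide +kernel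

theorem sl_2333 : allRange 41994 18 (fun u => chkSlp tab slp u) = true := by decide +kernel

theorem sl_2334 : allRange 42012 18 (fun u => chkSlp tab slp u) = true := by decide +kernel

theorem sl_2335 : allRange 42030 18 (fun u => chkSlp tab slp u) = true := by decide +kernel


end Cfsg.Agent.Helper9.TCData.ONC0
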