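import Cfsg.Agent.Lib.Helper9.TCData.ONC0.Main

set_option autoImplicit false
set_option maxRecDepth 1000000

namespace Cfsg.Agent.Helper9.TCData.ONC0
open Cfsg.Agent.Helper9.TC2

theorem sl_2336 : allRange 42048 18 (fun u => chkSlp tab slp u) = true := by decide +kernel

theorem sl_2337 : allRange 42066 18 (fun u => chkSlp tab slp u) = true := by decide +kernel

theorem sl_2338 : allRange 42084 18 (fun u => chkSlp tab slp u) = true := by decide +kernel

theorem sl_2339 : allRange 42102 18 (fun u => chkSlp tab slp u) = true := by decide +kernel

theorem sl_2340 : allRange 42120 18 (fun u => chkSlp tab slp u) = true := by decide +kernel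

theorem sl_2341 : allRange 42138 18 (fun u => chkSlp tab slp u) = true := by decide +kernel

theorem sl_2342 : allRange 42156 18 (fun u => chkSlp tab slp u) = true := by decide +kernel

theorem sl_2343 : allRange 42174 18 (fun u => chkSlp tab slp u) = true := by decide +kernel


end Cfsg.Agent.Helper9.TCData.ONC0
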