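import Cfsg.Agent.Lib.Helper9.TCData.ONC0.Main

set_option autoImplicit false
set_option maxRecDepth 1000000

namespace Cfsg.Agent.Helper9.TCData.ONC0
open Cfsg.Agent.Helper9.TC2

theorem e7_45 : allRange 161092 4929 (fun u => chkE tab 7 u) = true := by decide +kernel

theorem e7_46 : allRange 166021 6100 (fun u => chkE tab 7 u) = true := by decide +kernel

theorem e7_47 : allRange 172121 6240 (fun u => chkE tab 7 u) = true := by decide +kernel

theorem e7_48 : allRange 178361 6336 (fun u => chkE tab 7 u) = true := by decide +kernel

theorem e7_49 : allRange 184697 5856 (fun u => chkE tab 7 u) = true := by decide +kernel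

theorem e7_50 : allRange 190553 3865 (fun u => chkE tab 7 u) = true := by decide +kernel

theorem e7_51 : allRange 194418 2593 (fun u => chkE tab 7 u) = true := by decide +kernel

theorem e7_52 : allRange 197011 2619 (fun u => chkE tab 7 u) = true := by decide +kernel


end Cfsg.Agent.Helper9.TCData.ONC0
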