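import Cfsg.Agent.Lib.Helper9.TCData.ONC0.Main

set_option autoImplicit false
set_option maxRecDepth 1000000

namespace Cfsg.Agent.Helper9.TCData.ONC0
open Cfsg.Agent.Helper9.TC2

theorem sl_2376 : allRange 42768 18 (fun u => chkSlp tab slp u) = true := by decide +kernel

theorem sl_2377 : allRange 42786 18 (fun u => chkSlp tab slp u) = true := by decide +kernel

theorem sl_2378 : allRange 42804 18 (fun u => chkSlp tab slp u) = true := by decide +kernel

theorem sl_2379 : allRange 42822 18 (fun u => chkSlp tab slp u) = true := by decide +kernel

theorem sl_2380 : allRange 42840 18 (fun u => chkSlp tab slp u) = true := by decide +kernel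

theorem sl_2381 : allRange 42858 18 (fun u => chkSlp tab slp u) = true := by decide +kernel

theorem sl_2382 : allRange 42876 18 (fun u => chkSlp tab slp u) = true := by decide +kernel

theorem sl_2383 : allRange 42894 18 (fun u => chkSlp tab slp u) = true := by decide +kernel


end Cfsg.Agent.Helper9.TCData.ONC0
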