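import Cfsg.Agent.Lib.Helper9.TCData.ONC0.Main

set_option autoImplicit false
set_option maxRecDepth 1000000

namespace Cfsg.Agent.Helper9.TCData.ONC0
open Cfsg.Agent.Helper9.TC2

theorem sl_2384 : allRange 42912 18 (fun u => chkSlp tab slp u) = true := by decide +kernel

theorem sl_2385 : allRange 42930 18 (fun u => chkSlp tab slp u) = true := by decide +kernel

theorem sl_2386 : allRange 42948 18 (fun u => chkSlp tab slp u) = true := by decide +kernel

theorem sl_2387 : allRange 42966 18 (fun u => chkSlp tab slp u) = true := by decide +kernel

theorem sl_2388 : allRange 42984 18 (fun u => chkSlp tab slp u) = true := by decide +kernel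

theorem sl_2389 : allRange 43002 18 (fun u => chkSlp tab slp u) = true := by decide +kernel

theorem sl_2390 : allRange 43020 18 (fun u => chkSlp tab slp u) = true := by decide +kernel

theorem sl_2391 : allRange 43038 18 (fun u => chkSlp tab slp u) = true := by decide +kernel


end Cfsg.Agent.Helper9.TCData.ONC0
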