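import Cfsg.Agent.Lib.Helper9.TCData.ONC0.Main

set_option autoImplicit false
set_option maxRecDepth 1000000

namespace Cfsg.Agent.Helper9.TCData.ONC0
open Cfsg.Agent.Helper9.TC2

theorem sl_2400 : allRange 43200 18 (fun u => chkSlp tab slp u) = true := by decide +kernel

theorem sl_2401 : allRange 43218 18 (fun u => chkSlp tab slp u) = true := by decide +kernel

theorem sl_2402 : allRange 43236 18 (fun u => chkSlp tab slp u) = true := by decide +kernel

theorem sl_2403 : allRange 43254 18 (fun u => chkSlp tab slp u) = true := by decide +kernel

theorem sl_2404 : allRange 43272 18 (fun u => chkSlp tab slp u) = true := by decide +kernel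

theorem sl_2405 : allRange 43290 18 (fun u => chkSlp tab slp u) = true := by decide +kernel

theorem sl_2406 : allRange 43308 18 (fun u => chkSlp tab slp u) = true := by decide +kernel

theorem sl_2407 : allRange 43326 18 (fun u => chkSlp tab slp u) = true := by decide +kernel


end Cfsg.Agent.Helper9.TCData.ONC0
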