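import Cfsg.Agent.Lib.Helper9.TCData.ONC0.Main

set_option autoImplicit false
set_option maxRecDepth 1000000

namespace Cfsg.Agent.Helper9.TCData.ONC0
open Cfsg.Agent.Helper9.TC2

theorem sl_2432 : allRange 43776 18 (fun u => chkSlp tab slp u) = true := by decide +kernel

theorem sl_2433 : allRange 43794 18 (fun u => chkSlp tab slp u) = true := by decide +kernel

theorem sl_2434 : allRange 43812 18 (fun u => chkSlp tab slp u) = true := by decide +kernel

theorem sl_2435 : allRange 43830 18 (fun u => chkSlp tab slp u) = true := by decide +kernel

theorem sl_2436 : allRange 43848 18 (fun u => chkSlp tab slp u) = true := by decide +kernel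

theorem sl_2437 : allRange 43866 18 (fun u => chkSlp tab slp u) = true := by decide +kernel

theorem sl_2438 : allRange 43884 18 (fun u => chkSlp tab slp u) = true := by decide +kernel

theorem sl_2439 : allRange 43902 18 (fun u => chkSlp tab slp u) = true := by decide +kernel


end Cfsg.Agent.Helper9.TCData.ONC0
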