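import Cfsg.Agent.Lib.Helper9.TCData.ONC0.Main

set_option autoImplicit false
set_option maxRecDepth 1000000

namespace Cfsg.Agent.Helper9.TCData.ONC0
open Cfsg.Agent.Helper9.TC2

theorem e7_53 : allRange 199630 2736 (fun u => chkE tab 7 u) = true := by decide +kernel

theorem e7_54 : allRange 202366 2834 (fun u => chkE tab 7 u) = true := by decide +kernel

theorem e7_55 : allRange 205200 2689 (fun u => chkE tab 7 u) = true := by decide +kernel

theorem e7_56 : allRange 207889 2924 (fun u => chkE tab 7 u) = true := by decide +kernel

theorem e7_57 : allRange 210813 2910 (fun u => chkE tab 7 u) = true := by decide +kernel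

theorem e7_58 : allRange 213723 2706 (fun u => chkE tab 7 u) = true := by decide +kernel

theorem e7_59 : allRange 216429 2879 (fun u => chkE tab 7 u) = true := by decide +kernel

theorem e7_60 : allRange 219308 3118 (fun u => chkE tab 7 u) = true := by decide +kernel


end Cfsg.Agent.Helper9.TCData.ONC0
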