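import Cfsg.Agent.Lib.Helper9.TCData.ONC0.Main

set_option autoImplicit false
set_option maxRecDepth 1000000

namespace Cfsg.Agent.Helper9.TCData.ONC0
open Cfsg.Agent.Helper9.TC2

theorem sl_2440 : allRange 43920 18 (fun u => chkSlp tab slp u) = true := by decide +kernel

theorem sl_2441 : allRange 43938 18 (fun u => chkSlp tab slp u) = true := by decide +kernel

theorem sl_2442 : allRange 43956 18 (fun u => chkSlp tab slp u) = true := by decide +kernel

theorem sl_2443 : allRange 43974 18 (fun u => chkSlp tab slp u) = true := by decide +kernel

theorem sl_2444 : allRange 43992 18 (fun u => chkSlp tab slp u) = true := by decide +kernel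

theorem sl_2445 : allRange 44010 18 (fun u => chkSlp tab slp u) = true := by decide +kernel

theorem sl_2446 : allRange 44028 18 (fun u => chkSlp tab slp u) = true := by decide +kernel

theorem sl_2447 : allRange 44046 18 (fun u => chkSlp tab slp u) = true := by decide +kernel


end Cfsg.Agent.Helper9.TCData.ONC0
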