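import Cfsg.Agent.Lib.Helper9.TCData.ONC0.Main

set_option autoImplicit false
set_option maxRecDepth 1000000

namespace Cfsg.Agent.Helper9.TCData.ONC0
open Cfsg.Agent.Helper9.TC2

theorem sl_2480 : allRange 44640 18 (fun u => chkSlp tab slp u) = true := by decide +kernel

theorem sl_2481 : allRange 44658 18 (fun u => chkSlp tab slp u) = true := by decide +kernel

theorem sl_2482 : allRange 44676 18 (fun u => chkSlp tab slp u) = true := by decide +kernel

theorem sl_2483 : allRange 44694 18 (fun u => chkSlp tab slp u) = true := by decide +kernel

theorem sl_2484 : allRange 44712 18 (fun u => chkSlp tab slp u) = true := by decide +kernel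

theorem sl_2485 : allRange 44730 18 (fun u => chkSlp tab slp u) = true := by decide +kernel

theorem sl_2486 : allRange 44748 18 (fun u => chkSlp tab slp u) = true := by decide +kernel

theorem sl_2487 : allRange 44766 18 (fun u => chkSlp tab slp u) = true := by decide +kernel


end Cfsg.Agent.Helper9.TCData.ONC0
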