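import Cfsg.Agent.Lib.Helper9.TCData.ONC0.Main

set_option autoImplicit false
set_option maxRecDepth 1000000

namespace Cfsg.Agent.Helper9.TCData.ONC0
open Cfsg.Agent.Helper9.TC2

theorem sl_2488 : allRange 44784 18 (fun u => chkSlp tab slp u) = true := by decide +kernel

theorem sl_2489 : allRange 44802 18 (fun u => chkSlp tab slp u) = true := by decide +kernel

theorem sl_2490 : allRange 44820 18 (fun u => chkSlp tab slp u) = true := by decide +kernel

theorem sl_2491 : allRange 44838 18 (fun u => chkSlp tab slp u) = true := by decide +kernel

theorem sl_2492 : allRange 44856 18 (fun u => chkSlp tab slp u) = true := by decide +kernel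

theorem sl_2493 : allRange 44874 18 (fun u => chkSlp tab slp u) = true := by decide +kernel

theorem sl_2494 : allRange 44892 18 (fun u => chkSlp tab slp u) = true := by decide +kernel

theorem sl_2495 : allRange 44910 18 (fun u => chkSlp tab slp u) = true := by decide +kernel


end Cfsg.Agent.Helper9.TCData.ONC0
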