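import Cfsg.Agent.Lib.Helper9.TCData.ONC0.Main

set_option autoImplicit false
set_option maxRecDepth 1000000

namespace Cfsg.Agent.Helper9.TCData.ONC0
open Cfsg.Agent.Helper9.TC2

theorem sl_2496 : allRange 44928 18 (fun u => chkSlp tab slp u) = true := by decide +kernel

theorem sl_2497 : allRange 44946 18 (fun u => chkSlp tab slp u) = true := by decide +kernel

theorem sl_2498 : allRange 44964 18 (fun u => chkSlp tab slp u) = true := by decide +kernel

theorem sl_2499 : allRange 44982 18 (fun u => chkSlp tab slp u) = true := by decide +kernel

theorem sl_2500 : allRange 45000 18 (fun u => chkSlp tab slp u) = true := by decide +kernel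

theorem sl_2501 : allRange 45018 18 (fun u => chkSlp tab slp u) = true := by decide +kernel

theorem sl_2502 : allRange 45036 18 (fun u => chkSlp tab slp u) = true := by decide +kernel

theorem sl_2503 : allRange 45054 18 (fun u => chkSlp tab slp u) = true := by decide +kernel


end Cfsg.Agent.Helper9.TCData.ONC0
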