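import Cfsg.Agent.Lib.Helper9.TCData.ONC0.Main

set_option autoImplicit false
set_option maxRecDepth 1000000

namespace Cfsg.Agent.Helper9.TCData.ONC0
open Cfsg.Agent.Helper9.TC2

theorem sl_2504 : allRange 45072 18 (fun u => chkSlp tab slp u) = true := by decide +kernel

theorem sl_2505 : allRange 45090 18 (fun u => chkSlp tab slp u) = true := by decide +kernel

theorem sl_2506 : allRange 45108 18 (fun u => chkSlp tab slp u) = true := by decide +kernel

theorem sl_2507 : allRange 45126 18 (fun u => chkSlp tab slp u) = true := by decide +kernel

theorem sl_2508 : allRange 45144 18 (fun u => chkSlp tab slp u) = true := by decide +kernel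

theorem sl_2509 : allRange 45162 18 (fun u => chkSlp tab slp u) = true := by decide +kernel

theorem sl_2510 : allRange 45180 18 (fun u => chkSlp tab slp u) = true := by decide +kernel

theorem sl_2511 : allRange 45198 18 (fun u => chkSlp tab slp u) = true := by decide +kernel


end Cfsg.Agent.Helper9.TCData.ONC0
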