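import Cfsg.Agent.Lib.Helper9.TCData.ONC0.Main

set_option autoImplicit false
set_option maxRecDepth 1000000

namespace Cfsg.Agent.Helper9.TCData.ONC0
open Cfsg.Agent.Helper9.TC2

theorem sl_2512 : allRange 45216 18 (fun u => chkSlp tab slp u) = true := by decide +kernel

theorem sl_2513 : allRange 45234 18 (fun u => chkSlp tab slp u) = true := by decide +kernel

theorem sl_2514 : allRange 45252 18 (fun u => chkSlp tab slp u) = true := by decide +kernel

theorem sl_2515 : allRange 45270 18 (fun u => chkSlp tab slp u) = true := by decide +kernel

theorem sl_2516 : allRange 45288 18 (fun u => chkSlp tab slp u) = true := by decide +kernel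

theorem sl_2517 : allRange 45306 18 (fun u => chkSlp tab slp u) = true := by decide +kernel

theorem sl_2518 : allRange 45324 18 (fun u => chkSlp tab slp u) = true := by decide +kernel

theorem sl_2519 : allRange 45342 18 (fun u => chkSlp tab slp u) = true := by decide +kernel


end Cfsg.Agent.Helper9.TCData.ONC0
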