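import Cfsg.Agent.Lib.Helper9.TCData.ONC0.Main

set_option autoImplicit false
set_option maxRecDepth 1000000

namespace Cfsg.Agent.Helper9.TCData.ONC0
open Cfsg.Agent.Helper9.TC2

theorem e7_61 : allRange 222426 3267 (fun u => chkE tab 7 u) = true := by decide +kernel

theorem e7_62 : allRange 225693 3436 (fun u => chkE tab 7 u) = true := by decide +kernel

theorem e7_63 : allRange 229129 2465 (fun u => chkE tab 7 u) = true := by decide +kernel


end Cfsg.Agent.Helper9.TCData.ONC0
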