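import Cfsg.Agent.Lib.Helper9.TCData.ONC0.Main

set_option autoImplicit false
set_option maxRecDepth 1000000

namespace Cfsg.Agent.Helper9.TCData.ONC0
open Cfsg.Agent.Helper9.TC2

theorem sl_2520 : allRange 45360 18 (fun u => chkSlp tab slp u) = true := by decide +kernel

theorem sl_2521 : allRange 45378 18 (fun u => chkSlp tab slp u) = true := by decide +kernel

theorem sl_2522 : allRange 45396 18 (fun u => chkSlp tab slp u) = true := by decide +kernel

theorem sl_2523 : allRange 45414 18 (fun u => chkSlp tab slp u) = true := by decide +kernel

theorem sl_2524 : allRange 45432 18 (fun u => chkSlp tab slp u) = true := by decide +kernel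

theorem sl_2525 : allRange 45450 18 (fun u => chkSlp tab slp u) = true := by decide +kernel

theorem sl_2526 : allRange 45468 18 (fun u => chkSlp tab slp u) = true := by decide +kernel

theorem sl_2527 : allRange 45486 18 (fun u => chkSlp tab slp u) = true := by decide +kernel


end Cfsg.Agent.Helper9.TCData.ONC0
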