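import Cfsg.Agent.Lib.Helper9.TCData.ONC0.Main

set_option autoImplicit false
set_option maxRecDepth 1000000

namespace Cfsg.Agent.Helper9.TCData.ONC0
open Cfsg.Agent.Helper9.TC2

theorem sl_2536 : allRange 45648 18 (fun u => chkSlp tab slp u) = true := by decide +kernel

theorem sl_2537 : allRange 45666 18 (fun u => chkSlp tab slp u) = true := by decide +kernel

theorem sl_2538 : allRange 45684 18 (fun u => chkSlp tab slp u) = true := by decide +kernel

theorem sl_2539 : allRange 45702 18 (fun u => chkSlp tab slp u) = true := by decide +kernel

theorem sl_2540 : allRange 45720 18 (fun u => chkSlp tab slp u) = true := by decide +kernel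

theorem sl_2541 : allRange 45738 18 (fun u => chkSlp tab slp u) = true := by decide +kernel

theorem sl_2542 : allRange 45756 18 (fun u => chkSlp tab slp u) = true := by decide +kernel

theorem sl_2543 : allRange 45774 18 (fun u => chkSlp tab slp u) = true := by decide +kernel


end Cfsg.Agent.Helper9.TCData.ONC0
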