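import Cfsg.Agent.Lib.Helper9.TCData.ONC0.Main

set_option autoImplicit false
set_option maxRecDepth 1000000

namespace Cfsg.Agent.Helper9.TCData.ONC0
open Cfsg.Agent.Helper9.TC2

theorem sl_2544 : allRange 45792 18 (fun u => chkSlp tab slp u) = true := by decide +kernel

theorem sl_2545 : allRange 45810 18 (fun u => chkSlp tab slp u) = true := by decide +kernel

theorem sl_2546 : allRange 45828 18 (fun u => chkSlp tab slp u) = true := by decide +kernel

theorem sl_2547 : allRange 45846 18 (fun u => chkSlp tab slp u) = true := by decide +kernel

theorem sl_2548 : allRange 45864 18 (fun u => chkSlp tab slp u) = true := by decide +kernel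

theorem sl_2549 : allRange 45882 18 (fun u => chkSlp tab slp u) = true := by decide +kernel

theorem sl_2550 : allRange 45900 18 (fun u => chkSlp tab slp u) = true := by decide +kernel

theorem sl_2551 : allRange 45918 18 (fun u => chkSlp tab slp u) = true := by decide +kernel


end Cfsg.Agent.Helper9.TCData.ONC0
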