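import Cfsg.Agent.Lib.Helper9.TCData.ONC0.Main

set_option autoImplicit false
set_option maxRecDepth 1000000

namespace Cfsg.Agent.Helper9.TCData.ONC0
open Cfsg.Agent.Helper9.TC2

theorem sl_2568 : allRange 46224 18 (fun u => chkSlp tab slp u) = true := by decide +kernel

theorem sl_2569 : allRange 46242 18 (fun u => chkSlp tab slp u) = true := by decide +kernel

theorem sl_2570 : allRange 46260 18 (fun u => chkSlp tab slp u) = true := by decide +kernel

theorem sl_2571 : allRange 46278 18 (fun u => chkSlp tab slp u) = true := by decide +kernel

theorem sl_2572 : allRange 46296 18 (fun u => chkSlp tab slp u) = true := by decide +kernel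

theorem sl_2573 : allRange 46314 18 (fun u => chkSlp tab slp u) = true := by decide +kernel

theorem sl_2574 : allRange 46332 18 (fun u => chkSlp tab slp u) = true := by decide +kernel

theorem sl_2575 : allRange 46350 18 (fun u => chkSlp tab slp u) = true := by decide +kernel


end Cfsg.Agent.Helper9.TCData.ONC0
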