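import Cfsg.Agent.Lib.Helper9.TCData.ONC0.Main

set_option autoImplicit false
set_option maxRecDepth 1000000

namespace Cfsg.Agent.Helper9.TCData.ONC0
open Cfsg.Agent.Helper9.TC2

theorem sl_2576 : allRange 46368 18 (fun u => chkSlp tab slp u) = true := by decide +kernel

theorem sl_2577 : allRange 46386 18 (fun u => chkSlp tab slp u) = true := by decide +kernel

theorem sl_2578 : allRange 46404 18 (fun u => chkSlp tab slp u) = true := by decide +kernel

theorem sl_2579 : allRange 46422 18 (fun u => chkSlp tab slp u) = true := by decide +kernel

theorem sl_2580 : allRange 46440 18 (fun u => chkSlp tab slp u) = true := by decide +kernel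

theorem sl_2581 : allRange 46458 18 (fun u => chkSlp tab slp u) = true := by decide +kernel

theorem sl_2582 : allRange 46476 18 (fun u => chkSlp tab slp u) = true := by decide +kernel

theorem sl_2583 : allRange 46494 18 (fun u => chkSlp tab slp u) = true := by decide +kernel


end Cfsg.Agent.Helper9.TCData.ONC0
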