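import Cfsg.Agent.Lib.Helper9.TCData.ONC0.Main

set_option autoImplicit false
set_option maxRecDepth 1000000

namespace Cfsg.Agent.Helper9.TCData.ONC0
open Cfsg.Agent.Helper9.TC2

theorem sl_2584 : allRange 46512 18 (fun u => chkSlp tab slp u) = true := by decide +kernel

theorem sl_2585 : allRange 46530 18 (fun u => chkSlp tab slp u) = true := by decide +kernel

theorem sl_2586 : allRange 46548 18 (fun u => chkSlp tab slp u) = true := by decide +kernel

theorem sl_2587 : allRange 46566 18 (fun u => chkSlp tab slp u) = true := by decide +kernel

theorem sl_2588 : allRange 46584 18 (fun u => chkSlp tab slp u) = true := by decide +kernel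

theorem sl_2589 : allRange 46602 18 (fun u => chkSlp tab slp u) = true := by decide +kernel

theorem sl_2590 : allRange 46620 18 (fun u => chkSlp tab slp u) = true := by decide +kernel

theorem sl_2591 : allRange 46638 18 (fun u => chkSlp tab slp u) = true := by decide +kernel


end Cfsg.Agent.Helper9.TCData.ONC0
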