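import Cfsg.Agent.Lib.Helper9.TCData.ONC0.Main

set_option autoImplicit false
set_option maxRecDepth 1000000

namespace Cfsg.Agent.Helper9.TCData.ONC0
open Cfsg.Agent.Helper9.TC2

theorem sl_2592 : allRange 46656 18 (fun u => chkSlp tab slp u) = true := by decide +kernel

theorem sl_2593 : allRange 46674 18 (fun u => chkSlp tab slp u) = true := by decide +kernel

theorem sl_2594 : allRange 46692 18 (fun u => chkSlp tab slp u) = true := by decide +kernel

theorem sl_2595 : allRange 46710 18 (fun u => chkSlp tab slp u) = true := by decide +kernel

theorem sl_2596 : allRange 46728 18 (fun u => chkSlp tab slp u) = true := by decide +kernel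

theorem sl_2597 : allRange 46746 18 (fun u => chkSlp tab slp u) = true := by decide +kernel

theorem sl_2598 : allRange 46764 18 (fun u => chkSlp tab slp u) = true := by decide +kernel

theorem sl_2599 : allRange 46782 18 (fun u => chkSlp tab slp u) = true := by decide +kernel


end Cfsg.Agent.Helper9.TCData.ONC0
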