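import Cfsg.Agent.Lib.Helper9.TCData.ONC0.Main

set_option autoImplicit false
set_option maxRecDepth 1000000

namespace Cfsg.Agent.Helper9.TCData.ONC0
open Cfsg.Agent.Helper9.TC2

theorem sl_2608 : allRange 46944 18 (fun u => chkSlp tab slp u) = true := by decide +kernel

theorem sl_2609 : allRange 46962 18 (fun u => chkSlp tab slp u) = true := by decide +kernel

theorem sl_2610 : allRange 46980 18 (fun u => chkSlp tab slp u) = true := by decide +kernel

theorem sl_2611 : allRange 46998 18 (fun u => chkSlp tab slp u) = true := by decide +kernel

theorem sl_2612 : allRange 47016 18 (fun u => chkSlp tab slp u) = true := by decide +kernel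

theorem sl_2613 : allRange 47034 18 (fun u => chkSlp tab slp u) = true := by decide +kernel

theorem sl_2614 : allRange 47052 18 (fun u => chkSlp tab slp u) = true := by decide +kernel

theorem sl_2615 : allRange 47070 18 (fun u => chkSlp tab slp u) = true := by decide +kernel


end Cfsg.Agent.Helper9.TCData.ONC0
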