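import Cfsg.Agent.Lib.Helper9.TCData.ONC0.Main

set_option autoImplicit false
set_option maxRecDepth 1000000

namespace Cfsg.Agent.Helper9.TCData.ONC0
open Cfsg.Agent.Helper9.TC2

theorem sl_2624 : allRange 47232 18 (fun u => chkSlp tab slp u) = true := by decide +kernel

theorem sl_2625 : allRange 47250 18 (fun u => chkSlp tab slp u) = true := by decide +kernel

theorem sl_2626 : allRange 47268 18 (fun u => chkSlp tab slp u) = true := by decide +kernel

theorem sl_2627 : allRange 47286 18 (fun u => chkSlp tab slp u) = true := by decide +kernel

theorem sl_2628 : allRange 47304 18 (fun u => chkSlp tab slp u) = true := by decide +kernel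

theorem sl_2629 : allRange 47322 18 (fun u => chkSlp tab slp u) = true := by decide +kernel

theorem sl_2630 : allRange 47340 18 (fun u => chkSlp tab slp u) = true := by decide +kernel

theorem sl_2631 : allRange 47358 18 (fun u => chkSlp tab slp u) = true := by decide +kernel


end Cfsg.Agent.Helper9.TCData.ONC0
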