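import Cfsg.Agent.Lib.Helper9.TCData.ONC0.Main

set_option autoImplicit false
set_option maxRecDepth 1000000

namespace Cfsg.Agent.Helper9.TCData.ONC0
open Cfsg.Agent.Helper9.TC2

theorem sl_2640 : allRange 47520 18 (fun u => chkSlp tab slp u) = true := by decide +kernel

theorem sl_2641 : allRange 47538 18 (fun u => chkSlp tab slp u) = true := by decide +kernel

theorem sl_2642 : allRange 47556 18 (fun u => chkSlp tab slp u) = true := by decide +kernel

theorem sl_2643 : allRange 47574 18 (fun u => chkSlp tab slp u) = true := by decide +kernel

theorem sl_2644 : allRange 47592 18 (fun u => chkSlp tab slp u) = true := by decide +kernel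

theorem sl_2645 : allRange 47610 18 (fun u => chkSlp tab slp u) = true := by decide +kernel

theorem sl_2646 : allRange 47628 18 (fun u => chkSlp tab slp u) = true := by decide +kernel

theorem sl_2647 : allRange 47646 18 (fun u => chkSlp tab slp u) = true := by decide +kernel


end Cfsg.Agent.Helper9.TCData.ONC0
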