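import Cfsg.Agent.Lib.Helper9.TCData.ONC0.Main

set_option autoImplicit false
set_option maxRecDepth 1000000

namespace Cfsg.Agent.Helper9.TCData.ONC0
open Cfsg.Agent.Helper9.TC2

theorem sl_2648 : allRange 47664 18 (fun u => chkSlp tab slp u) = true := by decide +kernel

theorem sl_2649 : allRange 47682 18 (fun u => chkSlp tab slp u) = true := by decide +kernel

theorem sl_2650 : allRange 47700 18 (fun u => chkSlp tab slp u) = true := by decide +kernel

theorem sl_2651 : allRange 47718 18 (fun u => chkSlp tab slp u) = true := by decide +kernel

theorem sl_2652 : allRange 47736 18 (fun u => chkSlp tab slp u) = true := by decide +kernel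

theorem sl_2653 : allRange 47754 18 (fun u => chkSlp tab slp u) = true := by decide +kernel

theorem sl_2654 : allRange 47772 18 (fun u => chkSlp tab slp u) = true := by decide +kernel

theorem sl_2655 : allRange 47790 18 (fun u => chkSlp tab slp u) = true := by decide +kernel


end Cfsg.Agent.Helper9.TCData.ONC0
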