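import Cfsg.Agent.Lib.Helper9.TCData.ONC0.Main

set_option autoImplicit false
set_option maxRecDepth 1000000

namespace Cfsg.Agent.Helper9.TCData.ONC0
open Cfsg.Agent.Helper9.TC2

theorem sl_2664 : allRange 47952 18 (fun u => chkSlp tab slp u) = true := by decide +kernel

theorem sl_2665 : allRange 47970 18 (fun u => chkSlp tab slp u) = true := by decide +kernel

theorem sl_2666 : allRange 47988 18 (fun u => chkSlp tab slp u) = true := by decide +kernel

theorem sl_2667 : allRange 48006 18 (fun u => chkSlp tab slp u) = true := by decide +kernel

theorem sl_2668 : allRange 48024 18 (fun u => chkSlp tab slp u) = true := by decide +kernel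

theorem sl_2669 : allRange 48042 18 (fun u => chkSlp tab slp u) = true := by decide +kernel

theorem sl_2670 : allRange 48060 18 (fun u => chkSlp tab slp u) = true := by decide +kernel

theorem sl_2671 : allRange 48078 18 (fun u => chkSlp tab slp u) = true := by decide +kernel


end Cfsg.Agent.Helper9.TCData.ONC0
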