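import Cfsg.Agent.Lib.Helper9.TCData.ONC0.Main

set_option autoImplicit false
set_option maxRecDepth 1000000

namespace Cfsg.Agent.Helper9.TCData.ONC0
open Cfsg.Agent.Helper9.TC2

theorem sl_2680 : allRange 48240 18 (fun u => chkSlp tab slp u) = true := by decide +kernel

theorem sl_2681 : allRange 48258 18 (fun u => chkSlp tab slp u) = true := by decide +kernel

theorem sl_2682 : allRange 48276 18 (fun u => chkSlp tab slp u) = true := by decide +kernel

theorem sl_2683 : allRange 48294 18 (fun u => chkSlp tab slp u) = true := by decide +kernel

theorem sl_2684 : allRange 48312 18 (fun u => chkSlp tab slp u) = true := by decide +kernel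

theorem sl_2685 : allRange 48330 18 (fun u => chkSlp tab slp u) = true := by decide +kernel

theorem sl_2686 : allRange 48348 18 (fun u => chkSlp tab slp u) = true := by decide +kernel

theorem sl_2687 : allRange 48366 18 (fun u => chkSlp tab slp u) = true := by decide +kernel


end Cfsg.Agent.Helper9.TCData.ONC0
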