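import Cfsg.Agent.Lib.Helper9.TCData.ONC0.Main

set_option autoImplicit false
set_option maxRecDepth 1000000

namespace Cfsg.Agent.Helper9.TCData.ONC0
open Cfsg.Agent.Helper9.TC2

theorem sl_2704 : allRange 48672 18 (fun u => chkSlp tab slp u) = true := by decide +kernel

theorem sl_2705 : allRange 48690 18 (fun u => chkSlp tab slp u) = true := by decide +kernel

theorem sl_2706 : allRange 48708 18 (fun u => chkSlp tab slp u) = true := by decide +kernel

theorem sl_2707 : allRange 48726 18 (fun u => chkSlp tab slp u) = true := by decide +kernel

theorem sl_2708 : allRange 48744 18 (fun u => chkSlp tab slp u) = true := by decide +kernel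

theorem sl_2709 : allRange 48762 18 (fun u => chkSlp tab slp u) = true := by decide +kernel

theorem sl_2710 : allRange 48780 18 (fun u => chkSlp tab slp u) = true := by decide +kernel

theorem sl_2711 : allRange 48798 18 (fun u => chkSlp tab slp u) = true := by decide +kernel


end Cfsg.Agent.Helper9.TCData.ONC0
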