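import Cfsg.Agent.Lib.Helper9.TCData.ONC0.Main

set_option autoImplicit false
set_option maxRecDepth 1000000

namespace Cfsg.Agent.Helper9.TCData.ONC0
open Cfsg.Agent.Helper9.TC2

theorem sl_2712 : allRange 48816 18 (fun u => chkSlp tab slp u) = true := by decide +kernel

theorem sl_2713 : allRange 48834 18 (fun u => chkSlp tab slp u) = true := by decide +kernel

theorem sl_2714 : allRange 48852 18 (fun u => chkSlp tab slp u) = true := by decide +kernel

theorem sl_2715 : allRange 48870 18 (fun u => chkSlp tab slp u) = true := by decide +kernel

theorem sl_2716 : allRange 48888 18 (fun u => chkSlp tab slp u) = true := by decide +kernel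

theorem sl_2717 : allRange 48906 18 (fun u => chkSlp tab slp u) = true := by decide +kernel

theorem sl_2718 : allRange 48924 18 (fun u => chkSlp tab slp u) = true := by decide +kernel

theorem sl_2719 : allRange 48942 18 (fun u => chkSlp tab slp u) = true := by decide +kernel


end Cfsg.Agent.Helper9.TCData.ONC0
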