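import Cfsg.Agent.Lib.Helper9.TCData.ONC0.Main

set_option autoImplicit false
set_option maxRecDepth 1000000

namespace Cfsg.Agent.Helper9.TCData.ONC0
open Cfsg.Agent.Helper9.TC2

theorem sl_2728 : allRange 49104 18 (fun u => chkSlp tab slp u) = true := by decide +kernel

theorem sl_2729 : allRange 49122 18 (fun u => chkSlp tab slp u) = true := by decide +kernel

theorem sl_2730 : allRange 49140 18 (fun u => chkSlp tab slp u) = true := by decide +kernel

theorem sl_2731 : allRange 49158 18 (fun u => chkSlp tab slp u) = true := by decide +kernel

theorem sl_2732 : allRange 49176 18 (fun u => chkSlp tab slp u) = true := by decide +kernel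

theorem sl_2733 : allRange 49194 18 (fun u => chkSlp tab slp u) = true := by decide +kernel

theorem sl_2734 : allRange 49212 18 (fun u => chkSlp tab slp u) = true := by decide +kernel

theorem sl_2735 : allRange 49230 18 (fun u => chkSlp tab slp u) = true := by decide +kernel


end Cfsg.Agent.Helper9.TCData.ONC0
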