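import Cfsg.Agent.Lib.Helper9.TCData.ONC0.Main

set_option autoImplicit false
set_option maxRecDepth 1000000

namespace Cfsg.Agent.Helper9.TCData.ONC0
open Cfsg.Agent.Helper9.TC2

theorem sl_2744 : allRange 49392 18 (fun u => chkSlp tab slp u) = true := by decide +kernel

theorem sl_2745 : allRange 49410 18 (fun u => chkSlp tab slp u) = true := by decide +kernel

theorem sl_2746 : allRange 49428 18 (fun u => chkSlp tab slp u) = true := by decide +kernel

theorem sl_2747 : allRange 49446 18 (fun u => chkSlp tab slp u) = true := by decide +kernel

theorem sl_2748 : allRange 49464 18 (fun u => chkSlp tab slp u) = true := by decide +kernel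

theorem sl_2749 : allRange 49482 18 (fun u => chkSlp tab slp u) = true := by decide +kernel

theorem sl_2750 : allRange 49500 18 (fun u => chkSlp tab slp u) = true := by decide +kernel

theorem sl_2751 : allRange 49518 18 (fun u => chkSlp tab slp u) = true := by decide +kernel


end Cfsg.Agent.Helper9.TCData.ONC0
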