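import Cfsg.Agent.Lib.Helper9.TCData.ONC0.Main

set_option autoImplicit false
set_option maxRecDepth 1000000

namespace Cfsg.Agent.Helper9.TCData.ONC0
open Cfsg.Agent.Helper9.TC2

theorem l_16 : allRange 57265 2056 (fun u => chkL tab u) = true := by decide +kernel

theorem l_17 : allRange 59321 4041 (fun u => chkL tab u) = true := by decide +kernel

theorem l_18 : allRange 63362 3757 (fun u => chkL tab u) = true := by decide +kernel

theorem l_19 : allRange 67119 2893 (fun u => chkL tab u) = true := by decide +kernel

theorem l_20 : allRange 70012 2608 (fun u => chkL tab u) = true := by decide +kernel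

theorem l_21 : allRange 72620 2482 (fun u => chkL tab u) = true := by decide +kernel

theorem l_22 : allRange 75102 2343 (fun u => chkL tab u) = true := by decide +kernel

theorem l_23 : allRange 77445 2232 (fun u => chkL tab u) = true := by decide +kernel


end Cfsg.Agent.Helper9.TCData.ONC0
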