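import Cfsg.Agent.Lib.Helper9.TCData.ONC0.Main

set_option autoImplicit false
set_option maxRecDepth 1000000

namespace Cfsg.Agent.Helper9.TCData.ONC0
open Cfsg.Agent.Helper9.TC2

theorem sl_2760 : allRange 49680 18 (fun u => chkSlp tab slp u) = true := by decide +kernel

theorem sl_2761 : allRange 49698 18 (fun u => chkSlp tab slp u) = true := by decide +kernel

theorem sl_2762 : allRange 49716 18 (fun u => chkSlp tab slp u) = true := by decide +kernel

theorem sl_2763 : allRange 49734 18 (fun u => chkSlp tab slp u) = true := by decide +kernel

theorem sl_2764 : allRange 49752 18 (fun u => chkSlp tab slp u) = true := by decide +kernel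

theorem sl_2765 : allRange 49770 18 (fun u => chkSlp tab slp u) = true := by decide +kernel

theorem sl_2766 : allRange 49788 18 (fun u => chkSlp tab slp u) = true := by decide +kernel

theorem sl_2767 : allRange 49806 18 (fun u => chkSlp tab slp u) = true := by decide +kernel


end Cfsg.Agent.Helper9.TCData.ONC0
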