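import Cfsg.Agent.Lib.Helper9.TCData.ONC0.Main

set_option autoImplicit false
set_option maxRecDepth 1000000

namespace Cfsg.Agent.Helper9.TCData.ONC0
open Cfsg.Agent.Helper9.TC2

theorem sl_2776 : allRange 49968 18 (fun u => chkSlp tab slp u) = true := by decide +kernel

theorem sl_2777 : allRange 49986 18 (fun u => chkSlp tab slp u) = true := by decide +kernel

theorem sl_2778 : allRange 50004 18 (fun u => chkSlp tab slp u) = true := by decide +kernel

theorem sl_2779 : allRange 50022 18 (fun u => chkSlp tab slp u) = true := by decide +kernel

theorem sl_2780 : allRange 50040 18 (fun u => chkSlp tab slp u) = true := by decide +kernel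

theorem sl_2781 : allRange 50058 18 (fun u => chkSlp tab slp u) = true := by decide +kernel

theorem sl_2782 : allRange 50076 18 (fun u => chkSlp tab slp u) = true := by decide +kernel

theorem sl_2783 : allRange 50094 18 (fun u => chkSlp tab slp u) = true := by decide +kernel


end Cfsg.Agent.Helper9.TCData.ONC0
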