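import Cfsg.Agent.Lib.Helper9.TCData.ONC0.Main

set_option autoImplicit false
set_option maxRecDepth 1000000

namespace Cfsg.Agent.Helper9.TCData.ONC0
open Cfsg.Agent.Helper9.TC2

theorem sl_2784 : allRange 50112 18 (fun u => chkSlp tab slp u) = true := by decide +kernel

theorem sl_2785 : allRange 50130 18 (fun u => chkSlp tab slp u) = true := by decide +kernel

theorem sl_2786 : allRange 50148 18 (fun u => chkSlp tab slp u) = true := by decide +kernel

theorem sl_2787 : allRange 50166 18 (fun u => chkSlp tab slp u) = true := by decide +kernel

theorem sl_2788 : allRange 50184 18 (fun u => chkSlp tab slp u) = true := by decide +kernel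

theorem sl_2789 : allRange 50202 18 (fun u => chkSlp tab slp u) = true := by decide +kernel

theorem sl_2790 : allRange 50220 18 (fun u => chkSlp tab slp u) = true := by decide +kernel

theorem sl_2791 : allRange 50238 18 (fun u => chkSlp tab slp u) = true := by decide +kernel


end Cfsg.Agent.Helper9.TCData.ONC0
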