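import Cfsg.Agent.Lib.Helper9.TCData.ONC0.Main

set_option autoImplicit false
set_option maxRecDepth 1000000

namespace Cfsg.Agent.Helper9.TCData.ONC0
open Cfsg.Agent.Helper9.TC2

theorem sl_2792 : allRange 50256 18 (fun u => chkSlp tab slp u) = true := by decide +kernel

theorem sl_2793 : allRange 50274 18 (fun u => chkSlp tab slp u) = true := by decide +kernel

theorem sl_2794 : allRange 50292 18 (fun u => chkSlp tab slp u) = true := by decide +kernel

theorem sl_2795 : allRange 50310 18 (fun u => chkSlp tab slp u) = true := by decide +kernel

theorem sl_2796 : allRange 50328 18 (fun u => chkSlp tab slp u) = true := by decide +kernel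

theorem sl_2797 : allRange 50346 18 (fun u => chkSlp tab slp u) = true := by decide +kernel

theorem sl_2798 : allRange 50364 18 (fun u => chkSlp tab slp u) = true := by decide +kernel

theorem sl_2799 : allRange 50382 18 (fun u => chkSlp tab slp u) = true := by decide +kernel


end Cfsg.Agent.Helper9.TCData.ONC0
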