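import Cfsg.Agent.Lib.Helper9.TCData.ONC0.Main

set_option autoImplicit false
set_option maxRecDepth 1000000

namespace Cfsg.Agent.Helper9.TCData.ONC0
open Cfsg.Agent.Helper9.TC2

theorem sl_2808 : allRange 50544 18 (fun u => chkSlp tab slp u) = true := by decide +kernel

theorem sl_2809 : allRange 50562 18 (fun u => chkSlp tab slp u) = true := by decide +kernel

theorem sl_2810 : allRange 50580 18 (fun u => chkSlp tab slp u) = true := by decide +kernel

theorem sl_2811 : allRange 50598 18 (fun u => chkSlp tab slp u) = true := by decide +kernel

theorem sl_2812 : allRange 50616 18 (fun u => chkSlp tab slp u) = true := by decide +kernel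

theorem sl_2813 : allRange 50634 18 (fun u => chkSlp tab slp u) = true := by decide +kernel

theorem sl_2814 : allRange 50652 18 (fun u => chkSlp tab slp u) = true := by decide +kernel

theorem sl_2815 : allRange 50670 18 (fun u => chkSlp tab slp u) = true := by decide +kernel


end Cfsg.Agent.Helper9.TCData.ONC0
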