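import Cfsg.Agent.Lib.Helper9.TCData.ONC0.Main

set_option autoImplicit false
set_option maxRecDepth 1000000

namespace Cfsg.Agent.Helper9.TCData.ONC0
open Cfsg.Agent.Helper9.TC2

theorem sl_2816 : allRange 50688 18 (fun u => chkSlp tab slp u) = true := by decide +kernel

theorem sl_2817 : allRange 50706 18 (fun u => chkSlp tab slp u) = true := by decide +kernel

theorem sl_2818 : allRange 50724 18 (fun u => chkSlp tab slp u) = true := by decide +kernel

theorem sl_2819 : allRange 50742 18 (fun u => chkSlp tab slp u) = true := by decide +kernel

theorem sl_2820 : allRange 50760 18 (fun u => chkSlp tab slp u) = true := by decide +kernel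

theorem sl_2821 : allRange 50778 18 (fun u => chkSlp tab slp u) = true := by decide +kernel

theorem sl_2822 : allRange 50796 18 (fun u => chkSlp tab slp u) = true := by decide +kernel

theorem sl_2823 : allRange 50814 18 (fun u => chkSlp tab slp u) = true := by decide +kernel


end Cfsg.Agent.Helper9.TCData.ONC0
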