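import Cfsg.Agent.Lib.Helper9.TCData.ONC0.Main

set_option autoImplicit false
set_option maxRecDepth 1000000

namespace Cfsg.Agent.Helper9.TCData.ONC0
open Cfsg.Agent.Helper9.TC2

theorem sl_2824 : allRange 50832 18 (fun u => chkSlp tab slp u) = true := by decide +kernel

theorem sl_2825 : allRange 50850 18 (fun u => chkSlp tab slp u) = true := by decide +kernel

theorem sl_2826 : allRange 50868 18 (fun u => chkSlp tab slp u) = true := by decide +kernel

theorem sl_2827 : allRange 50886 18 (fun u => chkSlp tab slp u) = true := by decide +kernel

theorem sl_2828 : allRange 50904 18 (fun u => chkSlp tab slp u) = true := by decide +kernel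

theorem sl_2829 : allRange 50922 18 (fun u => chkSlp tab slp u) = true := by decide +kernel

theorem sl_2830 : allRange 50940 18 (fun u => chkSlp tab slp u) = true := by decide +kernel

theorem sl_2831 : allRange 50958 18 (fun u => chkSlp tab slp u) = true := by decide +kernel


end Cfsg.Agent.Helper9.TCData.ONC0
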