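import Cfsg.Agent.Lib.Helper9.TCData.ONC0.Main

set_option autoImplicit false
set_option maxRecDepth 1000000

namespace Cfsg.Agent.Helper9.TCData.ONC0
open Cfsg.Agent.Helper9.TC2

theorem sl_2832 : allRange 50976 18 (fun u => chkSlp tab slp u) = true := by decide +kernel

theorem sl_2833 : allRange 50994 18 (fun u => chkSlp tab slp u) = true := by decide +kernel

theorem sl_2834 : allRange 51012 18 (fun u => chkSlp tab slp u) = true := by decide +kernel

theorem sl_2835 : allRange 51030 18 (fun u => chkSlp tab slp u) = true := by decide +kernel

theorem sl_2836 : allRange 51048 18 (fun u => chkSlp tab slp u) = true := by decide +kernel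

theorem sl_2837 : allRange 51066 18 (fun u => chkSlp tab slp u) = true := by decide +kernel

theorem sl_2838 : allRange 51084 18 (fun u => chkSlp tab slp u) = true := by decide +kernel

theorem sl_2839 : allRange 51102 18 (fun u => chkSlp tab slp u) = true := by decide +kernel


end Cfsg.Agent.Helper9.TCData.ONC0
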