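import Cfsg.Agent.Lib.Helper9.TCData.ONC0.Main

set_option autoImplicit false
set_option maxRecDepth 1000000

namespace Cfsg.Agent.Helper9.TCData.ONC0
open Cfsg.Agent.Helper9.TC2

theorem sl_2840 : allRange 51120 18 (fun u => chkSlp tab slp u) = true := by decide +kernel

theorem sl_2841 : allRange 51138 18 (fun u => chkSlp tab slp u) = true := by decide +kernel

theorem sl_2842 : allRange 51156 18 (fun u => chkSlp tab slp u) = true := by decide +kernel

theorem sl_2843 : allRange 51174 18 (fun u => chkSlp tab slp u) = true := by decide +kernel

theorem sl_2844 : allRange 51192 18 (fun u => chkSlp tab slp u) = true := by decide +kernel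

theorem sl_2845 : allRange 51210 18 (fun u => chkSlp tab slp u) = true := by decide +kernel

theorem sl_2846 : allRange 51228 18 (fun u => chkSlp tab slp u) = true := by decide +kernel

theorem sl_2847 : allRange 51246 18 (fun u => chkSlp tab slp u) = true := by decide +kernel


end Cfsg.Agent.Helper9.TCData.ONC0
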