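import Cfsg.Agent.Lib.Helper9.TCData.ONC0.Main

set_option autoImplicit false
set_option maxRecDepth 1000000

namespace Cfsg.Agent.Helper9.TCData.ONC0
open Cfsg.Agent.Helper9.TC2

theorem sl_2872 : allRange 51696 18 (fun u => chkSlp tab slp u) = true := by decide +kernel

theorem sl_2873 : allRange 51714 18 (fun u => chkSlp tab slp u) = true := by decide +kernel

theorem sl_2874 : allRange 51732 18 (fun u => chkSlp tab slp u) = true := by decide +kernel

theorem sl_2875 : allRange 51750 18 (fun u => chkSlp tab slp u) = true := by decide +kernel

theorem sl_2876 : allRange 51768 18 (fun u => chkSlp tab slp u) = true := by decide +kernel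

theorem sl_2877 : allRange 51786 18 (fun u => chkSlp tab slp u) = true := by decide +kernel

theorem sl_2878 : allRange 51804 18 (fun u => chkSlp tab slp u) = true := by decide +kernel

theorem sl_2879 : allRange 51822 18 (fun u => chkSlp tab slp u) = true := by decide +kernel


end Cfsg.Agent.Helper9.TCData.ONC0
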