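import Cfsg.Agent.Lib.Helper9.TCData.ONC0.Main

set_option autoImplicit false
set_option maxRecDepth 1000000

namespace Cfsg.Agent.Helper9.TCData.ONC0
open Cfsg.Agent.Helper9.TC2

theorem sl_2880 : allRange 51840 18 (fun u => chkSlp tab slp u) = true := by decide +kernel

theorem sl_2881 : allRange 51858 18 (fun u => chkSlp tab slp u) = true := by decide +kernel

theorem sl_2882 : allRange 51876 18 (fun u => chkSlp tab slp u) = true := by decide +kernel

theorem sl_2883 : allRange 51894 18 (fun u => chkSlp tab slp u) = true := by decide +kernel

theorem sl_2884 : allRange 51912 18 (fun u => chkSlp tab slp u) = true := by decide +kernel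

theorem sl_2885 : allRange 51930 18 (fun u => chkSlp tab slp u) = true := by decide +kernel

theorem sl_2886 : allRange 51948 18 (fun u => chkSlp tab slp u) = true := by decide +kernel

theorem sl_2887 : allRange 51966 18 (fun u => chkSlp tab slp u) = true := by decide +kernel


end Cfsg.Agent.Helper9.TCData.ONC0
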