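import Cfsg.Agent.Lib.Helper9.TCData.ONC0.Main

set_option autoImplicit false
set_option maxRecDepth 1000000

namespace Cfsg.Agent.Helper9.TCData.ONC0
open Cfsg.Agent.Helper9.TC2

theorem sl_2888 : allRange 51984 18 (fun u => chkSlp tab slp u) = true := by decide +kernel

theorem sl_2889 : allRange 52002 18 (fun u => chkSlp tab slp u) = true := by decide +kernel

theorem sl_2890 : allRange 52020 18 (fun u => chkSlp tab slp u) = true := by decide +kernel

theorem sl_2891 : allRange 52038 18 (fun u => chkSlp tab slp u) = true := by decide +kernel

theorem sl_2892 : allRange 52056 18 (fun u => chkSlp tab slp u) = true := by decide +kernel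

theorem sl_2893 : allRange 52074 18 (fun u => chkSlp tab slp u) = true := by decide +kernel

theorem sl_2894 : allRange 52092 18 (fun u => chkSlp tab slp u) = true := by decide +kernel

theorem sl_2895 : allRange 52110 18 (fun u => chkSlp tab slp u) = true := by decide +kernel


end Cfsg.Agent.Helper9.TCData.ONC0
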