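import Cfsg.Agent.Lib.Helper9.TCData.ONC0.Main

set_option autoImplicit false
set_option maxRecDepth 1000000

namespace Cfsg.Agent.Helper9.TCData.ONC0
open Cfsg.Agent.Helper9.TC2

theorem sl_2904 : allRange 52272 18 (fun u => chkSlp tab slp u) = true := by decide +kernel

theorem sl_2905 : allRange 52290 18 (fun u => chkSlp tab slp u) = true := by decide +kernel

theorem sl_2906 : allRange 52308 18 (fun u => chkSlp tab slp u) = true := by decide +kernel

theorem sl_2907 : allRange 52326 18 (fun u => chkSlp tab slp u) = true := by decide +kernel

theorem sl_2908 : allRange 52344 18 (fun u => chkSlp tab slp u) = true := by decide +kernel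

theorem sl_2909 : allRange 52362 18 (fun u => chkSlp tab slp u) = true := by decide +kernel

theorem sl_2910 : allRange 52380 18 (fun u => chkSlp tab slp u) = true := by decide +kernel

theorem sl_2911 : allRange 52398 18 (fun u => chkSlp tab slp u) = true := by decide +kernel


end Cfsg.Agent.Helper9.TCData.ONC0
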