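import Cfsg.Agent.Lib.Helper9.TCData.ONC0.Main

set_option autoImplicit false
set_option maxRecDepth 1000000

namespace Cfsg.Agent.Helper9.TCData.ONC0
open Cfsg.Agent.Helper9.TC2

theorem sl_2928 : allRange 52704 18 (fun u => chkSlp tab slp u) = true := by decide +kernel

theorem sl_2929 : allRange 52722 18 (fun u => chkSlp tab slp u) = true := by decide +kernel

theorem sl_2930 : allRange 52740 18 (fun u => chkSlp tab slp u) = true := by decide +kernel

theorem sl_2931 : allRange 52758 18 (fun u => chkSlp tab slp u) = true := by decide +kernel

theorem sl_2932 : allRange 52776 18 (fun u => chkSlp tab slp u) = true := by decide +kernel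

theorem sl_2933 : allRange 52794 18 (fun u => chkSlp tab slp u) = true := by decide +kernel

theorem sl_2934 : allRange 52812 18 (fun u => chkSlp tab slp u) = true := by decide +kernel

theorem sl_2935 : allRange 52830 18 (fun u => chkSlp tab slp u) = true := by decide +kernel


end Cfsg.Agent.Helper9.TCData.ONC0
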