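import Cfsg.Agent.Lib.Helper9.TCData.ONC0.Main

set_option autoImplicit false
set_option maxRecDepth 1000000

namespace Cfsg.Agent.Helper9.TCData.ONC0
open Cfsg.Agent.Helper9.TC2

theorem sl_2960 : allRange 53280 18 (fun u => chkSlp tab slp u) = true := by decide +kernel

theorem sl_2961 : allRange 53298 18 (fun u => chkSlp tab slp u) = true := by decide +kernel

theorem sl_2962 : allRange 53316 18 (fun u => chkSlp tab slp u) = true := by decide +kernel

theorem sl_2963 : allRange 53334 18 (fun u => chkSlp tab slp u) = true := by decide +kernel

theorem sl_2964 : allRange 53352 18 (fun u => chkSlp tab slp u) = true := by decide +kernel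

theorem sl_2965 : allRange 53370 18 (fun u => chkSlp tab slp u) = true := by decide +kernel

theorem sl_2966 : allRange 53388 18 (fun u => chkSlp tab slp u) = true := by decide +kernel

theorem sl_2967 : allRange 53406 18 (fun u => chkSlp tab slp u) = true := by decide +kernel


end Cfsg.Agent.Helper9.TCData.ONC0
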