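import Cfsg.Agent.Lib.Helper9.TCData.ONC0.Main

set_option autoImplicit false
set_option maxRecDepth 1000000

namespace Cfsg.Agent.Helper9.TCData.ONC0
open Cfsg.Agent.Helper9.TC2

theorem sl_2968 : allRange 53424 18 (fun u => chkSlp tab slp u) = true := by decide +kernel

theorem sl_2969 : allRange 53442 18 (fun u => chkSlp tab slp u) = true := by decide +kernel

theorem sl_2970 : allRange 53460 18 (fun u => chkSlp tab slp u) = true := by decide +kernel

theorem sl_2971 : allRange 53478 18 (fun u => chkSlp tab slp u) = true := by decide +kernel

theorem sl_2972 : allRange 53496 18 (fun u => chkSlp tab slp u) = true := by decide +kernel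

theorem sl_2973 : allRange 53514 18 (fun u => chkSlp tab slp u) = true := by decide +kernel

theorem sl_2974 : allRange 53532 18 (fun u => chkSlp tab slp u) = true := by decide +kernel

theorem sl_2975 : allRange 53550 18 (fun u => chkSlp tab slp u) = true := by decide +kernel


end Cfsg.Agent.Helper9.TCData.ONC0
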