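import Cfsg.Agent.Lib.Helper9.TCData.ONC0.Main

set_option autoImplicit false
set_option maxRecDepth 1000000

namespace Cfsg.Agent.Helper9.TCData.ONC0
open Cfsg.Agent.Helper9.TC2

theorem sl_2976 : allRange 53568 18 (fun u => chkSlp tab slp u) = true := by decide +kernel

theorem sl_2977 : allRange 53586 18 (fun u => chkSlp tab slp u) = true := by decide +kernel

theorem sl_2978 : allRange 53604 18 (fun u => chkSlp tab slp u) = true := by decide +kernel

theorem sl_2979 : allRange 53622 18 (fun u => chkSlp tab slp u) = true := by decide +kernel

theorem sl_2980 : allRange 53640 18 (fun u => chkSlp tab slp u) = true := by decide +kernel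

theorem sl_2981 : allRange 53658 18 (fun u => chkSlp tab slp u) = true := by decide +kernel

theorem sl_2982 : allRange 53676 18 (fun u => chkSlp tab slp u) = true := by decide +kernel

theorem sl_2983 : allRange 53694 18 (fun u => chkSlp tab slp u) = true := by decide +kernel


end Cfsg.Agent.Helper9.TCData.ONC0
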