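import Cfsg.Agent.Lib.Helper9.TCData.ONC0.Main

set_option autoImplicit false
set_option maxRecDepth 1000000

namespace Cfsg.Agent.Helper9.TCData.ONC0
open Cfsg.Agent.Helper9.TC2

theorem sl_2984 : allRange 53712 18 (fun u => chkSlp tab slp u) = true := by decide +kernel

theorem sl_2985 : allRange 53730 18 (fun u => chkSlp tab slp u) = true := by decide +kernel

theorem sl_2986 : allRange 53748 18 (fun u => chkSlp tab slp u) = true := by decide +kernel

theorem sl_2987 : allRange 53766 18 (fun u => chkSlp tab slp u) = true := by decide +kernel

theorem sl_2988 : allRange 53784 18 (fun u => chkSlp tab slp u) = true := by decide +kernel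

theorem sl_2989 : allRange 53802 18 (fun u => chkSlp tab slp u) = true := by decide +kernel

theorem sl_2990 : allRange 53820 18 (fun u => chkSlp tab slp u) = true := by decide +kernel

theorem sl_2991 : allRange 53838 18 (fun u => chkSlp tab slp u) = true := by decide +kernel


end Cfsg.Agent.Helper9.TCData.ONC0
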