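import Cfsg.Agent.Lib.Helper9.TCData.ONC0.Main

set_option autoImplicit false
set_option maxRecDepth 1000000

namespace Cfsg.Agent.Helper9.TCData.ONC0
open Cfsg.Agent.Helper9.TC2

theorem sl_2992 : allRange 53856 18 (fun u => chkSlp tab slp u) = true := by decide +kernel

theorem sl_2993 : allRange 53874 18 (fun u => chkSlp tab slp u) = true := by decide +kernel

theorem sl_2994 : allRange 53892 18 (fun u => chkSlp tab slp u) = true := by decide +kernel

theorem sl_2995 : allRange 53910 18 (fun u => chkSlp tab slp u) = true := by decide +kernel

theorem sl_2996 : allRange 53928 18 (fun u => chkSlp tab slp u) = true := by decide +kernel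

theorem sl_2997 : allRange 53946 18 (fun u => chkSlp tab slp u) = true := by decide +kernel

theorem sl_2998 : allRange 53964 18 (fun u => chkSlp tab slp u) = true := by decide +kernel

theorem sl_2999 : allRange 53982 18 (fun u => chkSlp tab slp u) = true := by decide +kernel


end Cfsg.Agent.Helper9.TCData.ONC0
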