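import Cfsg.Agent.Lib.Helper9.TCData.ONC0.Main

set_option autoImplicit false
set_option maxRecDepth 1000000

namespace Cfsg.Agent.Helper9.TCData.ONC0
open Cfsg.Agent.Helper9.TC2

theorem l_40 : allRange 120383 2091 (fun u => chkL tab u) = true := by decide +kernel

theorem l_41 : allRange 122474 1961 (fun u => chkL tab u) = true := by decide +kernel

theorem l_42 : allRange 124435 2062 (fun u => chkL tab u) = true := by decide +kernel

theorem l_43 : allRange 126497 2638 (fun u => chkL tab u) = true := by decide +kernel

theorem l_44 : allRange 129135 2862 (fun u => chkL tab u) = true := by decide +kernel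

theorem l_45 : allRange 131997 2332 (fun u => chkL tab u) = true := by decide +kernel

theorem l_46 : allRange 134329 2532 (fun u => chkL tab u) = true := by decide +kernel

theorem l_47 : allRange 136861 3087 (fun u => chkL tab u) = true := by decide +kernel


end Cfsg.Agent.Helper9.TCData.ONC0
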