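import Cfsg.Agent.Lib.Helper9.TCData.ONC0.Main

set_option autoImplicit false
set_option maxRecDepth 1000000

namespace Cfsg.Agent.Helper9.TCData.ONC0
open Cfsg.Agent.Helper9.TC2

theorem sl_3000 : allRange 54000 18 (fun u => chkSlp tab slp u) = true := by decide +kernel

theorem sl_3001 : allRange 54018 18 (fun u => chkSlp tab slp u) = true := by decide +kernel

theorem sl_3002 : allRange 54036 18 (fun u => chkSlp tab slp u) = true := by decide +kernel

theorem sl_3003 : allRange 54054 18 (fun u => chkSlp tab slp u) = true := by decide +kernel

theorem sl_3004 : allRange 54072 18 (fun u => chkSlp tab slp u) = true := by decide +kernel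

theorem sl_3005 : allRange 54090 18 (fun u => chkSlp tab slp u) = true := by decide +kernel

theorem sl_3006 : allRange 54108 18 (fun u => chkSlp tab slp u) = true := by decide +kernel

theorem sl_3007 : allRange 54126 18 (fun u => chkSlp tab slp u) = true := by decide +kernel


end Cfsg.Agent.Helper9.TCData.ONC0
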