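import Cfsg.Agent.Lib.Helper9.TCData.ONC0.Main

set_option autoImplicit false
set_option maxRecDepth 1000000

namespace Cfsg.Agent.Helper9.TCData.ONC0
open Cfsg.Agent.Helper9.TC2

theorem sl_3032 : allRange 54576 18 (fun u => chkSlp tab slp u) = true := by decide +kernel

theorem sl_3033 : allRange 54594 18 (fun u => chkSlp tab slp u) = true := by decide +kernel

theorem sl_3034 : allRange 54612 18 (fun u => chkSlp tab slp u) = true := by decide +kernel

theorem sl_3035 : allRange 54630 18 (fun u => chkSlp tab slp u) = true := by decide +kernel

theorem sl_3036 : allRange 54648 18 (fun u => chkSlp tab slp u) = true := by decide +kernel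

theorem sl_3037 : allRange 54666 18 (fun u => chkSlp tab slp u) = true := by decide +kernel

theorem sl_3038 : allRange 54684 18 (fun u => chkSlp tab slp u) = true := by decide +kernel

theorem sl_3039 : allRange 54702 18 (fun u => chkSlp tab slp u) = true := by decide +kernel


end Cfsg.Agent.Helper9.TCData.ONC0
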