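import Cfsg.Agent.Lib.Helper9.TCData.ONC0.Main

set_option autoImplicit false
set_option maxRecDepth 1000000

namespace Cfsg.Agent.Helper9.TCData.ONC0
open Cfsg.Agent.Helper9.TC2

theorem sl_3048 : allRange 54864 18 (fun u => chkSlp tab slp u) = true := by decide +kernel

theorem sl_3049 : allRange 54882 18 (fun u => chkSlp tab slp u) = true := by decide +kernel

theorem sl_3050 : allRange 54900 18 (fun u => chkSlp tab slp u) = true := by decide +kernel

theorem sl_3051 : allRange 54918 18 (fun u => chkSlp tab slp u) = true := by decide +kernel

theorem sl_3052 : allRange 54936 18 (fun u => chkSlp tab slp u) = true := by decide +kernel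

theorem sl_3053 : allRange 54954 18 (fun u => chkSlp tab slp u) = true := by decide +kernel

theorem sl_3054 : allRange 54972 18 (fun u => chkSlp tab slp u) = true := by decide +kernel

theorem sl_3055 : allRange 54990 18 (fun u => chkSlp tab slp u) = true := by decide +kernel


end Cfsg.Agent.Helper9.TCData.ONC0
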