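import Cfsg.Agent.Lib.Helper9.TCData.ONC0.Main

set_option autoImplicit false
set_option maxRecDepth 1000000

namespace Cfsg.Agent.Helper9.TCData.ONC0
open Cfsg.Agent.Helper9.TC2

theorem sl_3056 : allRange 55008 18 (fun u => chkSlp tab slp u) = true := by decide +kernel

theorem sl_3057 : allRange 55026 18 (fun u => chkSlp tab slp u) = true := by decide +kernel

theorem sl_3058 : allRange 55044 18 (fun u => chkSlp tab slp u) = true := by decide +kernel

theorem sl_3059 : allRange 55062 18 (fun u => chkSlp tab slp u) = true := by decide +kernel

theorem sl_3060 : allRange 55080 18 (fun u => chkSlp tab slp u) = true := by decide +kernel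

theorem sl_3061 : allRange 55098 18 (fun u => chkSlp tab slp u) = true := by decide +kernel

theorem sl_3062 : allRange 55116 18 (fun u => chkSlp tab slp u) = true := by decide +kernel

theorem sl_3063 : allRange 55134 18 (fun u => chkSlp tab slp u) = true := by decide +kernel


end Cfsg.Agent.Helper9.TCData.ONC0
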