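import Cfsg.Agent.Lib.Helper9.TCData.ONC0.Main

set_option autoImplicit false
set_option maxRecDepth 1000000

namespace Cfsg.Agent.Helper9.TCData.ONC0
open Cfsg.Agent.Helper9.TC2

theorem sl_3064 : allRange 55152 18 (fun u => chkSlp tab slp u) = true := by decide +kernel

theorem sl_3065 : allRange 55170 18 (fun u => chkSlp tab slp u) = true := by decide +kernel

theorem sl_3066 : allRange 55188 18 (fun u => chkSlp tab slp u) = true := by decide +kernel

theorem sl_3067 : allRange 55206 18 (fun u => chkSlp tab slp u) = true := by decide +kernel

theorem sl_3068 : allRange 55224 18 (fun u => chkSlp tab slp u) = true := by decide +kernel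

theorem sl_3069 : allRange 55242 18 (fun u => chkSlp tab slp u) = true := by decide +kernel

theorem sl_3070 : allRange 55260 18 (fun u => chkSlp tab slp u) = true := by decide +kernel

theorem sl_3071 : allRange 55278 18 (fun u => chkSlp tab slp u) = true := by decide +kernel


end Cfsg.Agent.Helper9.TCData.ONC0
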