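import Cfsg.Agent.Lib.Helper9.TCData.ONC0.Main

set_option autoImplicit false
set_option maxRecDepth 1000000

namespace Cfsg.Agent.Helper9.TCData.ONC0
open Cfsg.Agent.Helper9.TC2

theorem sl_3072 : allRange 55296 18 (fun u => chkSlp tab slp u) = true := by decide +kernel

theorem sl_3073 : allRange 55314 18 (fun u => chkSlp tab slp u) = true := by decide +kernel

theorem sl_3074 : allRange 55332 18 (fun u => chkSlp tab slp u) = true := by decide +kernel

theorem sl_3075 : allRange 55350 18 (fun u => chkSlp tab slp u) = true := by decide +kernel

theorem sl_3076 : allRange 55368 18 (fun u => chkSlp tab slp u) = true := by decide +kernel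

theorem sl_3077 : allRange 55386 18 (fun u => chkSlp tab slp u) = true := by decide +kernel

theorem sl_3078 : allRange 55404 18 (fun u => chkSlp tab slp u) = true := by decide +kernel

theorem sl_3079 : allRange 55422 18 (fun u => chkSlp tab slp u) = true := by decide +kernel


end Cfsg.Agent.Helper9.TCData.ONC0
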