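import Cfsg.Agent.Lib.Helper9.TCData.ONC0.Main

set_option autoImplicit false
set_option maxRecDepth 1000000

namespace Cfsg.Agent.Helper9.TCData.ONC0
open Cfsg.Agent.Helper9.TC2

theorem sl_3080 : allRange 55440 18 (fun u => chkSlp tab slp u) = true := by decide +kernel

theorem sl_3081 : allRange 55458 18 (fun u => chkSlp tab slp u) = true := by decide +kernel

theorem sl_3082 : allRange 55476 18 (fun u => chkSlp tab slp u) = true := by decide +kernel

theorem sl_3083 : allRange 55494 18 (fun u => chkSlp tab slp u) = true := by decide +kernel

theorem sl_3084 : allRange 55512 18 (fun u => chkSlp tab slp u) = true := by decide +kernel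

theorem sl_3085 : allRange 55530 18 (fun u => chkSlp tab slp u) = true := by decide +kernel

theorem sl_3086 : allRange 55548 18 (fun u => chkSlp tab slp u) = true := by decide +kernel

theorem sl_3087 : allRange 55566 18 (fun u => chkSlp tab slp u) = true := by decide +kernel


end Cfsg.Agent.Helper9.TCData.ONC0
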