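import Cfsg.Agent.Lib.Helper9.TCData.ONC0.Main

set_option autoImplicit false
set_option maxRecDepth 1000000

namespace Cfsg.Agent.Helper9.TCData.ONC0
open Cfsg.Agent.Helper9.TC2

theorem sl_3128 : allRange 56304 18 (fun u => chkSlp tab slp u) = true := by decide +kernel

theorem sl_3129 : allRange 56322 18 (fun u => chkSlp tab slp u) = true := by decide +kernel

theorem sl_3130 : allRange 56340 18 (fun u => chkSlp tab slp u) = true := by decide +kernel

theorem sl_3131 : allRange 56358 18 (fun u => chkSlp tab slp u) = true := by decide +kernel

theorem sl_3132 : allRange 56376 18 (fun u => chkSlp tab slp u) = true := by decide +kernel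

theorem sl_3133 : allRange 56394 18 (fun u => chkSlp tab slp u) = true := by decide +kernel

theorem sl_3134 : allRange 56412 18 (fun u => chkSlp tab slp u) = true := by decide +kernel

theorem sl_3135 : allRange 56430 18 (fun u => chkSlp tab slp u) = true := by decide +kernel


end Cfsg.Agent.Helper9.TCData.ONC0
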