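import Cfsg.Agent.Lib.Helper9.TCData.ONC0.Main

set_option autoImplicit false
set_option maxRecDepth 1000000

namespace Cfsg.Agent.Helper9.TCData.ONC0
open Cfsg.Agent.Helper9.TC2

theorem sl_3152 : allRange 56736 18 (fun u => chkSlp tab slp u) = true := by decide +kernel

theorem sl_3153 : allRange 56754 18 (fun u => chkSlp tab slp u) = true := by decide +kernel

theorem sl_3154 : allRange 56772 18 (fun u => chkSlp tab slp u) = true := by decide +kernel

theorem sl_3155 : allRange 56790 18 (fun u => chkSlp tab slp u) = true := by decide +kernel

theorem sl_3156 : allRange 56808 18 (fun u => chkSlp tab slp u) = true := by decide +kernel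

theorem sl_3157 : allRange 56826 18 (fun u => chkSlp tab slp u) = true := by decide +kernel

theorem sl_3158 : allRange 56844 18 (fun u => chkSlp tab slp u) = true := by decide +kernel

theorem sl_3159 : allRange 56862 18 (fun u => chkSlp tab slp u) = true := by decide +kernel


end Cfsg.Agent.Helper9.TCData.ONC0
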