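import Cfsg.Agent.Lib.Helper9.TCData.ONC0.Main

set_option autoImplicit false
set_option maxRecDepth 1000000

namespace Cfsg.Agent.Helper9.TCData.ONC0
open Cfsg.Agent.Helper9.TC2

theorem sl_3160 : allRange 56880 18 (fun u => chkSlp tab slp u) = true := by decide +kernel

theorem sl_3161 : allRange 56898 18 (fun u => chkSlp tab slp u) = true := by decide +kernel

theorem sl_3162 : allRange 56916 18 (fun u => chkSlp tab slp u) = true := by decide +kernel

theorem sl_3163 : allRange 56934 18 (fun u => chkSlp tab slp u) = true := by decide +kernel

theorem sl_3164 : allRange 56952 18 (fun u => chkSlp tab slp u) = true := by decide +kernel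

theorem sl_3165 : allRange 56970 18 (fun u => chkSlp tab slp u) = true := by decide +kernel

theorem sl_3166 : allRange 56988 18 (fun u => chkSlp tab slp u) = true := by decide +kernel

theorem sl_3167 : allRange 57006 18 (fun u => chkSlp tab slp u) = true := by decide +kernel


end Cfsg.Agent.Helper9.TCData.ONC0
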