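import Cfsg.Agent.Lib.Helper9.TCData.ONC0.Main

set_option autoImplicit false
set_option maxRecDepth 1000000

namespace Cfsg.Agent.Helper9.TCData.ONC0
open Cfsg.Agent.Helper9.TC2

theorem sl_3184 : allRange 57312 18 (fun u => chkSlp tab slp u) = true := by decide +kernel

theorem sl_3185 : allRange 57330 18 (fun u => chkSlp tab slp u) = true := by decide +kernel

theorem sl_3186 : allRange 57348 18 (fun u => chkSlp tab slp u) = true := by decide +kernel

theorem sl_3187 : allRange 57366 18 (fun u => chkSlp tab slp u) = true := by decide +kernel

theorem sl_3188 : allRange 57384 18 (fun u => chkSlp tab slp u) = true := by decide +kernel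

theorem sl_3189 : allRange 57402 18 (fun u => chkSlp tab slp u) = true := by decide +kernel

theorem sl_3190 : allRange 57420 18 (fun u => chkSlp tab slp u) = true := by decide +kernel

theorem sl_3191 : allRange 57438 18 (fun u => chkSlp tab slp u) = true := by decide +kernel


end Cfsg.Agent.Helper9.TCData.ONC0
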