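import Cfsg.Agent.Lib.Helper9.TCData.ONC0.Main

set_option autoImplicit false
set_option maxRecDepth 1000000

namespace Cfsg.Agent.Helper9.TCData.ONC0
open Cfsg.Agent.Helper9.TC2

theorem sl_3192 : allRange 57456 18 (fun u => chkSlp tab slp u) = true := by decide +kernel

theorem sl_3193 : allRange 57474 18 (fun u => chkSlp tab slp u) = true := by decide +kernel

theorem sl_3194 : allRange 57492 18 (fun u => chkSlp tab slp u) = true := by decide +kernel

theorem sl_3195 : allRange 57510 18 (fun u => chkSlp tab slp u) = true := by decide +kernel

theorem sl_3196 : allRange 57528 18 (fun u => chkSlp tab slp u) = true := by decide +kernel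

theorem sl_3197 : allRange 57546 18 (fun u => chkSlp tab slp u) = true := by decide +kernel

theorem sl_3198 : allRange 57564 18 (fun u => chkSlp tab slp u) = true := by decide +kernel

theorem sl_3199 : allRange 57582 18 (fun u => chkSlp tab slp u) = true := by decide +kernel


end Cfsg.Agent.Helper9.TCData.ONC0
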