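import Cfsg.Agent.Lib.Helper9.TCData.ONC0.Main

set_option autoImplicit false
set_option maxRecDepth 1000000

namespace Cfsg.Agent.Helper9.TCData.ONC0
open Cfsg.Agent.Helper9.TC2

theorem sl_3200 : allRange 57600 18 (fun u => chkSlp tab slp u) = true := by decide +kernel

theorem sl_3201 : allRange 57618 18 (fun u => chkSlp tab slp u) = true := by decide +kernel

theorem sl_3202 : allRange 57636 18 (fun u => chkSlp tab slp u) = true := by decide +kernel

theorem sl_3203 : allRange 57654 18 (fun u => chkSlp tab slp u) = true := by decide +kernel

theorem sl_3204 : allRange 57672 18 (fun u => chkSlp tab slp u) = true := by decide +kernel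

theorem sl_3205 : allRange 57690 18 (fun u => chkSlp tab slp u) = true := by decide +kernel

theorem sl_3206 : allRange 57708 18 (fun u => chkSlp tab slp u) = true := by decide +kernel

theorem sl_3207 : allRange 57726 18 (fun u => chkSlp tab slp u) = true := by decide +kernel


end Cfsg.Agent.Helper9.TCData.ONC0
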