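import Cfsg.Agent.Lib.Helper9.TCData.ONC0.Main

set_option autoImplicit false
set_option maxRecDepth 1000000

namespace Cfsg.Agent.Helper9.TCData.ONC0
open Cfsg.Agent.Helper9.TC2

theorem sl_3208 : allRange 57744 18 (fun u => chkSlp tab slp u) = true := by decide +kernel

theorem sl_3209 : allRange 57762 18 (fun u => chkSlp tab slp u) = true := by decide +kernel

theorem sl_3210 : allRange 57780 18 (fun u => chkSlp tab slp u) = true := by decide +kernel

theorem sl_3211 : allRange 57798 18 (fun u => chkSlp tab slp u) = true := by decide +kernel

theorem sl_3212 : allRange 57816 18 (fun u => chkSlp tab slp u) = true := by decide +kernel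

theorem sl_3213 : allRange 57834 18 (fun u => chkSlp tab slp u) = true := by decide +kernel

theorem sl_3214 : allRange 57852 18 (fun u => chkSlp tab slp u) = true := by decide +kernel

theorem sl_3215 : allRange 57870 18 (fun u => chkSlp tab slp u) = true := by decide +kernel


end Cfsg.Agent.Helper9.TCData.ONC0
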