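import Cfsg.Agent.Lib.Helper9.TCData.ONC0.Main

set_option autoImplicit false
set_option maxRecDepth 1000000

namespace Cfsg.Agent.Helper9.TCData.ONC0
open Cfsg.Agent.Helper9.TC2

theorem sl_3216 : allRange 57888 18 (fun u => chkSlp tab slp u) = true := by decide +kernel

theorem sl_3217 : allRange 57906 18 (fun u => chkSlp tab slp u) = true := by decide +kernel

theorem sl_3218 : allRange 57924 18 (fun u => chkSlp tab slp u) = true := by decide +kernel

theorem sl_3219 : allRange 57942 18 (fun u => chkSlp tab slp u) = true := by decide +kernel

theorem sl_3220 : allRange 57960 18 (fun u => chkSlp tab slp u) = true := by decide +kernel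

theorem sl_3221 : allRange 57978 18 (fun u => chkSlp tab slp u) = true := by decide +kernel

theorem sl_3222 : allRange 57996 18 (fun u => chkSlp tab slp u) = true := by decide +kernel

theorem sl_3223 : allRange 58014 18 (fun u => chkSlp tab slp u) = true := by decide +kernel


end Cfsg.Agent.Helper9.TCData.ONC0
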