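import Cfsg.Agent.Lib.Helper9.TCData.ONC0.Main

set_option autoImplicit false
set_option maxRecDepth 1000000

namespace Cfsg.Agent.Helper9.TCData.ONC0
open Cfsg.Agent.Helper9.TC2

theorem sl_3224 : allRange 58032 18 (fun u => chkSlp tab slp u) = true := by decide +kernel

theorem sl_3225 : allRange 58050 18 (fun u => chkSlp tab slp u) = true := by decide +kernel

theorem sl_3226 : allRange 58068 18 (fun u => chkSlp tab slp u) = true := by decide +kernel

theorem sl_3227 : allRange 58086 18 (fun u => chkSlp tab slp u) = true := by decide +kernel

theorem sl_3228 : allRange 58104 18 (fun u => chkSlp tab slp u) = true := by decide +kernel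

theorem sl_3229 : allRange 58122 18 (fun u => chkSlp tab slp u) = true := by decide +kernel

theorem sl_3230 : allRange 58140 18 (fun u => chkSlp tab slp u) = true := by decide +kernel

theorem sl_3231 : allRange 58158 18 (fun u => chkSlp tab slp u) = true := by decide +kernel


end Cfsg.Agent.Helper9.TCData.ONC0
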