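import Cfsg.Agent.Lib.Helper9.TCData.ONC0.Main

set_option autoImplicit false
set_option maxRecDepth 1000000

namespace Cfsg.Agent.Helper9.TCData.ONC0
open Cfsg.Agent.Helper9.TC2

theorem l_64 : allRange 171420 1589 (fun u => chkL tab u) = true := by decide +kernel

theorem l_65 : allRange 173009 1690 (fun u => chkL tab u) = true := by decide +kernel

theorem l_66 : allRange 174699 1635 (fun u => chkL tab u) = true := by decide +kernel

theorem l_67 : allRange 176334 1850 (fun u => chkL tab u) = true := by decide +kernel

theorem l_68 : allRange 178184 1679 (fun u => chkL tab u) = true := by decide +kernel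

theorem l_69 : allRange 179863 1859 (fun u => chkL tab u) = true := by decide +kernel

theorem l_70 : allRange 181722 1685 (fun u => chkL tab u) = true := by decide +kernel

theorem l_71 : allRange 183407 1713 (fun u => chkL tab u) = true := by decide +kernel


end Cfsg.Agent.Helper9.TCData.ONC0
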