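import Cfsg.Agent.Lib.Helper9.TCData.ONC0.Main

set_option autoImplicit false
set_option maxRecDepth 1000000

namespace Cfsg.Agent.Helper9.TCData.ONC0
open Cfsg.Agent.Helper9.TC2

theorem sl_3248 : allRange 58464 18 (fun u => chkSlp tab slp u) = true := by decide +kernel

theorem sl_3249 : allRange 58482 18 (fun u => chkSlp tab slp u) = true := by decide +kernel

theorem sl_3250 : allRange 58500 18 (fun u => chkSlp tab slp u) = true := by decide +kernel

theorem sl_3251 : allRange 58518 18 (fun u => chkSlp tab slp u) = true := by decide +kernel

theorem sl_3252 : allRange 58536 18 (fun u => chkSlp tab slp u) = true := by decide +kernel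

theorem sl_3253 : allRange 58554 18 (fun u => chkSlp tab slp u) = true := by decide +kernel

theorem sl_3254 : allRange 58572 18 (fun u => chkSlp tab slp u) = true := by decide +kernel

theorem sl_3255 : allRange 58590 18 (fun u => chkSlp tab slp u) = true := by decide +kernel


end Cfsg.Agent.Helper9.TCData.ONC0
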