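import Cfsg.Agent.Lib.Helper9.TCData.ONC0.Main

set_option autoImplicit false
set_option maxRecDepth 1000000

namespace Cfsg.Agent.Helper9.TCData.ONC0
open Cfsg.Agent.Helper9.TC2

theorem sl_3256 : allRange 58608 18 (fun u => chkSlp tab slp u) = true := by decide +kernel

theorem sl_3257 : allRange 58626 18 (fun u => chkSlp tab slp u) = true := by decide +kernel

theorem sl_3258 : allRange 58644 18 (fun u => chkSlp tab slp u) = true := by decide +kernel

theorem sl_3259 : allRange 58662 18 (fun u => chkSlp tab slp u) = true := by decide +kernel

theorem sl_3260 : allRange 58680 18 (fun u => chkSlp tab slp u) = true := by decide +kernel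

theorem sl_3261 : allRange 58698 18 (fun u => chkSlp tab slp u) = true := by decide +kernel

theorem sl_3262 : allRange 58716 18 (fun u => chkSlp tab slp u) = true := by decide +kernel

theorem sl_3263 : allRange 58734 18 (fun u => chkSlp tab slp u) = true := by decide +kernel


end Cfsg.Agent.Helper9.TCData.ONC0
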