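import Cfsg.Agent.Lib.Helper9.TCData.ONC0.Main

set_option autoImplicit false
set_option maxRecDepth 1000000

namespace Cfsg.Agent.Helper9.TCData.ONC0
open Cfsg.Agent.Helper9.TC2

theorem sl_3264 : allRange 58752 18 (fun u => chkSlp tab slp u) = true := by decide +kernel

theorem sl_3265 : allRange 58770 18 (fun u => chkSlp tab slp u) = true := by decide +kernel

theorem sl_3266 : allRange 58788 18 (fun u => chkSlp tab slp u) = true := by decide +kernel

theorem sl_3267 : allRange 58806 18 (fun u => chkSlp tab slp u) = true := by decide +kernel

theorem sl_3268 : allRange 58824 18 (fun u => chkSlp tab slp u) = true := by decide +kernel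

theorem sl_3269 : allRange 58842 18 (fun u => chkSlp tab slp u) = true := by decide +kernel

theorem sl_3270 : allRange 58860 18 (fun u => chkSlp tab slp u) = true := by decide +kernel

theorem sl_3271 : allRange 58878 18 (fun u => chkSlp tab slp u) = true := by decide +kernel


end Cfsg.Agent.Helper9.TCData.ONC0
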