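import Cfsg.Agent.Lib.Helper9.TCData.ONC0.Main

set_option autoImplicit false
set_option maxRecDepth 1000000

namespace Cfsg.Agent.Helper9.TCData.ONC0
open Cfsg.Agent.Helper9.TC2

theorem sl_3280 : allRange 59040 18 (fun u => chkSlp tab slp u) = true := by decide +kernel

theorem sl_3281 : allRange 59058 18 (fun u => chkSlp tab slp u) = true := by decide +kernel

theorem sl_3282 : allRange 59076 18 (fun u => chkSlp tab slp u) = true := by decide +kernel

theorem sl_3283 : allRange 59094 18 (fun u => chkSlp tab slp u) = true := by decide +kernel

theorem sl_3284 : allRange 59112 18 (fun u => chkSlp tab slp u) = true := by decide +kernel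

theorem sl_3285 : allRange 59130 18 (fun u => chkSlp tab slp u) = true := by decide +kernel

theorem sl_3286 : allRange 59148 18 (fun u => chkSlp tab slp u) = true := by decide +kernel

theorem sl_3287 : allRange 59166 18 (fun u => chkSlp tab slp u) = true := by decide +kernel


end Cfsg.Agent.Helper9.TCData.ONC0
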