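import Cfsg.Agent.Lib.Helper9.TCData.ONC0.Main

set_option autoImplicit false
set_option maxRecDepth 1000000

namespace Cfsg.Agent.Helper9.TCData.ONC0
open Cfsg.Agent.Helper9.TC2

theorem sl_3288 : allRange 59184 18 (fun u => chkSlp tab slp u) = true := by decide +kernel

theorem sl_3289 : allRange 59202 18 (fun u => chkSlp tab slp u) = true := by decide +kernel

theorem sl_3290 : allRange 59220 18 (fun u => chkSlp tab slp u) = true := by decide +kernel

theorem sl_3291 : allRange 59238 18 (fun u => chkSlp tab slp u) = true := by decide +kernel

theorem sl_3292 : allRange 59256 18 (fun u => chkSlp tab slp u) = true := by decide +kernel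

theorem sl_3293 : allRange 59274 18 (fun u => chkSlp tab slp u) = true := by decide +kernel

theorem sl_3294 : allRange 59292 18 (fun u => chkSlp tab slp u) = true := by decide +kernel

theorem sl_3295 : allRange 59310 18 (fun u => chkSlp tab slp u) = true := by decide +kernel


end Cfsg.Agent.Helper9.TCData.ONC0
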