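import Cfsg.Agent.Lib.Helper9.TCData.ONC0.Main

set_option autoImplicit false
set_option maxRecDepth 1000000

namespace Cfsg.Agent.Helper9.TCData.ONC0
open Cfsg.Agent.Helper9.TC2

theorem sl_3296 : allRange 59328 18 (fun u => chkSlp tab slp u) = true := by decide +kernel

theorem sl_3297 : allRange 59346 18 (fun u => chkSlp tab slp u) = true := by decide +kernel

theorem sl_3298 : allRange 59364 18 (fun u => chkSlp tab slp u) = true := by decide +kernel

theorem sl_3299 : allRange 59382 18 (fun u => chkSlp tab slp u) = true := by decide +kernel

theorem sl_3300 : allRange 59400 18 (fun u => chkSlp tab slp u) = true := by decide +kernel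

theorem sl_3301 : allRange 59418 18 (fun u => chkSlp tab slp u) = true := by decide +kernel

theorem sl_3302 : allRange 59436 18 (fun u => chkSlp tab slp u) = true := by decide +kernel

theorem sl_3303 : allRange 59454 18 (fun u => chkSlp tab slp u) = true := by decide +kernel


end Cfsg.Agent.Helper9.TCData.ONC0
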