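import Cfsg.Agent.Lib.Helper9.TCData.ONC0.Main

set_option autoImplicit false
set_option maxRecDepth 1000000

namespace Cfsg.Agent.Helper9.TCData.ONC0
open Cfsg.Agent.Helper9.TC2

theorem sl_3304 : allRange 59472 18 (fun u => chkSlp tab slp u) = true := by decide +kernel

theorem sl_3305 : allRange 59490 18 (fun u => chkSlp tab slp u) = true := by decide +kernel

theorem sl_3306 : allRange 59508 18 (fun u => chkSlp tab slp u) = true := by decide +kernel

theorem sl_3307 : allRange 59526 18 (fun u => chkSlp tab slp u) = true := by decide +kernel

theorem sl_3308 : allRange 59544 18 (fun u => chkSlp tab slp u) = true := by decide +kernel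

theorem sl_3309 : allRange 59562 18 (fun u => chkSlp tab slp u) = true := by decide +kernel

theorem sl_3310 : allRange 59580 18 (fun u => chkSlp tab slp u) = true := by decide +kernel

theorem sl_3311 : allRange 59598 18 (fun u => chkSlp tab slp u) = true := by decide +kernel


end Cfsg.Agent.Helper9.TCData.ONC0
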