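import Cfsg.Agent.Lib.Helper9.TCData.ONC0.Main

set_option autoImplicit false
set_option maxRecDepth 1000000

namespace Cfsg.Agent.Helper9.TCData.ONC0
open Cfsg.Agent.Helper9.TC2

theorem sl_3320 : allRange 59760 18 (fun u => chkSlp tab slp u) = true := by decide +kernel

theorem sl_3321 : allRange 59778 18 (fun u => chkSlp tab slp u) = true := by decide +kernel

theorem sl_3322 : allRange 59796 18 (fun u => chkSlp tab slp u) = true := by decide +kernel

theorem sl_3323 : allRange 59814 18 (fun u => chkSlp tab slp u) = true := by decide +kernel

theorem sl_3324 : allRange 59832 18 (fun u => chkSlp tab slp u) = true := by decide +kernel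

theorem sl_3325 : allRange 59850 18 (fun u => chkSlp tab slp u) = true := by decide +kernel

theorem sl_3326 : allRange 59868 18 (fun u => chkSlp tab slp u) = true := by decide +kernel

theorem sl_3327 : allRange 59886 18 (fun u => chkSlp tab slp u) = true := by decide +kernel


end Cfsg.Agent.Helper9.TCData.ONC0
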