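import Cfsg.Agent.Lib.Helper9.TCData.ONC0.Main

set_option autoImplicit false
set_option maxRecDepth 1000000

namespace Cfsg.Agent.Helper9.TCData.ONC0
open Cfsg.Agent.Helper9.TC2

theorem sl_3336 : allRange 60048 18 (fun u => chkSlp tab slp u) = true := by decide +kernel

theorem sl_3337 : allRange 60066 18 (fun u => chkSlp tab slp u) = true := by decide +kernel

theorem sl_3338 : allRange 60084 18 (fun u => chkSlp tab slp u) = true := by decide +kernel

theorem sl_3339 : allRange 60102 18 (fun u => chkSlp tab slp u) = true := by decide +kernel

theorem sl_3340 : allRange 60120 18 (fun u => chkSlp tab slp u) = true := by decide +kernel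

theorem sl_3341 : allRange 60138 18 (fun u => chkSlp tab slp u) = true := by decide +kernel

theorem sl_3342 : allRange 60156 18 (fun u => chkSlp tab slp u) = true := by decide +kernel

theorem sl_3343 : allRange 60174 18 (fun u => chkSlp tab slp u) = true := by decide +kernel


end Cfsg.Agent.Helper9.TCData.ONC0
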