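import Cfsg.Agent.Lib.Helper9.TCData.ONC0.Main

set_option autoImplicit false
set_option maxRecDepth 1000000

namespace Cfsg.Agent.Helper9.TCData.ONC0
open Cfsg.Agent.Helper9.TC2

theorem sl_3344 : allRange 60192 18 (fun u => chkSlp tab slp u) = true := by decide +kernel

theorem sl_3345 : allRange 60210 18 (fun u => chkSlp tab slp u) = true := by decide +kernel

theorem sl_3346 : allRange 60228 18 (fun u => chkSlp tab slp u) = true := by decide +kernel

theorem sl_3347 : allRange 60246 18 (fun u => chkSlp tab slp u) = true := by decide +kernel

theorem sl_3348 : allRange 60264 18 (fun u => chkSlp tab slp u) = true := by decide +kernel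

theorem sl_3349 : allRange 60282 18 (fun u => chkSlp tab slp u) = true := by decide +kernel

theorem sl_3350 : allRange 60300 18 (fun u => chkSlp tab slp u) = true := by decide +kernel

theorem sl_3351 : allRange 60318 18 (fun u => chkSlp tab slp u) = true := by decide +kernel


end Cfsg.Agent.Helper9.TCData.ONC0
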