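import Cfsg.Agent.Lib.Helper9.TCData.ONC0.Main

set_option autoImplicit false
set_option maxRecDepth 1000000

namespace Cfsg.Agent.Helper9.TCData.ONC0
open Cfsg.Agent.Helper9.TC2

theorem sl_3352 : allRange 60336 18 (fun u => chkSlp tab slp u) = true := by decide +kernel

theorem sl_3353 : allRange 60354 18 (fun u => chkSlp tab slp u) = true := by decide +kernel

theorem sl_3354 : allRange 60372 18 (fun u => chkSlp tab slp u) = true := by decide +kernel

theorem sl_3355 : allRange 60390 18 (fun u => chkSlp tab slp u) = true := by decide +kernel

theorem sl_3356 : allRange 60408 18 (fun u => chkSlp tab slp u) = true := by decide +kernel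

theorem sl_3357 : allRange 60426 18 (fun u => chkSlp tab slp u) = true := by decide +kernel

theorem sl_3358 : allRange 60444 18 (fun u => chkSlp tab slp u) = true := by decide +kernel

theorem sl_3359 : allRange 60462 18 (fun u => chkSlp tab slp u) = true := by decide +kernel


end Cfsg.Agent.Helper9.TCData.ONC0
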