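import Cfsg.Agent.Lib.Helper9.TCData.ONC0.Main

set_option autoImplicit false
set_option maxRecDepth 1000000

namespace Cfsg.Agent.Helper9.TCData.ONC0
open Cfsg.Agent.Helper9.TC2

theorem sl_3368 : allRange 60624 18 (fun u => chkSlp tab slp u) = true := by decide +kernel

theorem sl_3369 : allRange 60642 18 (fun u => chkSlp tab slp u) = true := by decide +kernel

theorem sl_3370 : allRange 60660 18 (fun u => chkSlp tab slp u) = true := by decide +kernel

theorem sl_3371 : allRange 60678 18 (fun u => chkSlp tab slp u) = true := by decide +kernel

theorem sl_3372 : allRange 60696 18 (fun u => chkSlp tab slp u) = true := by decide +kernel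

theorem sl_3373 : allRange 60714 18 (fun u => chkSlp tab slp u) = true := by decide +kernel

theorem sl_3374 : allRange 60732 18 (fun u => chkSlp tab slp u) = true := by decide +kernel

theorem sl_3375 : allRange 60750 18 (fun u => chkSlp tab slp u) = true := by decide +kernel


end Cfsg.Agent.Helper9.TCData.ONC0
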