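import Cfsg.Agent.Lib.Helper9.TCData.ONC0.Main

set_option autoImplicit false
set_option maxRecDepth 1000000

namespace Cfsg.Agent.Helper9.TCData.ONC0
open Cfsg.Agent.Helper9.TC2

theorem sl_3376 : allRange 60768 18 (fun u => chkSlp tab slp u) = true := by decide +kernel

theorem sl_3377 : allRange 60786 18 (fun u => chkSlp tab slp u) = true := by decide +kernel

theorem sl_3378 : allRange 60804 18 (fun u => chkSlp tab slp u) = true := by decide +kernel

theorem sl_3379 : allRange 60822 18 (fun u => chkSlp tab slp u) = true := by decide +kernel

theorem sl_3380 : allRange 60840 18 (fun u => chkSlp tab slp u) = true := by decide +kernel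

theorem sl_3381 : allRange 60858 18 (fun u => chkSlp tab slp u) = true := by decide +kernel

theorem sl_3382 : allRange 60876 18 (fun u => chkSlp tab slp u) = true := by decide +kernel

theorem sl_3383 : allRange 60894 18 (fun u => chkSlp tab slp u) = true := by decide +kernel


end Cfsg.Agent.Helper9.TCData.ONC0
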