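import Cfsg.Agent.Lib.Helper9.TCData.ONC0.Main

set_option autoImplicit false
set_option maxRecDepth 1000000

namespace Cfsg.Agent.Helper9.TCData.ONC0
open Cfsg.Agent.Helper9.TC2

theorem sl_3384 : allRange 60912 18 (fun u => chkSlp tab slp u) = true := by decide +kernel

theorem sl_3385 : allRange 60930 18 (fun u => chkSlp tab slp u) = true := by decide +kernel

theorem sl_3386 : allRange 60948 18 (fun u => chkSlp tab slp u) = true := by decide +kernel

theorem sl_3387 : allRange 60966 18 (fun u => chkSlp tab slp u) = true := by decide +kernel

theorem sl_3388 : allRange 60984 18 (fun u => chkSlp tab slp u) = true := by decide +kernel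

theorem sl_3389 : allRange 61002 18 (fun u => chkSlp tab slp u) = true := by decide +kernel

theorem sl_3390 : allRange 61020 18 (fun u => chkSlp tab slp u) = true := by decide +kernel

theorem sl_3391 : allRange 61038 18 (fun u => chkSlp tab slp u) = true := by decide +kernel


end Cfsg.Agent.Helper9.TCData.ONC0
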