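import Cfsg.Agent.Lib.Helper9.TCData.ONC0.Main

set_option autoImplicit false
set_option maxRecDepth 1000000

namespace Cfsg.Agent.Helper9.TCData.ONC0
open Cfsg.Agent.Helper9.TC2

theorem e0_64 : allRange 202667 1542 (fun u => chkE tab 0 u) = true := by decide +kernel

theorem e0_65 : allRange 204209 1655 (fun u => chkE tab 0 u) = true := by decide +kernel

theorem e0_66 : allRange 205864 1612 (fun u => chkE tab 0 u) = true := by decide +kernel

theorem e0_67 : allRange 207476 1602 (fun u => chkE tab 0 u) = true := by decide +kernel

theorem e0_68 : allRange 209078 1669 (fun u => chkE tab 0 u) = true := by decide +kernel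

theorem e0_69 : allRange 210747 1578 (fun u => chkE tab 0 u) = true := by decide +kernel

theorem e0_70 : allRange 212325 1742 (fun u => chkE tab 0 u) = true := by decide +kernel

theorem e0_71 : allRange 214067 1677 (fun u => chkE tab 0 u) = true := by decide +kernel


end Cfsg.Agent.Helper9.TCData.ONC0
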