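import Cfsg.Agent.Lib.Helper9.TCData.ONC0.Main

set_option autoImplicit false
set_option maxRecDepth 1000000

namespace Cfsg.Agent.Helper9.TCData.ONC0
open Cfsg.Agent.Helper9.TC2

theorem sl_3432 : allRange 61776 18 (fun u => chkSlp tab slp u) = true := by decide +kernel

theorem sl_3433 : allRange 61794 18 (fun u => chkSlp tab slp u) = true := by decide +kernel

theorem sl_3434 : allRange 61812 18 (fun u => chkSlp tab slp u) = true := by decide +kernel

theorem sl_3435 : allRange 61830 18 (fun u => chkSlp tab slp u) = true := by decide +kernel

theorem sl_3436 : allRange 61848 18 (fun u => chkSlp tab slp u) = true := by decide +kernel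

theorem sl_3437 : allRange 61866 18 (fun u => chkSlp tab slp u) = true := by decide +kernel

theorem sl_3438 : allRange 61884 18 (fun u => chkSlp tab slp u) = true := by decide +kernel

theorem sl_3439 : allRange 61902 18 (fun u => chkSlp tab slp u) = true := by decide +kernel


end Cfsg.Agent.Helper9.TCData.ONC0
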