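import Cfsg.Agent.Lib.Helper9.TCData.ONC0.Main

set_option autoImplicit false
set_option maxRecDepth 1000000

namespace Cfsg.Agent.Helper9.TCData.ONC0
open Cfsg.Agent.Helper9.TC2

theorem sl_3440 : allRange 61920 18 (fun u => chkSlp tab slp u) = true := by decide +kernel

theorem sl_3441 : allRange 61938 18 (fun u => chkSlp tab slp u) = true := by decide +kernel

theorem sl_3442 : allRange 61956 18 (fun u => chkSlp tab slp u) = true := by decide +kernel

theorem sl_3443 : allRange 61974 18 (fun u => chkSlp tab slp u) = true := by decide +kernel

theorem sl_3444 : allRange 61992 18 (fun u => chkSlp tab slp u) = true := by decide +kernel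

theorem sl_3445 : allRange 62010 18 (fun u => chkSlp tab slp u) = true := by decide +kernel

theorem sl_3446 : allRange 62028 18 (fun u => chkSlp tab slp u) = true := by decide +kernel

theorem sl_3447 : allRange 62046 18 (fun u => chkSlp tab slp u) = true := by decide +kernel


end Cfsg.Agent.Helper9.TCData.ONC0
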