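import Cfsg.Agent.Lib.Helper9.TCData.ONC0.Main

set_option autoImplicit false
set_option maxRecDepth 1000000

namespace Cfsg.Agent.Helper9.TCData.ONC0
open Cfsg.Agent.Helper9.TC2

theorem sl_3448 : allRange 62064 18 (fun u => chkSlp tab slp u) = true := by decide +kernel

theorem sl_3449 : allRange 62082 18 (fun u => chkSlp tab slp u) = true := by decide +kernel

theorem sl_3450 : allRange 62100 18 (fun u => chkSlp tab slp u) = true := by decide +kernel

theorem sl_3451 : allRange 62118 18 (fun u => chkSlp tab slp u) = true := by decide +kernel

theorem sl_3452 : allRange 62136 18 (fun u => chkSlp tab slp u) = true := by decide +kernel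

theorem sl_3453 : allRange 62154 18 (fun u => chkSlp tab slp u) = true := by decide +kernel

theorem sl_3454 : allRange 62172 18 (fun u => chkSlp tab slp u) = true := by decide +kernel

theorem sl_3455 : allRange 62190 18 (fun u => chkSlp tab slp u) = true := by decide +kernel


end Cfsg.Agent.Helper9.TCData.ONC0
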