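import Cfsg.Agent.Lib.Helper9.TCData.ONC0.Main

set_option autoImplicit false
set_option maxRecDepth 1000000

namespace Cfsg.Agent.Helper9.TCData.ONC0
open Cfsg.Agent.Helper9.TC2

theorem sl_3472 : allRange 62496 18 (fun u => chkSlp tab slp u) = true := by decide +kernel

theorem sl_3473 : allRange 62514 18 (fun u => chkSlp tab slp u) = true := by decide +kernel

theorem sl_3474 : allRange 62532 18 (fun u => chkSlp tab slp u) = true := by decide +kernel

theorem sl_3475 : allRange 62550 18 (fun u => chkSlp tab slp u) = true := by decide +kernel

theorem sl_3476 : allRange 62568 18 (fun u => chkSlp tab slp u) = true := by decide +kernel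

theorem sl_3477 : allRange 62586 18 (fun u => chkSlp tab slp u) = true := by decide +kernel

theorem sl_3478 : allRange 62604 18 (fun u => chkSlp tab slp u) = true := by decide +kernel

theorem sl_3479 : allRange 62622 18 (fun u => chkSlp tab slp u) = true := by decide +kernel


end Cfsg.Agent.Helper9.TCData.ONC0
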