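import Cfsg.Agent.Lib.Helper9.TCData.ONC0.Main

set_option autoImplicit false
set_option maxRecDepth 1000000

namespace Cfsg.Agent.Helper9.TCData.ONC0
open Cfsg.Agent.Helper9.TC2

theorem sl_3488 : allRange 62784 18 (fun u => chkSlp tab slp u) = true := by decide +kernel

theorem sl_3489 : allRange 62802 18 (fun u => chkSlp tab slp u) = true := by decide +kernel

theorem sl_3490 : allRange 62820 18 (fun u => chkSlp tab slp u) = true := by decide +kernel

theorem sl_3491 : allRange 62838 18 (fun u => chkSlp tab slp u) = true := by decide +kernel

theorem sl_3492 : allRange 62856 18 (fun u => chkSlp tab slp u) = true := by decide +kernel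

theorem sl_3493 : allRange 62874 18 (fun u => chkSlp tab slp u) = true := by decide +kernel

theorem sl_3494 : allRange 62892 18 (fun u => chkSlp tab slp u) = true := by decide +kernel

theorem sl_3495 : allRange 62910 18 (fun u => chkSlp tab slp u) = true := by decide +kernel


end Cfsg.Agent.Helper9.TCData.ONC0
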