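import Cfsg.Agent.Lib.Helper9.TCData.ONC0.Main

set_option autoImplicit false
set_option maxRecDepth 1000000

namespace Cfsg.Agent.Helper9.TCData.ONC0
open Cfsg.Agent.Helper9.TC2

theorem sl_3504 : allRange 63072 18 (fun u => chkSlp tab slp u) = true := by decide +kernel

theorem sl_3505 : allRange 63090 18 (fun u => chkSlp tab slp u) = true := by decide +kernel

theorem sl_3506 : allRange 63108 18 (fun u => chkSlp tab slp u) = true := by decide +kernel

theorem sl_3507 : allRange 63126 18 (fun u => chkSlp tab slp u) = true := by decide +kernel

theorem sl_3508 : allRange 63144 18 (fun u => chkSlp tab slp u) = true := by decide +kernel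

theorem sl_3509 : allRange 63162 18 (fun u => chkSlp tab slp u) = true := by decide +kernel

theorem sl_3510 : allRange 63180 18 (fun u => chkSlp tab slp u) = true := by decide +kernel

theorem sl_3511 : allRange 63198 18 (fun u => chkSlp tab slp u) = true := by decide +kernel


end Cfsg.Agent.Helper9.TCData.ONC0
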