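import Cfsg.Agent.Lib.Helper9.TCData.ONC0.Main

set_option autoImplicit false
set_option maxRecDepth 1000000

namespace Cfsg.Agent.Helper9.TCData.ONC0
open Cfsg.Agent.Helper9.TC2

theorem sl_3528 : allRange 63504 18 (fun u => chkSlp tab slp u) = true := by decide +kernel

theorem sl_3529 : allRange 63522 18 (fun u => chkSlp tab slp u) = true := by decide +kernel

theorem sl_3530 : allRange 63540 18 (fun u => chkSlp tab slp u) = true := by decide +kernel

theorem sl_3531 : allRange 63558 18 (fun u => chkSlp tab slp u) = true := by decide +kernel

theorem sl_3532 : allRange 63576 18 (fun u => chkSlp tab slp u) = true := by decide +kernel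

theorem sl_3533 : allRange 63594 18 (fun u => chkSlp tab slp u) = true := by decide +kernel

theorem sl_3534 : allRange 63612 18 (fun u => chkSlp tab slp u) = true := by decide +kernel

theorem sl_3535 : allRange 63630 18 (fun u => chkSlp tab slp u) = true := by decide +kernel


end Cfsg.Agent.Helper9.TCData.ONC0
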