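import Cfsg.Agent.Lib.Helper9.TCData.ONC0.Main

set_option autoImplicit false
set_option maxRecDepth 1000000

namespace Cfsg.Agent.Helper9.TCData.ONC0
open Cfsg.Agent.Helper9.TC2

theorem sl_3536 : allRange 63648 18 (fun u => chkSlp tab slp u) = true := by decide +kernel

theorem sl_3537 : allRange 63666 18 (fun u => chkSlp tab slp u) = true := by decide +kernel

theorem sl_3538 : allRange 63684 18 (fun u => chkSlp tab slp u) = true := by decide +kernel

theorem sl_3539 : allRange 63702 18 (fun u => chkSlp tab slp u) = true := by decide +kernel

theorem sl_3540 : allRange 63720 18 (fun u => chkSlp tab slp u) = true := by decide +kernel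

theorem sl_3541 : allRange 63738 18 (fun u => chkSlp tab slp u) = true := by decide +kernel

theorem sl_3542 : allRange 63756 18 (fun u => chkSlp tab slp u) = true := by decide +kernel

theorem sl_3543 : allRange 63774 18 (fun u => chkSlp tab slp u) = true := by decide +kernel


end Cfsg.Agent.Helper9.TCData.ONC0
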