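import Cfsg.Agent.Lib.Helper9.TCData.ONC0.Main

set_option autoImplicit false
set_option maxRecDepth 1000000

namespace Cfsg.Agent.Helper9.TCData.ONC0
open Cfsg.Agent.Helper9.TC2

theorem sl_3560 : allRange 64080 18 (fun u => chkSlp tab slp u) = true := by decide +kernel

theorem sl_3561 : allRange 64098 18 (fun u => chkSlp tab slp u) = true := by decide +kernel

theorem sl_3562 : allRange 64116 18 (fun u => chkSlp tab slp u) = true := by decide +kernel

theorem sl_3563 : allRange 64134 18 (fun u => chkSlp tab slp u) = true := by decide +kernel

theorem sl_3564 : allRange 64152 18 (fun u => chkSlp tab slp u) = true := by decide +kernel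

theorem sl_3565 : allRange 64170 18 (fun u => chkSlp tab slp u) = true := by decide +kernel

theorem sl_3566 : allRange 64188 18 (fun u => chkSlp tab slp u) = true := by decide +kernel

theorem sl_3567 : allRange 64206 18 (fun u => chkSlp tab slp u) = true := by decide +kernel


end Cfsg.Agent.Helper9.TCData.ONC0
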