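import Cfsg.Agent.Lib.Helper9.TCData.ONC0.Main

set_option autoImplicit false
set_option maxRecDepth 1000000

namespace Cfsg.Agent.Helper9.TCData.ONC0
open Cfsg.Agent.Helper9.TC2

theorem sl_3584 : allRange 64512 18 (fun u => chkSlp tab slp u) = true := by decide +kernel

theorem sl_3585 : allRange 64530 18 (fun u => chkSlp tab slp u) = true := by decide +kernel

theorem sl_3586 : allRange 64548 18 (fun u => chkSlp tab slp u) = true := by decide +kernel

theorem sl_3587 : allRange 64566 18 (fun u => chkSlp tab slp u) = true := by decide +kernel

theorem sl_3588 : allRange 64584 18 (fun u => chkSlp tab slp u) = true := by decide +kernel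

theorem sl_3589 : allRange 64602 18 (fun u => chkSlp tab slp u) = true := by decide +kernel

theorem sl_3590 : allRange 64620 18 (fun u => chkSlp tab slp u) = true := by decide +kernel

theorem sl_3591 : allRange 64638 18 (fun u => chkSlp tab slp u) = true := by decide +kernel


end Cfsg.Agent.Helper9.TCData.ONC0
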