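import Cfsg.Agent.Lib.Helper9.TCData.ONC0.Main

set_option autoImplicit false
set_option maxRecDepth 1000000

namespace Cfsg.Agent.Helper9.TCData.ONC0
open Cfsg.Agent.Helper9.TC2

theorem sl_3592 : allRange 64656 18 (fun u => chkSlp tab slp u) = true := by decide +kernel

theorem sl_3593 : allRange 64674 18 (fun u => chkSlp tab slp u) = true := by decide +kernel

theorem sl_3594 : allRange 64692 18 (fun u => chkSlp tab slp u) = true := by decide +kernel

theorem sl_3595 : allRange 64710 18 (fun u => chkSlp tab slp u) = true := by decide +kernel

theorem sl_3596 : allRange 64728 18 (fun u => chkSlp tab slp u) = true := by decide +kernel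

theorem sl_3597 : allRange 64746 18 (fun u => chkSlp tab slp u) = true := by decide +kernel

theorem sl_3598 : allRange 64764 18 (fun u => chkSlp tab slp u) = true := by decide +kernel

theorem sl_3599 : allRange 64782 18 (fun u => chkSlp tab slp u) = true := by decide +kernel


end Cfsg.Agent.Helper9.TCData.ONC0
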