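import Cfsg.Agent.Lib.Helper9.TCData.ONC0.Main

set_option autoImplicit false
set_option maxRecDepth 1000000

namespace Cfsg.Agent.Helper9.TCData.ONC0
open Cfsg.Agent.Helper9.TC2

theorem sl_3600 : allRange 64800 18 (fun u => chkSlp tab slp u) = true := by decide +kernel

theorem sl_3601 : allRange 64818 18 (fun u => chkSlp tab slp u) = true := by decide +kernel

theorem sl_3602 : allRange 64836 18 (fun u => chkSlp tab slp u) = true := by decide +kernel

theorem sl_3603 : allRange 64854 18 (fun u => chkSlp tab slp u) = true := by decide +kernel

theorem sl_3604 : allRange 64872 18 (fun u => chkSlp tab slp u) = true := by decide +kernel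

theorem sl_3605 : allRange 64890 18 (fun u => chkSlp tab slp u) = true := by decide +kernel

theorem sl_3606 : allRange 64908 18 (fun u => chkSlp tab slp u) = true := by decide +kernel

theorem sl_3607 : allRange 64926 18 (fun u => chkSlp tab slp u) = true := by decide +kernel


end Cfsg.Agent.Helper9.TCData.ONC0
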