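import Cfsg.Agent.Lib.Helper9.TCData.ONC0.Main

set_option autoImplicit false
set_option maxRecDepth 1000000

namespace Cfsg.Agent.Helper9.TCData.ONC0
open Cfsg.Agent.Helper9.TC2

theorem sl_3608 : allRange 64944 18 (fun u => chkSlp tab slp u) = true := by decide +kernel

theorem sl_3609 : allRange 64962 18 (fun u => chkSlp tab slp u) = true := by decide +kernel

theorem sl_3610 : allRange 64980 18 (fun u => chkSlp tab slp u) = true := by decide +kernel

theorem sl_3611 : allRange 64998 18 (fun u => chkSlp tab slp u) = true := by decide +kernel

theorem sl_3612 : allRange 65016 18 (fun u => chkSlp tab slp u) = true := by decide +kernel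

theorem sl_3613 : allRange 65034 18 (fun u => chkSlp tab slp u) = true := by decide +kernel

theorem sl_3614 : allRange 65052 18 (fun u => chkSlp tab slp u) = true := by decide +kernel

theorem sl_3615 : allRange 65070 18 (fun u => chkSlp tab slp u) = true := by decide +kernel


end Cfsg.Agent.Helper9.TCData.ONC0
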