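import Cfsg.Agent.Lib.Helper9.TCData.ONC0.Main

set_option autoImplicit false
set_option maxRecDepth 1000000

namespace Cfsg.Agent.Helper9.TCData.ONC0
open Cfsg.Agent.Helper9.TC2

theorem sl_3624 : allRange 65232 18 (fun u => chkSlp tab slp u) = true := by decide +kernel

theorem sl_3625 : allRange 65250 18 (fun u => chkSlp tab slp u) = true := by decide +kernel

theorem sl_3626 : allRange 65268 18 (fun u => chkSlp tab slp u) = true := by decide +kernel

theorem sl_3627 : allRange 65286 18 (fun u => chkSlp tab slp u) = true := by decide +kernel

theorem sl_3628 : allRange 65304 18 (fun u => chkSlp tab slp u) = true := by decide +kernel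

theorem sl_3629 : allRange 65322 18 (fun u => chkSlp tab slp u) = true := by decide +kernel

theorem sl_3630 : allRange 65340 18 (fun u => chkSlp tab slp u) = true := by decide +kernel

theorem sl_3631 : allRange 65358 18 (fun u => chkSlp tab slp u) = true := by decide +kernel


end Cfsg.Agent.Helper9.TCData.ONC0
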