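import Cfsg.Agent.Lib.Helper9.TCData.ONC0.Main

set_option autoImplicit false
set_option maxRecDepth 1000000

namespace Cfsg.Agent.Helper9.TCData.ONC0
open Cfsg.Agent.Helper9.TC2

theorem sl_3632 : allRange 65376 18 (fun u => chkSlp tab slp u) = true := by decide +kernel

theorem sl_3633 : allRange 65394 18 (fun u => chkSlp tab slp u) = true := by decide +kernel

theorem sl_3634 : allRange 65412 18 (fun u => chkSlp tab slp u) = true := by decide +kernel

theorem sl_3635 : allRange 65430 18 (fun u => chkSlp tab slp u) = true := by decide +kernel

theorem sl_3636 : allRange 65448 18 (fun u => chkSlp tab slp u) = true := by decide +kernel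

theorem sl_3637 : allRange 65466 18 (fun u => chkSlp tab slp u) = true := by decide +kernel

theorem sl_3638 : allRange 65484 18 (fun u => chkSlp tab slp u) = true := by decide +kernel

theorem sl_3639 : allRange 65502 18 (fun u => chkSlp tab slp u) = true := by decide +kernel


end Cfsg.Agent.Helper9.TCData.ONC0
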