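import Cfsg.Agent.Lib.Helper9.TCData.ONC0.Main

set_option autoImplicit false
set_option maxRecDepth 1000000

namespace Cfsg.Agent.Helper9.TCData.ONC0
open Cfsg.Agent.Helper9.TC2

theorem sl_3648 : allRange 65664 18 (fun u => chkSlp tab slp u) = true := by decide +kernel

theorem sl_3649 : allRange 65682 18 (fun u => chkSlp tab slp u) = true := by decide +kernel

theorem sl_3650 : allRange 65700 18 (fun u => chkSlp tab slp u) = true := by decide +kernel

theorem sl_3651 : allRange 65718 18 (fun u => chkSlp tab slp u) = true := by decide +kernel

theorem sl_3652 : allRange 65736 18 (fun u => chkSlp tab slp u) = true := by decide +kernel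

theorem sl_3653 : allRange 65754 18 (fun u => chkSlp tab slp u) = true := by decide +kernel

theorem sl_3654 : allRange 65772 18 (fun u => chkSlp tab slp u) = true := by decide +kernel

theorem sl_3655 : allRange 65790 18 (fun u => chkSlp tab slp u) = true := by decide +kernel


end Cfsg.Agent.Helper9.TCData.ONC0
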