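import Cfsg.Agent.Lib.Helper9.TCData.ONC0.Main

set_option autoImplicit false
set_option maxRecDepth 1000000

namespace Cfsg.Agent.Helper9.TCData.ONC0
open Cfsg.Agent.Helper9.TC2

theorem sl_3664 : allRange 65952 18 (fun u => chkSlp tab slp u) = true := by decide +kernel

theorem sl_3665 : allRange 65970 18 (fun u => chkSlp tab slp u) = true := by decide +kernel

theorem sl_3666 : allRange 65988 18 (fun u => chkSlp tab slp u) = true := by decide +kernel

theorem sl_3667 : allRange 66006 18 (fun u => chkSlp tab slp u) = true := by decide +kernel

theorem sl_3668 : allRange 66024 18 (fun u => chkSlp tab slp u) = true := by decide +kernel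

theorem sl_3669 : allRange 66042 18 (fun u => chkSlp tab slp u) = true := by decide +kernel

theorem sl_3670 : allRange 66060 18 (fun u => chkSlp tab slp u) = true := by decide +kernel

theorem sl_3671 : allRange 66078 18 (fun u => chkSlp tab slp u) = true := by decide +kernel


end Cfsg.Agent.Helper9.TCData.ONC0
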