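import Cfsg.Agent.Lib.Helper9.TCData.ONC0.Main

set_option autoImplicit false
set_option maxRecDepth 1000000

namespace Cfsg.Agent.Helper9.TCData.ONC0
open Cfsg.Agent.Helper9.TC2

theorem sl_3672 : allRange 66096 18 (fun u => chkSlp tab slp u) = true := by decide +kernel

theorem sl_3673 : allRange 66114 18 (fun u => chkSlp tab slp u) = true := by decide +kernel

theorem sl_3674 : allRange 66132 18 (fun u => chkSlp tab slp u) = true := by decide +kernel

theorem sl_3675 : allRange 66150 18 (fun u => chkSlp tab slp u) = true := by decide +kernel

theorem sl_3676 : allRange 66168 18 (fun u => chkSlp tab slp u) = true := by decide +kernel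

theorem sl_3677 : allRange 66186 18 (fun u => chkSlp tab slp u) = true := by decide +kernel

theorem sl_3678 : allRange 66204 18 (fun u => chkSlp tab slp u) = true := by decide +kernel

theorem sl_3679 : allRange 66222 18 (fun u => chkSlp tab slp u) = true := by decide +kernel


end Cfsg.Agent.Helper9.TCData.ONC0
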