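import Cfsg.Agent.Lib.Helper9.TCData.ONC0.Main

set_option autoImplicit false
set_option maxRecDepth 1000000

namespace Cfsg.Agent.Helper9.TCData.ONC0
open Cfsg.Agent.Helper9.TC2

theorem sl_3680 : allRange 66240 18 (fun u => chkSlp tab slp u) = true := by decide +kernel

theorem sl_3681 : allRange 66258 18 (fun u => chkSlp tab slp u) = true := by decide +kernel

theorem sl_3682 : allRange 66276 18 (fun u => chkSlp tab slp u) = true := by decide +kernel

theorem sl_3683 : allRange 66294 18 (fun u => chkSlp tab slp u) = true := by decide +kernel

theorem sl_3684 : allRange 66312 18 (fun u => chkSlp tab slp u) = true := by decide +kernel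

theorem sl_3685 : allRange 66330 18 (fun u => chkSlp tab slp u) = true := by decide +kernel

theorem sl_3686 : allRange 66348 18 (fun u => chkSlp tab slp u) = true := by decide +kernel

theorem sl_3687 : allRange 66366 18 (fun u => chkSlp tab slp u) = true := by decide +kernel


end Cfsg.Agent.Helper9.TCData.ONC0
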