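import Cfsg.Agent.Lib.Helper9.TCData.ONC0.Main

set_option autoImplicit false
set_option maxRecDepth 1000000

namespace Cfsg.Agent.Helper9.TCData.ONC0
open Cfsg.Agent.Helper9.TC2

theorem sl_3688 : allRange 66384 18 (fun u => chkSlp tab slp u) = true := by decide +kernel

theorem sl_3689 : allRange 66402 18 (fun u => chkSlp tab slp u) = true := by decide +kernel

theorem sl_3690 : allRange 66420 18 (fun u => chkSlp tab slp u) = true := by decide +kernel

theorem sl_3691 : allRange 66438 18 (fun u => chkSlp tab slp u) = true := by decide +kernel

theorem sl_3692 : allRange 66456 18 (fun u => chkSlp tab slp u) = true := by decide +kernel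

theorem sl_3693 : allRange 66474 18 (fun u => chkSlp tab slp u) = true := by decide +kernel

theorem sl_3694 : allRange 66492 18 (fun u => chkSlp tab slp u) = true := by decide +kernel

theorem sl_3695 : allRange 66510 18 (fun u => chkSlp tab slp u) = true := by decide +kernel


end Cfsg.Agent.Helper9.TCData.ONC0
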