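import Cfsg.Agent.Lib.Helper9.TCData.ONC0.Main

set_option autoImplicit false
set_option maxRecDepth 1000000

namespace Cfsg.Agent.Helper9.TCData.ONC0
open Cfsg.Agent.Helper9.TC2

theorem sl_3696 : allRange 66528 18 (fun u => chkSlp tab slp u) = true := by decide +kernel

theorem sl_3697 : allRange 66546 18 (fun u => chkSlp tab slp u) = true := by decide +kernel

theorem sl_3698 : allRange 66564 18 (fun u => chkSlp tab slp u) = true := by decide +kernel

theorem sl_3699 : allRange 66582 18 (fun u => chkSlp tab slp u) = true := by decide +kernel

theorem sl_3700 : allRange 66600 18 (fun u => chkSlp tab slp u) = true := by decide +kernel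

theorem sl_3701 : allRange 66618 18 (fun u => chkSlp tab slp u) = true := by decide +kernel

theorem sl_3702 : allRange 66636 18 (fun u => chkSlp tab slp u) = true := by decide +kernel

theorem sl_3703 : allRange 66654 18 (fun u => chkSlp tab slp u) = true := by decide +kernel


end Cfsg.Agent.Helper9.TCData.ONC0
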