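import Cfsg.Agent.Lib.Helper9.TCData.ONC0.Main

set_option autoImplicit false
set_option maxRecDepth 1000000

namespace Cfsg.Agent.Helper9.TCData.ONC0
open Cfsg.Agent.Helper9.TC2

theorem sl_3720 : allRange 66960 18 (fun u => chkSlp tab slp u) = true := by decide +kernel

theorem sl_3721 : allRange 66978 18 (fun u => chkSlp tab slp u) = true := by decide +kernel

theorem sl_3722 : allRange 66996 18 (fun u => chkSlp tab slp u) = true := by decide +kernel

theorem sl_3723 : allRange 67014 18 (fun u => chkSlp tab slp u) = true := by decide +kernel

theorem sl_3724 : allRange 67032 18 (fun u => chkSlp tab slp u) = true := by decide +kernel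

theorem sl_3725 : allRange 67050 18 (fun u => chkSlp tab slp u) = true := by decide +kernel

theorem sl_3726 : allRange 67068 18 (fun u => chkSlp tab slp u) = true := by decide +kernel

theorem sl_3727 : allRange 67086 18 (fun u => chkSlp tab slp u) = true := by decide +kernel


end Cfsg.Agent.Helper9.TCData.ONC0
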