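import Cfsg.Agent.Lib.Helper9.TCData.ONC0.Main

set_option autoImplicit false
set_option maxRecDepth 1000000

namespace Cfsg.Agent.Helper9.TCData.ONC0
open Cfsg.Agent.Helper9.TC2

theorem sl_3736 : allRange 67248 18 (fun u => chkSlp tab slp u) = true := by decide +kernel

theorem sl_3737 : allRange 67266 18 (fun u => chkSlp tab slp u) = true := by decide +kernel

theorem sl_3738 : allRange 67284 18 (fun u => chkSlp tab slp u) = true := by decide +kernel

theorem sl_3739 : allRange 67302 18 (fun u => chkSlp tab slp u) = true := by decide +kernel

theorem sl_3740 : allRange 67320 18 (fun u => chkSlp tab slp u) = true := by decide +kernel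

theorem sl_3741 : allRange 67338 18 (fun u => chkSlp tab slp u) = true := by decide +kernel

theorem sl_3742 : allRange 67356 18 (fun u => chkSlp tab slp u) = true := by decide +kernel

theorem sl_3743 : allRange 67374 18 (fun u => chkSlp tab slp u) = true := by decide +kernel


end Cfsg.Agent.Helper9.TCData.ONC0
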