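import Cfsg.Agent.Lib.Helper9.TCData.ONC0.Main

set_option autoImplicit false
set_option maxRecDepth 1000000

namespace Cfsg.Agent.Helper9.TCData.ONC0
open Cfsg.Agent.Helper9.TC2

theorem sl_3744 : allRange 67392 18 (fun u => chkSlp tab slp u) = true := by decide +kernel

theorem sl_3745 : allRange 67410 18 (fun u => chkSlp tab slp u) = true := by decide +kernel

theorem sl_3746 : allRange 67428 18 (fun u => chkSlp tab slp u) = true := by decide +kernel

theorem sl_3747 : allRange 67446 18 (fun u => chkSlp tab slp u) = true := by decide +kernel

theorem sl_3748 : allRange 67464 18 (fun u => chkSlp tab slp u) = true := by decide +kernel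

theorem sl_3749 : allRange 67482 18 (fun u => chkSlp tab slp u) = true := by decide +kernel

theorem sl_3750 : allRange 67500 18 (fun u => chkSlp tab slp u) = true := by decide +kernel

theorem sl_3751 : allRange 67518 18 (fun u => chkSlp tab slp u) = true := by decide +kernel


end Cfsg.Agent.Helper9.TCData.ONC0
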