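import Cfsg.Agent.Lib.Helper9.TCData.ONC0.Main

set_option autoImplicit false
set_option maxRecDepth 1000000

namespace Cfsg.Agent.Helper9.TCData.ONC0
open Cfsg.Agent.Helper9.TC2

theorem sl_3752 : allRange 67536 18 (fun u => chkSlp tab slp u) = true := by decide +kernel

theorem sl_3753 : allRange 67554 18 (fun u => chkSlp tab slp u) = true := by decide +kernel

theorem sl_3754 : allRange 67572 18 (fun u => chkSlp tab slp u) = true := by decide +kernel

theorem sl_3755 : allRange 67590 18 (fun u => chkSlp tab slp u) = true := by decide +kernel

theorem sl_3756 : allRange 67608 18 (fun u => chkSlp tab slp u) = true := by decide +kernel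

theorem sl_3757 : allRange 67626 18 (fun u => chkSlp tab slp u) = true := by decide +kernel

theorem sl_3758 : allRange 67644 18 (fun u => chkSlp tab slp u) = true := by decide +kernel

theorem sl_3759 : allRange 67662 18 (fun u => chkSlp tab slp u) = true := by decide +kernel


end Cfsg.Agent.Helper9.TCData.ONC0
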