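import Cfsg.Agent.Lib.Helper9.TCData.ONC0.Main

set_option autoImplicit false
set_option maxRecDepth 1000000

namespace Cfsg.Agent.Helper9.TCData.ONC0
open Cfsg.Agent.Helper9.TC2

theorem sl_3760 : allRange 67680 18 (fun u => chkSlp tab slp u) = true := by decide +kernel

theorem sl_3761 : allRange 67698 18 (fun u => chkSlp tab slp u) = true := by decide +kernel

theorem sl_3762 : allRange 67716 18 (fun u => chkSlp tab slp u) = true := by decide +kernel

theorem sl_3763 : allRange 67734 18 (fun u => chkSlp tab slp u) = true := by decide +kernel

theorem sl_3764 : allRange 67752 18 (fun u => chkSlp tab slp u) = true := by decide +kernel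

theorem sl_3765 : allRange 67770 18 (fun u => chkSlp tab slp u) = true := by decide +kernel

theorem sl_3766 : allRange 67788 18 (fun u => chkSlp tab slp u) = true := by decide +kernel

theorem sl_3767 : allRange 67806 18 (fun u => chkSlp tab slp u) = true := by decide +kernel


end Cfsg.Agent.Helper9.TCData.ONC0
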