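import Cfsg.Agent.Lib.Helper9.TCData.ONC0.Main

set_option autoImplicit false
set_option maxRecDepth 1000000

namespace Cfsg.Agent.Helper9.TCData.ONC0
open Cfsg.Agent.Helper9.TC2

theorem sl_3768 : allRange 67824 18 (fun u => chkSlp tab slp u) = true := by decide +kernel

theorem sl_3769 : allRange 67842 18 (fun u => chkSlp tab slp u) = true := by decide +kernel

theorem sl_3770 : allRange 67860 18 (fun u => chkSlp tab slp u) = true := by decide +kernel

theorem sl_3771 : allRange 67878 18 (fun u => chkSlp tab slp u) = true := by decide +kernel

theorem sl_3772 : allRange 67896 18 (fun u => chkSlp tab slp u) = true := by decide +kernel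

theorem sl_3773 : allRange 67914 18 (fun u => chkSlp tab slp u) = true := by decide +kernel

theorem sl_3774 : allRange 67932 18 (fun u => chkSlp tab slp u) = true := by decide +kernel

theorem sl_3775 : allRange 67950 18 (fun u => chkSlp tab slp u) = true := by decide +kernel


end Cfsg.Agent.Helper9.TCData.ONC0
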