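import Cfsg.Agent.Lib.Helper9.TCData.ONC0.Main

set_option autoImplicit false
set_option maxRecDepth 1000000

namespace Cfsg.Agent.Helper9.TCData.ONC0
open Cfsg.Agent.Helper9.TC2

theorem sl_3776 : allRange 67968 18 (fun u => chkSlp tab slp u) = true := by decide +kernel

theorem sl_3777 : allRange 67986 18 (fun u => chkSlp tab slp u) = true := by decide +kernel

theorem sl_3778 : allRange 68004 18 (fun u => chkSlp tab slp u) = true := by decide +kernel

theorem sl_3779 : allRange 68022 18 (fun u => chkSlp tab slp u) = true := by decide +kernel

theorem sl_3780 : allRange 68040 18 (fun u => chkSlp tab slp u) = true := by decide +kernel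

theorem sl_3781 : allRange 68058 18 (fun u => chkSlp tab slp u) = true := by decide +kernel

theorem sl_3782 : allRange 68076 18 (fun u => chkSlp tab slp u) = true := by decide +kernel

theorem sl_3783 : allRange 68094 18 (fun u => chkSlp tab slp u) = true := by decide +kernel


end Cfsg.Agent.Helper9.TCData.ONC0
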