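import Cfsg.Agent.Lib.Helper9.TCData.ONC0.Main

set_option autoImplicit false
set_option maxRecDepth 1000000

namespace Cfsg.Agent.Helper9.TCData.ONC0
open Cfsg.Agent.Helper9.TC2

theorem sl_3784 : allRange 68112 18 (fun u => chkSlp tab slp u) = true := by decide +kernel

theorem sl_3785 : allRange 68130 18 (fun u => chkSlp tab slp u) = true := by decide +kernel

theorem sl_3786 : allRange 68148 18 (fun u => chkSlp tab slp u) = true := by decide +kernel

theorem sl_3787 : allRange 68166 18 (fun u => chkSlp tab slp u) = true := by decide +kernel

theorem sl_3788 : allRange 68184 18 (fun u => chkSlp tab slp u) = true := by decide +kernel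

theorem sl_3789 : allRange 68202 18 (fun u => chkSlp tab slp u) = true := by decide +kernel

theorem sl_3790 : allRange 68220 18 (fun u => chkSlp tab slp u) = true := by decide +kernel

theorem sl_3791 : allRange 68238 18 (fun u => chkSlp tab slp u) = true := by decide +kernel


end Cfsg.Agent.Helper9.TCData.ONC0
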