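import Cfsg.Agent.Lib.Helper9.TCData.ONC0.Main

set_option autoImplicit false
set_option maxRecDepth 1000000

namespace Cfsg.Agent.Helper9.TCData.ONC0
open Cfsg.Agent.Helper9.TC2

theorem sl_3792 : allRange 68256 18 (fun u => chkSlp tab slp u) = true := by decide +kernel

theorem sl_3793 : allRange 68274 18 (fun u => chkSlp tab slp u) = true := by decide +kernel

theorem sl_3794 : allRange 68292 18 (fun u => chkSlp tab slp u) = true := by decide +kernel

theorem sl_3795 : allRange 68310 18 (fun u => chkSlp tab slp u) = true := by decide +kernel

theorem sl_3796 : allRange 68328 18 (fun u => chkSlp tab slp u) = true := by decide +kernel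

theorem sl_3797 : allRange 68346 18 (fun u => chkSlp tab slp u) = true := by decide +kernel

theorem sl_3798 : allRange 68364 18 (fun u => chkSlp tab slp u) = true := by decide +kernel

theorem sl_3799 : allRange 68382 18 (fun u => chkSlp tab slp u) = true := by decide +kernel


end Cfsg.Agent.Helper9.TCData.ONC0
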