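import Cfsg.Agent.Lib.Helper9.TCData.ONC0.Main

set_option autoImplicit false
set_option maxRecDepth 1000000

namespace Cfsg.Agent.Helper9.TCData.ONC0
open Cfsg.Agent.Helper9.TC2

theorem sl_3800 : allRange 68400 18 (fun u => chkSlp tab slp u) = true := by decide +kernel

theorem sl_3801 : allRange 68418 18 (fun u => chkSlp tab slp u) = true := by decide +kernel

theorem sl_3802 : allRange 68436 18 (fun u => chkSlp tab slp u) = true := by decide +kernel

theorem sl_3803 : allRange 68454 18 (fun u => chkSlp tab slp u) = true := by decide +kernel

theorem sl_3804 : allRange 68472 18 (fun u => chkSlp tab slp u) = true := by decide +kernel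

theorem sl_3805 : allRange 68490 18 (fun u => chkSlp tab slp u) = true := by decide +kernel

theorem sl_3806 : allRange 68508 18 (fun u => chkSlp tab slp u) = true := by decide +kernel

theorem sl_3807 : allRange 68526 18 (fun u => chkSlp tab slp u) = true := by decide +kernel


end Cfsg.Agent.Helper9.TCData.ONC0
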