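import Cfsg.Agent.Lib.Helper9.TCData.ONC0.Main

set_option autoImplicit false
set_option maxRecDepth 1000000

namespace Cfsg.Agent.Helper9.TCData.ONC0
open Cfsg.Agent.Helper9.TC2

theorem sl_3816 : allRange 68688 18 (fun u => chkSlp tab slp u) = true := by decide +kernel

theorem sl_3817 : allRange 68706 18 (fun u => chkSlp tab slp u) = true := by decide +kernel

theorem sl_3818 : allRange 68724 18 (fun u => chkSlp tab slp u) = true := by decide +kernel

theorem sl_3819 : allRange 68742 18 (fun u => chkSlp tab slp u) = true := by decide +kernel

theorem sl_3820 : allRange 68760 18 (fun u => chkSlp tab slp u) = true := by decide +kernel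

theorem sl_3821 : allRange 68778 18 (fun u => chkSlp tab slp u) = true := by decide +kernel

theorem sl_3822 : allRange 68796 18 (fun u => chkSlp tab slp u) = true := by decide +kernel

theorem sl_3823 : allRange 68814 18 (fun u => chkSlp tab slp u) = true := by decide +kernel


end Cfsg.Agent.Helper9.TCData.ONC0
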