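import Cfsg.Agent.Lib.Helper9.TCData.ONC0.Main

set_option autoImplicit false
set_option maxRecDepth 1000000

namespace Cfsg.Agent.Helper9.TCData.ONC0
open Cfsg.Agent.Helper9.TC2

theorem sl_3824 : allRange 68832 18 (fun u => chkSlp tab slp u) = true := by decide +kernel

theorem sl_3825 : allRange 68850 18 (fun u => chkSlp tab slp u) = true := by decide +kernel

theorem sl_3826 : allRange 68868 18 (fun u => chkSlp tab slp u) = true := by decide +kernel

theorem sl_3827 : allRange 68886 18 (fun u => chkSlp tab slp u) = true := by decide +kernel

theorem sl_3828 : allRange 68904 18 (fun u => chkSlp tab slp u) = true := by decide +kernel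

theorem sl_3829 : allRange 68922 18 (fun u => chkSlp tab slp u) = true := by decide +kernel

theorem sl_3830 : allRange 68940 18 (fun u => chkSlp tab slp u) = true := by decide +kernel

theorem sl_3831 : allRange 68958 18 (fun u => chkSlp tab slp u) = true := by decide +kernel


end Cfsg.Agent.Helper9.TCData.ONC0
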