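import Cfsg.Agent.Lib.Helper9.TCData.ONC0.Main

set_option autoImplicit false
set_option maxRecDepth 1000000

namespace Cfsg.Agent.Helper9.TCData.ONC0
open Cfsg.Agent.Helper9.TC2

theorem sl_3832 : allRange 68976 18 (fun u => chkSlp tab slp u) = true := by decide +kernel

theorem sl_3833 : allRange 68994 18 (fun u => chkSlp tab slp u) = true := by decide +kernel

theorem sl_3834 : allRange 69012 18 (fun u => chkSlp tab slp u) = true := by decide +kernel

theorem sl_3835 : allRange 69030 18 (fun u => chkSlp tab slp u) = true := by decide +kernel

theorem sl_3836 : allRange 69048 18 (fun u => chkSlp tab slp u) = true := by decide +kernel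

theorem sl_3837 : allRange 69066 18 (fun u => chkSlp tab slp u) = true := by decide +kernel

theorem sl_3838 : allRange 69084 18 (fun u => chkSlp tab slp u) = true := by decide +kernel

theorem sl_3839 : allRange 69102 18 (fun u => chkSlp tab slp u) = true := by decide +kernel


end Cfsg.Agent.Helper9.TCData.ONC0
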