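import Cfsg.Agent.Lib.Helper9.TCData.ONC0.Main

set_option autoImplicit false
set_option maxRecDepth 1000000

namespace Cfsg.Agent.Helper9.TCData.ONC0
open Cfsg.Agent.Helper9.TC2

theorem sl_3840 : allRange 69120 18 (fun u => chkSlp tab slp u) = true := by decide +kernel

theorem sl_3841 : allRange 69138 18 (fun u => chkSlp tab slp u) = true := by decide +kernel

theorem sl_3842 : allRange 69156 18 (fun u => chkSlp tab slp u) = true := by decide +kernel

theorem sl_3843 : allRange 69174 18 (fun u => chkSlp tab slp u) = true := by decide +kernel

theorem sl_3844 : allRange 69192 18 (fun u => chkSlp tab slp u) = true := by decide +kernel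

theorem sl_3845 : allRange 69210 18 (fun u => chkSlp tab slp u) = true := by decide +kernel

theorem sl_3846 : allRange 69228 18 (fun u => chkSlp tab slp u) = true := by decide +kernel

theorem sl_3847 : allRange 69246 18 (fun u => chkSlp tab slp u) = true := by decide +kernel


end Cfsg.Agent.Helper9.TCData.ONC0
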