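import Cfsg.Agent.Lib.Helper9.TCData.ONC0.Main

set_option autoImplicit false
set_option maxRecDepth 1000000

namespace Cfsg.Agent.Helper9.TCData.ONC0
open Cfsg.Agent.Helper9.TC2

theorem sl_3848 : allRange 69264 18 (fun u => chkSlp tab slp u) = true := by decide +kernel

theorem sl_3849 : allRange 69282 18 (fun u => chkSlp tab slp u) = true := by decide +kernel

theorem sl_3850 : allRange 69300 18 (fun u => chkSlp tab slp u) = true := by decide +kernel

theorem sl_3851 : allRange 69318 18 (fun u => chkSlp tab slp u) = true := by decide +kernel

theorem sl_3852 : allRange 69336 18 (fun u => chkSlp tab slp u) = true := by decide +kernel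

theorem sl_3853 : allRange 69354 18 (fun u => chkSlp tab slp u) = true := by decide +kernel

theorem sl_3854 : allRange 69372 18 (fun u => chkSlp tab slp u) = true := by decide +kernel

theorem sl_3855 : allRange 69390 18 (fun u => chkSlp tab slp u) = true := by decide +kernel


end Cfsg.Agent.Helper9.TCData.ONC0
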