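import Cfsg.Agent.Lib.Helper9.TCData.ONC0.Main

set_option autoImplicit false
set_option maxRecDepth 1000000

namespace Cfsg.Agent.Helper9.TCData.ONC0
open Cfsg.Agent.Helper9.TC2

theorem sl_3880 : allRange 69840 18 (fun u => chkSlp tab slp u) = true := by decide +kernel

theorem sl_3881 : allRange 69858 18 (fun u => chkSlp tab slp u) = true := by decide +kernel

theorem sl_3882 : allRange 69876 18 (fun u => chkSlp tab slp u) = true := by decide +kernel

theorem sl_3883 : allRange 69894 18 (fun u => chkSlp tab slp u) = true := by decide +kernel

theorem sl_3884 : allRange 69912 18 (fun u => chkSlp tab slp u) = true := by decide +kernel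

theorem sl_3885 : allRange 69930 18 (fun u => chkSlp tab slp u) = true := by decide +kernel

theorem sl_3886 : allRange 69948 18 (fun u => chkSlp tab slp u) = true := by decide +kernel

theorem sl_3887 : allRange 69966 18 (fun u => chkSlp tab slp u) = true := by decide +kernel


end Cfsg.Agent.Helper9.TCData.ONC0
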