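import Cfsg.Agent.Lib.Helper9.TCData.ONC0.Main

set_option autoImplicit false
set_option maxRecDepth 1000000

namespace Cfsg.Agent.Helper9.TCData.ONC0
open Cfsg.Agent.Helper9.TC2

theorem sl_3888 : allRange 69984 18 (fun u => chkSlp tab slp u) = true := by decide +kernel

theorem sl_3889 : allRange 70002 18 (fun u => chkSlp tab slp u) = true := by decide +kernel

theorem sl_3890 : allRange 70020 18 (fun u => chkSlp tab slp u) = true := by decide +kernel

theorem sl_3891 : allRange 70038 18 (fun u => chkSlp tab slp u) = true := by decide +kernel

theorem sl_3892 : allRange 70056 18 (fun u => chkSlp tab slp u) = true := by decide +kernel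

theorem sl_3893 : allRange 70074 18 (fun u => chkSlp tab slp u) = true := by decide +kernel

theorem sl_3894 : allRange 70092 18 (fun u => chkSlp tab slp u) = true := by decide +kernel

theorem sl_3895 : allRange 70110 18 (fun u => chkSlp tab slp u) = true := by decide +kernel


end Cfsg.Agent.Helper9.TCData.ONC0
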