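import Cfsg.Agent.Lib.Helper9.TCData.ONC0.Main

set_option autoImplicit false
set_option maxRecDepth 1000000

namespace Cfsg.Agent.Helper9.TCData.ONC0
open Cfsg.Agent.Helper9.TC2

theorem sl_3896 : allRange 70128 18 (fun u => chkSlp tab slp u) = true := by decide +kernel

theorem sl_3897 : allRange 70146 18 (fun u => chkSlp tab slp u) = true := by decide +kernel

theorem sl_3898 : allRange 70164 18 (fun u => chkSlp tab slp u) = true := by decide +kernel

theorem sl_3899 : allRange 70182 18 (fun u => chkSlp tab slp u) = true := by decide +kernel

theorem sl_3900 : allRange 70200 18 (fun u => chkSlp tab slp u) = true := by decide +kernel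

theorem sl_3901 : allRange 70218 18 (fun u => chkSlp tab slp u) = true := by decide +kernel

theorem sl_3902 : allRange 70236 18 (fun u => chkSlp tab slp u) = true := by decide +kernel

theorem sl_3903 : allRange 70254 18 (fun u => chkSlp tab slp u) = true := by decide +kernel


end Cfsg.Agent.Helper9.TCData.ONC0
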