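import Cfsg.Agent.Lib.Helper9.TCData.ONC0.Main

set_option autoImplicit false
set_option maxRecDepth 1000000

namespace Cfsg.Agent.Helper9.TCData.ONC0
open Cfsg.Agent.Helper9.TC2

theorem sl_3912 : allRange 70416 18 (fun u => chkSlp tab slp u) = true := by decide +kernel

theorem sl_3913 : allRange 70434 18 (fun u => chkSlp tab slp u) = true := by decide +kernel

theorem sl_3914 : allRange 70452 18 (fun u => chkSlp tab slp u) = true := by decide +kernel

theorem sl_3915 : allRange 70470 18 (fun u => chkSlp tab slp u) = true := by decide +kernel

theorem sl_3916 : allRange 70488 18 (fun u => chkSlp tab slp u) = true := by decide +kernel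

theorem sl_3917 : allRange 70506 18 (fun u => chkSlp tab slp u) = true := by decide +kernel

theorem sl_3918 : allRange 70524 18 (fun u => chkSlp tab slp u) = true := by decide +kernel

theorem sl_3919 : allRange 70542 18 (fun u => chkSlp tab slp u) = true := by decide +kernel


end Cfsg.Agent.Helper9.TCData.ONC0
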