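import Cfsg.Agent.Lib.Helper9.TCData.ONC0.Main

set_option autoImplicit false
set_option maxRecDepth 1000000

namespace Cfsg.Agent.Helper9.TCData.ONC0
open Cfsg.Agent.Helper9.TC2

theorem sl_3936 : allRange 70848 18 (fun u => chkSlp tab slp u) = true := by decide +kernel

theorem sl_3937 : allRange 70866 18 (fun u => chkSlp tab slp u) = true := by decide +kernel

theorem sl_3938 : allRange 70884 18 (fun u => chkSlp tab slp u) = true := by decide +kernel

theorem sl_3939 : allRange 70902 18 (fun u => chkSlp tab slp u) = true := by decide +kernel

theorem sl_3940 : allRange 70920 18 (fun u => chkSlp tab slp u) = true := by decide +kernel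

theorem sl_3941 : allRange 70938 18 (fun u => chkSlp tab slp u) = true := by decide +kernel

theorem sl_3942 : allRange 70956 18 (fun u => chkSlp tab slp u) = true := by decide +kernel

theorem sl_3943 : allRange 70974 18 (fun u => chkSlp tab slp u) = true := by decide +kernel


end Cfsg.Agent.Helper9.TCData.ONC0
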