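import Cfsg.Agent.Lib.Helper9.TCData.ONC0.Main

set_option autoImplicit false
set_option maxRecDepth 1000000

namespace Cfsg.Agent.Helper9.TCData.ONC0
open Cfsg.Agent.Helper9.TC2

theorem sl_3944 : allRange 70992 18 (fun u => chkSlp tab slp u) = true := by decide +kernel

theorem sl_3945 : allRange 71010 18 (fun u => chkSlp tab slp u) = true := by decide +kernel

theorem sl_3946 : allRange 71028 18 (fun u => chkSlp tab slp u) = true := by decide +kernel

theorem sl_3947 : allRange 71046 18 (fun u => chkSlp tab slp u) = true := by decide +kernel

theorem sl_3948 : allRange 71064 18 (fun u => chkSlp tab slp u) = true := by decide +kernel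

theorem sl_3949 : allRange 71082 18 (fun u => chkSlp tab slp u) = true := by decide +kernel

theorem sl_3950 : allRange 71100 18 (fun u => chkSlp tab slp u) = true := by decide +kernel

theorem sl_3951 : allRange 71118 18 (fun u => chkSlp tab slp u) = true := by decide +kernel


end Cfsg.Agent.Helper9.TCData.ONC0
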