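import Cfsg.Agent.Lib.Helper9.TCData.ONC0.Main

set_option autoImplicit false
set_option maxRecDepth 1000000

namespace Cfsg.Agent.Helper9.TCData.ONC0
open Cfsg.Agent.Helper9.TC2

theorem sl_3952 : allRange 71136 18 (fun u => chkSlp tab slp u) = true := by decide +kernel

theorem sl_3953 : allRange 71154 18 (fun u => chkSlp tab slp u) = true := by decide +kernel

theorem sl_3954 : allRange 71172 18 (fun u => chkSlp tab slp u) = true := by decide +kernel

theorem sl_3955 : allRange 71190 18 (fun u => chkSlp tab slp u) = true := by decide +kernel

theorem sl_3956 : allRange 71208 18 (fun u => chkSlp tab slp u) = true := by decide +kernel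

theorem sl_3957 : allRange 71226 18 (fun u => chkSlp tab slp u) = true := by decide +kernel

theorem sl_3958 : allRange 71244 18 (fun u => chkSlp tab slp u) = true := by decide +kernel

theorem sl_3959 : allRange 71262 18 (fun u => chkSlp tab slp u) = true := by decide +kernel


end Cfsg.Agent.Helper9.TCData.ONC0
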