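import Cfsg.Agent.Lib.Helper9.TCData.ONC0.Main

set_option autoImplicit false
set_option maxRecDepth 1000000

namespace Cfsg.Agent.Helper9.TCData.ONC0
open Cfsg.Agent.Helper9.TC2

theorem f_56 : allRange 17248 308 (fun u => chkFin tab u) = true := by decide +kernel

theorem f_57 : allRange 17556 308 (fun u => chkFin tab u) = true := by decide +kernel

theorem f_58 : allRange 17864 308 (fun u => chkFin tab u) = true := by decide +kernel

theorem f_59 : allRange 18172 308 (fun u => chkFin tab u) = true := by decide +kernel

theorem f_60 : allRange 18480 308 (fun u => chkFin tab u) = true := by decide +kernel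

theorem f_61 : allRange 18788 308 (fun u => chkFin tab u) = true := by decide +kernel

theorem f_62 : allRange 19096 308 (fun u => chkFin tab u) = true := by decide +kernel

theorem f_63 : allRange 19404 308 (fun u => chkFin tab u) = true := by decide +kernel


end Cfsg.Agent.Helper9.TCData.ONC0
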