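import Cfsg.Agent.Lib.Helper9.TCData.ONC0.Main

set_option autoImplicit false
set_option maxRecDepth 1000000

namespace Cfsg.Agent.Helper9.TCData.ONC0
open Cfsg.Agent.Helper9.TC2

theorem sl_3960 : allRange 71280 18 (fun u => chkSlp tab slp u) = true := by decide +kernel

theorem sl_3961 : allRange 71298 18 (fun u => chkSlp tab slp u) = true := by decide +kernel

theorem sl_3962 : allRange 71316 18 (fun u => chkSlp tab slp u) = true := by decide +kernel

theorem sl_3963 : allRange 71334 18 (fun u => chkSlp tab slp u) = true := by decide +kernel

theorem sl_3964 : allRange 71352 18 (fun u => chkSlp tab slp u) = true := by decide +kernel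

theorem sl_3965 : allRange 71370 18 (fun u => chkSlp tab slp u) = true := by decide +kernel

theorem sl_3966 : allRange 71388 18 (fun u => chkSlp tab slp u) = true := by decide +kernel

theorem sl_3967 : allRange 71406 18 (fun u => chkSlp tab slp u) = true := by decide +kernel


end Cfsg.Agent.Helper9.TCData.ONC0
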