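import Cfsg.Agent.Lib.Helper9.TCData.ONC0.Main

set_option autoImplicit false
set_option maxRecDepth 1000000

namespace Cfsg.Agent.Helper9.TCData.ONC0
open Cfsg.Agent.Helper9.TC2

theorem sl_3968 : allRange 71424 18 (fun u => chkSlp tab slp u) = true := by decide +kernel

theorem sl_3969 : allRange 71442 18 (fun u => chkSlp tab slp u) = true := by decide +kernel

theorem sl_3970 : allRange 71460 18 (fun u => chkSlp tab slp u) = true := by decide +kernel

theorem sl_3971 : allRange 71478 18 (fun u => chkSlp tab slp u) = true := by decide +kernel

theorem sl_3972 : allRange 71496 18 (fun u => chkSlp tab slp u) = true := by decide +kernel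

theorem sl_3973 : allRange 71514 18 (fun u => chkSlp tab slp u) = true := by decide +kernel

theorem sl_3974 : allRange 71532 18 (fun u => chkSlp tab slp u) = true := by decide +kernel

theorem sl_3975 : allRange 71550 18 (fun u => chkSlp tab slp u) = true := by decide +kernel


end Cfsg.Agent.Helper9.TCData.ONC0
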