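import Cfsg.Agent.Lib.Helper9.TCData.ONC0.Main

set_option autoImplicit false
set_option maxRecDepth 1000000

namespace Cfsg.Agent.Helper9.TCData.ONC0
open Cfsg.Agent.Helper9.TC2

theorem sl_3976 : allRange 71568 18 (fun u => chkSlp tab slp u) = true := by decide +kernel

theorem sl_3977 : allRange 71586 18 (fun u => chkSlp tab slp u) = true := by decide +kernel

theorem sl_3978 : allRange 71604 18 (fun u => chkSlp tab slp u) = true := by decide +kernel

theorem sl_3979 : allRange 71622 18 (fun u => chkSlp tab slp u) = true := by decide +kernel

theorem sl_3980 : allRange 71640 18 (fun u => chkSlp tab slp u) = true := by decide +kernel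

theorem sl_3981 : allRange 71658 18 (fun u => chkSlp tab slp u) = true := by decide +kernel

theorem sl_3982 : allRange 71676 18 (fun u => chkSlp tab slp u) = true := by decide +kernel

theorem sl_3983 : allRange 71694 18 (fun u => chkSlp tab slp u) = true := by decide +kernel


end Cfsg.Agent.Helper9.TCData.ONC0
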