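import Cfsg.Agent.Lib.Helper9.TCData.ONC0.Main

set_option autoImplicit false
set_option maxRecDepth 1000000

namespace Cfsg.Agent.Helper9.TCData.ONC0
open Cfsg.Agent.Helper9.TC2

theorem sl_3992 : allRange 71856 18 (fun u => chkSlp tab slp u) = true := by decide +kernel

theorem sl_3993 : allRange 71874 18 (fun u => chkSlp tab slp u) = true := by decide +kernel

theorem sl_3994 : allRange 71892 18 (fun u => chkSlp tab slp u) = true := by decide +kernel

theorem sl_3995 : allRange 71910 18 (fun u => chkSlp tab slp u) = true := by decide +kernel

theorem sl_3996 : allRange 71928 18 (fun u => chkSlp tab slp u) = true := by decide +kernel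

theorem sl_3997 : allRange 71946 18 (fun u => chkSlp tab slp u) = true := by decide +kernel

theorem sl_3998 : allRange 71964 18 (fun u => chkSlp tab slp u) = true := by decide +kernel

theorem sl_3999 : allRange 71982 18 (fun u => chkSlp tab slp u) = true := by decide +kernel


end Cfsg.Agent.Helper9.TCData.ONC0
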