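import Cfsg.Agent.Lib.Helper9.TCData.ONC0.Main

set_option autoImplicit false
set_option maxRecDepth 1000000

namespace Cfsg.Agent.Helper9.TCData.ONC0
open Cfsg.Agent.Helper9.TC2

theorem sl_4008 : allRange 72144 18 (fun u => chkSlp tab slp u) = true := by decide +kernel

theorem sl_4009 : allRange 72162 18 (fun u => chkSlp tab slp u) = true := by decide +kernel

theorem sl_4010 : allRange 72180 18 (fun u => chkSlp tab slp u) = true := by decide +kernel

theorem sl_4011 : allRange 72198 18 (fun u => chkSlp tab slp u) = true := by decide +kernel

theorem sl_4012 : allRange 72216 18 (fun u => chkSlp tab slp u) = true := by decide +kernel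

theorem sl_4013 : allRange 72234 18 (fun u => chkSlp tab slp u) = true := by decide +kernel

theorem sl_4014 : allRange 72252 18 (fun u => chkSlp tab slp u) = true := by decide +kernel

theorem sl_4015 : allRange 72270 18 (fun u => chkSlp tab slp u) = true := by decide +kernel


end Cfsg.Agent.Helper9.TCData.ONC0
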