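import Cfsg.Agent.Lib.Helper9.TCData.ONC0.Main

set_option autoImplicit false
set_option maxRecDepth 1000000

namespace Cfsg.Agent.Helper9.TCData.ONC0
open Cfsg.Agent.Helper9.TC2

theorem sl_4016 : allRange 72288 18 (fun u => chkSlp tab slp u) = true := by decide +kernel

theorem sl_4017 : allRange 72306 18 (fun u => chkSlp tab slp u) = true := by decide +kernel

theorem sl_4018 : allRange 72324 18 (fun u => chkSlp tab slp u) = true := by decide +kernel

theorem sl_4019 : allRange 72342 18 (fun u => chkSlp tab slp u) = true := by decide +kernel

theorem sl_4020 : allRange 72360 18 (fun u => chkSlp tab slp u) = true := by decide +kernel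

theorem sl_4021 : allRange 72378 18 (fun u => chkSlp tab slp u) = true := by decide +kernel

theorem sl_4022 : allRange 72396 18 (fun u => chkSlp tab slp u) = true := by decide +kernel

theorem sl_4023 : allRange 72414 18 (fun u => chkSlp tab slp u) = true := by decide +kernel


end Cfsg.Agent.Helper9.TCData.ONC0
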