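import Cfsg.Agent.Lib.Helper9.TCData.ONC0.Main

set_option autoImplicit false
set_option maxRecDepth 1000000

namespace Cfsg.Agent.Helper9.TCData.ONC0
open Cfsg.Agent.Helper9.TC2

theorem sl_4024 : allRange 72432 18 (fun u => chkSlp tab slp u) = true := by decide +kernel

theorem sl_4025 : allRange 72450 18 (fun u => chkSlp tab slp u) = true := by decide +kernel

theorem sl_4026 : allRange 72468 18 (fun u => chkSlp tab slp u) = true := by decide +kernel

theorem sl_4027 : allRange 72486 18 (fun u => chkSlp tab slp u) = true := by decide +kernel

theorem sl_4028 : allRange 72504 18 (fun u => chkSlp tab slp u) = true := by decide +kernel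

theorem sl_4029 : allRange 72522 18 (fun u => chkSlp tab slp u) = true := by decide +kernel

theorem sl_4030 : allRange 72540 18 (fun u => chkSlp tab slp u) = true := by decide +kernel

theorem sl_4031 : allRange 72558 18 (fun u => chkSlp tab slp u) = true := by decide +kernel


end Cfsg.Agent.Helper9.TCData.ONC0
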