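import Cfsg.Agent.Lib.Helper9.TCData.ONC0.Main

set_option autoImplicit false
set_option maxRecDepth 1000000

namespace Cfsg.Agent.Helper9.TCData.ONC0
open Cfsg.Agent.Helper9.TC2

theorem sl_4032 : allRange 72576 18 (fun u => chkSlp tab slp u) = true := by decide +kernel

theorem sl_4033 : allRange 72594 18 (fun u => chkSlp tab slp u) = true := by decide +kernel

theorem sl_4034 : allRange 72612 18 (fun u => chkSlp tab slp u) = true := by decide +kernel

theorem sl_4035 : allRange 72630 18 (fun u => chkSlp tab slp u) = true := by decide +kernel

theorem sl_4036 : allRange 72648 18 (fun u => chkSlp tab slp u) = true := by decide +kernel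

theorem sl_4037 : allRange 72666 18 (fun u => chkSlp tab slp u) = true := by decide +kernel

theorem sl_4038 : allRange 72684 18 (fun u => chkSlp tab slp u) = true := by decide +kernel

theorem sl_4039 : allRange 72702 18 (fun u => chkSlp tab slp u) = true := by decide +kernel


end Cfsg.Agent.Helper9.TCData.ONC0
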