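import Cfsg.Agent.Lib.Helper9.TCData.ONC0.Main

set_option autoImplicit false
set_option maxRecDepth 1000000

namespace Cfsg.Agent.Helper9.TCData.ONC0
open Cfsg.Agent.Helper9.TC2

theorem f_64 : allRange 19712 308 (fun u => chkFin tab u) = true := by decide +kernel

theorem f_65 : allRange 20020 308 (fun u => chkFin tab u) = true := by decide +kernel

theorem f_66 : allRange 20328 308 (fun u => chkFin tab u) = true := by decide +kernel

theorem f_67 : allRange 20636 308 (fun u => chkFin tab u) = true := by decide +kernel

theorem f_68 : allRange 20944 308 (fun u => chkFin tab u) = true := by decide +kernel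

theorem f_69 : allRange 21252 308 (fun u => chkFin tab u) = true := by decide +kernel

theorem f_70 : allRange 21560 308 (fun u => chkFin tab u) = true := by decide +kernel

theorem f_71 : allRange 21868 308 (fun u => chkFin tab u) = true := by decide +kernel


end Cfsg.Agent.Helper9.TCData.ONC0
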