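import Cfsg.Agent.Lib.Helper9.TCData.ONC0.Main

set_option autoImplicit false
set_option maxRecDepth 1000000

namespace Cfsg.Agent.Helper9.TCData.ONC0
open Cfsg.Agent.Helper9.TC2

theorem sl_4048 : allRange 72864 18 (fun u => chkSlp tab slp u) = true := by decide +kernel

theorem sl_4049 : allRange 72882 18 (fun u => chkSlp tab slp u) = true := by decide +kernel

theorem sl_4050 : allRange 72900 18 (fun u => chkSlp tab slp u) = true := by decide +kernel

theorem sl_4051 : allRange 72918 18 (fun u => chkSlp tab slp u) = true := by decide +kernel

theorem sl_4052 : allRange 72936 18 (fun u => chkSlp tab slp u) = true := by decide +kernel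

theorem sl_4053 : allRange 72954 18 (fun u => chkSlp tab slp u) = true := by decide +kernel

theorem sl_4054 : allRange 72972 18 (fun u => chkSlp tab slp u) = true := by decide +kernel

theorem sl_4055 : allRange 72990 18 (fun u => chkSlp tab slp u) = true := by decide +kernel


end Cfsg.Agent.Helper9.TCData.ONC0
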