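import Cfsg.Agent.Lib.Helper9.TCData.ONC0.Main

set_option autoImplicit false
set_option maxRecDepth 1000000

namespace Cfsg.Agent.Helper9.TCData.ONC0
open Cfsg.Agent.Helper9.TC2

theorem sl_4080 : allRange 73440 18 (fun u => chkSlp tab slp u) = true := by decide +kernel

theorem sl_4081 : allRange 73458 18 (fun u => chkSlp tab slp u) = true := by decide +kernel

theorem sl_4082 : allRange 73476 18 (fun u => chkSlp tab slp u) = true := by decide +kernel

theorem sl_4083 : allRange 73494 18 (fun u => chkSlp tab slp u) = true := by decide +kernel

theorem sl_4084 : allRange 73512 18 (fun u => chkSlp tab slp u) = true := by decide +kernel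

theorem sl_4085 : allRange 73530 18 (fun u => chkSlp tab slp u) = true := by decide +kernel

theorem sl_4086 : allRange 73548 18 (fun u => chkSlp tab slp u) = true := by decide +kernel

theorem sl_4087 : allRange 73566 18 (fun u => chkSlp tab slp u) = true := by decide +kernel


end Cfsg.Agent.Helper9.TCData.ONC0
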