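import Cfsg.Agent.Lib.Helper9.TCData.ONC0.Main

set_option autoImplicit false
set_option maxRecDepth 1000000

namespace Cfsg.Agent.Helper9.TCData.ONC0
open Cfsg.Agent.Helper9.TC2

theorem sl_4088 : allRange 73584 18 (fun u => chkSlp tab slp u) = true := by decide +kernel

theorem sl_4089 : allRange 73602 18 (fun u => chkSlp tab slp u) = true := by decide +kernel

theorem sl_4090 : allRange 73620 18 (fun u => chkSlp tab slp u) = true := by decide +kernel

theorem sl_4091 : allRange 73638 18 (fun u => chkSlp tab slp u) = true := by decide +kernel

theorem sl_4092 : allRange 73656 18 (fun u => chkSlp tab slp u) = true := by decide +kernel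

theorem sl_4093 : allRange 73674 18 (fun u => chkSlp tab slp u) = true := by decide +kernel

theorem sl_4094 : allRange 73692 18 (fun u => chkSlp tab slp u) = true := by decide +kernel

theorem sl_4095 : allRange 73710 18 (fun u => chkSlp tab slp u) = true := by decide +kernel


end Cfsg.Agent.Helper9.TCData.ONC0
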