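import Cfsg.Agent.Lib.Helper9.TCData.ONC0.Main

set_option autoImplicit false
set_option maxRecDepth 1000000

namespace Cfsg.Agent.Helper9.TCData.ONC0
open Cfsg.Agent.Helper9.TC2

theorem sl_4128 : allRange 74304 18 (fun u => chkSlp tab slp u) = true := by decide +kernel

theorem sl_4129 : allRange 74322 18 (fun u => chkSlp tab slp u) = true := by decide +kernel

theorem sl_4130 : allRange 74340 18 (fun u => chkSlp tab slp u) = true := by decide +kernel

theorem sl_4131 : allRange 74358 18 (fun u => chkSlp tab slp u) = true := by decide +kernel

theorem sl_4132 : allRange 74376 18 (fun u => chkSlp tab slp u) = true := by decide +kernel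

theorem sl_4133 : allRange 74394 18 (fun u => chkSlp tab slp u) = true := by decide +kernel

theorem sl_4134 : allRange 74412 18 (fun u => chkSlp tab slp u) = true := by decide +kernel

theorem sl_4135 : allRange 74430 18 (fun u => chkSlp tab slp u) = true := by decide +kernel


end Cfsg.Agent.Helper9.TCData.ONC0
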