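import Cfsg.Agent.Lib.Helper9.TCData.ONC0.Main

set_option autoImplicit false
set_option maxRecDepth 1000000

namespace Cfsg.Agent.Helper9.TCData.ONC0
open Cfsg.Agent.Helper9.TC2

theorem sl_4136 : allRange 74448 18 (fun u => chkSlp tab slp u) = true := by decide +kernel

theorem sl_4137 : allRange 74466 18 (fun u => chkSlp tab slp u) = true := by decide +kernel

theorem sl_4138 : allRange 74484 18 (fun u => chkSlp tab slp u) = true := by decide +kernel

theorem sl_4139 : allRange 74502 18 (fun u => chkSlp tab slp u) = true := by decide +kernel

theorem sl_4140 : allRange 74520 18 (fun u => chkSlp tab slp u) = true := by decide +kernel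

theorem sl_4141 : allRange 74538 18 (fun u => chkSlp tab slp u) = true := by decide +kernel

theorem sl_4142 : allRange 74556 18 (fun u => chkSlp tab slp u) = true := by decide +kernel

theorem sl_4143 : allRange 74574 18 (fun u => chkSlp tab slp u) = true := by decide +kernel


end Cfsg.Agent.Helper9.TCData.ONC0
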