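import Cfsg.Agent.Lib.Helper9.TCData.ONC0.Main

set_option autoImplicit false
set_option maxRecDepth 1000000

namespace Cfsg.Agent.Helper9.TCData.ONC0
open Cfsg.Agent.Helper9.TC2

theorem sl_4152 : allRange 74736 18 (fun u => chkSlp tab slp u) = true := by decide +kernel

theorem sl_4153 : allRange 74754 18 (fun u => chkSlp tab slp u) = true := by decide +kernel

theorem sl_4154 : allRange 74772 18 (fun u => chkSlp tab slp u) = true := by decide +kernel

theorem sl_4155 : allRange 74790 18 (fun u => chkSlp tab slp u) = true := by decide +kernel

theorem sl_4156 : allRange 74808 18 (fun u => chkSlp tab slp u) = true := by decide +kernel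

theorem sl_4157 : allRange 74826 18 (fun u => chkSlp tab slp u) = true := by decide +kernel

theorem sl_4158 : allRange 74844 18 (fun u => chkSlp tab slp u) = true := by decide +kernel

theorem sl_4159 : allRange 74862 18 (fun u => chkSlp tab slp u) = true := by decide +kernel


end Cfsg.Agent.Helper9.TCData.ONC0
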