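import Cfsg.Agent.Lib.Helper9.TCData.ONC0.Main

set_option autoImplicit false
set_option maxRecDepth 1000000

namespace Cfsg.Agent.Helper9.TCData.ONC0
open Cfsg.Agent.Helper9.TC2

theorem sl_4160 : allRange 74880 18 (fun u => chkSlp tab slp u) = true := by decide +kernel

theorem sl_4161 : allRange 74898 18 (fun u => chkSlp tab slp u) = true := by decide +kernel

theorem sl_4162 : allRange 74916 18 (fun u => chkSlp tab slp u) = true := by decide +kernel

theorem sl_4163 : allRange 74934 18 (fun u => chkSlp tab slp u) = true := by decide +kernel

theorem sl_4164 : allRange 74952 18 (fun u => chkSlp tab slp u) = true := by decide +kernel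

theorem sl_4165 : allRange 74970 18 (fun u => chkSlp tab slp u) = true := by decide +kernel

theorem sl_4166 : allRange 74988 18 (fun u => chkSlp tab slp u) = true := by decide +kernel

theorem sl_4167 : allRange 75006 18 (fun u => chkSlp tab slp u) = true := by decide +kernel


end Cfsg.Agent.Helper9.TCData.ONC0
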