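import Cfsg.Agent.Lib.Helper9.TCData.ONC0.Main

set_option autoImplicit false
set_option maxRecDepth 1000000

namespace Cfsg.Agent.Helper9.TCData.ONC0
open Cfsg.Agent.Helper9.TC2

theorem sl_4168 : allRange 75024 18 (fun u => chkSlp tab slp u) = true := by decide +kernel

theorem sl_4169 : allRange 75042 18 (fun u => chkSlp tab slp u) = true := by decide +kernel

theorem sl_4170 : allRange 75060 18 (fun u => chkSlp tab slp u) = true := by decide +kernel

theorem sl_4171 : allRange 75078 18 (fun u => chkSlp tab slp u) = true := by decide +kernel

theorem sl_4172 : allRange 75096 18 (fun u => chkSlp tab slp u) = true := by decide +kernel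

theorem sl_4173 : allRange 75114 18 (fun u => chkSlp tab slp u) = true := by decide +kernel

theorem sl_4174 : allRange 75132 18 (fun u => chkSlp tab slp u) = true := by decide +kernel

theorem sl_4175 : allRange 75150 18 (fun u => chkSlp tab slp u) = true := by decide +kernel


end Cfsg.Agent.Helper9.TCData.ONC0
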