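import Cfsg.Agent.Lib.Helper9.TCData.ONC0.Main

set_option autoImplicit false
set_option maxRecDepth 1000000

namespace Cfsg.Agent.Helper9.TCData.ONC0
open Cfsg.Agent.Helper9.TC2

theorem sl_4184 : allRange 75312 18 (fun u => chkSlp tab slp u) = true := by decide +kernel

theorem sl_4185 : allRange 75330 18 (fun u => chkSlp tab slp u) = true := by decide +kernel

theorem sl_4186 : allRange 75348 18 (fun u => chkSlp tab slp u) = true := by decide +kernel

theorem sl_4187 : allRange 75366 18 (fun u => chkSlp tab slp u) = true := by decide +kernel

theorem sl_4188 : allRange 75384 18 (fun u => chkSlp tab slp u) = true := by decide +kernel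

theorem sl_4189 : allRange 75402 18 (fun u => chkSlp tab slp u) = true := by decide +kernel

theorem sl_4190 : allRange 75420 18 (fun u => chkSlp tab slp u) = true := by decide +kernel

theorem sl_4191 : allRange 75438 18 (fun u => chkSlp tab slp u) = true := by decide +kernel


end Cfsg.Agent.Helper9.TCData.ONC0
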