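import Cfsg.Agent.Lib.Helper9.TCData.ONC0.Main

set_option autoImplicit false
set_option maxRecDepth 1000000

namespace Cfsg.Agent.Helper9.TCData.ONC0
open Cfsg.Agent.Helper9.TC2

theorem e0_72 : allRange 215744 1560 (fun u => chkE tab 0 u) = true := by decide +kernel

theorem e0_73 : allRange 217304 1722 (fun u => chkE tab 0 u) = true := by decide +kernel

theorem e0_74 : allRange 219026 1941 (fun u => chkE tab 0 u) = true := by decide +kernel

theorem e0_75 : allRange 220967 1794 (fun u => chkE tab 0 u) = true := by decide +kernel

theorem e0_76 : allRange 222761 1937 (fun u => chkE tab 0 u) = true := by decide +kernel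

theorem e0_77 : allRange 224698 1944 (fun u => chkE tab 0 u) = true := by decide +kernel

theorem e0_78 : allRange 226642 2212 (fun u => chkE tab 0 u) = true := by decide +kernel

theorem e0_79 : allRange 228854 2624 (fun u => chkE tab 0 u) = true := by decide +kernel


end Cfsg.Agent.Helper9.TCData.ONC0
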