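import Cfsg.Agent.Lib.Helper9.TCData.ONC0.Main

set_option autoImplicit false
set_option maxRecDepth 1000000

namespace Cfsg.Agent.Helper9.TCData.ONC0
open Cfsg.Agent.Helper9.TC2

theorem sl_4200 : allRange 75600 18 (fun u => chkSlp tab slp u) = true := by decide +kernel

theorem sl_4201 : allRange 75618 18 (fun u => chkSlp tab slp u) = true := by decide +kernel

theorem sl_4202 : allRange 75636 18 (fun u => chkSlp tab slp u) = true := by decide +kernel

theorem sl_4203 : allRange 75654 18 (fun u => chkSlp tab slp u) = true := by decide +kernel

theorem sl_4204 : allRange 75672 18 (fun u => chkSlp tab slp u) = true := by decide +kernel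

theorem sl_4205 : allRange 75690 18 (fun u => chkSlp tab slp u) = true := by decide +kernel

theorem sl_4206 : allRange 75708 18 (fun u => chkSlp tab slp u) = true := by decide +kernel

theorem sl_4207 : allRange 75726 18 (fun u => chkSlp tab slp u) = true := by decide +kernel


end Cfsg.Agent.Helper9.TCData.ONC0
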