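import Cfsg.Agent.Lib.Helper9.TCData.ONC0.Main

set_option autoImplicit false
set_option maxRecDepth 1000000

namespace Cfsg.Agent.Helper9.TCData.ONC0
open Cfsg.Agent.Helper9.TC2

theorem sl_4216 : allRange 75888 18 (fun u => chkSlp tab slp u) = true := by decide +kernel

theorem sl_4217 : allRange 75906 18 (fun u => chkSlp tab slp u) = true := by decide +kernel

theorem sl_4218 : allRange 75924 18 (fun u => chkSlp tab slp u) = true := by decide +kernel

theorem sl_4219 : allRange 75942 18 (fun u => chkSlp tab slp u) = true := by decide +kernel

theorem sl_4220 : allRange 75960 18 (fun u => chkSlp tab slp u) = true := by decide +kernel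

theorem sl_4221 : allRange 75978 18 (fun u => chkSlp tab slp u) = true := by decide +kernel

theorem sl_4222 : allRange 75996 18 (fun u => chkSlp tab slp u) = true := by decide +kernel

theorem sl_4223 : allRange 76014 18 (fun u => chkSlp tab slp u) = true := by decide +kernel


end Cfsg.Agent.Helper9.TCData.ONC0
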