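import Cfsg.Agent.Lib.Helper9.TCData.ONC0.Main

set_option autoImplicit false
set_option maxRecDepth 1000000

namespace Cfsg.Agent.Helper9.TCData.ONC0
open Cfsg.Agent.Helper9.TC2

theorem sl_4224 : allRange 76032 18 (fun u => chkSlp tab slp u) = true := by decide +kernel

theorem sl_4225 : allRange 76050 18 (fun u => chkSlp tab slp u) = true := by decide +kernel

theorem sl_4226 : allRange 76068 18 (fun u => chkSlp tab slp u) = true := by decide +kernel

theorem sl_4227 : allRange 76086 18 (fun u => chkSlp tab slp u) = true := by decide +kernel

theorem sl_4228 : allRange 76104 18 (fun u => chkSlp tab slp u) = true := by decide +kernel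

theorem sl_4229 : allRange 76122 18 (fun u => chkSlp tab slp u) = true := by decide +kernel

theorem sl_4230 : allRange 76140 18 (fun u => chkSlp tab slp u) = true := by decide +kernel

theorem sl_4231 : allRange 76158 18 (fun u => chkSlp tab slp u) = true := by decide +kernel


end Cfsg.Agent.Helper9.TCData.ONC0
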