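import Cfsg.Agent.Lib.Helper9.TCData.ONC0.Main

set_option autoImplicit false
set_option maxRecDepth 1000000

namespace Cfsg.Agent.Helper9.TCData.ONC0
open Cfsg.Agent.Helper9.TC2

theorem sl_4240 : allRange 76320 18 (fun u => chkSlp tab slp u) = true := by decide +kernel

theorem sl_4241 : allRange 76338 18 (fun u => chkSlp tab slp u) = true := by decide +kernel

theorem sl_4242 : allRange 76356 18 (fun u => chkSlp tab slp u) = true := by decide +kernel

theorem sl_4243 : allRange 76374 18 (fun u => chkSlp tab slp u) = true := by decide +kernel

theorem sl_4244 : allRange 76392 18 (fun u => chkSlp tab slp u) = true := by decide +kernel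

theorem sl_4245 : allRange 76410 18 (fun u => chkSlp tab slp u) = true := by decide +kernel

theorem sl_4246 : allRange 76428 18 (fun u => chkSlp tab slp u) = true := by decide +kernel

theorem sl_4247 : allRange 76446 18 (fun u => chkSlp tab slp u) = true := by decide +kernel


end Cfsg.Agent.Helper9.TCData.ONC0
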