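import Cfsg.Agent.Lib.Helper9.TCData.ONC0.Main

set_option autoImplicit false
set_option maxRecDepth 1000000

namespace Cfsg.Agent.Helper9.TCData.ONC0
open Cfsg.Agent.Helper9.TC2

theorem sl_4248 : allRange 76464 18 (fun u => chkSlp tab slp u) = true := by decide +kernel

theorem sl_4249 : allRange 76482 18 (fun u => chkSlp tab slp u) = true := by decide +kernel

theorem sl_4250 : allRange 76500 18 (fun u => chkSlp tab slp u) = true := by decide +kernel

theorem sl_4251 : allRange 76518 18 (fun u => chkSlp tab slp u) = true := by decide +kernel

theorem sl_4252 : allRange 76536 18 (fun u => chkSlp tab slp u) = true := by decide +kernel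

theorem sl_4253 : allRange 76554 18 (fun u => chkSlp tab slp u) = true := by decide +kernel

theorem sl_4254 : allRange 76572 18 (fun u => chkSlp tab slp u) = true := by decide +kernel

theorem sl_4255 : allRange 76590 18 (fun u => chkSlp tab slp u) = true := by decide +kernel


end Cfsg.Agent.Helper9.TCData.ONC0
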