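import Cfsg.Agent.Lib.Helper9.TCData.ONC0.Main

set_option autoImplicit false
set_option maxRecDepth 1000000

namespace Cfsg.Agent.Helper9.TCData.ONC0
open Cfsg.Agent.Helper9.TC2

theorem sl_4256 : allRange 76608 18 (fun u => chkSlp tab slp u) = true := by decide +kernel

theorem sl_4257 : allRange 76626 18 (fun u => chkSlp tab slp u) = true := by decide +kernel

theorem sl_4258 : allRange 76644 18 (fun u => chkSlp tab slp u) = true := by decide +kernel

theorem sl_4259 : allRange 76662 18 (fun u => chkSlp tab slp u) = true := by decide +kernel

theorem sl_4260 : allRange 76680 18 (fun u => chkSlp tab slp u) = true := by decide +kernel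

theorem sl_4261 : allRange 76698 18 (fun u => chkSlp tab slp u) = true := by decide +kernel

theorem sl_4262 : allRange 76716 18 (fun u => chkSlp tab slp u) = true := by decide +kernel

theorem sl_4263 : allRange 76734 18 (fun u => chkSlp tab slp u) = true := by decide +kernel


end Cfsg.Agent.Helper9.TCData.ONC0
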