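import Cfsg.Agent.Lib.Helper9.TCData.ONC0.Main

set_option autoImplicit false
set_option maxRecDepth 1000000

namespace Cfsg.Agent.Helper9.TCData.ONC0
open Cfsg.Agent.Helper9.TC2

theorem sl_4264 : allRange 76752 18 (fun u => chkSlp tab slp u) = true := by decide +kernel

theorem sl_4265 : allRange 76770 18 (fun u => chkSlp tab slp u) = true := by decide +kernel

theorem sl_4266 : allRange 76788 18 (fun u => chkSlp tab slp u) = true := by decide +kernel

theorem sl_4267 : allRange 76806 18 (fun u => chkSlp tab slp u) = true := by decide +kernel

theorem sl_4268 : allRange 76824 18 (fun u => chkSlp tab slp u) = true := by decide +kernel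

theorem sl_4269 : allRange 76842 18 (fun u => chkSlp tab slp u) = true := by decide +kernel

theorem sl_4270 : allRange 76860 18 (fun u => chkSlp tab slp u) = true := by decide +kernel

theorem sl_4271 : allRange 76878 18 (fun u => chkSlp tab slp u) = true := by decide +kernel


end Cfsg.Agent.Helper9.TCData.ONC0
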