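import Cfsg.Agent.Lib.Helper9.TCData.ONC0.Main

set_option autoImplicit false
set_option maxRecDepth 1000000

namespace Cfsg.Agent.Helper9.TCData.ONC0
open Cfsg.Agent.Helper9.TC2

theorem sl_4272 : allRange 76896 18 (fun u => chkSlp tab slp u) = true := by decide +kernel

theorem sl_4273 : allRange 76914 18 (fun u => chkSlp tab slp u) = true := by decide +kernel

theorem sl_4274 : allRange 76932 18 (fun u => chkSlp tab slp u) = true := by decide +kernel

theorem sl_4275 : allRange 76950 18 (fun u => chkSlp tab slp u) = true := by decide +kernel

theorem sl_4276 : allRange 76968 18 (fun u => chkSlp tab slp u) = true := by decide +kernel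

theorem sl_4277 : allRange 76986 18 (fun u => chkSlp tab slp u) = true := by decide +kernel

theorem sl_4278 : allRange 77004 18 (fun u => chkSlp tab slp u) = true := by decide +kernel

theorem sl_4279 : allRange 77022 18 (fun u => chkSlp tab slp u) = true := by decide +kernel


end Cfsg.Agent.Helper9.TCData.ONC0
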