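import Cfsg.Agent.Lib.Helper9.TCData.ONC0.Main

set_option autoImplicit false
set_option maxRecDepth 1000000

namespace Cfsg.Agent.Helper9.TCData.ONC0
open Cfsg.Agent.Helper9.TC2

theorem f_88 : allRange 27104 308 (fun u => chkFin tab u) = true := by decide +kernel

theorem f_89 : allRange 27412 308 (fun u => chkFin tab u) = true := by decide +kernel

theorem f_90 : allRange 27720 308 (fun u => chkFin tab u) = true := by decide +kernel

theorem f_91 : allRange 28028 308 (fun u => chkFin tab u) = true := by decide +kernel

theorem f_92 : allRange 28336 308 (fun u => chkFin tab u) = true := by decide +kernel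

theorem f_93 : allRange 28644 308 (fun u => chkFin tab u) = true := by decide +kernel

theorem f_94 : allRange 28952 308 (fun u => chkFin tab u) = true := by decide +kernel

theorem f_95 : allRange 29260 308 (fun u => chkFin tab u) = true := by decide +kernel


end Cfsg.Agent.Helper9.TCData.ONC0
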