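import Cfsg.Agent.Lib.Helper9.TCData.ONC0.Main

set_option autoImplicit false
set_option maxRecDepth 1000000

namespace Cfsg.Agent.Helper9.TCData.ONC0
open Cfsg.Agent.Helper9.TC2

theorem sl_4296 : allRange 77328 18 (fun u => chkSlp tab slp u) = true := by decide +kernel

theorem sl_4297 : allRange 77346 18 (fun u => chkSlp tab slp u) = true := by decide +kernel

theorem sl_4298 : allRange 77364 18 (fun u => chkSlp tab slp u) = true := by decide +kernel

theorem sl_4299 : allRange 77382 18 (fun u => chkSlp tab slp u) = true := by decide +kernel

theorem sl_4300 : allRange 77400 18 (fun u => chkSlp tab slp u) = true := by decide +kernel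

theorem sl_4301 : allRange 77418 18 (fun u => chkSlp tab slp u) = true := by decide +kernel

theorem sl_4302 : allRange 77436 18 (fun u => chkSlp tab slp u) = true := by decide +kernel

theorem sl_4303 : allRange 77454 18 (fun u => chkSlp tab slp u) = true := by decide +kernel


end Cfsg.Agent.Helper9.TCData.ONC0
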