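import Cfsg.Agent.Lib.Helper9.TCData.ONC0.Main

set_option autoImplicit false
set_option maxRecDepth 1000000

namespace Cfsg.Agent.Helper9.TCData.ONC0
open Cfsg.Agent.Helper9.TC2

theorem sl_4304 : allRange 77472 18 (fun u => chkSlp tab slp u) = true := by decide +kernel

theorem sl_4305 : allRange 77490 18 (fun u => chkSlp tab slp u) = true := by decide +kernel

theorem sl_4306 : allRange 77508 18 (fun u => chkSlp tab slp u) = true := by decide +kernel

theorem sl_4307 : allRange 77526 18 (fun u => chkSlp tab slp u) = true := by decide +kernel

theorem sl_4308 : allRange 77544 18 (fun u => chkSlp tab slp u) = true := by decide +kernel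

theorem sl_4309 : allRange 77562 18 (fun u => chkSlp tab slp u) = true := by decide +kernel

theorem sl_4310 : allRange 77580 18 (fun u => chkSlp tab slp u) = true := by decide +kernel

theorem sl_4311 : allRange 77598 18 (fun u => chkSlp tab slp u) = true := by decide +kernel


end Cfsg.Agent.Helper9.TCData.ONC0
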