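import Cfsg.Agent.Lib.Helper9.TCData.ONC0.Main

set_option autoImplicit false
set_option maxRecDepth 1000000

namespace Cfsg.Agent.Helper9.TCData.ONC0
open Cfsg.Agent.Helper9.TC2

theorem sl_4312 : allRange 77616 18 (fun u => chkSlp tab slp u) = true := by decide +kernel

theorem sl_4313 : allRange 77634 18 (fun u => chkSlp tab slp u) = true := by decide +kernel

theorem sl_4314 : allRange 77652 18 (fun u => chkSlp tab slp u) = true := by decide +kernel

theorem sl_4315 : allRange 77670 18 (fun u => chkSlp tab slp u) = true := by decide +kernel

theorem sl_4316 : allRange 77688 18 (fun u => chkSlp tab slp u) = true := by decide +kernel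

theorem sl_4317 : allRange 77706 18 (fun u => chkSlp tab slp u) = true := by decide +kernel

theorem sl_4318 : allRange 77724 18 (fun u => chkSlp tab slp u) = true := by decide +kernel

theorem sl_4319 : allRange 77742 18 (fun u => chkSlp tab slp u) = true := by decide +kernel


end Cfsg.Agent.Helper9.TCData.ONC0
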