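import Cfsg.Agent.Lib.Helper9.TCData.ONC0.Main

set_option autoImplicit false
set_option maxRecDepth 1000000

namespace Cfsg.Agent.Helper9.TCData.ONC0
open Cfsg.Agent.Helper9.TC2

theorem sl_4320 : allRange 77760 18 (fun u => chkSlp tab slp u) = true := by decide +kernel

theorem sl_4321 : allRange 77778 18 (fun u => chkSlp tab slp u) = true := by decide +kernel

theorem sl_4322 : allRange 77796 18 (fun u => chkSlp tab slp u) = true := by decide +kernel

theorem sl_4323 : allRange 77814 18 (fun u => chkSlp tab slp u) = true := by decide +kernel

theorem sl_4324 : allRange 77832 18 (fun u => chkSlp tab slp u) = true := by decide +kernel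

theorem sl_4325 : allRange 77850 18 (fun u => chkSlp tab slp u) = true := by decide +kernel

theorem sl_4326 : allRange 77868 18 (fun u => chkSlp tab slp u) = true := by decide +kernel

theorem sl_4327 : allRange 77886 18 (fun u => chkSlp tab slp u) = true := by decide +kernel


end Cfsg.Agent.Helper9.TCData.ONC0
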