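import Cfsg.Agent.Lib.Helper9.TCData.ONC0.Main

set_option autoImplicit false
set_option maxRecDepth 1000000

namespace Cfsg.Agent.Helper9.TCData.ONC0
open Cfsg.Agent.Helper9.TC2

theorem sl_4328 : allRange 77904 18 (fun u => chkSlp tab slp u) = true := by decide +kernel

theorem sl_4329 : allRange 77922 18 (fun u => chkSlp tab slp u) = true := by decide +kernel

theorem sl_4330 : allRange 77940 18 (fun u => chkSlp tab slp u) = true := by decide +kernel

theorem sl_4331 : allRange 77958 18 (fun u => chkSlp tab slp u) = true := by decide +kernel

theorem sl_4332 : allRange 77976 18 (fun u => chkSlp tab slp u) = true := by decide +kernel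

theorem sl_4333 : allRange 77994 18 (fun u => chkSlp tab slp u) = true := by decide +kernel

theorem sl_4334 : allRange 78012 18 (fun u => chkSlp tab slp u) = true := by decide +kernel

theorem sl_4335 : allRange 78030 18 (fun u => chkSlp tab slp u) = true := by decide +kernel


end Cfsg.Agent.Helper9.TCData.ONC0
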