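import Cfsg.Agent.Lib.Helper9.TCData.ONC0.Main

set_option autoImplicit false
set_option maxRecDepth 1000000

namespace Cfsg.Agent.Helper9.TCData.ONC0
open Cfsg.Agent.Helper9.TC2

theorem sl_4352 : allRange 78336 18 (fun u => chkSlp tab slp u) = true := by decide +kernel

theorem sl_4353 : allRange 78354 18 (fun u => chkSlp tab slp u) = true := by decide +kernel

theorem sl_4354 : allRange 78372 18 (fun u => chkSlp tab slp u) = true := by decide +kernel

theorem sl_4355 : allRange 78390 18 (fun u => chkSlp tab slp u) = true := by decide +kernel

theorem sl_4356 : allRange 78408 18 (fun u => chkSlp tab slp u) = true := by decide +kernel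

theorem sl_4357 : allRange 78426 18 (fun u => chkSlp tab slp u) = true := by decide +kernel

theorem sl_4358 : allRange 78444 18 (fun u => chkSlp tab slp u) = true := by decide +kernel

theorem sl_4359 : allRange 78462 18 (fun u => chkSlp tab slp u) = true := by decide +kernel


end Cfsg.Agent.Helper9.TCData.ONC0
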