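import Cfsg.Agent.Lib.Helper9.TCData.ONC0.Main

set_option autoImplicit false
set_option maxRecDepth 1000000

namespace Cfsg.Agent.Helper9.TCData.ONC0
open Cfsg.Agent.Helper9.TC2

theorem sl_4360 : allRange 78480 18 (fun u => chkSlp tab slp u) = true := by decide +kernel

theorem sl_4361 : allRange 78498 18 (fun u => chkSlp tab slp u) = true := by decide +kernel

theorem sl_4362 : allRange 78516 18 (fun u => chkSlp tab slp u) = true := by decide +kernel

theorem sl_4363 : allRange 78534 18 (fun u => chkSlp tab slp u) = true := by decide +kernel

theorem sl_4364 : allRange 78552 18 (fun u => chkSlp tab slp u) = true := by decide +kernel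

theorem sl_4365 : allRange 78570 18 (fun u => chkSlp tab slp u) = true := by decide +kernel

theorem sl_4366 : allRange 78588 18 (fun u => chkSlp tab slp u) = true := by decide +kernel

theorem sl_4367 : allRange 78606 18 (fun u => chkSlp tab slp u) = true := by decide +kernel


end Cfsg.Agent.Helper9.TCData.ONC0
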