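import Cfsg.Agent.Lib.Helper9.TCData.ONC0.Main

set_option autoImplicit false
set_option maxRecDepth 1000000

namespace Cfsg.Agent.Helper9.TCData.ONC0
open Cfsg.Agent.Helper9.TC2

theorem sl_4368 : allRange 78624 18 (fun u => chkSlp tab slp u) = true := by decide +kernel

theorem sl_4369 : allRange 78642 18 (fun u => chkSlp tab slp u) = true := by decide +kernel

theorem sl_4370 : allRange 78660 18 (fun u => chkSlp tab slp u) = true := by decide +kernel

theorem sl_4371 : allRange 78678 18 (fun u => chkSlp tab slp u) = true := by decide +kernel

theorem sl_4372 : allRange 78696 18 (fun u => chkSlp tab slp u) = true := by decide +kernel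

theorem sl_4373 : allRange 78714 18 (fun u => chkSlp tab slp u) = true := by decide +kernel

theorem sl_4374 : allRange 78732 18 (fun u => chkSlp tab slp u) = true := by decide +kernel

theorem sl_4375 : allRange 78750 18 (fun u => chkSlp tab slp u) = true := by decide +kernel


end Cfsg.Agent.Helper9.TCData.ONC0
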