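import Cfsg.Agent.Lib.Helper9.TCData.ONC0.Main

set_option autoImplicit false
set_option maxRecDepth 1000000

namespace Cfsg.Agent.Helper9.TCData.ONC0
open Cfsg.Agent.Helper9.TC2

theorem sl_4392 : allRange 79056 18 (fun u => chkSlp tab slp u) = true := by decide +kernel

theorem sl_4393 : allRange 79074 18 (fun u => chkSlp tab slp u) = true := by decide +kernel

theorem sl_4394 : allRange 79092 18 (fun u => chkSlp tab slp u) = true := by decide +kernel

theorem sl_4395 : allRange 79110 18 (fun u => chkSlp tab slp u) = true := by decide +kernel

theorem sl_4396 : allRange 79128 18 (fun u => chkSlp tab slp u) = true := by decide +kernel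

theorem sl_4397 : allRange 79146 18 (fun u => chkSlp tab slp u) = true := by decide +kernel

theorem sl_4398 : allRange 79164 18 (fun u => chkSlp tab slp u) = true := by decide +kernel

theorem sl_4399 : allRange 79182 18 (fun u => chkSlp tab slp u) = true := by decide +kernel


end Cfsg.Agent.Helper9.TCData.ONC0
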