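import Cfsg.Agent.Lib.Helper9.TCData.ONC0.Main

set_option autoImplicit false
set_option maxRecDepth 1000000

namespace Cfsg.Agent.Helper9.TCData.ONC0
open Cfsg.Agent.Helper9.TC2

theorem sl_4416 : allRange 79488 18 (fun u => chkSlp tab slp u) = true := by decide +kernel

theorem sl_4417 : allRange 79506 18 (fun u => chkSlp tab slp u) = true := by decide +kernel

theorem sl_4418 : allRange 79524 18 (fun u => chkSlp tab slp u) = true := by decide +kernel

theorem sl_4419 : allRange 79542 18 (fun u => chkSlp tab slp u) = true := by decide +kernel

theorem sl_4420 : allRange 79560 18 (fun u => chkSlp tab slp u) = true := by decide +kernel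

theorem sl_4421 : allRange 79578 18 (fun u => chkSlp tab slp u) = true := by decide +kernel

theorem sl_4422 : allRange 79596 18 (fun u => chkSlp tab slp u) = true := by decide +kernel

theorem sl_4423 : allRange 79614 18 (fun u => chkSlp tab slp u) = true := by decide +kernel


end Cfsg.Agent.Helper9.TCData.ONC0
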