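import Cfsg.Agent.Lib.Helper9.TCData.ONC0.Main

set_option autoImplicit false
set_option maxRecDepth 1000000

namespace Cfsg.Agent.Helper9.TCData.ONC0
open Cfsg.Agent.Helper9.TC2

theorem sl_4424 : allRange 79632 18 (fun u => chkSlp tab slp u) = true := by decide +kernel

theorem sl_4425 : allRange 79650 18 (fun u => chkSlp tab slp u) = true := by decide +kernel

theorem sl_4426 : allRange 79668 18 (fun u => chkSlp tab slp u) = true := by decide +kernel

theorem sl_4427 : allRange 79686 18 (fun u => chkSlp tab slp u) = true := by decide +kernel

theorem sl_4428 : allRange 79704 18 (fun u => chkSlp tab slp u) = true := by decide +kernel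

theorem sl_4429 : allRange 79722 18 (fun u => chkSlp tab slp u) = true := by decide +kernel

theorem sl_4430 : allRange 79740 18 (fun u => chkSlp tab slp u) = true := by decide +kernel

theorem sl_4431 : allRange 79758 18 (fun u => chkSlp tab slp u) = true := by decide +kernel


end Cfsg.Agent.Helper9.TCData.ONC0
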