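import Cfsg.Agent.Lib.Helper9.TCData.ONC0.Main

set_option autoImplicit false
set_option maxRecDepth 1000000

namespace Cfsg.Agent.Helper9.TCData.ONC0
open Cfsg.Agent.Helper9.TC2

theorem f_104 : allRange 32032 308 (fun u => chkFin tab u) = true := by decide +kernel

theorem f_105 : allRange 32340 308 (fun u => chkFin tab u) = true := by decide +kernel

theorem f_106 : allRange 32648 308 (fun u => chkFin tab u) = true := by decide +kernel

theorem f_107 : allRange 32956 308 (fun u => chkFin tab u) = true := by decide +kernel

theorem f_108 : allRange 33264 308 (fun u => chkFin tab u) = true := by decide +kernel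

theorem f_109 : allRange 33572 308 (fun u => chkFin tab u) = true := by decide +kernel

theorem f_110 : allRange 33880 308 (fun u => chkFin tab u) = true := by decide +kernel

theorem f_111 : allRange 34188 308 (fun u => chkFin tab u) = true := by decide +kernel


end Cfsg.Agent.Helper9.TCData.ONC0
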