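import Cfsg.Agent.Lib.Helper9.TCData.ONC0.Main

set_option autoImplicit false
set_option maxRecDepth 1000000

namespace Cfsg.Agent.Helper9.TCData.ONC0
open Cfsg.Agent.Helper9.TC2

theorem sl_4440 : allRange 79920 18 (fun u => chkSlp tab slp u) = true := by decide +kernel

theorem sl_4441 : allRange 79938 18 (fun u => chkSlp tab slp u) = true := by decide +kernel

theorem sl_4442 : allRange 79956 18 (fun u => chkSlp tab slp u) = true := by decide +kernel

theorem sl_4443 : allRange 79974 18 (fun u => chkSlp tab slp u) = true := by decide +kernel

theorem sl_4444 : allRange 79992 18 (fun u => chkSlp tab slp u) = true := by decide +kernel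

theorem sl_4445 : allRange 80010 18 (fun u => chkSlp tab slp u) = true := by decide +kernel

theorem sl_4446 : allRange 80028 18 (fun u => chkSlp tab slp u) = true := by decide +kernel

theorem sl_4447 : allRange 80046 18 (fun u => chkSlp tab slp u) = true := by decide +kernel


end Cfsg.Agent.Helper9.TCData.ONC0
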