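import Cfsg.Agent.Lib.Helper9.TCData.ONC0.Main

set_option autoImplicit false
set_option maxRecDepth 1000000

namespace Cfsg.Agent.Helper9.TCData.ONC0
open Cfsg.Agent.Helper9.TC2

theorem sl_4448 : allRange 80064 18 (fun u => chkSlp tab slp u) = true := by decide +kernel

theorem sl_4449 : allRange 80082 18 (fun u => chkSlp tab slp u) = true := by decide +kernel

theorem sl_4450 : allRange 80100 18 (fun u => chkSlp tab slp u) = true := by decide +kernel

theorem sl_4451 : allRange 80118 18 (fun u => chkSlp tab slp u) = true := by decide +kernel

theorem sl_4452 : allRange 80136 18 (fun u => chkSlp tab slp u) = true := by decide +kernel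

theorem sl_4453 : allRange 80154 18 (fun u => chkSlp tab slp u) = true := by decide +kernel

theorem sl_4454 : allRange 80172 18 (fun u => chkSlp tab slp u) = true := by decide +kernel

theorem sl_4455 : allRange 80190 18 (fun u => chkSlp tab slp u) = true := by decide +kernel


end Cfsg.Agent.Helper9.TCData.ONC0
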