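import Cfsg.Agent.Lib.Helper9.TCData.ONC0.Main

set_option autoImplicit false
set_option maxRecDepth 1000000

namespace Cfsg.Agent.Helper9.TCData.ONC0
open Cfsg.Agent.Helper9.TC2

theorem sl_4456 : allRange 80208 18 (fun u => chkSlp tab slp u) = true := by decide +kernel

theorem sl_4457 : allRange 80226 18 (fun u => chkSlp tab slp u) = true := by decide +kernel

theorem sl_4458 : allRange 80244 18 (fun u => chkSlp tab slp u) = true := by decide +kernel

theorem sl_4459 : allRange 80262 18 (fun u => chkSlp tab slp u) = true := by decide +kernel

theorem sl_4460 : allRange 80280 18 (fun u => chkSlp tab slp u) = true := by decide +kernel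

theorem sl_4461 : allRange 80298 18 (fun u => chkSlp tab slp u) = true := by decide +kernel

theorem sl_4462 : allRange 80316 18 (fun u => chkSlp tab slp u) = true := by decide +kernel

theorem sl_4463 : allRange 80334 18 (fun u => chkSlp tab slp u) = true := by decide +kernel


end Cfsg.Agent.Helper9.TCData.ONC0
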