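import Cfsg.Agent.Lib.Helper9.TCData.ONC0.Main

set_option autoImplicit false
set_option maxRecDepth 1000000

namespace Cfsg.Agent.Helper9.TCData.ONC0
open Cfsg.Agent.Helper9.TC2

theorem sl_4464 : allRange 80352 18 (fun u => chkSlp tab slp u) = true := by decide +kernel

theorem sl_4465 : allRange 80370 18 (fun u => chkSlp tab slp u) = true := by decide +kernel

theorem sl_4466 : allRange 80388 18 (fun u => chkSlp tab slp u) = true := by decide +kernel

theorem sl_4467 : allRange 80406 18 (fun u => chkSlp tab slp u) = true := by decide +kernel

theorem sl_4468 : allRange 80424 18 (fun u => chkSlp tab slp u) = true := by decide +kernel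

theorem sl_4469 : allRange 80442 18 (fun u => chkSlp tab slp u) = true := by decide +kernel

theorem sl_4470 : allRange 80460 18 (fun u => chkSlp tab slp u) = true := by decide +kernel

theorem sl_4471 : allRange 80478 18 (fun u => chkSlp tab slp u) = true := by decide +kernel


end Cfsg.Agent.Helper9.TCData.ONC0
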