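import Cfsg.Agent.Lib.Helper9.TCData.ONC0.Main

set_option autoImplicit false
set_option maxRecDepth 1000000

namespace Cfsg.Agent.Helper9.TCData.ONC0
open Cfsg.Agent.Helper9.TC2

theorem sl_4472 : allRange 80496 18 (fun u => chkSlp tab slp u) = true := by decide +kernel

theorem sl_4473 : allRange 80514 18 (fun u => chkSlp tab slp u) = true := by decide +kernel

theorem sl_4474 : allRange 80532 18 (fun u => chkSlp tab slp u) = true := by decide +kernel

theorem sl_4475 : allRange 80550 18 (fun u => chkSlp tab slp u) = true := by decide +kernel

theorem sl_4476 : allRange 80568 18 (fun u => chkSlp tab slp u) = true := by decide +kernel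

theorem sl_4477 : allRange 80586 18 (fun u => chkSlp tab slp u) = true := by decide +kernel

theorem sl_4478 : allRange 80604 18 (fun u => chkSlp tab slp u) = true := by decide +kernel

theorem sl_4479 : allRange 80622 18 (fun u => chkSlp tab slp u) = true := by decide +kernel


end Cfsg.Agent.Helper9.TCData.ONC0
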