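import Cfsg.Agent.Lib.Helper9.TCData.ONC0.Main

set_option autoImplicit false
set_option maxRecDepth 1000000

namespace Cfsg.Agent.Helper9.TCData.ONC0
open Cfsg.Agent.Helper9.TC2

theorem sl_4496 : allRange 80928 18 (fun u => chkSlp tab slp u) = true := by decide +kernel

theorem sl_4497 : allRange 80946 18 (fun u => chkSlp tab slp u) = true := by decide +kernel

theorem sl_4498 : allRange 80964 18 (fun u => chkSlp tab slp u) = true := by decide +kernel

theorem sl_4499 : allRange 80982 18 (fun u => chkSlp tab slp u) = true := by decide +kernel

theorem sl_4500 : allRange 81000 18 (fun u => chkSlp tab slp u) = true := by decide +kernel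

theorem sl_4501 : allRange 81018 18 (fun u => chkSlp tab slp u) = true := by decide +kernel

theorem sl_4502 : allRange 81036 18 (fun u => chkSlp tab slp u) = true := by decide +kernel

theorem sl_4503 : allRange 81054 18 (fun u => chkSlp tab slp u) = true := by decide +kernel


end Cfsg.Agent.Helper9.TCData.ONC0
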