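import Cfsg.Agent.Lib.Helper9.TCData.ONC0.Main

set_option autoImplicit false
set_option maxRecDepth 1000000

namespace Cfsg.Agent.Helper9.TCData.ONC0
open Cfsg.Agent.Helper9.TC2

theorem sl_4512 : allRange 81216 18 (fun u => chkSlp tab slp u) = true := by decide +kernel

theorem sl_4513 : allRange 81234 18 (fun u => chkSlp tab slp u) = true := by decide +kernel

theorem sl_4514 : allRange 81252 18 (fun u => chkSlp tab slp u) = true := by decide +kernel

theorem sl_4515 : allRange 81270 18 (fun u => chkSlp tab slp u) = true := by decide +kernel

theorem sl_4516 : allRange 81288 18 (fun u => chkSlp tab slp u) = true := by decide +kernel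

theorem sl_4517 : allRange 81306 18 (fun u => chkSlp tab slp u) = true := by decide +kernel

theorem sl_4518 : allRange 81324 18 (fun u => chkSlp tab slp u) = true := by decide +kernel

theorem sl_4519 : allRange 81342 18 (fun u => chkSlp tab slp u) = true := by decide +kernel


end Cfsg.Agent.Helper9.TCData.ONC0
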