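import Cfsg.Agent.Lib.Helper9.TCData.ONC0.Main

set_option autoImplicit false
set_option maxRecDepth 1000000

namespace Cfsg.Agent.Helper9.TCData.ONC0
open Cfsg.Agent.Helper9.TC2

theorem sl_4536 : allRange 81648 18 (fun u => chkSlp tab slp u) = true := by decide +kernel

theorem sl_4537 : allRange 81666 18 (fun u => chkSlp tab slp u) = true := by decide +kernel

theorem sl_4538 : allRange 81684 18 (fun u => chkSlp tab slp u) = true := by decide +kernel

theorem sl_4539 : allRange 81702 18 (fun u => chkSlp tab slp u) = true := by decide +kernel

theorem sl_4540 : allRange 81720 18 (fun u => chkSlp tab slp u) = true := by decide +kernel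

theorem sl_4541 : allRange 81738 18 (fun u => chkSlp tab slp u) = true := by decide +kernel

theorem sl_4542 : allRange 81756 18 (fun u => chkSlp tab slp u) = true := by decide +kernel

theorem sl_4543 : allRange 81774 18 (fun u => chkSlp tab slp u) = true := by decide +kernel


end Cfsg.Agent.Helper9.TCData.ONC0
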