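import Cfsg.Agent.Lib.Helper9.TCData.ONC0.Main

set_option autoImplicit false
set_option maxRecDepth 1000000

namespace Cfsg.Agent.Helper9.TCData.ONC0
open Cfsg.Agent.Helper9.TC2

theorem sl_4552 : allRange 81936 18 (fun u => chkSlp tab slp u) = true := by decide +kernel

theorem sl_4553 : allRange 81954 18 (fun u => chkSlp tab slp u) = true := by decide +kernel

theorem sl_4554 : allRange 81972 18 (fun u => chkSlp tab slp u) = true := by decide +kernel

theorem sl_4555 : allRange 81990 18 (fun u => chkSlp tab slp u) = true := by decide +kernel

theorem sl_4556 : allRange 82008 18 (fun u => chkSlp tab slp u) = true := by decide +kernel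

theorem sl_4557 : allRange 82026 18 (fun u => chkSlp tab slp u) = true := by decide +kernel

theorem sl_4558 : allRange 82044 18 (fun u => chkSlp tab slp u) = true := by decide +kernel

theorem sl_4559 : allRange 82062 18 (fun u => chkSlp tab slp u) = true := by decide +kernel


end Cfsg.Agent.Helper9.TCData.ONC0
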