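import Cfsg.Agent.Lib.Helper9.TCData.ONC0.Main

set_option autoImplicit false
set_option maxRecDepth 1000000

namespace Cfsg.Agent.Helper9.TCData.ONC0
open Cfsg.Agent.Helper9.TC2

theorem sl_4584 : allRange 82512 18 (fun u => chkSlp tab slp u) = true := by decide +kernel

theorem sl_4585 : allRange 82530 18 (fun u => chkSlp tab slp u) = true := by decide +kernel

theorem sl_4586 : allRange 82548 18 (fun u => chkSlp tab slp u) = true := by decide +kernel

theorem sl_4587 : allRange 82566 18 (fun u => chkSlp tab slp u) = true := by decide +kernel

theorem sl_4588 : allRange 82584 18 (fun u => chkSlp tab slp u) = true := by decide +kernel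

theorem sl_4589 : allRange 82602 18 (fun u => chkSlp tab slp u) = true := by decide +kernel

theorem sl_4590 : allRange 82620 18 (fun u => chkSlp tab slp u) = true := by decide +kernel

theorem sl_4591 : allRange 82638 18 (fun u => chkSlp tab slp u) = true := by decide +kernel


end Cfsg.Agent.Helper9.TCData.ONC0
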