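import Cfsg.Agent.Lib.Helper9.TCData.ONC0.Main

set_option autoImplicit false
set_option maxRecDepth 1000000

namespace Cfsg.Agent.Helper9.TCData.ONC0
open Cfsg.Agent.Helper9.TC2

theorem sl_4592 : allRange 82656 18 (fun u => chkSlp tab slp u) = true := by decide +kernel

theorem sl_4593 : allRange 82674 18 (fun u => chkSlp tab slp u) = true := by decide +kernel

theorem sl_4594 : allRange 82692 18 (fun u => chkSlp tab slp u) = true := by decide +kernel

theorem sl_4595 : allRange 82710 18 (fun u => chkSlp tab slp u) = true := by decide +kernel

theorem sl_4596 : allRange 82728 18 (fun u => chkSlp tab slp u) = true := by decide +kernel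

theorem sl_4597 : allRange 82746 18 (fun u => chkSlp tab slp u) = true := by decide +kernel

theorem sl_4598 : allRange 82764 18 (fun u => chkSlp tab slp u) = true := by decide +kernel

theorem sl_4599 : allRange 82782 18 (fun u => chkSlp tab slp u) = true := by decide +kernel


end Cfsg.Agent.Helper9.TCData.ONC0
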