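import Cfsg.Agent.Lib.Helper9.TCData.ONC0.Main

set_option autoImplicit false
set_option maxRecDepth 1000000

namespace Cfsg.Agent.Helper9.TCData.ONC0
open Cfsg.Agent.Helper9.TC2

theorem sl_4600 : allRange 82800 18 (fun u => chkSlp tab slp u) = true := by decide +kernel

theorem sl_4601 : allRange 82818 18 (fun u => chkSlp tab slp u) = true := by decide +kernel

theorem sl_4602 : allRange 82836 18 (fun u => chkSlp tab slp u) = true := by decide +kernel

theorem sl_4603 : allRange 82854 18 (fun u => chkSlp tab slp u) = true := by decide +kernel

theorem sl_4604 : allRange 82872 18 (fun u => chkSlp tab slp u) = true := by decide +kernel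

theorem sl_4605 : allRange 82890 18 (fun u => chkSlp tab slp u) = true := by decide +kernel

theorem sl_4606 : allRange 82908 18 (fun u => chkSlp tab slp u) = true := by decide +kernel

theorem sl_4607 : allRange 82926 18 (fun u => chkSlp tab slp u) = true := by decide +kernel


end Cfsg.Agent.Helper9.TCData.ONC0
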