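import Cfsg.Agent.Lib.Helper9.TCData.ONC0.Main

set_option autoImplicit false
set_option maxRecDepth 1000000

namespace Cfsg.Agent.Helper9.TCData.ONC0
open Cfsg.Agent.Helper9.TC2

theorem sl_4608 : allRange 82944 18 (fun u => chkSlp tab slp u) = true := by decide +kernel

theorem sl_4609 : allRange 82962 18 (fun u => chkSlp tab slp u) = true := by decide +kernel

theorem sl_4610 : allRange 82980 18 (fun u => chkSlp tab slp u) = true := by decide +kernel

theorem sl_4611 : allRange 82998 18 (fun u => chkSlp tab slp u) = true := by decide +kernel

theorem sl_4612 : allRange 83016 18 (fun u => chkSlp tab slp u) = true := by decide +kernel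

theorem sl_4613 : allRange 83034 18 (fun u => chkSlp tab slp u) = true := by decide +kernel

theorem sl_4614 : allRange 83052 18 (fun u => chkSlp tab slp u) = true := by decide +kernel

theorem sl_4615 : allRange 83070 18 (fun u => chkSlp tab slp u) = true := by decide +kernel


end Cfsg.Agent.Helper9.TCData.ONC0
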