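import Cfsg.Agent.Lib.Helper9.TCData.ONC0.Main

set_option autoImplicit false
set_option maxRecDepth 1000000

namespace Cfsg.Agent.Helper9.TCData.ONC0
open Cfsg.Agent.Helper9.TC2

theorem sl_4624 : allRange 83232 18 (fun u => chkSlp tab slp u) = true := by decide +kernel

theorem sl_4625 : allRange 83250 18 (fun u => chkSlp tab slp u) = true := by decide +kernel

theorem sl_4626 : allRange 83268 18 (fun u => chkSlp tab slp u) = true := by decide +kernel

theorem sl_4627 : allRange 83286 18 (fun u => chkSlp tab slp u) = true := by decide +kernel

theorem sl_4628 : allRange 83304 18 (fun u => chkSlp tab slp u) = true := by decide +kernel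

theorem sl_4629 : allRange 83322 18 (fun u => chkSlp tab slp u) = true := by decide +kernel

theorem sl_4630 : allRange 83340 18 (fun u => chkSlp tab slp u) = true := by decide +kernel

theorem sl_4631 : allRange 83358 18 (fun u => chkSlp tab slp u) = true := by decide +kernel


end Cfsg.Agent.Helper9.TCData.ONC0
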