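import Cfsg.Agent.Lib.Helper9.TCData.ONC0.Main

set_option autoImplicit false
set_option maxRecDepth 1000000

namespace Cfsg.Agent.Helper9.TCData.ONC0
open Cfsg.Agent.Helper9.TC2

theorem sl_4632 : allRange 83376 18 (fun u => chkSlp tab slp u) = true := by decide +kernel

theorem sl_4633 : allRange 83394 18 (fun u => chkSlp tab slp u) = true := by decide +kernel

theorem sl_4634 : allRange 83412 18 (fun u => chkSlp tab slp u) = true := by decide +kernel

theorem sl_4635 : allRange 83430 18 (fun u => chkSlp tab slp u) = true := by decide +kernel

theorem sl_4636 : allRange 83448 18 (fun u => chkSlp tab slp u) = true := by decide +kernel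

theorem sl_4637 : allRange 83466 18 (fun u => chkSlp tab slp u) = true := by decide +kernel

theorem sl_4638 : allRange 83484 18 (fun u => chkSlp tab slp u) = true := by decide +kernel

theorem sl_4639 : allRange 83502 18 (fun u => chkSlp tab slp u) = true := by decide +kernel


end Cfsg.Agent.Helper9.TCData.ONC0
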