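import Cfsg.Agent.Lib.Helper9.TCData.ONC0.Main

set_option autoImplicit false
set_option maxRecDepth 1000000

namespace Cfsg.Agent.Helper9.TCData.ONC0
open Cfsg.Agent.Helper9.TC2

theorem sl_4648 : allRange 83664 18 (fun u => chkSlp tab slp u) = true := by decide +kernel

theorem sl_4649 : allRange 83682 18 (fun u => chkSlp tab slp u) = true := by decide +kernel

theorem sl_4650 : allRange 83700 18 (fun u => chkSlp tab slp u) = true := by decide +kernel

theorem sl_4651 : allRange 83718 18 (fun u => chkSlp tab slp u) = true := by decide +kernel

theorem sl_4652 : allRange 83736 18 (fun u => chkSlp tab slp u) = true := by decide +kernel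

theorem sl_4653 : allRange 83754 18 (fun u => chkSlp tab slp u) = true := by decide +kernel

theorem sl_4654 : allRange 83772 18 (fun u => chkSlp tab slp u) = true := by decide +kernel

theorem sl_4655 : allRange 83790 18 (fun u => chkSlp tab slp u) = true := by decide +kernel


end Cfsg.Agent.Helper9.TCData.ONC0
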