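import Cfsg.Agent.Lib.Helper9.TCData.ONC0.Main

set_option autoImplicit false
set_option maxRecDepth 1000000

namespace Cfsg.Agent.Helper9.TCData.ONC0
open Cfsg.Agent.Helper9.TC2

theorem sl_4656 : allRange 83808 18 (fun u => chkSlp tab slp u) = true := by decide +kernel

theorem sl_4657 : allRange 83826 18 (fun u => chkSlp tab slp u) = true := by decide +kernel

theorem sl_4658 : allRange 83844 18 (fun u => chkSlp tab slp u) = true := by decide +kernel

theorem sl_4659 : allRange 83862 18 (fun u => chkSlp tab slp u) = true := by decide +kernel

theorem sl_4660 : allRange 83880 18 (fun u => chkSlp tab slp u) = true := by decide +kernel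

theorem sl_4661 : allRange 83898 18 (fun u => chkSlp tab slp u) = true := by decide +kernel

theorem sl_4662 : allRange 83916 18 (fun u => chkSlp tab slp u) = true := by decide +kernel

theorem sl_4663 : allRange 83934 18 (fun u => chkSlp tab slp u) = true := by decide +kernel


end Cfsg.Agent.Helper9.TCData.ONC0
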