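import Cfsg.Agent.Lib.Helper9.TCData.ONC0.Main

set_option autoImplicit false
set_option maxRecDepth 1000000

namespace Cfsg.Agent.Helper9.TCData.ONC0
open Cfsg.Agent.Helper9.TC2

theorem sl_4664 : allRange 83952 18 (fun u => chkSlp tab slp u) = true := by decide +kernel

theorem sl_4665 : allRange 83970 18 (fun u => chkSlp tab slp u) = true := by decide +kernel

theorem sl_4666 : allRange 83988 18 (fun u => chkSlp tab slp u) = true := by decide +kernel

theorem sl_4667 : allRange 84006 18 (fun u => chkSlp tab slp u) = true := by decide +kernel

theorem sl_4668 : allRange 84024 18 (fun u => chkSlp tab slp u) = true := by decide +kernel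

theorem sl_4669 : allRange 84042 18 (fun u => chkSlp tab slp u) = true := by decide +kernel

theorem sl_4670 : allRange 84060 18 (fun u => chkSlp tab slp u) = true := by decide +kernel

theorem sl_4671 : allRange 84078 18 (fun u => chkSlp tab slp u) = true := by decide +kernel


end Cfsg.Agent.Helper9.TCData.ONC0
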