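import Cfsg.Agent.Lib.Helper9.TCData.ONC0.Main

set_option autoImplicit false
set_option maxRecDepth 1000000

namespace Cfsg.Agent.Helper9.TCData.ONC0
open Cfsg.Agent.Helper9.TC2

theorem f_128 : allRange 39424 308 (fun u => chkFin tab u) = true := by decide +kernel

theorem f_129 : allRange 39732 308 (fun u => chkFin tab u) = true := by decide +kernel

theorem f_130 : allRange 40040 308 (fun u => chkFin tab u) = true := by decide +kernel

theorem f_131 : allRange 40348 308 (fun u => chkFin tab u) = true := by decide +kernel

theorem f_132 : allRange 40656 308 (fun u => chkFin tab u) = true := by decide +kernel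

theorem f_133 : allRange 40964 308 (fun u => chkFin tab u) = true := by decide +kernel

theorem f_134 : allRange 41272 308 (fun u => chkFin tab u) = true := by decide +kernel

theorem f_135 : allRange 41580 308 (fun u => chkFin tab u) = true := by decide +kernel


end Cfsg.Agent.Helper9.TCData.ONC0
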