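import Cfsg.Agent.Lib.Helper9.TCData.ONC0.Main

set_option autoImplicit false
set_option maxRecDepth 1000000

namespace Cfsg.Agent.Helper9.TCData.ONC0
open Cfsg.Agent.Helper9.TC2

theorem sl_4688 : allRange 84384 18 (fun u => chkSlp tab slp u) = true := by decide +kernel

theorem sl_4689 : allRange 84402 18 (fun u => chkSlp tab slp u) = true := by decide +kernel

theorem sl_4690 : allRange 84420 18 (fun u => chkSlp tab slp u) = true := by decide +kernel

theorem sl_4691 : allRange 84438 18 (fun u => chkSlp tab slp u) = true := by decide +kernel

theorem sl_4692 : allRange 84456 18 (fun u => chkSlp tab slp u) = true := by decide +kernel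

theorem sl_4693 : allRange 84474 18 (fun u => chkSlp tab slp u) = true := by decide +kernel

theorem sl_4694 : allRange 84492 18 (fun u => chkSlp tab slp u) = true := by decide +kernel

theorem sl_4695 : allRange 84510 18 (fun u => chkSlp tab slp u) = true := by decide +kernel


end Cfsg.Agent.Helper9.TCData.ONC0
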