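import Cfsg.Agent.Lib.Helper9.TCData.ONC0.Main

set_option autoImplicit false
set_option maxRecDepth 1000000

namespace Cfsg.Agent.Helper9.TCData.ONC0
open Cfsg.Agent.Helper9.TC2

theorem sl_4696 : allRange 84528 18 (fun u => chkSlp tab slp u) = true := by decide +kernel

theorem sl_4697 : allRange 84546 18 (fun u => chkSlp tab slp u) = true := by decide +kernel

theorem sl_4698 : allRange 84564 18 (fun u => chkSlp tab slp u) = true := by decide +kernel

theorem sl_4699 : allRange 84582 18 (fun u => chkSlp tab slp u) = true := by decide +kernel

theorem sl_4700 : allRange 84600 18 (fun u => chkSlp tab slp u) = true := by decide +kernel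

theorem sl_4701 : allRange 84618 18 (fun u => chkSlp tab slp u) = true := by decide +kernel

theorem sl_4702 : allRange 84636 18 (fun u => chkSlp tab slp u) = true := by decide +kernel

theorem sl_4703 : allRange 84654 18 (fun u => chkSlp tab slp u) = true := by decide +kernel


end Cfsg.Agent.Helper9.TCData.ONC0
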