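import Cfsg.Agent.Lib.Helper9.TCData.ONC0.Main

set_option autoImplicit false
set_option maxRecDepth 1000000

namespace Cfsg.Agent.Helper9.TCData.ONC0
open Cfsg.Agent.Helper9.TC2

theorem sl_4728 : allRange 85104 18 (fun u => chkSlp tab slp u) = true := by decide +kernel

theorem sl_4729 : allRange 85122 18 (fun u => chkSlp tab slp u) = true := by decide +kernel

theorem sl_4730 : allRange 85140 18 (fun u => chkSlp tab slp u) = true := by decide +kernel

theorem sl_4731 : allRange 85158 18 (fun u => chkSlp tab slp u) = true := by decide +kernel

theorem sl_4732 : allRange 85176 18 (fun u => chkSlp tab slp u) = true := by decide +kernel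

theorem sl_4733 : allRange 85194 18 (fun u => chkSlp tab slp u) = true := by decide +kernel

theorem sl_4734 : allRange 85212 18 (fun u => chkSlp tab slp u) = true := by decide +kernel

theorem sl_4735 : allRange 85230 18 (fun u => chkSlp tab slp u) = true := by decide +kernel


end Cfsg.Agent.Helper9.TCData.ONC0
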