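import Cfsg.Agent.Lib.Helper9.TCData.ONC0.Main

set_option autoImplicit false
set_option maxRecDepth 1000000

namespace Cfsg.Agent.Helper9.TCData.ONC0
open Cfsg.Agent.Helper9.TC2

theorem sl_4736 : allRange 85248 18 (fun u => chkSlp tab slp u) = true := by decide +kernel

theorem sl_4737 : allRange 85266 18 (fun u => chkSlp tab slp u) = true := by decide +kernel

theorem sl_4738 : allRange 85284 18 (fun u => chkSlp tab slp u) = true := by decide +kernel

theorem sl_4739 : allRange 85302 18 (fun u => chkSlp tab slp u) = true := by decide +kernel

theorem sl_4740 : allRange 85320 18 (fun u => chkSlp tab slp u) = true := by decide +kernel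

theorem sl_4741 : allRange 85338 18 (fun u => chkSlp tab slp u) = true := by decide +kernel

theorem sl_4742 : allRange 85356 18 (fun u => chkSlp tab slp u) = true := by decide +kernel

theorem sl_4743 : allRange 85374 18 (fun u => chkSlp tab slp u) = true := by decide +kernel


end Cfsg.Agent.Helper9.TCData.ONC0
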