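import Cfsg.Agent.Lib.Helper9.TCData.ONC0.Main

set_option autoImplicit false
set_option maxRecDepth 1000000

namespace Cfsg.Agent.Helper9.TCData.ONC0
open Cfsg.Agent.Helper9.TC2

theorem sl_4752 : allRange 85536 18 (fun u => chkSlp tab slp u) = true := by decide +kernel

theorem sl_4753 : allRange 85554 18 (fun u => chkSlp tab slp u) = true := by decide +kernel

theorem sl_4754 : allRange 85572 18 (fun u => chkSlp tab slp u) = true := by decide +kernel

theorem sl_4755 : allRange 85590 18 (fun u => chkSlp tab slp u) = true := by decide +kernel

theorem sl_4756 : allRange 85608 18 (fun u => chkSlp tab slp u) = true := by decide +kernel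

theorem sl_4757 : allRange 85626 18 (fun u => chkSlp tab slp u) = true := by decide +kernel

theorem sl_4758 : allRange 85644 18 (fun u => chkSlp tab slp u) = true := by decide +kernel

theorem sl_4759 : allRange 85662 18 (fun u => chkSlp tab slp u) = true := by decide +kernel


end Cfsg.Agent.Helper9.TCData.ONC0
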