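import Cfsg.Agent.Lib.Helper9.TCData.ONC0.Main

set_option autoImplicit false
set_option maxRecDepth 1000000

namespace Cfsg.Agent.Helper9.TCData.ONC0
open Cfsg.Agent.Helper9.TC2

theorem f_136 : allRange 41888 308 (fun u => chkFin tab u) = true := by decide +kernel

theorem f_137 : allRange 42196 308 (fun u => chkFin tab u) = true := by decide +kernel

theorem f_138 : allRange 42504 308 (fun u => chkFin tab u) = true := by decide +kernel

theorem f_139 : allRange 42812 308 (fun u => chkFin tab u) = true := by decide +kernel

theorem f_140 : allRange 43120 308 (fun u => chkFin tab u) = true := by decide +kernel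

theorem f_141 : allRange 43428 308 (fun u => chkFin tab u) = true := by decide +kernel

theorem f_142 : allRange 43736 308 (fun u => chkFin tab u) = true := by decide +kernel

theorem f_143 : allRange 44044 308 (fun u => chkFin tab u) = true := by decide +kernel


end Cfsg.Agent.Helper9.TCData.ONC0
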