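import Cfsg.Agent.Lib.Helper9.TCData.ONC0.Main

set_option autoImplicit false
set_option maxRecDepth 1000000

namespace Cfsg.Agent.Helper9.TCData.ONC0
open Cfsg.Agent.Helper9.TC2

theorem sl_4760 : allRange 85680 18 (fun u => chkSlp tab slp u) = true := by decide +kernel

theorem sl_4761 : allRange 85698 18 (fun u => chkSlp tab slp u) = true := by decide +kernel

theorem sl_4762 : allRange 85716 18 (fun u => chkSlp tab slp u) = true := by decide +kernel

theorem sl_4763 : allRange 85734 18 (fun u => chkSlp tab slp u) = true := by decide +kernel

theorem sl_4764 : allRange 85752 18 (fun u => chkSlp tab slp u) = true := by decide +kernel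

theorem sl_4765 : allRange 85770 18 (fun u => chkSlp tab slp u) = true := by decide +kernel

theorem sl_4766 : allRange 85788 18 (fun u => chkSlp tab slp u) = true := by decide +kernel

theorem sl_4767 : allRange 85806 18 (fun u => chkSlp tab slp u) = true := by decide +kernel


end Cfsg.Agent.Helper9.TCData.ONC0
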