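import Cfsg.Agent.Lib.Helper9.TCData.ONC0.Main

set_option autoImplicit false
set_option maxRecDepth 1000000

namespace Cfsg.Agent.Helper9.TCData.ONC0
open Cfsg.Agent.Helper9.TC2

theorem sl_4776 : allRange 85968 18 (fun u => chkSlp tab slp u) = true := by decide +kernel

theorem sl_4777 : allRange 85986 18 (fun u => chkSlp tab slp u) = true := by decide +kernel

theorem sl_4778 : allRange 86004 18 (fun u => chkSlp tab slp u) = true := by decide +kernel

theorem sl_4779 : allRange 86022 18 (fun u => chkSlp tab slp u) = true := by decide +kernel

theorem sl_4780 : allRange 86040 18 (fun u => chkSlp tab slp u) = true := by decide +kernel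

theorem sl_4781 : allRange 86058 18 (fun u => chkSlp tab slp u) = true := by decide +kernel

theorem sl_4782 : allRange 86076 18 (fun u => chkSlp tab slp u) = true := by decide +kernel

theorem sl_4783 : allRange 86094 18 (fun u => chkSlp tab slp u) = true := by decide +kernel


end Cfsg.Agent.Helper9.TCData.ONC0
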