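import Cfsg.Agent.Lib.Helper9.TCData.ONC0.Main

set_option autoImplicit false
set_option maxRecDepth 1000000

namespace Cfsg.Agent.Helper9.TCData.ONC0
open Cfsg.Agent.Helper9.TC2

theorem sl_4784 : allRange 86112 18 (fun u => chkSlp tab slp u) = true := by decide +kernel

theorem sl_4785 : allRange 86130 18 (fun u => chkSlp tab slp u) = true := by decide +kernel

theorem sl_4786 : allRange 86148 18 (fun u => chkSlp tab slp u) = true := by decide +kernel

theorem sl_4787 : allRange 86166 18 (fun u => chkSlp tab slp u) = true := by decide +kernel

theorem sl_4788 : allRange 86184 18 (fun u => chkSlp tab slp u) = true := by decide +kernel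

theorem sl_4789 : allRange 86202 18 (fun u => chkSlp tab slp u) = true := by decide +kernel

theorem sl_4790 : allRange 86220 18 (fun u => chkSlp tab slp u) = true := by decide +kernel

theorem sl_4791 : allRange 86238 18 (fun u => chkSlp tab slp u) = true := by decide +kernel


end Cfsg.Agent.Helper9.TCData.ONC0
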