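import Cfsg.Agent.Lib.Helper9.TCData.ONC0.Main

set_option autoImplicit false
set_option maxRecDepth 1000000

namespace Cfsg.Agent.Helper9.TCData.ONC0
open Cfsg.Agent.Helper9.TC2

theorem sl_4792 : allRange 86256 18 (fun u => chkSlp tab slp u) = true := by decide +kernel

theorem sl_4793 : allRange 86274 18 (fun u => chkSlp tab slp u) = true := by decide +kernel

theorem sl_4794 : allRange 86292 18 (fun u => chkSlp tab slp u) = true := by decide +kernel

theorem sl_4795 : allRange 86310 18 (fun u => chkSlp tab slp u) = true := by decide +kernel

theorem sl_4796 : allRange 86328 18 (fun u => chkSlp tab slp u) = true := by decide +kernel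

theorem sl_4797 : allRange 86346 18 (fun u => chkSlp tab slp u) = true := by decide +kernel

theorem sl_4798 : allRange 86364 18 (fun u => chkSlp tab slp u) = true := by decide +kernel

theorem sl_4799 : allRange 86382 18 (fun u => chkSlp tab slp u) = true := by decide +kernel


end Cfsg.Agent.Helper9.TCData.ONC0
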