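import Cfsg.Agent.Lib.Helper9.TCData.ONC0.Main

set_option autoImplicit false
set_option maxRecDepth 1000000

namespace Cfsg.Agent.Helper9.TCData.ONC0
open Cfsg.Agent.Helper9.TC2

theorem sl_4800 : allRange 86400 18 (fun u => chkSlp tab slp u) = true := by decide +kernel

theorem sl_4801 : allRange 86418 18 (fun u => chkSlp tab slp u) = true := by decide +kernel

theorem sl_4802 : allRange 86436 18 (fun u => chkSlp tab slp u) = true := by decide +kernel

theorem sl_4803 : allRange 86454 18 (fun u => chkSlp tab slp u) = true := by decide +kernel

theorem sl_4804 : allRange 86472 18 (fun u => chkSlp tab slp u) = true := by decide +kernel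

theorem sl_4805 : allRange 86490 18 (fun u => chkSlp tab slp u) = true := by decide +kernel

theorem sl_4806 : allRange 86508 18 (fun u => chkSlp tab slp u) = true := by decide +kernel

theorem sl_4807 : allRange 86526 18 (fun u => chkSlp tab slp u) = true := by decide +kernel


end Cfsg.Agent.Helper9.TCData.ONC0
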