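import Cfsg.Agent.Lib.Helper9.TCData.ONC0.Main

set_option autoImplicit false
set_option maxRecDepth 1000000

namespace Cfsg.Agent.Helper9.TCData.ONC0
open Cfsg.Agent.Helper9.TC2

theorem sl_4816 : allRange 86688 18 (fun u => chkSlp tab slp u) = true := by decide +kernel

theorem sl_4817 : allRange 86706 18 (fun u => chkSlp tab slp u) = true := by decide +kernel

theorem sl_4818 : allRange 86724 18 (fun u => chkSlp tab slp u) = true := by decide +kernel

theorem sl_4819 : allRange 86742 18 (fun u => chkSlp tab slp u) = true := by decide +kernel

theorem sl_4820 : allRange 86760 18 (fun u => chkSlp tab slp u) = true := by decide +kernel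

theorem sl_4821 : allRange 86778 18 (fun u => chkSlp tab slp u) = true := by decide +kernel

theorem sl_4822 : allRange 86796 18 (fun u => chkSlp tab slp u) = true := by decide +kernel

theorem sl_4823 : allRange 86814 18 (fun u => chkSlp tab slp u) = true := by decide +kernel


end Cfsg.Agent.Helper9.TCData.ONC0
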