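import Cfsg.Agent.Lib.Helper9.TCData.ONC0.Main

set_option autoImplicit false
set_option maxRecDepth 1000000

namespace Cfsg.Agent.Helper9.TCData.ONC0
open Cfsg.Agent.Helper9.TC2

theorem sl_4832 : allRange 86976 18 (fun u => chkSlp tab slp u) = true := by decide +kernel

theorem sl_4833 : allRange 86994 18 (fun u => chkSlp tab slp u) = true := by decide +kernel

theorem sl_4834 : allRange 87012 18 (fun u => chkSlp tab slp u) = true := by decide +kernel

theorem sl_4835 : allRange 87030 18 (fun u => chkSlp tab slp u) = true := by decide +kernel

theorem sl_4836 : allRange 87048 18 (fun u => chkSlp tab slp u) = true := by decide +kernel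

theorem sl_4837 : allRange 87066 18 (fun u => chkSlp tab slp u) = true := by decide +kernel

theorem sl_4838 : allRange 87084 18 (fun u => chkSlp tab slp u) = true := by decide +kernel

theorem sl_4839 : allRange 87102 18 (fun u => chkSlp tab slp u) = true := by decide +kernel


end Cfsg.Agent.Helper9.TCData.ONC0
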