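import Cfsg.Agent.Lib.Helper9.TCData.ONC0.Main

set_option autoImplicit false
set_option maxRecDepth 1000000

namespace Cfsg.Agent.Helper9.TCData.ONC0
open Cfsg.Agent.Helper9.TC2

theorem sl_4840 : allRange 87120 18 (fun u => chkSlp tab slp u) = true := by decide +kernel

theorem sl_4841 : allRange 87138 18 (fun u => chkSlp tab slp u) = true := by decide +kernel

theorem sl_4842 : allRange 87156 18 (fun u => chkSlp tab slp u) = true := by decide +kernel

theorem sl_4843 : allRange 87174 18 (fun u => chkSlp tab slp u) = true := by decide +kernel

theorem sl_4844 : allRange 87192 18 (fun u => chkSlp tab slp u) = true := by decide +kernel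

theorem sl_4845 : allRange 87210 18 (fun u => chkSlp tab slp u) = true := by decide +kernel

theorem sl_4846 : allRange 87228 18 (fun u => chkSlp tab slp u) = true := by decide +kernel

theorem sl_4847 : allRange 87246 18 (fun u => chkSlp tab slp u) = true := by decide +kernel


end Cfsg.Agent.Helper9.TCData.ONC0
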