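import Cfsg.Agent.Lib.Helper9.TCData.ONC0.Main

set_option autoImplicit false
set_option maxRecDepth 1000000

namespace Cfsg.Agent.Helper9.TCData.ONC0
open Cfsg.Agent.Helper9.TC2

theorem sl_4872 : allRange 87696 18 (fun u => chkSlp tab slp u) = true := by decide +kernel

theorem sl_4873 : allRange 87714 18 (fun u => chkSlp tab slp u) = true := by decide +kernel

theorem sl_4874 : allRange 87732 18 (fun u => chkSlp tab slp u) = true := by decide +kernel

theorem sl_4875 : allRange 87750 18 (fun u => chkSlp tab slp u) = true := by decide +kernel

theorem sl_4876 : allRange 87768 18 (fun u => chkSlp tab slp u) = true := by decide +kernel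

theorem sl_4877 : allRange 87786 18 (fun u => chkSlp tab slp u) = true := by decide +kernel

theorem sl_4878 : allRange 87804 18 (fun u => chkSlp tab slp u) = true := by decide +kernel

theorem sl_4879 : allRange 87822 18 (fun u => chkSlp tab slp u) = true := by decide +kernel


end Cfsg.Agent.Helper9.TCData.ONC0
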