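import Cfsg.Agent.Lib.Helper9.TCData.ONC0.Main

set_option autoImplicit false
set_option maxRecDepth 1000000

namespace Cfsg.Agent.Helper9.TCData.ONC0
open Cfsg.Agent.Helper9.TC2

theorem sl_4888 : allRange 87984 18 (fun u => chkSlp tab slp u) = true := by decide +kernel

theorem sl_4889 : allRange 88002 18 (fun u => chkSlp tab slp u) = true := by decide +kernel

theorem sl_4890 : allRange 88020 18 (fun u => chkSlp tab slp u) = true := by decide +kernel

theorem sl_4891 : allRange 88038 18 (fun u => chkSlp tab slp u) = true := by decide +kernel

theorem sl_4892 : allRange 88056 18 (fun u => chkSlp tab slp u) = true := by decide +kernel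

theorem sl_4893 : allRange 88074 18 (fun u => chkSlp tab slp u) = true := by decide +kernel

theorem sl_4894 : allRange 88092 18 (fun u => chkSlp tab slp u) = true := by decide +kernel

theorem sl_4895 : allRange 88110 18 (fun u => chkSlp tab slp u) = true := by decide +kernel


end Cfsg.Agent.Helper9.TCData.ONC0
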