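import Cfsg.Agent.Lib.Helper9.TCData.ONC0.Main

set_option autoImplicit false
set_option maxRecDepth 1000000

namespace Cfsg.Agent.Helper9.TCData.ONC0
open Cfsg.Agent.Helper9.TC2

theorem sl_4896 : allRange 88128 18 (fun u => chkSlp tab slp u) = true := by decide +kernel

theorem sl_4897 : allRange 88146 18 (fun u => chkSlp tab slp u) = true := by decide +kernel

theorem sl_4898 : allRange 88164 18 (fun u => chkSlp tab slp u) = true := by decide +kernel

theorem sl_4899 : allRange 88182 18 (fun u => chkSlp tab slp u) = true := by decide +kernel

theorem sl_4900 : allRange 88200 18 (fun u => chkSlp tab slp u) = true := by decide +kernel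

theorem sl_4901 : allRange 88218 18 (fun u => chkSlp tab slp u) = true := by decide +kernel

theorem sl_4902 : allRange 88236 18 (fun u => chkSlp tab slp u) = true := by decide +kernel

theorem sl_4903 : allRange 88254 18 (fun u => chkSlp tab slp u) = true := by decide +kernel


end Cfsg.Agent.Helper9.TCData.ONC0
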