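import Cfsg.Agent.Lib.Helper9.TCData.ONC0.Main

set_option autoImplicit false
set_option maxRecDepth 1000000

namespace Cfsg.Agent.Helper9.TCData.ONC0
open Cfsg.Agent.Helper9.TC2

theorem sl_4912 : allRange 88416 18 (fun u => chkSlp tab slp u) = true := by decide +kernel

theorem sl_4913 : allRange 88434 18 (fun u => chkSlp tab slp u) = true := by decide +kernel

theorem sl_4914 : allRange 88452 18 (fun u => chkSlp tab slp u) = true := by decide +kernel

theorem sl_4915 : allRange 88470 18 (fun u => chkSlp tab slp u) = true := by decide +kernel

theorem sl_4916 : allRange 88488 18 (fun u => chkSlp tab slp u) = true := by decide +kernel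

theorem sl_4917 : allRange 88506 18 (fun u => chkSlp tab slp u) = true := by decide +kernel

theorem sl_4918 : allRange 88524 18 (fun u => chkSlp tab slp u) = true := by decide +kernel

theorem sl_4919 : allRange 88542 18 (fun u => chkSlp tab slp u) = true := by decide +kernel


end Cfsg.Agent.Helper9.TCData.ONC0
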