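import Cfsg.Agent.Lib.Helper9.TCData.ONC0.Main

set_option autoImplicit false
set_option maxRecDepth 1000000

namespace Cfsg.Agent.Helper9.TCData.ONC0
open Cfsg.Agent.Helper9.TC2

theorem sl_4944 : allRange 88992 18 (fun u => chkSlp tab slp u) = true := by decide +kernel

theorem sl_4945 : allRange 89010 18 (fun u => chkSlp tab slp u) = true := by decide +kernel

theorem sl_4946 : allRange 89028 18 (fun u => chkSlp tab slp u) = true := by decide +kernel

theorem sl_4947 : allRange 89046 18 (fun u => chkSlp tab slp u) = true := by decide +kernel

theorem sl_4948 : allRange 89064 18 (fun u => chkSlp tab slp u) = true := by decide +kernel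

theorem sl_4949 : allRange 89082 18 (fun u => chkSlp tab slp u) = true := by decide +kernel

theorem sl_4950 : allRange 89100 18 (fun u => chkSlp tab slp u) = true := by decide +kernel

theorem sl_4951 : allRange 89118 18 (fun u => chkSlp tab slp u) = true := by decide +kernel


end Cfsg.Agent.Helper9.TCData.ONC0
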