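import Cfsg.Agent.Lib.Helper9.TCData.ONC0.Main

set_option autoImplicit false
set_option maxRecDepth 1000000

namespace Cfsg.Agent.Helper9.TCData.ONC0
open Cfsg.Agent.Helper9.TC2

theorem sl_4952 : allRange 89136 18 (fun u => chkSlp tab slp u) = true := by decide +kernel

theorem sl_4953 : allRange 89154 18 (fun u => chkSlp tab slp u) = true := by decide +kernel

theorem sl_4954 : allRange 89172 18 (fun u => chkSlp tab slp u) = true := by decide +kernel

theorem sl_4955 : allRange 89190 18 (fun u => chkSlp tab slp u) = true := by decide +kernel

theorem sl_4956 : allRange 89208 18 (fun u => chkSlp tab slp u) = true := by decide +kernel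

theorem sl_4957 : allRange 89226 18 (fun u => chkSlp tab slp u) = true := by decide +kernel

theorem sl_4958 : allRange 89244 18 (fun u => chkSlp tab slp u) = true := by decide +kernel

theorem sl_4959 : allRange 89262 18 (fun u => chkSlp tab slp u) = true := by decide +kernel


end Cfsg.Agent.Helper9.TCData.ONC0
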