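import Cfsg.Agent.Lib.Helper9.TCData.ONC0.Main

set_option autoImplicit false
set_option maxRecDepth 1000000

namespace Cfsg.Agent.Helper9.TCData.ONC0
open Cfsg.Agent.Helper9.TC2

theorem sl_4968 : allRange 89424 18 (fun u => chkSlp tab slp u) = true := by decide +kernel

theorem sl_4969 : allRange 89442 18 (fun u => chkSlp tab slp u) = true := by decide +kernel

theorem sl_4970 : allRange 89460 18 (fun u => chkSlp tab slp u) = true := by decide +kernel

theorem sl_4971 : allRange 89478 18 (fun u => chkSlp tab slp u) = true := by decide +kernel

theorem sl_4972 : allRange 89496 18 (fun u => chkSlp tab slp u) = true := by decide +kernel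

theorem sl_4973 : allRange 89514 18 (fun u => chkSlp tab slp u) = true := by decide +kernel

theorem sl_4974 : allRange 89532 18 (fun u => chkSlp tab slp u) = true := by decide +kernel

theorem sl_4975 : allRange 89550 18 (fun u => chkSlp tab slp u) = true := by decide +kernel


end Cfsg.Agent.Helper9.TCData.ONC0
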