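import Cfsg.Agent.Lib.Helper9.TCData.ONC0.Main

set_option autoImplicit false
set_option maxRecDepth 1000000

namespace Cfsg.Agent.Helper9.TCData.ONC0
open Cfsg.Agent.Helper9.TC2

theorem sl_4992 : allRange 89856 18 (fun u => chkSlp tab slp u) = true := by decide +kernel

theorem sl_4993 : allRange 89874 18 (fun u => chkSlp tab slp u) = true := by decide +kernel

theorem sl_4994 : allRange 89892 18 (fun u => chkSlp tab slp u) = true := by decide +kernel

theorem sl_4995 : allRange 89910 18 (fun u => chkSlp tab slp u) = true := by decide +kernel

theorem sl_4996 : allRange 89928 18 (fun u => chkSlp tab slp u) = true := by decide +kernel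

theorem sl_4997 : allRange 89946 18 (fun u => chkSlp tab slp u) = true := by decide +kernel

theorem sl_4998 : allRange 89964 18 (fun u => chkSlp tab slp u) = true := by decide +kernel

theorem sl_4999 : allRange 89982 18 (fun u => chkSlp tab slp u) = true := by decide +kernel


end Cfsg.Agent.Helper9.TCData.ONC0
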