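import Cfsg.Agent.Lib.Helper9.TCData.ONC0.S0
import Cfsg.Agent.Lib.Helper9.TCData.ONC0.S1
import Cfsg.Agent.Lib.Helper9.TCData.ONC0.S2
import Cfsg.Agent.Lib.Helper9.TCData.ONC0.S3
import Cfsg.Agent.Lib.Helper9.TCData.ONC0.S4
import Cfsg.Agent.Lib.Helper9.TCData.ONC0.S5
import Cfsg.Agent.Lib.Helper9.TCData.ONC0.S6
import Cfsg.Agent.Lib.Helper9.TCData.ONC0.S7
import Cfsg.Agent.Lib.Helper9.TCData.ONC0.S8
import Cfsg.Agent.Lib.Helper9.TCData.ONC0.S9
import Cfsg.Agent.Lib.Helper9.TCData.ONC0.S10
import Cfsg.Agent.Lib.Helper9.TCData.ONC0.S11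
import Cfsg.Agent.Lib.Helper9.TCData.ONC0.S12
import Cfsg.Agent.Lib.Helper9.TCData.ONC0.S13
import Cfsg.Agent.Lib.Helper9.TCData.ONC0.S14
import Cfsg.Agent.Lib.Helper9.TCData.ONC0.S15
import Cfsg.Agent.Lib.Helper9.TCData.ONC0.S16
import Cfsg.Agent.Lib.Helper9.TCData.ONC0.S17
import Cfsg.Agent.Lib.Helper9.TCData.ONC0.S18
import Cfsg.Agent.Lib.Helper9.TCData.ONC0.S19
import Cfsg.Agent.Lib.Helper9.TCData.ONC0.S20
import Cfsg.Agent.Lib.Helper9.TCData.ONC0.S21
import Cfsg.Agent.Lib.Helper9.TCData.ONC0.S22
import Cfsg.Agent.Lib.Helper9.TCData.ONC0.S23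
import Cfsg.Agent.Lib.Helper9.TCData.ONC0.S24
import Cfsg.Agent.Lib.Helper9.TCData.ONC0.S25
import Cfsg.Agent.Lib.Helper9.TCData.ONC0.S26
import Cfsg.Agent.Lib.Helper9.TCData.ONC0.S27
import Cfsg.Agent.Lib.Helper9.TCData.ONC0.S28
import Cfsg.Agent.Lib.Helper9.TCData.ONC0.S29
import Cfsg.Agent.Lib.Helper9.TCData.ONC0.S30
import Cfsg.Agent.Lib.Helper9.TCData.ONC0.S31
import Cfsg.Agent.Lib.Helper9.TCData.ONC0.S32
import Cfsg.Agent.Lib.Helper9.TCData.ONC0.S33
import Cfsg.Agent.Lib.Helper9.TCData.ONC0.S34
import Cfsg.Agent.Lib.Helper9.TCData.ONC0.S35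
import Cfsg.Agent.Lib.Helper9.TCData.ONC0.S36
import Cfsg.Agent.Lib.Helper9.TCData.ONC0.S37
import Cfsg.Agent.Lib.Helper9.TCData.ONC0.S38
import Cfsg.Agent.Lib.Helper9.TCData.ONC0.S39
import Cfsg.Agent.Lib.Helper9.TCData.ONC0.S40
import Cfsg.Agent.Lib.Helper9.TCData.ONC0.S41
import Cfsg.Agent.Lib.Helper9.TCData.ONC0.S42
import Cfsg.Agent.Lib.Helper9.TCData.ONC0.S43
import Cfsg.Agent.Lib.Helper9.TCData.ONC0.S44
import Cfsg.Agent.Lib.Helper9.TCData.ONC0.S45
import Cfsg.Agent.Lib.Helper9.TCData.ONC0.S46
import Cfsg.Agent.Lib.Helper9.TCData.ONC0.S47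
import Cfsg.Agent.Lib.Helper9.TCData.ONC0.S48
import Cfsg.Agent.Lib.Helper9.TCData.ONC0.S49
import Cfsg.Agent.Lib.Helper9.TCData.ONC0.S50
import Cfsg.Agent.Lib.Helper9.TCData.ONC0.S51
import Cfsg.Agent.Lib.Helper9.TCData.ONC0.S52
import Cfsg.Agent.Lib.Helper9.TCData.ONC0.S53
import Cfsg.Agent.Lib.Helper9.TCData.ONC0.S54
import Cfsg.Agent.Lib.Helper9.TCData.ONC0.S55
import Cfsg.Agent.Lib.Helper9.TCData.ONC0.S56
import Cfsg.Agent.Lib.Helper9.TCData.ONC0.S57
import Cfsg.Agent.Lib.Helper9.TCData.ONC0.S58
import Cfsg.Agent.Lib.Helper9.TCData.ONC0.S59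
import Cfsg.Agent.Lib.Helper9.TCData.ONC0.S60
import Cfsg.Agent.Lib.Helper9.TCData.ONC0.S61
import Cfsg.Agent.Lib.Helper9.TCData.ONC0.S62
import Cfsg.Agent.Lib.Helper9.TCData.ONC0.S63
import Cfsg.Agent.Lib.Helper9.TCData.ONC0.S64
import Cfsg.Agent.Lib.Helper9.TCData.ONC0.S65
import Cfsg.Agent.Lib.Helper9.TCData.ONC0.S66
import Cfsg.Agent.Lib.Helper9.TCData.ONC0.S67
import Cfsg.Agent.Lib.Helper9.TCData.ONC0.S68
import Cfsg.Agent.Lib.Helper9.TCData.ONC0.S69
import Cfsg.Agent.Lib.Helper9.TCData.ONC0.S70
import Cfsg.Agent.Lib.Helper9.TCData.ONC0.S71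
import Cfsg.Agent.Lib.Helper9.TCData.ONC0.S72
import Cfsg.Agent.Lib.Helper9.TCData.ONC0.S73
import Cfsg.Agent.Lib.Helper9.TCData.ONC0.S74
import Cfsg.Agent.Lib.Helper9.TCData.ONC0.S75
import Cfsg.Agent.Lib.Helper9.TCData.ONC0.S76
import Cfsg.Agent.Lib.Helper9.TCData.ONC0.S77
import Cfsg.Agent.Lib.Helper9.TCData.ONC0.S78
import Cfsg.Agent.Lib.Helper9.TCData.ONC0.S79
import Cfsg.Agent.Lib.Helper9.TCData.ONC0.S80
import Cfsg.Agent.Lib.Helper9.TCData.ONC0.S81
import Cfsg.Agent.Lib.Helper9.TCData.ONC0.S82
import Cfsg.Agent.Lib.Helper9.TCData.ONC0.S83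
import Cfsg.Agent.Lib.Helper9.TCData.ONC0.S84
import Cfsg.Agent.Lib.Helper9.TCData.ONC0.S85
import Cfsg.Agent.Lib.Helper9.TCData.ONC0.S86
import Cfsg.Agent.Lib.Helper9.TCData.ONC0.S87
import Cfsg.Agent.Lib.Helper9.TCData.ONC0.S88
import Cfsg.Agent.Lib.Helper9.TCData.ONC0.S89
import Cfsg.Agent.Lib.Helper9.TCData.ONC0.S90
import Cfsg.Agent.Lib.Helper9.TCData.ONC0.S91
import Cfsg.Agent.Lib.Helper9.TCData.ONC0.S92
import Cfsg.Agent.Lib.Helper9.TCData.ONC0.S93
import Cfsg.Agent.Lib.Helper9.TCData.ONC0.S94
import Cfsg.Agent.Lib.Helper9.TCData.ONC0.S95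
import Cfsg.Agent.Lib.Helper9.TCData.ONC0.S96
import Cfsg.Agent.Lib.Helper9.TCData.ONC0.S97
import Cfsg.Agent.Lib.Helper9.TCData.ONC0.S98
import Cfsg.Agent.Lib.Helper9.TCData.ONC0.S99
import Cfsg.Agent.Lib.Helper9.TCData.ONC0.S100
import Cfsg.Agent.Lib.Helper9.TCData.ONC0.S101
import Cfsg.Agent.Lib.Helper9.TCData.ONC0.S102
import Cfsg.Agent.Lib.Helper9.TCData.ONC0.S103
import Cfsg.Agent.Lib.Helper9.TCData.ONC0.S104
import Cfsg.Agent.Lib.Helper9.TCData.ONC0.S105
import Cfsg.Agent.Lib.Helper9.TCData.ONC0.S106
import Cfsg.Agent.Lib.Helper9.TCData.ONC0.S107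
import Cfsg.Agent.Lib.Helper9.TCData.ONC0.S108
import Cfsg.Agent.Lib.Helper9.TCData.ONC0.S109
import Cfsg.Agent.Lib.Helper9.TCData.ONC0.S110
import Cfsg.Agent.Lib.Helper9.TCData.ONC0.S111
import Cfsg.Agent.Lib.Helper9.TCData.ONC0.S112
import Cfsg.Agent.Lib.Helper9.TCData.ONC0.S113
import Cfsg.Agent.Lib.Helper9.TCData.ONC0.S114
import Cfsg.Agent.Lib.Helper9.TCData.ONC0.S115
import Cfsg.Agent.Lib.Helper9.TCData.ONC0.S116
import Cfsg.Agent.Lib.Helper9.TCData.ONC0.S117
import Cfsg.Agent.Lib.Helper9.TCData.ONC0.S118
import Cfsg.Agent.Lib.Helper9.TCData.ONC0.S119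
import Cfsg.Agent.Lib.Helper9.TCData.ONC0.S120
import Cfsg.Agent.Lib.Helper9.TCData.ONC0.S121
import Cfsg.Agent.Lib.Helper9.TCData.ONC0.S122
import Cfsg.Agent.Lib.Helper9.TCData.ONC0.S123
import Cfsg.Agent.Lib.Helper9.TCData.ONC0.S124
import Cfsg.Agent.Lib.Helper9.TCData.ONC0.S125
import Cfsg.Agent.Lib.Helper9.TCData.ONC0.S126
import Cfsg.Agent.Lib.Helper9.TCData.ONC0.S127
import Cfsg.Agent.Lib.Helper9.TCData.ONC0.S128
import Cfsg.Agent.Lib.Helper9.TCData.ONC0.S129
import Cfsg.Agent.Lib.Helper9.TCData.ONC0.S130
import Cfsg.Agent.Lib.Helper9.TCData.ONC0.S131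
import Cfsg.Agent.Lib.Helper9.TCData.ONC0.S132
import Cfsg.Agent.Lib.Helper9.TCData.ONC0.S133
import Cfsg.Agent.Lib.Helper9.TCData.ONC0.S134
import Cfsg.Agent.Lib.Helper9.TCData.ONC0.S135
import Cfsg.Agent.Lib.Helper9.TCData.ONC0.S136
import Cfsg.Agent.Lib.Helper9.TCData.ONC0.S137
import Cfsg.Agent.Lib.Helper9.TCData.ONC0.S138
import Cfsg.Agent.Lib.Helper9.TCData.ONC0.S139
import Cfsg.Agent.Lib.Helper9.TCData.ONC0.S140
import Cfsg.Agent.Lib.Helper9.TCData.ONC0.S141
import Cfsg.Agent.Lib.Helper9.TCData.ONC0.S142
import Cfsg.Agent.Lib.Helper9.TCData.ONC0.S143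
import Cfsg.Agent.Lib.Helper9.TCData.ONC0.S144
import Cfsg.Agent.Lib.Helper9.TCData.ONC0.S145
import Cfsg.Agent.Lib.Helper9.TCData.ONC0.S146
import Cfsg.Agent.Lib.Helper9.TCData.ONC0.S147
import Cfsg.Agent.Lib.Helper9.TCData.ONC0.S148
import Cfsg.Agent.Lib.Helper9.TCData.ONC0.S149
import Cfsg.Agent.Lib.Helper9.TCData.ONC0.S150
import Cfsg.Agent.Lib.Helper9.TCData.ONC0.S151
import Cfsg.Agent.Lib.Helper9.TCData.ONC0.S152
import Cfsg.Agent.Lib.Helper9.TCData.ONC0.S153
import Cfsg.Agent.Lib.Helper9.TCData.ONC0.S154
import Cfsg.Agent.Lib.Helper9.TCData.ONC0.S155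
import Cfsg.Agent.Lib.Helper9.TCData.ONC0.S156
import Cfsg.Agent.Lib.Helper9.TCData.ONC0.S157
import Cfsg.Agent.Lib.Helper9.TCData.ONC0.S158
import Cfsg.Agent.Lib.Helper9.TCData.ONC0.S159
import Cfsg.Agent.Lib.Helper9.TCData.ONC0.S160
import Cfsg.Agent.Lib.Helper9.TCData.ONC0.S161
import Cfsg.Agent.Lib.Helper9.TCData.ONC0.S162
import Cfsg.Agent.Lib.Helper9.TCData.ONC0.S163
import Cfsg.Agent.Lib.Helper9.TCData.ONC0.S164
import Cfsg.Agent.Lib.Helper9.TCData.ONC0.S165
import Cfsg.Agent.Lib.Helper9.TCData.ONC0.S166
import Cfsg.Agent.Lib.Helper9.TCData.ONC0.S167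
import Cfsg.Agent.Lib.Helper9.TCData.ONC0.S168
import Cfsg.Agent.Lib.Helper9.TCData.ONC0.S169
import Cfsg.Agent.Lib.Helper9.TCData.ONC0.S170
import Cfsg.Agent.Lib.Helper9.TCData.ONC0.S171
import Cfsg.Agent.Lib.Helper9.TCData.ONC0.S172
import Cfsg.Agent.Lib.Helper9.TCData.ONC0.S173
import Cfsg.Agent.Lib.Helper9.TCData.ONC0.S174
import Cfsg.Agent.Lib.Helper9.TCData.ONC0.S175
import Cfsg.Agent.Lib.Helper9.TCData.ONC0.S176
import Cfsg.Agent.Lib.Helper9.TCData.ONC0.S177
import Cfsg.Agent.Lib.Helper9.TCData.ONC0.S178
import Cfsg.Agent.Lib.Helper9.TCData.ONC0.S179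
import Cfsg.Agent.Lib.Helper9.TCData.ONC0.S180
import Cfsg.Agent.Lib.Helper9.TCData.ONC0.S181
import Cfsg.Agent.Lib.Helper9.TCData.ONC0.S182
import Cfsg.Agent.Lib.Helper9.TCData.ONC0.S183
import Cfsg.Agent.Lib.Helper9.TCData.ONC0.S184
import Cfsg.Agent.Lib.Helper9.TCData.ONC0.S185
import Cfsg.Agent.Lib.Helper9.TCData.ONC0.S186
import Cfsg.Agent.Lib.Helper9.TCData.ONC0.S187
import Cfsg.Agent.Lib.Helper9.TCData.ONC0.S188
import Cfsg.Agent.Lib.Helper9.TCData.ONC0.S189
import Cfsg.Agent.Lib.Helper9.TCData.ONC0.S190
import Cfsg.Agent.Lib.Helper9.TCData.ONC0.S191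
import Cfsg.Agent.Lib.Helper9.TCData.ONC0.S192
import Cfsg.Agent.Lib.Helper9.TCData.ONC0.S193
import Cfsg.Agent.Lib.Helper9.TCData.ONC0.S194
import Cfsg.Agent.Lib.Helper9.TCData.ONC0.S195
import Cfsg.Agent.Lib.Helper9.TCData.ONC0.S196
import Cfsg.Agent.Lib.Helper9.TCData.ONC0.S197
import Cfsg.Agent.Lib.Helper9.TCData.ONC0.S198
import Cfsg.Agent.Lib.Helper9.TCData.ONC0.S199
import Cfsg.Agent.Lib.Helper9.TCData.ONC0.S200
import Cfsg.Agent.Lib.Helper9.TCData.ONC0.S201
import Cfsg.Agent.Lib.Helper9.TCData.ONC0.S202
import Cfsg.Agent.Lib.Helper9.TCData.ONC0.S203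
import Cfsg.Agent.Lib.Helper9.TCData.ONC0.S204
import Cfsg.Agent.Lib.Helper9.TCData.ONC0.S205
import Cfsg.Agent.Lib.Helper9.TCData.ONC0.S206
import Cfsg.Agent.Lib.Helper9.TCData.ONC0.S207
import Cfsg.Agent.Lib.Helper9.TCData.ONC0.S208
import Cfsg.Agent.Lib.Helper9.TCData.ONC0.S209
import Cfsg.Agent.Lib.Helper9.TCData.ONC0.S210
import Cfsg.Agent.Lib.Helper9.TCData.ONC0.S211
import Cfsg.Agent.Lib.Helper9.TCData.ONC0.S212
import Cfsg.Agent.Lib.Helper9.TCData.ONC0.S213
import Cfsg.Agent.Lib.Helper9.TCData.ONC0.S214
import Cfsg.Agent.Lib.Helper9.TCData.ONC0.S215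
import Cfsg.Agent.Lib.Helper9.TCData.ONC0.S216
import Cfsg.Agent.Lib.Helper9.TCData.ONC0.S217
import Cfsg.Agent.Lib.Helper9.TCData.ONC0.S218
import Cfsg.Agent.Lib.Helper9.TCData.ONC0.S219
import Cfsg.Agent.Lib.Helper9.TCData.ONC0.S220
import Cfsg.Agent.Lib.Helper9.TCData.ONC0.S221
import Cfsg.Agent.Lib.Helper9.TCData.ONC0.S222
import Cfsg.Agent.Lib.Helper9.TCData.ONC0.S223
import Cfsg.Agent.Lib.Helper9.TCData.ONC0.S224
import Cfsg.Agent.Lib.Helper9.TCData.ONC0.S225
import Cfsg.Agent.Lib.Helper9.TCData.ONC0.S226
import Cfsg.Agent.Lib.Helper9.TCData.ONC0.S227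
import Cfsg.Agent.Lib.Helper9.TCData.ONC0.S228
import Cfsg.Agent.Lib.Helper9.TCData.ONC0.S229
import Cfsg.Agent.Lib.Helper9.TCData.ONC0.S230
import Cfsg.Agent.Lib.Helper9.TCData.ONC0.S231
import Cfsg.Agent.Lib.Helper9.TCData.ONC0.S232
import Cfsg.Agent.Lib.Helper9.TCData.ONC0.S233
import Cfsg.Agent.Lib.Helper9.TCData.ONC0.S234
import Cfsg.Agent.Lib.Helper9.TCData.ONC0.S235
import Cfsg.Agent.Lib.Helper9.TCData.ONC0.S236
import Cfsg.Agent.Lib.Helper9.TCData.ONC0.S237
import Cfsg.Agent.Lib.Helper9.TCData.ONC0.S238
import Cfsg.Agent.Lib.Helper9.TCData.ONC0.S239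
import Cfsg.Agent.Lib.Helper9.TCData.ONC0.S240
import Cfsg.Agent.Lib.Helper9.TCData.ONC0.S241
import Cfsg.Agent.Lib.Helper9.TCData.ONC0.S242
import Cfsg.Agent.Lib.Helper9.TCData.ONC0.S243
import Cfsg.Agent.Lib.Helper9.TCData.ONC0.S244
import Cfsg.Agent.Lib.Helper9.TCData.ONC0.S245
import Cfsg.Agent.Lib.Helper9.TCData.ONC0.S246
import Cfsg.Agent.Lib.Helper9.TCData.ONC0.S247
import Cfsg.Agent.Lib.Helper9.TCData.ONC0.S248
import Cfsg.Agent.Lib.Helper9.TCData.ONC0.S249
import Cfsg.Agent.Lib.Helper9.TCData.ONC0.S250
import Cfsg.Agent.Lib.Helper9.TCData.ONC0.S251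
import Cfsg.Agent.Lib.Helper9.TCData.ONC0.S252
import Cfsg.Agent.Lib.Helper9.TCData.ONC0.S253
import Cfsg.Agent.Lib.Helper9.TCData.ONC0.S254
import Cfsg.Agent.Lib.Helper9.TCData.ONC0.S255
import Cfsg.Agent.Lib.Helper9.TCData.ONC0.S256
import Cfsg.Agent.Lib.Helper9.TCData.ONC0.S257
import Cfsg.Agent.Lib.Helper9.TCData.ONC0.S258
import Cfsg.Agent.Lib.Helper9.TCData.ONC0.S259
import Cfsg.Agent.Lib.Helper9.TCData.ONC0.S260
import Cfsg.Agent.Lib.Helper9.TCData.ONC0.S261
import Cfsg.Agent.Lib.Helper9.TCData.ONC0.S262
import Cfsg.Agent.Lib.Helper9.TCData.ONC0.S263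
import Cfsg.Agent.Lib.Helper9.TCData.ONC0.S264
import Cfsg.Agent.Lib.Helper9.TCData.ONC0.S265
import Cfsg.Agent.Lib.Helper9.TCData.ONC0.S266
import Cfsg.Agent.Lib.Helper9.TCData.ONC0.S267
import Cfsg.Agent.Lib.Helper9.TCData.ONC0.S268
import Cfsg.Agent.Lib.Helper9.TCData.ONC0.S269
import Cfsg.Agent.Lib.Helper9.TCData.ONC0.S270
import Cfsg.Agent.Lib.Helper9.TCData.ONC0.S271
import Cfsg.Agent.Lib.Helper9.TCData.ONC0.S272
import Cfsg.Agent.Lib.Helper9.TCData.ONC0.S273
import Cfsg.Agent.Lib.Helper9.TCData.ONC0.S274
import Cfsg.Agent.Lib.Helper9.TCData.ONC0.S275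
import Cfsg.Agent.Lib.Helper9.TCData.ONC0.S276
import Cfsg.Agent.Lib.Helper9.TCData.ONC0.S277
import Cfsg.Agent.Lib.Helper9.TCData.ONC0.S278
import Cfsg.Agent.Lib.Helper9.TCData.ONC0.S279
import Cfsg.Agent.Lib.Helper9.TCData.ONC0.S280
import Cfsg.Agent.Lib.Helper9.TCData.ONC0.S281
import Cfsg.Agent.Lib.Helper9.TCData.ONC0.S282
import Cfsg.Agent.Lib.Helper9.TCData.ONC0.S283
import Cfsg.Agent.Lib.Helper9.TCData.ONC0.S284
import Cfsg.Agent.Lib.Helper9.TCData.ONC0.S285
import Cfsg.Agent.Lib.Helper9.TCData.ONC0.S286
import Cfsg.Agent.Lib.Helper9.TCData.ONC0.S287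
import Cfsg.Agent.Lib.Helper9.TCData.ONC0.S288
import Cfsg.Agent.Lib.Helper9.TCData.ONC0.S289
import Cfsg.Agent.Lib.Helper9.TCData.ONC0.S290
import Cfsg.Agent.Lib.Helper9.TCData.ONC0.S291
import Cfsg.Agent.Lib.Helper9.TCData.ONC0.S292
import Cfsg.Agent.Lib.Helper9.TCData.ONC0.S293
import Cfsg.Agent.Lib.Helper9.TCData.ONC0.S294
import Cfsg.Agent.Lib.Helper9.TCData.ONC0.S295
import Cfsg.Agent.Lib.Helper9.TCData.ONC0.S296
import Cfsg.Agent.Lib.Helper9.TCData.ONC0.S297
import Cfsg.Agent.Lib.Helper9.TCData.ONC0.S298
import Cfsg.Agent.Lib.Helper9.TCData.ONC0.S299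
import Cfsg.Agent.Lib.Helper9.TCData.ONC0.S300
import Cfsg.Agent.Lib.Helper9.TCData.ONC0.S301
import Cfsg.Agent.Lib.Helper9.TCData.ONC0.S302
import Cfsg.Agent.Lib.Helper9.TCData.ONC0.S303
import Cfsg.Agent.Lib.Helper9.TCData.ONC0.S304
import Cfsg.Agent.Lib.Helper9.TCData.ONC0.S305
import Cfsg.Agent.Lib.Helper9.TCData.ONC0.S306
import Cfsg.Agent.Lib.Helper9.TCData.ONC0.S307
import Cfsg.Agent.Lib.Helper9.TCData.ONC0.S308
import Cfsg.Agent.Lib.Helper9.TCData.ONC0.S309
import Cfsg.Agent.Lib.Helper9.TCData.ONC0.S310
import Cfsg.Agent.Lib.Helper9.TCData.ONC0.S311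
import Cfsg.Agent.Lib.Helper9.TCData.ONC0.S312
import Cfsg.Agent.Lib.Helper9.TCData.ONC0.S313
import Cfsg.Agent.Lib.Helper9.TCData.ONC0.S314
import Cfsg.Agent.Lib.Helper9.TCData.ONC0.S315
import Cfsg.Agent.Lib.Helper9.TCData.ONC0.S316
import Cfsg.Agent.Lib.Helper9.TCData.ONC0.S317
import Cfsg.Agent.Lib.Helper9.TCData.ONC0.S318
import Cfsg.Agent.Lib.Helper9.TCData.ONC0.S319
import Cfsg.Agent.Lib.Helper9.TCData.ONC0.S320
import Cfsg.Agent.Lib.Helper9.TCData.ONC0.S321
import Cfsg.Agent.Lib.Helper9.TCData.ONC0.S322
import Cfsg.Agent.Lib.Helper9.TCData.ONC0.S323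
import Cfsg.Agent.Lib.Helper9.TCData.ONC0.S324
import Cfsg.Agent.Lib.Helper9.TCData.ONC0.S325
import Cfsg.Agent.Lib.Helper9.TCData.ONC0.S326
import Cfsg.Agent.Lib.Helper9.TCData.ONC0.S327
import Cfsg.Agent.Lib.Helper9.TCData.ONC0.S328
import Cfsg.Agent.Lib.Helper9.TCData.ONC0.S329
import Cfsg.Agent.Lib.Helper9.TCData.ONC0.S330
import Cfsg.Agent.Lib.Helper9.TCData.ONC0.S331
import Cfsg.Agent.Lib.Helper9.TCData.ONC0.S332
import Cfsg.Agent.Lib.Helper9.TCData.ONC0.S333
import Cfsg.Agent.Lib.Helper9.TCData.ONC0.S334
import Cfsg.Agent.Lib.Helper9.TCData.ONC0.S335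
import Cfsg.Agent.Lib.Helper9.TCData.ONC0.S336
import Cfsg.Agent.Lib.Helper9.TCData.ONC0.S337
import Cfsg.Agent.Lib.Helper9.TCData.ONC0.S338
import Cfsg.Agent.Lib.Helper9.TCData.ONC0.S339
import Cfsg.Agent.Lib.Helper9.TCData.ONC0.S340
import Cfsg.Agent.Lib.Helper9.TCData.ONC0.S341
import Cfsg.Agent.Lib.Helper9.TCData.ONC0.S342
import Cfsg.Agent.Lib.Helper9.TCData.ONC0.S343
import Cfsg.Agent.Lib.Helper9.TCData.ONC0.S344
import Cfsg.Agent.Lib.Helper9.TCData.ONC0.S345
import Cfsg.Agent.Lib.Helper9.TCData.ONC0.S346
import Cfsg.Agent.Lib.Helper9.TCData.ONC0.S347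
import Cfsg.Agent.Lib.Helper9.TCData.ONC0.S348
import Cfsg.Agent.Lib.Helper9.TCData.ONC0.S349
import Cfsg.Agent.Lib.Helper9.TCData.ONC0.S350
import Cfsg.Agent.Lib.Helper9.TCData.ONC0.S351
import Cfsg.Agent.Lib.Helper9.TCData.ONC0.S352
import Cfsg.Agent.Lib.Helper9.TCData.ONC0.S353
import Cfsg.Agent.Lib.Helper9.TCData.ONC0.S354
import Cfsg.Agent.Lib.Helper9.TCData.ONC0.S355
import Cfsg.Agent.Lib.Helper9.TCData.ONC0.S356
import Cfsg.Agent.Lib.Helper9.TCData.ONC0.S357
import Cfsg.Agent.Lib.Helper9.TCData.ONC0.S358
import Cfsg.Agent.Lib.Helper9.TCData.ONC0.S359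
import Cfsg.Agent.Lib.Helper9.TCData.ONC0.S360
import Cfsg.Agent.Lib.Helper9.TCData.ONC0.S361
import Cfsg.Agent.Lib.Helper9.TCData.ONC0.S362
import Cfsg.Agent.Lib.Helper9.TCData.ONC0.S363
import Cfsg.Agent.Lib.Helper9.TCData.ONC0.S364
import Cfsg.Agent.Lib.Helper9.TCData.ONC0.S365
import Cfsg.Agent.Lib.Helper9.TCData.ONC0.S366
import Cfsg.Agent.Lib.Helper9.TCData.ONC0.S367
import Cfsg.Agent.Lib.Helper9.TCData.ONC0.S368
import Cfsg.Agent.Lib.Helper9.TCData.ONC0.S369
import Cfsg.Agent.Lib.Helper9.TCData.ONC0.S370
import Cfsg.Agent.Lib.Helper9.TCData.ONC0.S371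
import Cfsg.Agent.Lib.Helper9.TCData.ONC0.S372
import Cfsg.Agent.Lib.Helper9.TCData.ONC0.S373
import Cfsg.Agent.Lib.Helper9.TCData.ONC0.S374
import Cfsg.Agent.Lib.Helper9.TCData.ONC0.S375
import Cfsg.Agent.Lib.Helper9.TCData.ONC0.S376
import Cfsg.Agent.Lib.Helper9.TCData.ONC0.S377
import Cfsg.Agent.Lib.Helper9.TCData.ONC0.S378
import Cfsg.Agent.Lib.Helper9.TCData.ONC0.S379
import Cfsg.Agent.Lib.Helper9.TCData.ONC0.S380
import Cfsg.Agent.Lib.Helper9.TCData.ONC0.S381
import Cfsg.Agent.Lib.Helper9.TCData.ONC0.S382
import Cfsg.Agent.Lib.Helper9.TCData.ONC0.S383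
import Cfsg.Agent.Lib.Helper9.TCData.ONC0.S384
import Cfsg.Agent.Lib.Helper9.TCData.ONC0.S385
import Cfsg.Agent.Lib.Helper9.TCData.ONC0.S386
import Cfsg.Agent.Lib.Helper9.TCData.ONC0.S387
import Cfsg.Agent.Lib.Helper9.TCData.ONC0.S388
import Cfsg.Agent.Lib.Helper9.TCData.ONC0.S389
import Cfsg.Agent.Lib.Helper9.TCData.ONC0.S390
import Cfsg.Agent.Lib.Helper9.TCData.ONC0.S391
import Cfsg.Agent.Lib.Helper9.TCData.ONC0.S392
import Cfsg.Agent.Lib.Helper9.TCData.ONC0.S393
import Cfsg.Agent.Lib.Helper9.TCData.ONC0.S394
import Cfsg.Agent.Lib.Helper9.TCData.ONC0.S395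
import Cfsg.Agent.Lib.Helper9.TCData.ONC0.S396
import Cfsg.Agent.Lib.Helper9.TCData.ONC0.S397
import Cfsg.Agent.Lib.Helper9.TCData.ONC0.S398
import Cfsg.Agent.Lib.Helper9.TCData.ONC0.S399
import Cfsg.Agent.Lib.Helper9.TCData.ONC0.S400
import Cfsg.Agent.Lib.Helper9.TCData.ONC0.S401
import Cfsg.Agent.Lib.Helper9.TCData.ONC0.S402
import Cfsg.Agent.Lib.Helper9.TCData.ONC0.S403
import Cfsg.Agent.Lib.Helper9.TCData.ONC0.S404
import Cfsg.Agent.Lib.Helper9.TCData.ONC0.S405
import Cfsg.Agent.Lib.Helper9.TCData.ONC0.S406
import Cfsg.Agent.Lib.Helper9.TCData.ONC0.S407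
import Cfsg.Agent.Lib.Helper9.TCData.ONC0.S408
import Cfsg.Agent.Lib.Helper9.TCData.ONC0.S409
import Cfsg.Agent.Lib.Helper9.TCData.ONC0.S410
import Cfsg.Agent.Lib.Helper9.TCData.ONC0.S411
import Cfsg.Agent.Lib.Helper9.TCData.ONC0.S412
import Cfsg.Agent.Lib.Helper9.TCData.ONC0.S413
import Cfsg.Agent.Lib.Helper9.TCData.ONC0.S414
import Cfsg.Agent.Lib.Helper9.TCData.ONC0.S415
import Cfsg.Agent.Lib.Helper9.TCData.ONC0.S416
import Cfsg.Agent.Lib.Helper9.TCData.ONC0.S417
import Cfsg.Agent.Lib.Helper9.TCData.ONC0.S418
import Cfsg.Agent.Lib.Helper9.TCData.ONC0.S419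
import Cfsg.Agent.Lib.Helper9.TCData.ONC0.S420
import Cfsg.Agent.Lib.Helper9.TCData.ONC0.S421
import Cfsg.Agent.Lib.Helper9.TCData.ONC0.S422
import Cfsg.Agent.Lib.Helper9.TCData.ONC0.S423
import Cfsg.Agent.Lib.Helper9.TCData.ONC0.S424
import Cfsg.Agent.Lib.Helper9.TCData.ONC0.S425
import Cfsg.Agent.Lib.Helper9.TCData.ONC0.S426
import Cfsg.Agent.Lib.Helper9.TCData.ONC0.S427
import Cfsg.Agent.Lib.Helper9.TCData.ONC0.S428
import Cfsg.Agent.Lib.Helper9.TCData.ONC0.S429
import Cfsg.Agent.Lib.Helper9.TCData.ONC0.S430
import Cfsg.Agent.Lib.Helper9.TCData.ONC0.S431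
import Cfsg.Agent.Lib.Helper9.TCData.ONC0.S432
import Cfsg.Agent.Lib.Helper9.TCData.ONC0.S433
import Cfsg.Agent.Lib.Helper9.TCData.ONC0.S434
import Cfsg.Agent.Lib.Helper9.TCData.ONC0.S435
import Cfsg.Agent.Lib.Helper9.TCData.ONC0.S436
import Cfsg.Agent.Lib.Helper9.TCData.ONC0.S437
import Cfsg.Agent.Lib.Helper9.TCData.ONC0.S438
import Cfsg.Agent.Lib.Helper9.TCData.ONC0.S439
import Cfsg.Agent.Lib.Helper9.TCData.ONC0.S440
import Cfsg.Agent.Lib.Helper9.TCData.ONC0.S441
import Cfsg.Agent.Lib.Helper9.TCData.ONC0.S442
import Cfsg.Agent.Lib.Helper9.TCData.ONC0.S443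
import Cfsg.Agent.Lib.Helper9.TCData.ONC0.S444
import Cfsg.Agent.Lib.Helper9.TCData.ONC0.S445
import Cfsg.Agent.Lib.Helper9.TCData.ONC0.S446
import Cfsg.Agent.Lib.Helper9.TCData.ONC0.S447
import Cfsg.Agent.Lib.Helper9.TCData.ONC0.S448
import Cfsg.Agent.Lib.Helper9.TCData.ONC0.S449
import Cfsg.Agent.Lib.Helper9.TCData.ONC0.S450
import Cfsg.Agent.Lib.Helper9.TCData.ONC0.S451
import Cfsg.Agent.Lib.Helper9.TCData.ONC0.S452
import Cfsg.Agent.Lib.Helper9.TCData.ONC0.S453
import Cfsg.Agent.Lib.Helper9.TCData.ONC0.S454
import Cfsg.Agent.Lib.Helper9.TCData.ONC0.S455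
import Cfsg.Agent.Lib.Helper9.TCData.ONC0.S456
import Cfsg.Agent.Lib.Helper9.TCData.ONC0.S457
import Cfsg.Agent.Lib.Helper9.TCData.ONC0.S458
import Cfsg.Agent.Lib.Helper9.TCData.ONC0.S459
import Cfsg.Agent.Lib.Helper9.TCData.ONC0.S460
import Cfsg.Agent.Lib.Helper9.TCData.ONC0.S461
import Cfsg.Agent.Lib.Helper9.TCData.ONC0.S462
import Cfsg.Agent.Lib.Helper9.TCData.ONC0.S463
import Cfsg.Agent.Lib.Helper9.TCData.ONC0.S464
import Cfsg.Agent.Lib.Helper9.TCData.ONC0.S465
import Cfsg.Agent.Lib.Helper9.TCData.ONC0.S466
import Cfsg.Agent.Lib.Helper9.TCData.ONC0.S467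
import Cfsg.Agent.Lib.Helper9.TCData.ONC0.S468
import Cfsg.Agent.Lib.Helper9.TCData.ONC0.S469
import Cfsg.Agent.Lib.Helper9.TCData.ONC0.S470
import Cfsg.Agent.Lib.Helper9.TCData.ONC0.S471
import Cfsg.Agent.Lib.Helper9.TCData.ONC0.S472
import Cfsg.Agent.Lib.Helper9.TCData.ONC0.S473
import Cfsg.Agent.Lib.Helper9.TCData.ONC0.S474
import Cfsg.Agent.Lib.Helper9.TCData.ONC0.S475
import Cfsg.Agent.Lib.Helper9.TCData.ONC0.S476
import Cfsg.Agent.Lib.Helper9.TCData.ONC0.S477
import Cfsg.Agent.Lib.Helper9.TCData.ONC0.S478
import Cfsg.Agent.Lib.Helper9.TCData.ONC0.S479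
import Cfsg.Agent.Lib.Helper9.TCData.ONC0.S480
import Cfsg.Agent.Lib.Helper9.TCData.ONC0.S481
import Cfsg.Agent.Lib.Helper9.TCData.ONC0.S482
import Cfsg.Agent.Lib.Helper9.TCData.ONC0.S483
import Cfsg.Agent.Lib.Helper9.TCData.ONC0.S484
import Cfsg.Agent.Lib.Helper9.TCData.ONC0.S485
import Cfsg.Agent.Lib.Helper9.TCData.ONC0.S486
import Cfsg.Agent.Lib.Helper9.TCData.ONC0.S487
import Cfsg.Agent.Lib.Helper9.TCData.ONC0.S488
import Cfsg.Agent.Lib.Helper9.TCData.ONC0.S489
import Cfsg.Agent.Lib.Helper9.TCData.ONC0.S490
import Cfsg.Agent.Lib.Helper9.TCData.ONC0.S491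
import Cfsg.Agent.Lib.Helper9.TCData.ONC0.S492
import Cfsg.Agent.Lib.Helper9.TCData.ONC0.S493
import Cfsg.Agent.Lib.Helper9.TCData.ONC0.S494
import Cfsg.Agent.Lib.Helper9.TCData.ONC0.S495
import Cfsg.Agent.Lib.Helper9.TCData.ONC0.S496
import Cfsg.Agent.Lib.Helper9.TCData.ONC0.S497
import Cfsg.Agent.Lib.Helper9.TCData.ONC0.S498
import Cfsg.Agent.Lib.Helper9.TCData.ONC0.S499
import Cfsg.Agent.Lib.Helper9.TCData.ONC0.S500
import Cfsg.Agent.Lib.Helper9.TCData.ONC0.S501
import Cfsg.Agent.Lib.Helper9.TCData.ONC0.S502
import Cfsg.Agent.Lib.Helper9.TCData.ONC0.S503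
import Cfsg.Agent.Lib.Helper9.TCData.ONC0.S504
import Cfsg.Agent.Lib.Helper9.TCData.ONC0.S505
import Cfsg.Agent.Lib.Helper9.TCData.ONC0.S506
import Cfsg.Agent.Lib.Helper9.TCData.ONC0.S507
import Cfsg.Agent.Lib.Helper9.TCData.ONC0.S508
import Cfsg.Agent.Lib.Helper9.TCData.ONC0.S509
import Cfsg.Agent.Lib.Helper9.TCData.ONC0.S510
import Cfsg.Agent.Lib.Helper9.TCData.ONC0.S511
import Cfsg.Agent.Lib.Helper9.TCData.ONC0.S512
import Cfsg.Agent.Lib.Helper9.TCData.ONC0.S513
import Cfsg.Agent.Lib.Helper9.TCData.ONC0.S514
import Cfsg.Agent.Lib.Helper9.TCData.ONC0.S515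
import Cfsg.Agent.Lib.Helper9.TCData.ONC0.S516
import Cfsg.Agent.Lib.Helper9.TCData.ONC0.S517
import Cfsg.Agent.Lib.Helper9.TCData.ONC0.S518
import Cfsg.Agent.Lib.Helper9.TCData.ONC0.S519
import Cfsg.Agent.Lib.Helper9.TCData.ONC0.S520
import Cfsg.Agent.Lib.Helper9.TCData.ONC0.S521
import Cfsg.Agent.Lib.Helper9.TCData.ONC0.S522
import Cfsg.Agent.Lib.Helper9.TCData.ONC0.S523
import Cfsg.Agent.Lib.Helper9.TCData.ONC0.S524
import Cfsg.Agent.Lib.Helper9.TCData.ONC0.S525
import Cfsg.Agent.Lib.Helper9.TCData.ONC0.S526
import Cfsg.Agent.Lib.Helper9.TCData.ONC0.S527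
import Cfsg.Agent.Lib.Helper9.TCData.ONC0.S528
import Cfsg.Agent.Lib.Helper9.TCData.ONC0.S529
import Cfsg.Agent.Lib.Helper9.TCData.ONC0.S530
import Cfsg.Agent.Lib.Helper9.TCData.ONC0.S531
import Cfsg.Agent.Lib.Helper9.TCData.ONC0.S532
import Cfsg.Agent.Lib.Helper9.TCData.ONC0.S533
import Cfsg.Agent.Lib.Helper9.TCData.ONC0.S534
import Cfsg.Agent.Lib.Helper9.TCData.ONC0.S535
import Cfsg.Agent.Lib.Helper9.TCData.ONC0.S536
import Cfsg.Agent.Lib.Helper9.TCData.ONC0.S537
import Cfsg.Agent.Lib.Helper9.TCData.ONC0.S538
import Cfsg.Agent.Lib.Helper9.TCData.ONC0.S539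
import Cfsg.Agent.Lib.Helper9.TCData.ONC0.S540
import Cfsg.Agent.Lib.Helper9.TCData.ONC0.S541
import Cfsg.Agent.Lib.Helper9.TCData.ONC0.S542
import Cfsg.Agent.Lib.Helper9.TCData.ONC0.S543
import Cfsg.Agent.Lib.Helper9.TCData.ONC0.S544
import Cfsg.Agent.Lib.Helper9.TCData.ONC0.S545
import Cfsg.Agent.Lib.Helper9.TCData.ONC0.S546
import Cfsg.Agent.Lib.Helper9.TCData.ONC0.S547
import Cfsg.Agent.Lib.Helper9.TCData.ONC0.S548
import Cfsg.Agent.Lib.Helper9.TCData.ONC0.S549
import Cfsg.Agent.Lib.Helper9.TCData.ONC0.S550
import Cfsg.Agent.Lib.Helper9.TCData.ONC0.S551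
import Cfsg.Agent.Lib.Helper9.TCData.ONC0.S552
import Cfsg.Agent.Lib.Helper9.TCData.ONC0.S553
import Cfsg.Agent.Lib.Helper9.TCData.ONC0.S554
import Cfsg.Agent.Lib.Helper9.TCData.ONC0.S555
import Cfsg.Agent.Lib.Helper9.TCData.ONC0.S556
import Cfsg.Agent.Lib.Helper9.TCData.ONC0.S557
import Cfsg.Agent.Lib.Helper9.TCData.ONC0.S558
import Cfsg.Agent.Lib.Helper9.TCData.ONC0.S559
import Cfsg.Agent.Lib.Helper9.TCData.ONC0.S560
import Cfsg.Agent.Lib.Helper9.TCData.ONC0.S561
import Cfsg.Agent.Lib.Helper9.TCData.ONC0.S562
import Cfsg.Agent.Lib.Helper9.TCData.ONC0.S563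
import Cfsg.Agent.Lib.Helper9.TCData.ONC0.S564
import Cfsg.Agent.Lib.Helper9.TCData.ONC0.S565
import Cfsg.Agent.Lib.Helper9.TCData.ONC0.S566
import Cfsg.Agent.Lib.Helper9.TCData.ONC0.S567
import Cfsg.Agent.Lib.Helper9.TCData.ONC0.S568
import Cfsg.Agent.Lib.Helper9.TCData.ONC0.S569
import Cfsg.Agent.Lib.Helper9.TCData.ONC0.S570
import Cfsg.Agent.Lib.Helper9.TCData.ONC0.S571
import Cfsg.Agent.Lib.Helper9.TCData.ONC0.S572
import Cfsg.Agent.Lib.Helper9.TCData.ONC0.S573
import Cfsg.Agent.Lib.Helper9.TCData.ONC0.S574
import Cfsg.Agent.Lib.Helper9.TCData.ONC0.S575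
import Cfsg.Agent.Lib.Helper9.TCData.ONC0.S576
import Cfsg.Agent.Lib.Helper9.TCData.ONC0.S577
import Cfsg.Agent.Lib.Helper9.TCData.ONC0.S578
import Cfsg.Agent.Lib.Helper9.TCData.ONC0.S579
import Cfsg.Agent.Lib.Helper9.TCData.ONC0.S580
import Cfsg.Agent.Lib.Helper9.TCData.ONC0.S581
import Cfsg.Agent.Lib.Helper9.TCData.ONC0.S582
import Cfsg.Agent.Lib.Helper9.TCData.ONC0.S583
import Cfsg.Agent.Lib.Helper9.TCData.ONC0.S584
import Cfsg.Agent.Lib.Helper9.TCData.ONC0.S585
import Cfsg.Agent.Lib.Helper9.TCData.ONC0.S586
import Cfsg.Agent.Lib.Helper9.TCData.ONC0.S587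
import Cfsg.Agent.Lib.Helper9.TCData.ONC0.S588
import Cfsg.Agent.Lib.Helper9.TCData.ONC0.S589
import Cfsg.Agent.Lib.Helper9.TCData.ONC0.S590
import Cfsg.Agent.Lib.Helper9.TCData.ONC0.S591
import Cfsg.Agent.Lib.Helper9.TCData.ONC0.S592
import Cfsg.Agent.Lib.Helper9.TCData.ONC0.S593
import Cfsg.Agent.Lib.Helper9.TCData.ONC0.S594
import Cfsg.Agent.Lib.Helper9.TCData.ONC0.S595
import Cfsg.Agent.Lib.Helper9.TCData.ONC0.S596
import Cfsg.Agent.Lib.Helper9.TCData.ONC0.S597
import Cfsg.Agent.Lib.Helper9.TCData.ONC0.S598
import Cfsg.Agent.Lib.Helper9.TCData.ONC0.S599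
import Cfsg.Agent.Lib.Helper9.TCData.ONC0.S600
import Cfsg.Agent.Lib.Helper9.TCData.ONC0.S601
import Cfsg.Agent.Lib.Helper9.TCData.ONC0.S602
import Cfsg.Agent.Lib.Helper9.TCData.ONC0.S603
import Cfsg.Agent.Lib.Helper9.TCData.ONC0.S604
import Cfsg.Agent.Lib.Helper9.TCData.ONC0.S605
import Cfsg.Agent.Lib.Helper9.TCData.ONC0.S606
import Cfsg.Agent.Lib.Helper9.TCData.ONC0.S607
import Cfsg.Agent.Lib.Helper9.TCData.ONC0.S608
import Cfsg.Agent.Lib.Helper9.TCData.ONC0.S609
import Cfsg.Agent.Lib.Helper9.TCData.ONC0.S610
import Cfsg.Agent.Lib.Helper9.TCData.ONC0.S611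
import Cfsg.Agent.Lib.Helper9.TCData.ONC0.S612
import Cfsg.Agent.Lib.Helper9.TCData.ONC0.S613
import Cfsg.Agent.Lib.Helper9.TCData.ONC0.S614
import Cfsg.Agent.Lib.Helper9.TCData.ONC0.S615
import Cfsg.Agent.Lib.Helper9.TCData.ONC0.S616
import Cfsg.Agent.Lib.Helper9.TCData.ONC0.S617
import Cfsg.Agent.Lib.Helper9.TCData.ONC0.S618
import Cfsg.Agent.Lib.Helper9.TCData.ONC0.S619
import Cfsg.Agent.Lib.Helper9.TCData.ONC0.S620
import Cfsg.Agent.Lib.Helper9.TCData.ONC0.S621
import Cfsg.Agent.Lib.Helper9.TCData.ONC0.S622
import Cfsg.Agent.Lib.Helper9.TCData.ONC0.S623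
import Cfsg.Agent.Lib.Helper9.TCData.ONC0.S624
import Cfsg.Agent.Lib.Helper9.TCData.ONC0.S625
import Cfsg.Agent.Lib.Helper9.TCData.ONC0.S626
import Cfsg.Agent.Lib.Helper9.TCData.ONC0.S627
import Cfsg.Agent.Lib.Helper9.TCData.ONC0.S628
import Cfsg.Agent.Lib.Helper9.TCData.ONC0.S629
import Cfsg.Agent.Lib.Helper9.TCData.ONC0.S630
import Cfsg.Agent.Lib.Helper9.TCData.ONC0.S631
import Cfsg.Agent.Lib.Helper9.TCData.ONC0.S632
import Cfsg.Agent.Lib.Helper9.TCData.ONC0.S633
import Cfsg.Agent.Lib.Helper9.TCData.ONC0.S634
import Cfsg.Agent.Lib.Helper9.TCData.ONC0.S635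
import Cfsg.Agent.Lib.Helper9.TCData.ONC0.S636
import Cfsg.Agent.Lib.Helper9.TCData.ONC0.S637
import Cfsg.Agent.Lib.Helper9.TCData.ONC0.S638
import Cfsg.Agent.Lib.Helper9.TCData.ONC0.S639
import Cfsg.Agent.Lib.Helper9.TCData.ONC0.S640
import Cfsg.Agent.Lib.Helper9.TCData.ONC0.S641
import Cfsg.Agent.Lib.Helper9.TCData.ONC0.S642
import Cfsg.Agent.Lib.Helper9.TCData.ONC0.S643
import Cfsg.Agent.Lib.Helper9.TCData.ONC0.S644
import Cfsg.Agent.Lib.Helper9.TCData.ONC0.S645
import Cfsg.Agent.Lib.Helper9.TCData.ONC0.S646
import Cfsg.Agent.Lib.Helper9.TCData.ONC0.S647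
import Cfsg.Agent.Lib.Helper9.TCData.ONC0.S648
import Cfsg.Agent.Lib.Helper9.TCData.ONC0.S649
import Cfsg.Agent.Lib.Helper9.TCData.ONC0.S650
import Cfsg.Agent.Lib.Helper9.TCData.ONC0.S651
import Cfsg.Agent.Lib.Helper9.TCData.ONC0.S652
import Cfsg.Agent.Lib.Helper9.TCData.ONC0.S653
import Cfsg.Agent.Lib.Helper9.TCData.ONC0.S654
import Cfsg.Agent.Lib.Helper9.TCData.ONC0.S655
import Cfsg.Agent.Lib.Helper9.TCData.ONC0.S656
import Cfsg.Agent.Lib.Helper9.TCData.ONC0.S657
import Cfsg.Agent.Lib.Helper9.TCData.ONC0.S658
import Cfsg.Agent.Lib.Helper9.TCData.ONC0.S659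
import Cfsg.Agent.Lib.Helper9.TCData.ONC0.S660
import Cfsg.Agent.Lib.Helper9.TCData.ONC0.S661
import Cfsg.Agent.Lib.Helper9.TCData.ONC0.S662
import Cfsg.Agent.Lib.Helper9.TCData.ONC0.S663
import Cfsg.Agent.Lib.Helper9.TCData.ONC0.S664
import Cfsg.Agent.Lib.Helper9.TCData.ONC0.S665
import Cfsg.Agent.Lib.Helper9.TCData.ONC0.S666
import Cfsg.Agent.Lib.Helper9.TCData.ONC0.S667
import Cfsg.Agent.Lib.Helper9.TCData.ONC0.S668
import Cfsg.Agent.Lib.Helper9.TCData.ONC0.S669
import Cfsg.Agent.Lib.Helper9.TCData.ONC0.S670
import Cfsg.Agent.Lib.Helper9.TCData.ONC0.S671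
import Cfsg.Agent.Lib.Helper9.TCData.ONC0.S672
import Cfsg.Agent.Lib.Helper9.TCData.ONC0.S673
import Cfsg.Agent.Lib.Helper9.TCData.ONC0.S674
import Cfsg.Agent.Lib.Helper9.TCData.ONC0.S675
import Cfsg.Agent.Lib.Helper9.TCData.ONC0.S676
import Cfsg.Agent.Lib.Helper9.TCData.ONC0.S677
import Cfsg.Agent.Lib.Helper9.TCData.ONC0.S678
import Cfsg.Agent.Lib.Helper9.TCData.ONC0.S679
import Cfsg.Agent.Lib.Helper9.TCData.ONC0.S680
import Cfsg.Agent.Lib.Helper9.TCData.ONC0.S681
import Cfsg.Agent.Lib.Helper9.TCData.ONC0.S682
import Cfsg.Agent.Lib.Helper9.TCData.ONC0.S683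
import Cfsg.Agent.Lib.Helper9.TCData.ONC0.S684
import Cfsg.Agent.Lib.Helper9.TCData.ONC0.S685
import Cfsg.Agent.Lib.Helper9.TCData.ONC0.S686
import Cfsg.Agent.Lib.Helper9.TCData.ONC0.S687
import Cfsg.Agent.Lib.Helper9.TCData.ONC0.S688
import Cfsg.Agent.Lib.Helper9.TCData.ONC0.S689
import Cfsg.Agent.Lib.Helper9.TCData.ONC0.S690
import Cfsg.Agent.Lib.Helper9.TCData.ONC0.S691
import Cfsg.Agent.Lib.Helper9.TCData.ONC0.S692
import Cfsg.Agent.Lib.Helper9.TCData.ONC0.S693
import Cfsg.Agent.Lib.Helper9.TCData.ONC0.S694
import Cfsg.Agent.Lib.Helper9.TCData.ONC0.S695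
import Cfsg.Agent.Lib.Helper9.TCData.ONC0.S696
import Cfsg.Agent.Lib.Helper9.TCData.ONC0.S697
import Cfsg.Agent.Lib.Helper9.TCData.ONC0.S698
import Cfsg.Agent.Lib.Helper9.TCData.ONC0.S699
import Cfsg.Agent.Lib.Helper9.TCData.ONC0.S700
import Cfsg.Agent.Lib.Helper9.TCData.ONC0.S701
import Cfsg.Agent.Lib.Helper9.TCData.ONC0.S702
import Cfsg.Agent.Lib.Helper9.TCData.ONC0.S703
import Cfsg.Agent.Lib.Helper9.TCData.ONC0.S704
import Cfsg.Agent.Lib.Helper9.TCData.ONC0.S705
import Cfsg.Agent.Lib.Helper9.TCData.ONC0.S706
import Cfsg.Agent.Lib.Helper9.TCData.ONC0.S707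
import Cfsg.Agent.Lib.Helper9.TCData.ONC0.S708
import Cfsg.Agent.Lib.Helper9.TCData.ONC0.S709
import Cfsg.Agent.Lib.Helper9.TCData.ONC0.S710
import Cfsg.Agent.Lib.Helper9.TCData.ONC0.S711
import Cfsg.Agent.Lib.Helper9.TCData.ONC0.S712
import Cfsg.Agent.Lib.Helper9.TCData.ONC0.S713
import Cfsg.Agent.Lib.Helper9.TCData.ONC0.S714
import Cfsg.Agent.Lib.Helper9.TCData.ONC0.S715
import Cfsg.Agent.Lib.Helper9.TCData.ONC0.S716
import Cfsg.Agent.Lib.Helper9.TCData.ONC0.S717
import Cfsg.Agent.Lib.Helper9.TCData.ONC0.S718
import Cfsg.Agent.Lib.Helper9.TCData.ONC0.S719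
import Cfsg.Agent.Lib.Helper9.TCData.ONC0.S720
import Cfsg.Agent.Lib.Helper9.TCData.ONC0.S721
import Cfsg.Agent.Lib.Helper9.TCData.ONC0.S722
import Cfsg.Agent.Lib.Helper9.TCData.ONC0.S723
import Cfsg.Agent.Lib.Helper9.TCData.ONC0.S724
import Cfsg.Agent.Lib.Helper9.TCData.ONC0.S725
import Cfsg.Agent.Lib.Helper9.TCData.ONC0.S726
import Cfsg.Agent.Lib.Helper9.TCData.ONC0.S727
import Cfsg.Agent.Lib.Helper9.TCData.ONC0.S728
import Cfsg.Agent.Lib.Helper9.TCData.ONC0.S729
import Cfsg.Agent.Lib.Helper9.TCData.ONC0.S730
import Cfsg.Agent.Lib.Helper9.TCData.ONC0.S731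
import Cfsg.Agent.Lib.Helper9.TCData.ONC0.S732
import Cfsg.Agent.Lib.Helper9.TCData.ONC0.S733
import Cfsg.Agent.Lib.Helper9.TCData.ONC0.S734
import Cfsg.Agent.Lib.Helper9.TCData.ONC0.S735
import Cfsg.Agent.Lib.Helper9.TCData.ONC0.S736
import Cfsg.Agent.Lib.Helper9.TCData.ONC0.S737
import Cfsg.Agent.Lib.Helper9.TCData.ONC0.S738
import Cfsg.Agent.Lib.Helper9.TCData.ONC0.S739
import Cfsg.Agent.Lib.Helper9.TCData.ONC0.S740
import Cfsg.Agent.Lib.Helper9.TCData.ONC0.S741
import Cfsg.Agent.Lib.Helper9.TCData.ONC0.S742
import Cfsg.Agent.Lib.Helper9.TCData.ONC0.S743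
import Cfsg.Agent.Lib.Helper9.TCData.ONC0.S744
import Cfsg.Agent.Lib.Helper9.TCData.ONC0.S745
import Cfsg.Agent.Lib.Helper9.TCData.ONC0.S746
import Cfsg.Agent.Lib.Helper9.TCData.ONC0.S747
import Cfsg.Agent.Lib.Helper9.TCData.ONC0.S748
import Cfsg.Agent.Lib.Helper9.TCData.ONC0.S749
import Cfsg.Agent.Lib.Helper9.TCData.ONC0.S750
import Cfsg.Agent.Lib.Helper9.TCData.ONC0.S751
import Cfsg.Agent.Lib.Helper9.TCData.ONC0.S752
import Cfsg.Agent.Lib.Helper9.TCData.ONC0.S753
import Cfsg.Agent.Lib.Helper9.TCData.ONC0.S754
import Cfsg.Agent.Lib.Helper9.TCData.ONC0.S755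
import Cfsg.Agent.Lib.Helper9.TCData.ONC0.S756
import Cfsg.Agent.Lib.Helper9.TCData.ONC0.S757
import Cfsg.Agent.Lib.Helper9.TCData.ONC0.S758
import Cfsg.Agent.Lib.Helper9.TCData.ONC0.S759
import Cfsg.Agent.Lib.Helper9.TCData.ONC0.S760
import Cfsg.Agent.Lib.Helper9.TCData.ONC0.S761
import Cfsg.Agent.Lib.Helper9.TCData.ONC0.S762
import Cfsg.Agent.Lib.Helper9.TCData.ONC0.S763
import Cfsg.Agent.Lib.Helper9.TCData.ONC0.S764
import Cfsg.Agent.Lib.Helper9.TCData.ONC0.S765
import Cfsg.Agent.Lib.Helper9.TCData.ONC0.S766
import Cfsg.Agent.Lib.Helper9.TCData.ONC0.S767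
import Cfsg.Agent.Lib.Helper9.TCData.ONC0.S768
import Cfsg.Agent.Lib.Helper9.TCData.ONC0.S769
import Cfsg.Agent.Lib.Helper9.TCData.ONC0.S770
import Cfsg.Agent.Lib.Helper9.TCData.ONC0.S771
import Cfsg.Agent.Lib.Helper9.TCData.ONC0.S772
import Cfsg.Agent.Lib.Helper9.TCData.ONC0.S773
import Cfsg.Agent.Lib.Helper9.TCData.ONC0.S774
import Cfsg.Agent.Lib.Helper9.TCData.ONC0.S775
import Cfsg.Agent.Lib.Helper9.TCData.ONC0.S776
import Cfsg.Agent.Lib.Helper9.TCData.ONC0.S777
import Cfsg.Agent.Lib.Helper9.TCData.ONC0.S778
import Cfsg.Agent.Lib.Helper9.TCData.ONC0.S779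
import Cfsg.Agent.Lib.Helper9.TCData.ONC0.S780
import Cfsg.Agent.Lib.Helper9.TCData.ONC0.S781
import Cfsg.Agent.Lib.Helper9.TCData.ONC0.S782
import Cfsg.Agent.Lib.Helper9.TCData.ONC0.S783
import Cfsg.Agent.Lib.Helper9.TCData.ONC0.S784
import Cfsg.Agent.Lib.Helper9.TCData.ONC0.S785
import Cfsg.Agent.Lib.Helper9.TCData.ONC0.S786
import Cfsg.Agent.Lib.Helper9.TCData.ONC0.S787
import Cfsg.Agent.Lib.Helper9.TCData.ONC0.S788
import Cfsg.Agent.Lib.Helper9.TCData.ONC0.S789
import Cfsg.Agent.Lib.Helper9.TCData.ONC0.S790
import Cfsg.Agent.Lib.Helper9.TCData.ONC0.S791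
import Cfsg.Agent.Lib.Helper9.TCData.ONC0.S792
import Cfsg.Agent.Lib.Helper9.TCData.ONC0.S793
import Cfsg.Agent.Lib.Helper9.TCData.ONC0.S794
import Cfsg.Agent.Lib.Helper9.TCData.ONC0.S795
import Cfsg.Agent.Lib.Helper9.TCData.ONC0.S796
import Cfsg.Agent.Lib.Helper9.TCData.ONC0.S797
import Cfsg.Agent.Lib.Helper9.TCData.ONC0.S798
import Cfsg.Agent.Lib.Helper9.TCData.ONC0.S799
import Cfsg.Agent.Lib.Helper9.TCData.ONC0.S800
import Cfsg.Agent.Lib.Helper9.TCData.ONC0.S801
import Cfsg.Agent.Lib.Helper9.TCData.ONC0.S802
import Cfsg.Agent.Lib.Helper9.TCData.ONC0.S803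
import Cfsg.Agent.Lib.Helper9.TCData.ONC0.S804
import Cfsg.Agent.Lib.Helper9.TCData.ONC0.S805
import Cfsg.Agent.Lib.Helper9.TCData.ONC0.S806
import Cfsg.Agent.Lib.Helper9.TCData.ONC0.S807
import Cfsg.Agent.Lib.Helper9.TCData.ONC0.S808
import Cfsg.Agent.Lib.Helper9.TCData.ONC0.S809
import Cfsg.Agent.Lib.Helper9.TCData.ONC0.S810
import Cfsg.Agent.Lib.Helper9.TCData.ONC0.S811
import Cfsg.Agent.Lib.Helper9.TCData.ONC0.S812
import Cfsg.Agent.Lib.Helper9.TCData.ONC0.S813
import Cfsg.Agent.Lib.Helper9.TCData.ONC0.S814
import Cfsg.Agent.Lib.Helper9.TCData.ONC0.S815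
import Cfsg.Agent.Lib.Helper9.TCData.ONC0.S816
import Cfsg.Agent.Lib.Helper9.TCData.ONC0.S817
import Cfsg.Agent.Lib.Helper9.TCData.ONC0.S818
import Cfsg.Agent.Lib.Helper9.TCData.ONC0.S819
import Cfsg.Agent.Lib.Helper9.TCData.ONC0.S820
import Cfsg.Agent.Lib.Helper9.TCData.ONC0.S821
import Cfsg.Agent.Lib.Helper9.TCData.ONC0.S822
import Cfsg.Agent.Lib.Helper9.TCData.ONC0.S823
import Cfsg.Agent.Lib.Helper9.TCData.ONC0.S824
import Cfsg.Agent.Lib.Helper9.TCData.ONC0.S825
import Cfsg.Agent.Lib.Helper9.TCData.ONC0.S826
import Cfsg.Agent.Lib.Helper9.TCData.ONC0.S827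
import Cfsg.Agent.Lib.Helper9.TCData.ONC0.S828
import Cfsg.Agent.Lib.Helper9.TCData.ONC0.S829
import Cfsg.Agent.Lib.Helper9.TCData.ONC0.S830
import Cfsg.Agent.Lib.Helper9.TCData.ONC0.S831
import Cfsg.Agent.Lib.Helper9.TCData.ONC0.S832
import Cfsg.Agent.Lib.Helper9.TCData.ONC0.S833
import Cfsg.Agent.Lib.Helper9.TCData.ONC0.S834
import Cfsg.Agent.Lib.Helper9.TCData.ONC0.S835
import Cfsg.Agent.Lib.Helper9.TCData.ONC0.S836
import Cfsg.Agent.Lib.Helper9.TCData.ONC0.S837
import Cfsg.Agent.Lib.Helper9.TCData.ONC0.S838
import Cfsg.Agent.Lib.Helper9.TCData.ONC0.S839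
import Cfsg.Agent.Lib.Helper9.TCData.ONC0.S840
import Cfsg.Agent.Lib.Helper9.TCData.ONC0.S841
import Cfsg.Agent.Lib.Helper9.TCData.ONC0.S842
import Cfsg.Agent.Lib.Helper9.TCData.ONC0.S843
import Cfsg.Agent.Lib.Helper9.TCData.ONC0.S844
import Cfsg.Agent.Lib.Helper9.TCData.ONC0.S845
import Cfsg.Agent.Lib.Helper9.TCData.ONC0.S846
import Cfsg.Agent.Lib.Helper9.TCData.ONC0.S847
import Cfsg.Agent.Lib.Helper9.TCData.ONC0.S848
import Cfsg.Agent.Lib.Helper9.TCData.ONC0.S849
import Cfsg.Agent.Lib.Helper9.TCData.ONC0.S850
import Cfsg.Agent.Lib.Helper9.TCData.ONC0.S851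
import Cfsg.Agent.Lib.Helper9.TCData.ONC0.S852
import Cfsg.Agent.Lib.Helper9.TCData.ONC0.S853
import Cfsg.Agent.Lib.Helper9.TCData.ONC0.S854
import Cfsg.Agent.Lib.Helper9.TCData.ONC0.S855
import Cfsg.Agent.Lib.Helper9.TCData.ONC0.S856
import Cfsg.Agent.Lib.Helper9.TCData.ONC0.S857
import Cfsg.Agent.Lib.Helper9.TCData.ONC0.S858
import Cfsg.Agent.Lib.Helper9.TCData.ONC0.S859
import Cfsg.Agent.Lib.Helper9.TCData.ONC0.S860
import Cfsg.Agent.Lib.Helper9.TCData.ONC0.S861
import Cfsg.Agent.Lib.Helper9.TCData.ONC0.S862
import Cfsg.Agent.Lib.Helper9.TCData.ONC0.S863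
import Cfsg.Agent.Lib.Helper9.TCData.ONC0.S864
import Cfsg.Agent.Lib.Helper9.TCData.ONC0.S865
import Cfsg.Agent.Lib.Helper9.TCData.ONC0.S866
import Cfsg.Agent.Lib.Helper9.TCData.ONC0.S867
import Cfsg.Agent.Lib.Helper9.TCData.ONC0.S868
import Cfsg.Agent.Lib.Helper9.TCData.ONC0.S869
import Cfsg.Agent.Lib.Helper9.TCData.ONC0.S870
import Cfsg.Agent.Lib.Helper9.TCData.ONC0.S871
import Cfsg.Agent.Lib.Helper9.TCData.ONC0.S872
import Cfsg.Agent.Lib.Helper9.TCData.ONC0.S873
import Cfsg.Agent.Lib.Helper9.TCData.ONC0.S874
import Cfsg.Agent.Lib.Helper9.TCData.ONC0.S875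
import Cfsg.Agent.Lib.Helper9.TCData.ONC0.S876
import Cfsg.Agent.Lib.Helper9.TCData.ONC0.S877
import Cfsg.Agent.Lib.Helper9.TCData.ONC0.S878
import Cfsg.Agent.Lib.Helper9.TCData.ONC0.S879
import Cfsg.Agent.Lib.Helper9.TCData.ONC0.S880
import Cfsg.Agent.Lib.Helper9.TCData.ONC0.S881
import Cfsg.Agent.Lib.Helper9.TCData.ONC0.S882
import Cfsg.Agent.Lib.Helper9.TCData.ONC0.S883
import Cfsg.Agent.Lib.Helper9.TCData.ONC0.S884
import Cfsg.Agent.Lib.Helper9.TCData.ONC0.S885
import Cfsg.Agent.Lib.Helper9.TCData.ONC0.S886
import Cfsg.Agent.Lib.Helper9.TCData.ONC0.S887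
import Cfsg.Agent.Lib.Helper9.TCData.ONC0.S888
import Cfsg.Agent.Lib.Helper9.TCData.ONC0.S889
import Cfsg.Agent.Lib.Helper9.TCData.ONC0.S890
import Cfsg.Agent.Lib.Helper9.TCData.ONC0.S891
import Cfsg.Agent.Lib.Helper9.TCData.ONC0.S892
import Cfsg.Agent.Lib.Helper9.TCData.ONC0.S893
import Cfsg.Agent.Lib.Helper9.TCData.ONC0.S894
import Cfsg.Agent.Lib.Helper9.TCData.ONC0.S895
import Cfsg.Agent.Lib.Helper9.TCData.ONC0.S896
import Cfsg.Agent.Lib.Helper9.TCData.ONC0.S897
import Cfsg.Agent.Lib.Helper9.TCData.ONC0.S898
import Cfsg.Agent.Lib.Helper9.TCData.ONC0.S899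
import Cfsg.Agent.Lib.Helper9.TCData.ONC0.S900
import Cfsg.Agent.Lib.Helper9.TCData.ONC0.S901
import Cfsg.Agent.Lib.Helper9.TCData.ONC0.S902
import Cfsg.Agent.Lib.Helper9.TCData.ONC0.S903
import Cfsg.Agent.Lib.Helper9.TCData.ONC0.S904
import Cfsg.Agent.Lib.Helper9.TCData.ONC0.S905
import Cfsg.Agent.Lib.Helper9.TCData.ONC0.S906
import Cfsg.Agent.Lib.Helper9.TCData.ONC0.S907
import Cfsg.Agent.Lib.Helper9.TCData.ONC0.S908
import Cfsg.Agent.Lib.Helper9.TCData.ONC0.S909
import Cfsg.Agent.Lib.Helper9.TCData.ONC0.S910
import Cfsg.Agent.Lib.Helper9.TCData.ONC0.S911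
import Cfsg.Agent.Lib.Helper9.TCData.ONC0.S912
import Cfsg.Agent.Lib.Helper9.TCData.ONC0.S913
import Cfsg.Agent.Lib.Helper9.TCData.ONC0.S914
import Cfsg.Agent.Lib.Helper9.TCData.ONC0.S915
import Cfsg.Agent.Lib.Helper9.TCData.ONC0.S916
import Cfsg.Agent.Lib.Helper9.TCData.ONC0.S917
import Cfsg.Agent.Lib.Helper9.TCData.ONC0.S918
import Cfsg.Agent.Lib.Helper9.TCData.ONC0.S919
import Cfsg.Agent.Lib.Helper9.TCData.ONC0.S920
import Cfsg.Agent.Lib.Helper9.TCData.ONC0.S921
import Cfsg.Agent.Lib.Helper9.TCData.ONC0.S922
import Cfsg.Agent.Lib.Helper9.TCData.ONC0.S923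
import Cfsg.Agent.Lib.Helper9.TCData.ONC0.S924
import Cfsg.Agent.Lib.Helper9.TCData.ONC0.S925
import Cfsg.Agent.Lib.Helper9.TCData.ONC0.S926
import Cfsg.Agent.Lib.Helper9.TCData.ONC0.S927
import Cfsg.Agent.Lib.Helper9.TCData.ONC0.S928
import Cfsg.Agent.Lib.Helper9.TCData.ONC0.S929
import Cfsg.Agent.Lib.Helper9.TCData.ONC0.S930
import Cfsg.Agent.Lib.Helper9.TCData.ONC0.S931
import Cfsg.Agent.Lib.Helper9.TCData.ONC0.S932
import Cfsg.Agent.Lib.Helper9.TCData.ONC0.S933
import Cfsg.Agent.Lib.Helper9.TCData.ONC0.S934
import Cfsg.Agent.Lib.Helper9.TCData.ONC0.S935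
import Cfsg.Agent.Lib.Helper9.TCData.ONC0.S936
import Cfsg.Agent.Lib.Helper9.TCData.ONC0.S937
import Cfsg.Agent.Lib.Helper9.TCData.ONC0.S938
import Cfsg.Agent.Lib.Helper9.TCData.ONC0.S939
import Cfsg.Agent.Lib.Helper9.TCData.ONC0.S940
import Cfsg.Agent.Lib.Helper9.TCData.ONC0.S941
import Cfsg.Agent.Lib.Helper9.TCData.ONC0.S942
import Cfsg.Agent.Lib.Helper9.TCData.ONC0.S943
import Cfsg.Agent.Lib.Helper9.TCData.ONC0.S944
import Cfsg.Agent.Lib.Helper9.TCData.ONC0.S945
import Cfsg.Agent.Lib.Helper9.TCData.ONC0.S946
import Cfsg.Agent.Lib.Helper9.TCData.ONC0.S947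
import Cfsg.Agent.Lib.Helper9.TCData.ONC0.S948
import Cfsg.Agent.Lib.Helper9.TCData.ONC0.S949
import Cfsg.Agent.Lib.Helper9.TCData.ONC0.S950
import Cfsg.Agent.Lib.Helper9.TCData.ONC0.S951
import Cfsg.Agent.Lib.Helper9.TCData.ONC0.S952
import Cfsg.Agent.Lib.Helper9.TCData.ONC0.S953
import Cfsg.Agent.Lib.Helper9.TCData.ONC0.S954
import Cfsg.Agent.Lib.Helper9.TCData.ONC0.S955
import Cfsg.Agent.Lib.Helper9.TCData.ONC0.S956
import Cfsg.Agent.Lib.Helper9.TCData.ONC0.S957
import Cfsg.Agent.Lib.Helper9.TCData.ONC0.S958
import Cfsg.Agent.Lib.Helper9.TCData.ONC0.S959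
import Cfsg.Agent.Lib.Helper9.TCData.ONC0.S960
import Cfsg.Agent.Lib.Helper9.TCData.ONC0.S961
import Cfsg.Agent.Lib.Helper9.TCData.ONC0.S962
import Cfsg.Agent.Lib.Helper9.TCData.ONC0.S963
import Cfsg.Agent.Lib.Helper9.TCData.ONC0.S964
import Cfsg.Agent.Lib.Helper9.TCData.ONC0.S965
import Cfsg.Agent.Lib.Helper9.TCData.ONC0.S966
import Cfsg.Agent.Lib.Helper9.TCData.ONC0.S967
import Cfsg.Agent.Lib.Helper9.TCData.ONC0.S968
import Cfsg.Agent.Lib.Helper9.TCData.ONC0.S969
import Cfsg.Agent.Lib.Helper9.TCData.ONC0.S970
import Cfsg.Agent.Lib.Helper9.TCData.ONC0.S971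
import Cfsg.Agent.Lib.Helper9.TCData.ONC0.S972
import Cfsg.Agent.Lib.Helper9.TCData.ONC0.S973
import Cfsg.Agent.Lib.Helper9.TCData.ONC0.S974
import Cfsg.Agent.Lib.Helper9.TCData.ONC0.S975
import Cfsg.Agent.Lib.Helper9.TCData.ONC0.S976
import Cfsg.Agent.Lib.Helper9.TCData.ONC0.S977
import Cfsg.Agent.Lib.Helper9.TCData.ONC0.S978
import Cfsg.Agent.Lib.Helper9.TCData.ONC0.S979
import Cfsg.Agent.Lib.Helper9.TCData.ONC0.S980
import Cfsg.Agent.Lib.Helper9.TCData.ONC0.S981
import Cfsg.Agent.Lib.Helper9.TCData.ONC0.S982
import Cfsg.Agent.Lib.Helper9.TCData.ONC0.S983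
import Cfsg.Agent.Lib.Helper9.TCData.ONC0.S984
import Cfsg.Agent.Lib.Helper9.TCData.ONC0.S985
import Cfsg.Agent.Lib.Helper9.TCData.ONC0.S986
import Cfsg.Agent.Lib.Helper9.TCData.ONC0.S987
import Cfsg.Agent.Lib.Helper9.TCData.ONC0.S988
import Cfsg.Agent.Lib.Helper9.TCData.ONC0.S989
import Cfsg.Agent.Lib.Helper9.TCData.ONC0.S990
import Cfsg.Agent.Lib.Helper9.TCData.ONC0.S991
import Cfsg.Agent.Lib.Helper9.TCData.ONC0.S992
import Cfsg.Agent.Lib.Helper9.TCData.ONC0.S993
import Cfsg.Agent.Lib.Helper9.TCData.ONC0.S994
import Cfsg.Agent.Lib.Helper9.TCData.ONC0.S995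
import Cfsg.Agent.Lib.Helper9.TCData.ONC0.S996
import Cfsg.Agent.Lib.Helper9.TCData.ONC0.S997
import Cfsg.Agent.Lib.Helper9.TCData.ONC0.S998
import Cfsg.Agent.Lib.Helper9.TCData.ONC0.S999
import Cfsg.Agent.Lib.Helper9.TCData.ONC0.S1000
import Cfsg.Agent.Lib.Helper9.TCData.ONC0.S1001
import Cfsg.Agent.Lib.Helper9.TCData.ONC0.S1002
import Cfsg.Agent.Lib.Helper9.TCData.ONC0.S1003
import Cfsg.Agent.Lib.Helper9.TCData.ONC0.S1004
import Cfsg.Agent.Lib.Helper9.TCData.ONC0.S1005
import Cfsg.Agent.Lib.Helper9.TCData.ONC0.S1006
import Cfsg.Agent.Lib.Helper9.TCData.ONC0.S1007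
import Cfsg.Agent.Lib.Helper9.TCData.ONC0.S1008
import Cfsg.Agent.Lib.Helper9.TCData.ONC0.S1009
import Cfsg.Agent.Lib.Helper9.TCData.ONC0.S1010
import Cfsg.Agent.Lib.Helper9.TCData.ONC0.S1011
import Cfsg.Agent.Lib.Helper9.TCData.ONC0.S1012
import Cfsg.Agent.Lib.Helper9.TCData.ONC0.S1013
import Cfsg.Agent.Lib.Helper9.TCData.ONC0.S1014
import Cfsg.Agent.Lib.Helper9.TCData.ONC0.S1015
import Cfsg.Agent.Lib.Helper9.TCData.ONC0.S1016
import Cfsg.Agent.Lib.Helper9.TCData.ONC0.S1017
import Cfsg.Agent.Lib.Helper9.TCData.ONC0.S1018
import Cfsg.Agent.Lib.Helper9.TCData.ONC0.S1019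
import Cfsg.Agent.Lib.Helper9.TCData.ONC0.S1020
import Cfsg.Agent.Lib.Helper9.TCData.ONC0.S1021
import Cfsg.Agent.Lib.Helper9.TCData.ONC0.S1022
import Cfsg.Agent.Lib.Helper9.TCData.ONC0.S1023
import Cfsg.Agent.Lib.Helper9.TCData.ONC0.S1024
import Cfsg.Agent.Lib.Helper9.TCData.ONC0.S1025
import Cfsg.Agent.Lib.Helper9.TCData.ONC0.S1026
import Cfsg.Agent.Lib.Helper9.TCData.ONC0.S1027
import Cfsg.Agent.Lib.Helper9.TCData.ONC0.S1028
import Cfsg.Agent.Lib.Helper9.TCData.ONC0.S1029
import Cfsg.Agent.Lib.Helper9.TCData.ONC0.S1030
import Cfsg.Agent.Lib.Helper9.TCData.ONC0.S1031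
import Cfsg.Agent.Lib.Helper9.TCData.ONC0.S1032
import Cfsg.Agent.Lib.Helper9.TCData.ONC0.S1033
import Cfsg.Agent.Lib.Helper9.TCData.ONC0.S1034
import Cfsg.Agent.Lib.Helper9.TCData.ONC0.S1035
import Cfsg.Agent.Lib.Helper9.TCData.ONC0.S1036
import Cfsg.Agent.Lib.Helper9.TCData.ONC0.S1037
import Cfsg.Agent.Lib.Helper9.TCData.ONC0.S1038
import Cfsg.Agent.Lib.Helper9.TCData.ONC0.S1039
import Cfsg.Agent.Lib.Helper9.TCData.ONC0.S1040
import Cfsg.Agent.Lib.Helper9.TCData.ONC0.S1041
import Cfsg.Agent.Lib.Helper9.TCData.ONC0.S1042
import Cfsg.Agent.Lib.Helper9.TCData.ONC0.S1043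
import Cfsg.Agent.Lib.Helper9.TCData.ONC0.S1044
import Cfsg.Agent.Lib.Helper9.TCData.ONC0.S1045
import Cfsg.Agent.Lib.Helper9.TCData.ONC0.S1046
import Cfsg.Agent.Lib.Helper9.TCData.ONC0.S1047
import Cfsg.Agent.Lib.Helper9.TCData.ONC0.S1048
import Cfsg.Agent.Lib.Helper9.TCData.ONC0.S1049
import Cfsg.Agent.Lib.Helper9.TCData.ONC0.S1050
import Cfsg.Agent.Lib.Helper9.TCData.ONC0.S1051
import Cfsg.Agent.Lib.Helper9.TCData.ONC0.S1052
import Cfsg.Agent.Lib.Helper9.TCData.ONC0.S1053
import Cfsg.Agent.Lib.Helper9.TCData.ONC0.S1054
import Cfsg.Agent.Lib.Helper9.TCData.ONC0.S1055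
import Cfsg.Agent.Lib.Helper9.TCData.ONC0.S1056
import Cfsg.Agent.Lib.Helper9.TCData.ONC0.S1057
import Cfsg.Agent.Lib.Helper9.TCData.ONC0.S1058
import Cfsg.Agent.Lib.Helper9.TCData.ONC0.S1059
import Cfsg.Agent.Lib.Helper9.TCData.ONC0.S1060
import Cfsg.Agent.Lib.Helper9.TCData.ONC0.S1061
import Cfsg.Agent.Lib.Helper9.TCData.ONC0.S1062
import Cfsg.Agent.Lib.Helper9.TCData.ONC0.S1063
import Cfsg.Agent.Lib.Helper9.TCData.ONC0.S1064
import Cfsg.Agent.Lib.Helper9.TCData.ONC0.S1065
import Cfsg.Agent.Lib.Helper9.TCData.ONC0.S1066
import Cfsg.Agent.Lib.Helper9.TCData.ONC0.S1067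
import Cfsg.Agent.Lib.Helper9.TCData.ONC0.S1068
import Cfsg.Agent.Lib.Helper9.TCData.ONC0.S1069
import Cfsg.Agent.Lib.Helper9.TCData.ONC0.S1070
import Cfsg.Agent.Lib.Helper9.TCData.ONC0.S1071
import Cfsg.Agent.Lib.Helper9.TCData.ONC0.S1072
import Cfsg.Agent.Lib.Helper9.TCData.ONC0.S1073
import Cfsg.Agent.Lib.Helper9.TCData.ONC0.S1074
import Cfsg.Agent.Lib.Helper9.TCData.ONC0.S1075
import Cfsg.Agent.Lib.Helper9.TCData.ONC0.S1076
import Cfsg.Agent.Lib.Helper9.TCData.ONC0.S1077
import Cfsg.Agent.Lib.Helper9.TCData.ONC0.S1078
import Cfsg.Agent.Lib.Helper9.TCData.ONC0.S1079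
import Cfsg.Agent.Lib.Helper9.TCData.ONC0.S1080
import Cfsg.Agent.Lib.Helper9.TCData.ONC0.S1081
import Cfsg.Agent.Lib.Helper9.TCData.ONC0.S1082
import Cfsg.Agent.Lib.Helper9.TCData.ONC0.S1083
import Cfsg.Agent.Lib.Helper9.TCData.ONC0.S1084
import Cfsg.Agent.Lib.Helper9.TCData.ONC0.S1085
import Cfsg.Agent.Lib.Helper9.TCData.ONC0.S1086
import Cfsg.Agent.Lib.Helper9.TCData.ONC0.S1087
import Cfsg.Agent.Lib.Helper9.TCData.ONC0.S1088
import Cfsg.Agent.Lib.Helper9.TCData.ONC0.S1089
import Cfsg.Agent.Lib.Helper9.TCData.ONC0.S1090
import Cfsg.Agent.Lib.Helper9.TCData.ONC0.S1091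
import Cfsg.Agent.Lib.Helper9.TCData.ONC0.S1092
import Cfsg.Agent.Lib.Helper9.TCData.ONC0.S1093
import Cfsg.Agent.Lib.Helper9.TCData.ONC0.S1094
import Cfsg.Agent.Lib.Helper9.TCData.ONC0.S1095
import Cfsg.Agent.Lib.Helper9.TCData.ONC0.S1096
import Cfsg.Agent.Lib.Helper9.TCData.ONC0.S1097
import Cfsg.Agent.Lib.Helper9.TCData.ONC0.S1098
import Cfsg.Agent.Lib.Helper9.TCData.ONC0.S1099
import Cfsg.Agent.Lib.Helper9.TCData.ONC0.S1100
import Cfsg.Agent.Lib.Helper9.TCData.ONC0.S1101
import Cfsg.Agent.Lib.Helper9.TCData.ONC0.S1102
import Cfsg.Agent.Lib.Helper9.TCData.ONC0.S1103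
import Cfsg.Agent.Lib.Helper9.TCData.ONC0.S1104
import Cfsg.Agent.Lib.Helper9.TCData.ONC0.S1105
import Cfsg.Agent.Lib.Helper9.TCData.ONC0.S1106
import Cfsg.Agent.Lib.Helper9.TCData.ONC0.S1107
import Cfsg.Agent.Lib.Helper9.TCData.ONC0.S1108
import Cfsg.Agent.Lib.Helper9.TCData.ONC0.S1109
import Cfsg.Agent.Lib.Helper9.TCData.ONC0.S1110
import Cfsg.Agent.Lib.Helper9.TCData.ONC0.S1111
import Cfsg.Agent.Lib.Helper9.TCData.ONC0.S1112
import Cfsg.Agent.Lib.Helper9.TCData.ONC0.S1113
import Cfsg.Agent.Lib.Helper9.TCData.ONC0.S1114
import Cfsg.Agent.Lib.Helper9.TCData.ONC0.S1115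
import Cfsg.Agent.Lib.Helper9.TCData.ONC0.S1116
import Cfsg.Agent.Lib.Helper9.TCData.ONC0.S1117
import Cfsg.Agent.Lib.Helper9.TCData.ONC0.S1118
import Cfsg.Agent.Lib.Helper9.TCData.ONC0.S1119
import Cfsg.Agent.Lib.Helper9.TCData.ONC0.S1120
import Cfsg.Agent.Lib.Helper9.TCData.ONC0.S1121
import Cfsg.Agent.Lib.Helper9.TCData.ONC0.S1122
import Cfsg.Agent.Lib.Helper9.TCData.ONC0.S1123
import Cfsg.Agent.Lib.Helper9.TCData.ONC0.S1124
import Cfsg.Agent.Lib.Helper9.TCData.ONC0.S1125
import Cfsg.Agent.Lib.Helper9.TCData.ONC0.S1126
import Cfsg.Agent.Lib.Helper9.TCData.ONC0.S1127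
import Cfsg.Agent.Lib.Helper9.TCData.ONC0.S1128
import Cfsg.Agent.Lib.Helper9.TCData.ONC0.S1129
import Cfsg.Agent.Lib.Helper9.TCData.ONC0.S1130
import Cfsg.Agent.Lib.Helper9.TCData.ONC0.S1131
import Cfsg.Agent.Lib.Helper9.TCData.ONC0.S1132
import Cfsg.Agent.Lib.Helper9.TCData.ONC0.S1133
import Cfsg.Agent.Lib.Helper9.TCData.ONC0.S1134
import Cfsg.Agent.Lib.Helper9.TCData.ONC0.S1135
import Cfsg.Agent.Lib.Helper9.TCData.ONC0.S1136
import Cfsg.Agent.Lib.Helper9.TCData.ONC0.S1137
import Cfsg.Agent.Lib.Helper9.TCData.ONC0.S1138
import Cfsg.Agent.Lib.Helper9.TCData.ONC0.S1139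
import Cfsg.Agent.Lib.Helper9.TCData.ONC0.S1140
import Cfsg.Agent.Lib.Helper9.TCData.ONC0.S1141
import Cfsg.Agent.Lib.Helper9.TCData.ONC0.S1142
import Cfsg.Agent.Lib.Helper9.TCData.ONC0.S1143
import Cfsg.Agent.Lib.Helper9.TCData.ONC0.S1144
import Cfsg.Agent.Lib.Helper9.TCData.ONC0.S1145
import Cfsg.Agent.Lib.Helper9.TCData.ONC0.S1146
import Cfsg.Agent.Lib.Helper9.TCData.ONC0.S1147
import Cfsg.Agent.Lib.Helper9.TCData.ONC0.S1148
import Cfsg.Agent.Lib.Helper9.TCData.ONC0.S1149
import Cfsg.Agent.Lib.Helper9.TCData.ONC0.S1150
import Cfsg.Agent.Lib.Helper9.TCData.ONC0.S1151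
import Cfsg.Agent.Lib.Helper9.TCData.ONC0.S1152
import Cfsg.Agent.Lib.Helper9.TCData.ONC0.S1153
import Cfsg.Agent.Lib.Helper9.TCData.ONC0.S1154
import Cfsg.Agent.Lib.Helper9.TCData.ONC0.S1155
import Cfsg.Agent.Lib.Helper9.TCData.ONC0.S1156
import Cfsg.Agent.Lib.Helper9.TCData.ONC0.S1157
import Cfsg.Agent.Lib.Helper9.TCData.ONC0.S1158
import Cfsg.Agent.Lib.Helper9.TCData.ONC0.S1159
import Cfsg.Agent.Lib.Helper9.TCData.ONC0.S1160
import Cfsg.Agent.Lib.Helper9.TCData.ONC0.S1161
import Cfsg.Agent.Lib.Helper9.TCData.ONC0.S1162
import Cfsg.Agent.Lib.Helper9.TCData.ONC0.S1163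
import Cfsg.Agent.Lib.Helper9.TCData.ONC0.S1164
import Cfsg.Agent.Lib.Helper9.TCData.ONC0.S1165
import Cfsg.Agent.Lib.Helper9.TCData.ONC0.S1166
import Cfsg.Agent.Lib.Helper9.TCData.ONC0.S1167
import Cfsg.Agent.Lib.Helper9.TCData.ONC0.S1168
import Cfsg.Agent.Lib.Helper9.TCData.ONC0.S1169
import Cfsg.Agent.Lib.Helper9.TCData.ONC0.S1170
import Cfsg.Agent.Lib.Helper9.TCData.ONC0.S1171
import Cfsg.Agent.Lib.Helper9.TCData.ONC0.S1172
import Cfsg.Agent.Lib.Helper9.TCData.ONC0.S1173
import Cfsg.Agent.Lib.Helper9.TCData.ONC0.S1174
import Cfsg.Agent.Lib.Helper9.TCData.ONC0.S1175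
import Cfsg.Agent.Lib.Helper9.TCData.ONC0.S1176
import Cfsg.Agent.Lib.Helper9.TCData.ONC0.S1177
import Cfsg.Agent.Lib.Helper9.TCData.ONC0.S1178
import Cfsg.Agent.Lib.Helper9.TCData.ONC0.S1179
import Cfsg.Agent.Lib.Helper9.TCData.ONC0.S1180
import Cfsg.Agent.Lib.Helper9.TCData.ONC0.S1181
import Cfsg.Agent.Lib.Helper9.TCData.ONC0.S1182
import Cfsg.Agent.Lib.Helper9.TCData.ONC0.S1183
import Cfsg.Agent.Lib.Helper9.TCData.ONC0.S1184
import Cfsg.Agent.Lib.Helper9.TCData.ONC0.S1185
import Cfsg.Agent.Lib.Helper9.TCData.ONC0.S1186
import Cfsg.Agent.Lib.Helper9.TCData.ONC0.S1187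
import Cfsg.Agent.Lib.Helper9.TCData.ONC0.S1188
import Cfsg.Agent.Lib.Helper9.TCData.ONC0.S1189
import Cfsg.Agent.Lib.Helper9.TCData.ONC0.S1190
import Cfsg.Agent.Lib.Helper9.TCData.ONC0.S1191
import Cfsg.Agent.Lib.Helper9.TCData.ONC0.S1192
import Cfsg.Agent.Lib.Helper9.TCData.ONC0.S1193
import Cfsg.Agent.Lib.Helper9.TCData.ONC0.S1194
import Cfsg.Agent.Lib.Helper9.TCData.ONC0.S1195
import Cfsg.Agent.Lib.Helper9.TCData.ONC0.S1196
import Cfsg.Agent.Lib.Helper9.TCData.ONC0.S1197
import Cfsg.Agent.Lib.Helper9.TCData.ONC0.S1198
import Cfsg.Agent.Lib.Helper9.TCData.ONC0.S1199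
import Cfsg.Agent.Lib.Helper9.TCData.ONC0.S1200
import Cfsg.Agent.Lib.Helper9.TCData.ONC0.S1201
import Cfsg.Agent.Lib.Helper9.TCData.ONC0.S1202
import Cfsg.Agent.Lib.Helper9.TCData.ONC0.S1203
import Cfsg.Agent.Lib.Helper9.TCData.ONC0.S1204
import Cfsg.Agent.Lib.Helper9.TCData.ONC0.S1205
import Cfsg.Agent.Lib.Helper9.TCData.ONC0.S1206
import Cfsg.Agent.Lib.Helper9.TCData.ONC0.S1207
import Cfsg.Agent.Lib.Helper9.TCData.ONC0.S1208
import Cfsg.Agent.Lib.Helper9.TCData.ONC0.S1209
import Cfsg.Agent.Lib.Helper9.TCData.ONC0.S1210
import Cfsg.Agent.Lib.Helper9.TCData.ONC0.S1211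
import Cfsg.Agent.Lib.Helper9.TCData.ONC0.S1212
import Cfsg.Agent.Lib.Helper9.TCData.ONC0.S1213
import Cfsg.Agent.Lib.Helper9.TCData.ONC0.S1214
import Cfsg.Agent.Lib.Helper9.TCData.ONC0.S1215
import Cfsg.Agent.Lib.Helper9.TCData.ONC0.S1216
import Cfsg.Agent.Lib.Helper9.TCData.ONC0.S1217
import Cfsg.Agent.Lib.Helper9.TCData.ONC0.S1218
import Cfsg.Agent.Lib.Helper9.TCData.ONC0.S1219
import Cfsg.Agent.Lib.Helper9.TCData.ONC0.S1220
import Cfsg.Agent.Lib.Helper9.TCData.ONC0.S1221
import Cfsg.Agent.Lib.Helper9.TCData.ONC0.S1222
import Cfsg.Agent.Lib.Helper9.TCData.ONC0.S1223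
import Cfsg.Agent.Lib.Helper9.TCData.ONC0.S1224
import Cfsg.Agent.Lib.Helper9.TCData.ONC0.S1225
import Cfsg.Agent.Lib.Helper9.TCData.ONC0.S1226
import Cfsg.Agent.Lib.Helper9.TCData.ONC0.S1227
import Cfsg.Agent.Lib.Helper9.TCData.ONC0.S1228
import Cfsg.Agent.Lib.Helper9.TCData.ONC0.S1229
import Cfsg.Agent.Lib.Helper9.TCData.ONC0.S1230
import Cfsg.Agent.Lib.Helper9.TCData.ONC0.S1231
import Cfsg.Agent.Lib.Helper9.TCData.ONC0.S1232
import Cfsg.Agent.Lib.Helper9.TCData.ONC0.S1233
import Cfsg.Agent.Lib.Helper9.TCData.ONC0.S1234
import Cfsg.Agent.Lib.Helper9.TCData.ONC0.S1235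
import Cfsg.Agent.Lib.Helper9.TCData.ONC0.S1236
import Cfsg.Agent.Lib.Helper9.TCData.ONC0.S1237
import Cfsg.Agent.Lib.Helper9.TCData.ONC0.S1238
import Cfsg.Agent.Lib.Helper9.TCData.ONC0.S1239
import Cfsg.Agent.Lib.Helper9.TCData.ONC0.S1240
import Cfsg.Agent.Lib.Helper9.TCData.ONC0.S1241
import Cfsg.Agent.Lib.Helper9.TCData.ONC0.S1242
import Cfsg.Agent.Lib.Helper9.TCData.ONC0.S1243
import Cfsg.Agent.Lib.Helper9.TCData.ONC0.S1244
import Cfsg.Agent.Lib.Helper9.TCData.ONC0.S1245
import Cfsg.Agent.Lib.Helper9.TCData.ONC0.S1246
import Cfsg.Agent.Lib.Helper9.TCData.ONC0.S1247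
import Cfsg.Agent.Lib.Helper9.TCData.ONC0.S1248
import Cfsg.Agent.Lib.Helper9.TCData.ONC0.S1249
import Cfsg.Agent.Lib.Helper9.TCData.ONC0.S1250
import Cfsg.Agent.Lib.Helper9.TCData.ONC0.S1251
import Cfsg.Agent.Lib.Helper9.TCData.ONC0.S1252
import Cfsg.Agent.Lib.Helper9.TCData.ONC0.S1253
import Cfsg.Agent.Lib.Helper9.TCData.ONC0.S1254
import Cfsg.Agent.Lib.Helper9.TCData.ONC0.S1255
import Cfsg.Agent.Lib.Helper9.TCData.ONC0.S1256
import Cfsg.Agent.Lib.Helper9.TCData.ONC0.S1257
import Cfsg.Agent.Lib.Helper9.TCData.ONC0.S1258
import Cfsg.Agent.Lib.Helper9.TCData.ONC0.S1259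
import Cfsg.Agent.Lib.Helper9.TCData.ONC0.S1260
import Cfsg.Agent.Lib.Helper9.TCData.ONC0.S1261
import Cfsg.Agent.Lib.Helper9.TCData.ONC0.S1262
import Cfsg.Agent.Lib.Helper9.TCData.ONC0.S1263
import Cfsg.Agent.Lib.Helper9.TCData.ONC0.S1264
import Cfsg.Agent.Lib.Helper9.TCData.ONC0.S1265
import Cfsg.Agent.Lib.Helper9.TCData.ONC0.S1266
import Cfsg.Agent.Lib.Helper9.TCData.ONC0.S1267
import Cfsg.Agent.Lib.Helper9.TCData.ONC0.S1268
import Cfsg.Agent.Lib.Helper9.TCData.ONC0.S1269
import Cfsg.Agent.Lib.Helper9.TCData.ONC0.S1270
import Cfsg.Agent.Lib.Helper9.TCData.ONC0.S1271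
import Cfsg.Agent.Lib.Helper9.TCData.ONC0.S1272
import Cfsg.Agent.Lib.Helper9.TCData.ONC0.S1273
import Cfsg.Agent.Lib.Helper9.TCData.ONC0.S1274
import Cfsg.Agent.Lib.Helper9.TCData.ONC0.S1275
import Cfsg.Agent.Lib.Helper9.TCData.ONC0.S1276
import Cfsg.Agent.Lib.Helper9.TCData.ONC0.S1277
import Cfsg.Agent.Lib.Helper9.TCData.ONC0.S1278
import Cfsg.Agent.Lib.Helper9.TCData.ONC0.S1279
import Cfsg.Agent.Lib.Helper9.TCData.ONC0.S1280
import Cfsg.Agent.Lib.Helper9.TCData.ONC0.S1281
import Cfsg.Agent.Lib.Helper9.TCData.ONC0.S1282
import Cfsg.Agent.Lib.Helper9.TCData.ONC0.S1283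
import Cfsg.Agent.Lib.Helper9.TCData.ONC0.S1284
import Cfsg.Agent.Lib.Helper9.TCData.ONC0.S1285
import Cfsg.Agent.Lib.Helper9.TCData.ONC0.S1286
import Cfsg.Agent.Lib.Helper9.TCData.ONC0.S1287
import Cfsg.Agent.Lib.Helper9.TCData.ONC0.S1288
import Cfsg.Agent.Lib.Helper9.TCData.ONC0.S1289
import Cfsg.Agent.Lib.Helper9.TCData.ONC0.S1290
import Cfsg.Agent.Lib.Helper9.TCData.ONC0.S1291
import Cfsg.Agent.Lib.Helper9.TCData.ONC0.S1292
import Cfsg.Agent.Lib.Helper9.TCData.ONC0.S1293
import Cfsg.Agent.Lib.Helper9.TCData.ONC0.S1294
import Cfsg.Agent.Lib.Helper9.TCData.ONC0.S1295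
import Cfsg.Agent.Lib.Helper9.TCData.ONC0.S1296
import Cfsg.Agent.Lib.Helper9.TCData.ONC0.S1297
import Cfsg.Agent.Lib.Helper9.TCData.ONC0.S1298
import Cfsg.Agent.Lib.Helper9.TCData.ONC0.S1299
import Cfsg.Agent.Lib.Helper9.TCData.ONC0.S1300
import Cfsg.Agent.Lib.Helper9.TCData.ONC0.S1301
import Cfsg.Agent.Lib.Helper9.TCData.ONC0.S1302
import Cfsg.Agent.Lib.Helper9.TCData.ONC0.S1303
import Cfsg.Agent.Lib.Helper9.TCData.ONC0.S1304
import Cfsg.Agent.Lib.Helper9.TCData.ONC0.S1305
import Cfsg.Agent.Lib.Helper9.TCData.ONC0.S1306
import Cfsg.Agent.Lib.Helper9.TCData.ONC0.S1307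
import Cfsg.Agent.Lib.Helper9.TCData.ONC0.S1308
import Cfsg.Agent.Lib.Helper9.TCData.ONC0.S1309
import Cfsg.Agent.Lib.Helper9.TCData.ONC0.S1310
import Cfsg.Agent.Lib.Helper9.TCData.ONC0.S1311
import Cfsg.Agent.Lib.Helper9.TCData.ONC0.S1312
import Cfsg.Agent.Lib.Helper9.TCData.ONC0.S1313
import Cfsg.Agent.Lib.Helper9.TCData.ONC0.S1314
import Cfsg.Agent.Lib.Helper9.TCData.ONC0.S1315
import Cfsg.Agent.Lib.Helper9.TCData.ONC0.S1316
import Cfsg.Agent.Lib.Helper9.TCData.ONC0.S1317
import Cfsg.Agent.Lib.Helper9.TCData.ONC0.S1318
import Cfsg.Agent.Lib.Helper9.TCData.ONC0.S1319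
import Cfsg.Agent.Lib.Helper9.TCData.ONC0.S1320

set_option autoImplicit false
set_option maxRecDepth 1000000

namespace Cfsg.Agent.Helper9.TCData.ONC0
open Cfsg.Agent.Helper9.TC2


theorem hE0 : ∀ u < 231594, chkE tab 0 u = true := by
  have h0 : ∀ u < 0, (fun u => chkE tab 0 u) u = true := range_zero
  have h1 : ∀ u < 3850, (fun u => chkE tab 0 u) u = true := ext_range (a := 0) (len := 3850) h0 e0_0
  have h2 : ∀ u < 7411, (fun u => chkE tab 0 u) u = true := ext_range (a := 3850) (len := 3561) h1 e0_1
  have h3 : ∀ u < 10775, (fun u => chkE tab 0 u) u = true := ext_range (a := 7411) (len := 3364) h2 e0_2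
  have h4 : ∀ u < 13780, (fun u => chkE tab 0 u) u = true := ext_range (a := 10775) (len := 3005) h3 e0_3
  have h5 : ∀ u < 17254, (fun u => chkE tab 0 u) u = true := ext_range (a := 13780) (len := 3474) h4 e0_4
  have h6 : ∀ u < 20542, (fun u => chkE tab 0 u) u = true := ext_range (a := 17254) (len := 3288) h5 e0_5
  have h7 : ∀ u < 24430, (fun u => chkE tab 0 u) u = true := ext_range (a := 20542) (len := 3888) h6 e0_6
  have h8 : ∀ u < 27017, (fun u => chkE tab 0 u) u = true := ext_range (a := 24430) (len := 2587) h7 e0_7
  have h9 : ∀ u < 30024, (fun u => chkE tab 0 u) u = true := ext_range (a := 27017) (len := 3007) h8 e0_8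
  have h10 : ∀ u < 33356, (fun u => chkE tab 0 u) u = true := ext_range (a := 30024) (len := 3332) h9 e0_9
  have h11 : ∀ u < 36584, (fun u => chkE tab 0 u) u = true := ext_range (a := 33356) (len := 3228) h10 e0_10
  have h12 : ∀ u < 40279, (fun u => chkE tab 0 u) u = true := ext_range (a := 36584) (len := 3695) h11 e0_11
  have h13 : ∀ u < 43492, (fun u => chkE tab 0 u) u = true := ext_range (a := 40279) (len := 3213) h12 e0_12
  have h14 : ∀ u < 46141, (fun u => chkE tab 0 u) u = true := ext_range (a := 43492) (len := 2649) h13 e0_13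
  have h15 : ∀ u < 49260, (fun u => chkE tab 0 u) u = true := ext_range (a := 46141) (len := 3119) h14 e0_14
  have h16 : ∀ u < 52233, (fun u => chkE tab 0 u) u = true := ext_range (a := 49260) (len := 2973) h15 e0_15
  have h17 : ∀ u < 55170, (fun u => chkE tab 0 u) u = true := ext_range (a := 52233) (len := 2937) h16 e0_16
  have h18 : ∀ u < 58599, (fun u => chkE tab 0 u) u = true := ext_range (a := 55170) (len := 3429) h17 e0_17
  have h19 : ∀ u < 61668, (fun u => chkE tab 0 u) u = true := ext_range (a := 58599) (len := 3069) h18 e0_18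
  have h20 : ∀ u < 64688, (fun u => chkE tab 0 u) u = true := ext_range (a := 61668) (len := 3020) h19 e0_19
  have h21 : ∀ u < 68555, (fun u => chkE tab 0 u) u = true := ext_range (a := 64688) (len := 3867) h20 e0_20
  have h22 : ∀ u < 71742, (fun u => chkE tab 0 u) u = true := ext_range (a := 68555) (len := 3187) h21 e0_21
  have h23 : ∀ u < 75309, (fun u => chkE tab 0 u) u = true := ext_range (a := 71742) (len := 3567) h22 e0_22
  have h24 : ∀ u < 78477, (fun u => chkE tab 0 u) u = true := ext_range (a := 75309) (len := 3168) h23 e0_23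
  have h25 : ∀ u < 81601, (fun u => chkE tab 0 u) u = true := ext_range (a := 78477) (len := 3124) h24 e0_24
  have h26 : ∀ u < 84252, (fun u => chkE tab 0 u) u = true := ext_range (a := 81601) (len := 2651) h25 e0_25
  have h27 : ∀ u < 87717, (fun u => chkE tab 0 u) u = true := ext_range (a := 84252) (len := 3465) h26 e0_26
  have h28 : ∀ u < 90725, (fun u => chkE tab 0 u) u = true := ext_range (a := 87717) (len := 3008) h27 e0_27
  have h29 : ∀ u < 94212, (fun u => chkE tab 0 u) u = true := ext_range (a := 90725) (len := 3487) h28 e0_28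
  have h30 : ∀ u < 97555, (fun u => chkE tab 0 u) u = true := ext_range (a := 94212) (len := 3343) h29 e0_29
  have h31 : ∀ u < 100907, (fun u => chkE tab 0 u) u = true := ext_range (a := 97555) (len := 3352) h30 e0_30
  have h32 : ∀ u < 104319, (fun u => chkE tab 0 u) u = true := ext_range (a := 100907) (len := 3412) h31 e0_31
  have h33 : ∀ u < 108049, (fun u => chkE tab 0 u) u = true := ext_range (a := 104319) (len := 3730) h32 e0_32
  have h34 : ∀ u < 110520, (fun u => chkE tab 0 u) u = true := ext_range (a := 108049) (len := 2471) h33 e0_33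
  have h35 : ∀ u < 113394, (fun u => chkE tab 0 u) u = true := ext_range (a := 110520) (len := 2874) h34 e0_34
  have h36 : ∀ u < 116185, (fun u => chkE tab 0 u) u = true := ext_range (a := 113394) (len := 2791) h35 e0_35
  have h37 : ∀ u < 119048, (fun u => chkE tab 0 u) u = true := ext_range (a := 116185) (len := 2863) h36 e0_36
  have h38 : ∀ u < 121965, (fun u => chkE tab 0 u) u = true := ext_range (a := 119048) (len := 2917) h37 e0_37
  have h39 : ∀ u < 125236, (fun u => chkE tab 0 u) u = true := ext_range (a := 121965) (len := 3271) h38 e0_38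
  have h40 : ∀ u < 128285, (fun u => chkE tab 0 u) u = true := ext_range (a := 125236) (len := 3049) h39 e0_39
  have h41 : ∀ u < 130772, (fun u => chkE tab 0 u) u = true := ext_range (a := 128285) (len := 2487) h40 e0_40
  have h42 : ∀ u < 133428, (fun u => chkE tab 0 u) u = true := ext_range (a := 130772) (len := 2656) h41 e0_41
  have h43 : ∀ u < 136101, (fun u => chkE tab 0 u) u = true := ext_range (a := 133428) (len := 2673) h42 e0_42
  have h44 : ∀ u < 138752, (fun u => chkE tab 0 u) u = true := ext_range (a := 136101) (len := 2651) h43 e0_43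
  have h45 : ∀ u < 141236, (fun u => chkE tab 0 u) u = true := ext_range (a := 138752) (len := 2484) h44 e0_44
  have h46 : ∀ u < 144422, (fun u => chkE tab 0 u) u = true := ext_range (a := 141236) (len := 3186) h45 e0_45
  have h47 : ∀ u < 148339, (fun u => chkE tab 0 u) u = true := ext_range (a := 144422) (len := 3917) h46 e0_46
  have h48 : ∀ u < 151692, (fun u => chkE tab 0 u) u = true := ext_range (a := 148339) (len := 3353) h47 e0_47
  have h49 : ∀ u < 155094, (fun u => chkE tab 0 u) u = true := ext_range (a := 151692) (len := 3402) h48 e0_48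
  have h50 : ∀ u < 158294, (fun u => chkE tab 0 u) u = true := ext_range (a := 155094) (len := 3200) h49 e0_49
  have h51 : ∀ u < 162076, (fun u => chkE tab 0 u) u = true := ext_range (a := 158294) (len := 3782) h50 e0_50
  have h52 : ∀ u < 166002, (fun u => chkE tab 0 u) u = true := ext_range (a := 162076) (len := 3926) h51 e0_51
  have h53 : ∀ u < 170374, (fun u => chkE tab 0 u) u = true := ext_range (a := 166002) (len := 4372) h52 e0_52
  have h54 : ∀ u < 176138, (fun u => chkE tab 0 u) u = true := ext_range (a := 170374) (len := 5764) h53 e0_53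
  have h55 : ∀ u < 180677, (fun u => chkE tab 0 u) u = true := ext_range (a := 176138) (len := 4539) h54 e0_54
  have h56 : ∀ u < 185494, (fun u => chkE tab 0 u) u = true := ext_range (a := 180677) (len := 4817) h55 e0_55
  have h57 : ∀ u < 189686, (fun u => chkE tab 0 u) u = true := ext_range (a := 185494) (len := 4192) h56 e0_56
  have h58 : ∀ u < 193059, (fun u => chkE tab 0 u) u = true := ext_range (a := 189686) (len := 3373) h57 e0_57
  have h59 : ∀ u < 194682, (fun u => chkE tab 0 u) u = true := ext_range (a := 193059) (len := 1623) h58 e0_58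
  have h60 : ∀ u < 196354, (fun u => chkE tab 0 u) u = true := ext_range (a := 194682) (len := 1672) h59 e0_59
  have h61 : ∀ u < 197929, (fun u => chkE tab 0 u) u = true := ext_range (a := 196354) (len := 1575) h60 e0_60
  have h62 : ∀ u < 199515, (fun u => chkE tab 0 u) u = true := ext_range (a := 197929) (len := 1586) h61 e0_61
  have h63 : ∀ u < 201147, (fun u => chkE tab 0 u) u = true := ext_range (a := 199515) (len := 1632) h62 e0_62
  have h64 : ∀ u < 202667, (fun u => chkE tab 0 u) u = true := ext_range (a := 201147) (len := 1520) h63 e0_63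
  have h65 : ∀ u < 204209, (fun u => chkE tab 0 u) u = true := ext_range (a := 202667) (len := 1542) h64 e0_64
  have h66 : ∀ u < 205864, (fun u => chkE tab 0 u) u = true := ext_range (a := 204209) (len := 1655) h65 e0_65
  have h67 : ∀ u < 207476, (fun u => chkE tab 0 u) u = true := ext_range (a := 205864) (len := 1612) h66 e0_66
  have h68 : ∀ u < 209078, (fun u => chkE tab 0 u) u = true := ext_range (a := 207476) (len := 1602) h67 e0_67
  have h69 : ∀ u < 210747, (fun u => chkE tab 0 u) u = true := ext_range (a := 209078) (len := 1669) h68 e0_68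
  have h70 : ∀ u < 212325, (fun u => chkE tab 0 u) u = true := ext_range (a := 210747) (len := 1578) h69 e0_69
  have h71 : ∀ u < 214067, (fun u => chkE tab 0 u) u = true := ext_range (a := 212325) (len := 1742) h70 e0_70
  have h72 : ∀ u < 215744, (fun u => chkE tab 0 u) u = true := ext_range (a := 214067) (len := 1677) h71 e0_71
  have h73 : ∀ u < 217304, (fun u => chkE tab 0 u) u = true := ext_range (a := 215744) (len := 1560) h72 e0_72
  have h74 : ∀ u < 219026, (fun u => chkE tab 0 u) u = true := ext_range (a := 217304) (len := 1722) h73 e0_73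
  have h75 : ∀ u < 220967, (fun u => chkE tab 0 u) u = true := ext_range (a := 219026) (len := 1941) h74 e0_74
  have h76 : ∀ u < 222761, (fun u => chkE tab 0 u) u = true := ext_range (a := 220967) (len := 1794) h75 e0_75
  have h77 : ∀ u < 224698, (fun u => chkE tab 0 u) u = true := ext_range (a := 222761) (len := 1937) h76 e0_76
  have h78 : ∀ u < 226642, (fun u => chkE tab 0 u) u = true := ext_range (a := 224698) (len := 1944) h77 e0_77
  have h79 : ∀ u < 228854, (fun u => chkE tab 0 u) u = true := ext_range (a := 226642) (len := 2212) h78 e0_78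
  have h80 : ∀ u < 231478, (fun u => chkE tab 0 u) u = true := ext_range (a := 228854) (len := 2624) h79 e0_79
  have h81 : ∀ u < 231594, (fun u => chkE tab 0 u) u = true := ext_range (a := 231478) (len := 116) h80 e0_80
  exact h81

theorem hE1 : ∀ u < 231594, chkE tab 1 u = true := by
  have h0 : ∀ u < 0, (fun u => chkE tab 1 u) u = true := range_zero
  have h1 : ∀ u < 3144, (fun u => chkE tab 1 u) u = true := ext_range (a := 0) (len := 3144) h0 e1_0
  have h2 : ∀ u < 6264, (fun u => chkE tab 1 u) u = true := ext_range (a := 3144) (len := 3120) h1 e1_1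
  have h3 : ∀ u < 9193, (fun u => chkE tab 1 u) u = true := ext_range (a := 6264) (len := 2929) h2 e1_2
  have h4 : ∀ u < 12165, (fun u => chkE tab 1 u) u = true := ext_range (a := 9193) (len := 2972) h3 e1_3
  have h5 : ∀ u < 14973, (fun u => chkE tab 1 u) u = true := ext_range (a := 12165) (len := 2808) h4 e1_4
  have h6 : ∀ u < 18100, (fun u => chkE tab 1 u) u = true := ext_range (a := 14973) (len := 3127) h5 e1_5
  have h7 : ∀ u < 21169, (fun u => chkE tab 1 u) u = true := ext_range (a := 18100) (len := 3069) h6 e1_6
  have h8 : ∀ u < 24438, (fun u => chkE tab 1 u) u = true := ext_range (a := 21169) (len := 3269) h7 e1_7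
  have h9 : ∀ u < 26875, (fun u => chkE tab 1 u) u = true := ext_range (a := 24438) (len := 2437) h8 e1_8
  have h10 : ∀ u < 29692, (fun u => chkE tab 1 u) u = true := ext_range (a := 26875) (len := 2817) h9 e1_9
  have h11 : ∀ u < 32565, (fun u => chkE tab 1 u) u = true := ext_range (a := 29692) (len := 2873) h10 e1_10
  have h12 : ∀ u < 35367, (fun u => chkE tab 1 u) u = true := ext_range (a := 32565) (len := 2802) h11 e1_11
  have h13 : ∀ u < 38303, (fun u => chkE tab 1 u) u = true := ext_range (a := 35367) (len := 2936) h12 e1_12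
  have h14 : ∀ u < 41537, (fun u => chkE tab 1 u) u = true := ext_range (a := 38303) (len := 3234) h13 e1_13
  have h15 : ∀ u < 44338, (fun u => chkE tab 1 u) u = true := ext_range (a := 41537) (len := 2801) h14 e1_14
  have h16 : ∀ u < 47045, (fun u => chkE tab 1 u) u = true := ext_range (a := 44338) (len := 2707) h15 e1_15
  have h17 : ∀ u < 49652, (fun u => chkE tab 1 u) u = true := ext_range (a := 47045) (len := 2607) h16 e1_16
  have h18 : ∀ u < 52377, (fun u => chkE tab 1 u) u = true := ext_range (a := 49652) (len := 2725) h17 e1_17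
  have h19 : ∀ u < 55111, (fun u => chkE tab 1 u) u = true := ext_range (a := 52377) (len := 2734) h18 e1_18
  have h20 : ∀ u < 58116, (fun u => chkE tab 1 u) u = true := ext_range (a := 55111) (len := 3005) h19 e1_19
  have h21 : ∀ u < 61268, (fun u => chkE tab 1 u) u = true := ext_range (a := 58116) (len := 3152) h20 e1_20
  have h22 : ∀ u < 64044, (fun u => chkE tab 1 u) u = true := ext_range (a := 61268) (len := 2776) h21 e1_21
  have h23 : ∀ u < 67064, (fun u => chkE tab 1 u) u = true := ext_range (a := 64044) (len := 3020) h22 e1_22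
  have h24 : ∀ u < 70222, (fun u => chkE tab 1 u) u = true := ext_range (a := 67064) (len := 3158) h23 e1_23
  have h25 : ∀ u < 73355, (fun u => chkE tab 1 u) u = true := ext_range (a := 70222) (len := 3133) h24 e1_24
  have h26 : ∀ u < 76510, (fun u => chkE tab 1 u) u = true := ext_range (a := 73355) (len := 3155) h25 e1_25
  have h27 : ∀ u < 79649, (fun u => chkE tab 1 u) u = true := ext_range (a := 76510) (len := 3139) h26 e1_26
  have h28 : ∀ u < 82486, (fun u => chkE tab 1 u) u = true := ext_range (a := 79649) (len := 2837) h27 e1_27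
  have h29 : ∀ u < 85176, (fun u => chkE tab 1 u) u = true := ext_range (a := 82486) (len := 2690) h28 e1_28
  have h30 : ∀ u < 88163, (fun u => chkE tab 1 u) u = true := ext_range (a := 85176) (len := 2987) h29 e1_29
  have h31 : ∀ u < 90951, (fun u => chkE tab 1 u) u = true := ext_range (a := 88163) (len := 2788) h30 e1_30
  have h32 : ∀ u < 94167, (fun u => chkE tab 1 u) u = true := ext_range (a := 90951) (len := 3216) h31 e1_31
  have h33 : ∀ u < 97635, (fun u => chkE tab 1 u) u = true := ext_range (a := 94167) (len := 3468) h32 e1_32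
  have h34 : ∀ u < 100976, (fun u => chkE tab 1 u) u = true := ext_range (a := 97635) (len := 3341) h33 e1_33
  have h35 : ∀ u < 104476, (fun u => chkE tab 1 u) u = true := ext_range (a := 100976) (len := 3500) h34 e1_34
  have h36 : ∀ u < 108172, (fun u => chkE tab 1 u) u = true := ext_range (a := 104476) (len := 3696) h35 e1_35
  have h37 : ∀ u < 110847, (fun u => chkE tab 1 u) u = true := ext_range (a := 108172) (len := 2675) h36 e1_36
  have h38 : ∀ u < 113794, (fun u => chkE tab 1 u) u = true := ext_range (a := 110847) (len := 2947) h37 e1_37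
  have h39 : ∀ u < 116658, (fun u => chkE tab 1 u) u = true := ext_range (a := 113794) (len := 2864) h38 e1_38
  have h40 : ∀ u < 119546, (fun u => chkE tab 1 u) u = true := ext_range (a := 116658) (len := 2888) h39 e1_39
  have h41 : ∀ u < 122659, (fun u => chkE tab 1 u) u = true := ext_range (a := 119546) (len := 3113) h40 e1_40
  have h42 : ∀ u < 125753, (fun u => chkE tab 1 u) u = true := ext_range (a := 122659) (len := 3094) h41 e1_41
  have h43 : ∀ u < 128652, (fun u => chkE tab 1 u) u = true := ext_range (a := 125753) (len := 2899) h42 e1_42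
  have h44 : ∀ u < 131647, (fun u => chkE tab 1 u) u = true := ext_range (a := 128652) (len := 2995) h43 e1_43
  have h45 : ∀ u < 134481, (fun u => chkE tab 1 u) u = true := ext_range (a := 131647) (len := 2834) h44 e1_44
  have h46 : ∀ u < 137328, (fun u => chkE tab 1 u) u = true := ext_range (a := 134481) (len := 2847) h45 e1_45
  have h47 : ∀ u < 140075, (fun u => chkE tab 1 u) u = true := ext_range (a := 137328) (len := 2747) h46 e1_46
  have h48 : ∀ u < 143517, (fun u => chkE tab 1 u) u = true := ext_range (a := 140075) (len := 3442) h47 e1_47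
  have h49 : ∀ u < 147864, (fun u => chkE tab 1 u) u = true := ext_range (a := 143517) (len := 4347) h48 e1_48
  have h50 : ∀ u < 151740, (fun u => chkE tab 1 u) u = true := ext_range (a := 147864) (len := 3876) h49 e1_49
  have h51 : ∀ u < 155286, (fun u => chkE tab 1 u) u = true := ext_range (a := 151740) (len := 3546) h50 e1_50
  have h52 : ∀ u < 159087, (fun u => chkE tab 1 u) u = true := ext_range (a := 155286) (len := 3801) h51 e1_51
  have h53 : ∀ u < 162651, (fun u => chkE tab 1 u) u = true := ext_range (a := 159087) (len := 3564) h52 e1_52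
  have h54 : ∀ u < 166571, (fun u => chkE tab 1 u) u = true := ext_range (a := 162651) (len := 3920) h53 e1_53
  have h55 : ∀ u < 171159, (fun u => chkE tab 1 u) u = true := ext_range (a := 166571) (len := 4588) h54 e1_54
  have h56 : ∀ u < 176681, (fun u => chkE tab 1 u) u = true := ext_range (a := 171159) (len := 5522) h55 e1_55
  have h57 : ∀ u < 181365, (fun u => chkE tab 1 u) u = true := ext_range (a := 176681) (len := 4684) h56 e1_56
  have h58 : ∀ u < 186485, (fun u => chkE tab 1 u) u = true := ext_range (a := 181365) (len := 5120) h57 e1_57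
  have h59 : ∀ u < 190601, (fun u => chkE tab 1 u) u = true := ext_range (a := 186485) (len := 4116) h58 e1_58
  have h60 : ∀ u < 193806, (fun u => chkE tab 1 u) u = true := ext_range (a := 190601) (len := 3205) h59 e1_59
  have h61 : ∀ u < 195797, (fun u => chkE tab 1 u) u = true := ext_range (a := 193806) (len := 1991) h60 e1_60
  have h62 : ∀ u < 197770, (fun u => chkE tab 1 u) u = true := ext_range (a := 195797) (len := 1973) h61 e1_61
  have h63 : ∀ u < 199795, (fun u => chkE tab 1 u) u = true := ext_range (a := 197770) (len := 2025) h62 e1_62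
  have h64 : ∀ u < 201845, (fun u => chkE tab 1 u) u = true := ext_range (a := 199795) (len := 2050) h63 e1_63
  have h65 : ∀ u < 203834, (fun u => chkE tab 1 u) u = true := ext_range (a := 201845) (len := 1989) h64 e1_64
  have h66 : ∀ u < 205978, (fun u => chkE tab 1 u) u = true := ext_range (a := 203834) (len := 2144) h65 e1_65
  have h67 : ∀ u < 208061, (fun u => chkE tab 1 u) u = true := ext_range (a := 205978) (len := 2083) h66 e1_66
  have h68 : ∀ u < 210129, (fun u => chkE tab 1 u) u = true := ext_range (a := 208061) (len := 2068) h67 e1_67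
  have h69 : ∀ u < 212353, (fun u => chkE tab 1 u) u = true := ext_range (a := 210129) (len := 2224) h68 e1_68
  have h70 : ∀ u < 214521, (fun u => chkE tab 1 u) u = true := ext_range (a := 212353) (len := 2168) h69 e1_69
  have h71 : ∀ u < 216605, (fun u => chkE tab 1 u) u = true := ext_range (a := 214521) (len := 2084) h70 e1_70
  have h72 : ∀ u < 218781, (fun u => chkE tab 1 u) u = true := ext_range (a := 216605) (len := 2176) h71 e1_71
  have h73 : ∀ u < 221097, (fun u => chkE tab 1 u) u = true := ext_range (a := 218781) (len := 2316) h72 e1_72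
  have h74 : ∀ u < 223232, (fun u => chkE tab 1 u) u = true := ext_range (a := 221097) (len := 2135) h73 e1_73
  have h75 : ∀ u < 225675, (fun u => chkE tab 1 u) u = true := ext_range (a := 223232) (len := 2443) h74 e1_74
  have h76 : ∀ u < 228251, (fun u => chkE tab 1 u) u = true := ext_range (a := 225675) (len := 2576) h75 e1_75
  have h77 : ∀ u < 230979, (fun u => chkE tab 1 u) u = true := ext_range (a := 228251) (len := 2728) h76 e1_76
  have h78 : ∀ u < 231594, (fun u => chkE tab 1 u) u = true := ext_range (a := 230979) (len := 615) h77 e1_77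
  exact h78

theorem hE2 : ∀ u < 231594, chkE tab 2 u = true := by
  have h0 : ∀ u < 0, (fun u => chkE tab 2 u) u = true := range_zero
  have h1 : ∀ u < 2774, (fun u => chkE tab 2 u) u = true := ext_range (a := 0) (len := 2774) h0 e2_0
  have h2 : ∀ u < 5831, (fun u => chkE tab 2 u) u = true := ext_range (a := 2774) (len := 3057) h1 e2_1
  have h3 : ∀ u < 8497, (fun u => chkE tab 2 u) u = true := ext_range (a := 5831) (len := 2666) h2 e2_2
  have h4 : ∀ u < 11359, (fun u => chkE tab 2 u) u = true := ext_range (a := 8497) (len := 2862) h3 e2_3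
  have h5 : ∀ u < 14242, (fun u => chkE tab 2 u) u = true := ext_range (a := 11359) (len := 2883) h4 e2_4
  have h6 : ∀ u < 17039, (fun u => chkE tab 2 u) u = true := ext_range (a := 14242) (len := 2797) h5 e2_5
  have h7 : ∀ u < 19629, (fun u => chkE tab 2 u) u = true := ext_range (a := 17039) (len := 2590) h6 e2_6
  have h8 : ∀ u < 22612, (fun u => chkE tab 2 u) u = true := ext_range (a := 19629) (len := 2983) h7 e2_7
  have h9 : ∀ u < 25567, (fun u => chkE tab 2 u) u = true := ext_range (a := 22612) (len := 2955) h8 e2_8
  have h10 : ∀ u < 28418, (fun u => chkE tab 2 u) u = true := ext_range (a := 25567) (len := 2851) h9 e2_9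
  have h11 : ∀ u < 31121, (fun u => chkE tab 2 u) u = true := ext_range (a := 28418) (len := 2703) h10 e2_10
  have h12 : ∀ u < 33551, (fun u => chkE tab 2 u) u = true := ext_range (a := 31121) (len := 2430) h11 e2_11
  have h13 : ∀ u < 36001, (fun u => chkE tab 2 u) u = true := ext_range (a := 33551) (len := 2450) h12 e2_12
  have h14 : ∀ u < 38783, (fun u => chkE tab 2 u) u = true := ext_range (a := 36001) (len := 2782) h13 e2_13
  have h15 : ∀ u < 41838, (fun u => chkE tab 2 u) u = true := ext_range (a := 38783) (len := 3055) h14 e2_14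
  have h16 : ∀ u < 44614, (fun u => chkE tab 2 u) u = true := ext_range (a := 41838) (len := 2776) h15 e2_15
  have h17 : ∀ u < 47391, (fun u => chkE tab 2 u) u = true := ext_range (a := 44614) (len := 2777) h16 e2_16
  have h18 : ∀ u < 49860, (fun u => chkE tab 2 u) u = true := ext_range (a := 47391) (len := 2469) h17 e2_17
  have h19 : ∀ u < 52598, (fun u => chkE tab 2 u) u = true := ext_range (a := 49860) (len := 2738) h18 e2_18
  have h20 : ∀ u < 55486, (fun u => chkE tab 2 u) u = true := ext_range (a := 52598) (len := 2888) h19 e2_19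
  have h21 : ∀ u < 58779, (fun u => chkE tab 2 u) u = true := ext_range (a := 55486) (len := 3293) h20 e2_20
  have h22 : ∀ u < 61802, (fun u => chkE tab 2 u) u = true := ext_range (a := 58779) (len := 3023) h21 e2_21
  have h23 : ∀ u < 64540, (fun u => chkE tab 2 u) u = true := ext_range (a := 61802) (len := 2738) h22 e2_22
  have h24 : ∀ u < 67280, (fun u => chkE tab 2 u) u = true := ext_range (a := 64540) (len := 2740) h23 e2_23
  have h25 : ∀ u < 70018, (fun u => chkE tab 2 u) u = true := ext_range (a := 67280) (len := 2738) h24 e2_24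
  have h26 : ∀ u < 72735, (fun u => chkE tab 2 u) u = true := ext_range (a := 70018) (len := 2717) h25 e2_25
  have h27 : ∀ u < 75694, (fun u => chkE tab 2 u) u = true := ext_range (a := 72735) (len := 2959) h26 e2_26
  have h28 : ∀ u < 78934, (fun u => chkE tab 2 u) u = true := ext_range (a := 75694) (len := 3240) h27 e2_27
  have h29 : ∀ u < 81706, (fun u => chkE tab 2 u) u = true := ext_range (a := 78934) (len := 2772) h28 e2_28
  have h30 : ∀ u < 84247, (fun u => chkE tab 2 u) u = true := ext_range (a := 81706) (len := 2541) h29 e2_29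
  have h31 : ∀ u < 86749, (fun u => chkE tab 2 u) u = true := ext_range (a := 84247) (len := 2502) h30 e2_30
  have h32 : ∀ u < 89543, (fun u => chkE tab 2 u) u = true := ext_range (a := 86749) (len := 2794) h31 e2_31
  have h33 : ∀ u < 92274, (fun u => chkE tab 2 u) u = true := ext_range (a := 89543) (len := 2731) h32 e2_32
  have h34 : ∀ u < 96799, (fun u => chkE tab 2 u) u = true := ext_range (a := 92274) (len := 4525) h33 e2_33
  have h35 : ∀ u < 100648, (fun u => chkE tab 2 u) u = true := ext_range (a := 96799) (len := 3849) h34 e2_34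
  have h36 : ∀ u < 104408, (fun u => chkE tab 2 u) u = true := ext_range (a := 100648) (len := 3760) h35 e2_35
  have h37 : ∀ u < 108596, (fun u => chkE tab 2 u) u = true := ext_range (a := 104408) (len := 4188) h36 e2_36
  have h38 : ∀ u < 111622, (fun u => chkE tab 2 u) u = true := ext_range (a := 108596) (len := 3026) h37 e2_37
  have h39 : ∀ u < 115409, (fun u => chkE tab 2 u) u = true := ext_range (a := 111622) (len := 3787) h38 e2_38
  have h40 : ∀ u < 118719, (fun u => chkE tab 2 u) u = true := ext_range (a := 115409) (len := 3310) h39 e2_39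
  have h41 : ∀ u < 123188, (fun u => chkE tab 2 u) u = true := ext_range (a := 118719) (len := 4469) h40 e2_40
  have h42 : ∀ u < 127397, (fun u => chkE tab 2 u) u = true := ext_range (a := 123188) (len := 4209) h41 e2_41
  have h43 : ∀ u < 131130, (fun u => chkE tab 2 u) u = true := ext_range (a := 127397) (len := 3733) h42 e2_42
  have h44 : ∀ u < 134096, (fun u => chkE tab 2 u) u = true := ext_range (a := 131130) (len := 2966) h43 e2_43
  have h45 : ∀ u < 137790, (fun u => chkE tab 2 u) u = true := ext_range (a := 134096) (len := 3694) h44 e2_44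
  have h46 : ∀ u < 141412, (fun u => chkE tab 2 u) u = true := ext_range (a := 137790) (len := 3622) h45 e2_45
  have h47 : ∀ u < 145642, (fun u => chkE tab 2 u) u = true := ext_range (a := 141412) (len := 4230) h46 e2_46
  have h48 : ∀ u < 150421, (fun u => chkE tab 2 u) u = true := ext_range (a := 145642) (len := 4779) h47 e2_47
  have h49 : ∀ u < 154903, (fun u => chkE tab 2 u) u = true := ext_range (a := 150421) (len := 4482) h48 e2_48
  have h50 : ∀ u < 159595, (fun u => chkE tab 2 u) u = true := ext_range (a := 154903) (len := 4692) h49 e2_49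
  have h51 : ∀ u < 164470, (fun u => chkE tab 2 u) u = true := ext_range (a := 159595) (len := 4875) h50 e2_50
  have h52 : ∀ u < 170500, (fun u => chkE tab 2 u) u = true := ext_range (a := 164470) (len := 6030) h51 e2_51
  have h53 : ∀ u < 177861, (fun u => chkE tab 2 u) u = true := ext_range (a := 170500) (len := 7361) h52 e2_52
  have h54 : ∀ u < 184071, (fun u => chkE tab 2 u) u = true := ext_range (a := 177861) (len := 6210) h53 e2_53
  have h55 : ∀ u < 189787, (fun u => chkE tab 2 u) u = true := ext_range (a := 184071) (len := 5716) h54 e2_54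
  have h56 : ∀ u < 194046, (fun u => chkE tab 2 u) u = true := ext_range (a := 189787) (len := 4259) h55 e2_55
  have h57 : ∀ u < 196720, (fun u => chkE tab 2 u) u = true := ext_range (a := 194046) (len := 2674) h56 e2_56
  have h58 : ∀ u < 199276, (fun u => chkE tab 2 u) u = true := ext_range (a := 196720) (len := 2556) h57 e2_57
  have h59 : ∀ u < 202062, (fun u => chkE tab 2 u) u = true := ext_range (a := 199276) (len := 2786) h58 e2_58
  have h60 : ∀ u < 204769, (fun u => chkE tab 2 u) u = true := ext_range (a := 202062) (len := 2707) h59 e2_59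
  have h61 : ∀ u < 207545, (fun u => chkE tab 2 u) u = true := ext_range (a := 204769) (len := 2776) h60 e2_60
  have h62 : ∀ u < 210407, (fun u => chkE tab 2 u) u = true := ext_range (a := 207545) (len := 2862) h61 e2_61
  have h63 : ∀ u < 213303, (fun u => chkE tab 2 u) u = true := ext_range (a := 210407) (len := 2896) h62 e2_62
  have h64 : ∀ u < 216187, (fun u => chkE tab 2 u) u = true := ext_range (a := 213303) (len := 2884) h63 e2_63
  have h65 : ∀ u < 219055, (fun u => chkE tab 2 u) u = true := ext_range (a := 216187) (len := 2868) h64 e2_64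
  have h66 : ∀ u < 222238, (fun u => chkE tab 2 u) u = true := ext_range (a := 219055) (len := 3183) h65 e2_65
  have h67 : ∀ u < 225573, (fun u => chkE tab 2 u) u = true := ext_range (a := 222238) (len := 3335) h66 e2_66
  have h68 : ∀ u < 229133, (fun u => chkE tab 2 u) u = true := ext_range (a := 225573) (len := 3560) h67 e2_67
  have h69 : ∀ u < 231594, (fun u => chkE tab 2 u) u = true := ext_range (a := 229133) (len := 2461) h68 e2_68
  exact h69

theorem hE3 : ∀ u < 231594, chkE tab 3 u = true := by
  have h0 : ∀ u < 0, (fun u => chkE tab 3 u) u = true := range_zero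
  have h1 : ∀ u < 3162, (fun u => chkE tab 3 u) u = true := ext_range (a := 0) (len := 3162) h0 e3_0
  have h2 : ∀ u < 6651, (fun u => chkE tab 3 u) u = true := ext_range (a := 3162) (len := 3489) h1 e3_1
  have h3 : ∀ u < 9811, (fun u => chkE tab 3 u) u = true := ext_range (a := 6651) (len := 3160) h2 e3_2
  have h4 : ∀ u < 13145, (fun u => chkE tab 3 u) u = true := ext_range (a := 9811) (len := 3334) h3 e3_3
  have h5 : ∀ u < 16467, (fun u => chkE tab 3 u) u = true := ext_range (a := 13145) (len := 3322) h4 e3_4
  have h6 : ∀ u < 19725, (fun u => chkE tab 3 u) u = true := ext_range (a := 16467) (len := 3258) h5 e3_5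
  have h7 : ∀ u < 23120, (fun u => chkE tab 3 u) u = true := ext_range (a := 19725) (len := 3395) h6 e3_6
  have h8 : ∀ u < 26324, (fun u => chkE tab 3 u) u = true := ext_range (a := 23120) (len := 3204) h7 e3_7
  have h9 : ∀ u < 29458, (fun u => chkE tab 3 u) u = true := ext_range (a := 26324) (len := 3134) h8 e3_8
  have h10 : ∀ u < 32592, (fun u => chkE tab 3 u) u = true := ext_range (a := 29458) (len := 3134) h9 e3_9
  have h11 : ∀ u < 35702, (fun u => chkE tab 3 u) u = true := ext_range (a := 32592) (len := 3110) h10 e3_10
  have h12 : ∀ u < 38932, (fun u => chkE tab 3 u) u = true := ext_range (a := 35702) (len := 3230) h11 e3_11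
  have h13 : ∀ u < 42395, (fun u => chkE tab 3 u) u = true := ext_range (a := 38932) (len := 3463) h12 e3_12
  have h14 : ∀ u < 45347, (fun u => chkE tab 3 u) u = true := ext_range (a := 42395) (len := 2952) h13 e3_13
  have h15 : ∀ u < 48228, (fun u => chkE tab 3 u) u = true := ext_range (a := 45347) (len := 2881) h14 e3_14
  have h16 : ∀ u < 51038, (fun u => chkE tab 3 u) u = true := ext_range (a := 48228) (len := 2810) h15 e3_15
  have h17 : ∀ u < 54000, (fun u => chkE tab 3 u) u = true := ext_range (a := 51038) (len := 2962) h16 e3_16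
  have h18 : ∀ u < 57342, (fun u => chkE tab 3 u) u = true := ext_range (a := 54000) (len := 3342) h17 e3_17
  have h19 : ∀ u < 60941, (fun u => chkE tab 3 u) u = true := ext_range (a := 57342) (len := 3599) h18 e3_18
  have h20 : ∀ u < 63976, (fun u => chkE tab 3 u) u = true := ext_range (a := 60941) (len := 3035) h19 e3_19
  have h21 : ∀ u < 67084, (fun u => chkE tab 3 u) u = true := ext_range (a := 63976) (len := 3108) h20 e3_20
  have h22 : ∀ u < 70436, (fun u => chkE tab 3 u) u = true := ext_range (a := 67084) (len := 3352) h21 e3_21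
  have h23 : ∀ u < 73862, (fun u => chkE tab 3 u) u = true := ext_range (a := 70436) (len := 3426) h22 e3_22
  have h24 : ∀ u < 77562, (fun u => chkE tab 3 u) u = true := ext_range (a := 73862) (len := 3700) h23 e3_23
  have h25 : ∀ u < 80899, (fun u => chkE tab 3 u) u = true := ext_range (a := 77562) (len := 3337) h24 e3_24
  have h26 : ∀ u < 83927, (fun u => chkE tab 3 u) u = true := ext_range (a := 80899) (len := 3028) h25 e3_25
  have h27 : ∀ u < 86936, (fun u => chkE tab 3 u) u = true := ext_range (a := 83927) (len := 3009) h26 e3_26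
  have h28 : ∀ u < 90003, (fun u => chkE tab 3 u) u = true := ext_range (a := 86936) (len := 3067) h27 e3_27
  have h29 : ∀ u < 93699, (fun u => chkE tab 3 u) u = true := ext_range (a := 90003) (len := 3696) h28 e3_28
  have h30 : ∀ u < 98517, (fun u => chkE tab 3 u) u = true := ext_range (a := 93699) (len := 4818) h29 e3_29
  have h31 : ∀ u < 103131, (fun u => chkE tab 3 u) u = true := ext_range (a := 98517) (len := 4614) h30 e3_30
  have h32 : ∀ u < 107948, (fun u => chkE tab 3 u) u = true := ext_range (a := 103131) (len := 4817) h31 e3_31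
  have h33 : ∀ u < 110999, (fun u => chkE tab 3 u) u = true := ext_range (a := 107948) (len := 3051) h32 e3_32
  have h34 : ∀ u < 114937, (fun u => chkE tab 3 u) u = true := ext_range (a := 110999) (len := 3938) h33 e3_33
  have h35 : ∀ u < 118038, (fun u => chkE tab 3 u) u = true := ext_range (a := 114937) (len := 3101) h34 e3_34
  have h36 : ∀ u < 122909, (fun u => chkE tab 3 u) u = true := ext_range (a := 118038) (len := 4871) h35 e3_35
  have h37 : ∀ u < 127847, (fun u => chkE tab 3 u) u = true := ext_range (a := 122909) (len := 4938) h36 e3_36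
  have h38 : ∀ u < 131471, (fun u => chkE tab 3 u) u = true := ext_range (a := 127847) (len := 3624) h37 e3_37
  have h39 : ∀ u < 135075, (fun u => chkE tab 3 u) u = true := ext_range (a := 131471) (len := 3604) h38 e3_38
  have h40 : ∀ u < 138834, (fun u => chkE tab 3 u) u = true := ext_range (a := 135075) (len := 3759) h39 e3_39
  have h41 : ∀ u < 142992, (fun u => chkE tab 3 u) u = true := ext_range (a := 138834) (len := 4158) h40 e3_40
  have h42 : ∀ u < 148412, (fun u => chkE tab 3 u) u = true := ext_range (a := 142992) (len := 5420) h41 e3_41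
  have h43 : ∀ u < 153437, (fun u => chkE tab 3 u) u = true := ext_range (a := 148412) (len := 5025) h42 e3_42
  have h44 : ∀ u < 158128, (fun u => chkE tab 3 u) u = true := ext_range (a := 153437) (len := 4691) h43 e3_43
  have h45 : ∀ u < 163184, (fun u => chkE tab 3 u) u = true := ext_range (a := 158128) (len := 5056) h44 e3_44
  have h46 : ∀ u < 169833, (fun u => chkE tab 3 u) u = true := ext_range (a := 163184) (len := 6649) h45 e3_45
  have h47 : ∀ u < 178179, (fun u => chkE tab 3 u) u = true := ext_range (a := 169833) (len := 8346) h46 e3_46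
  have h48 : ∀ u < 184378, (fun u => chkE tab 3 u) u = true := ext_range (a := 178179) (len := 6199) h47 e3_47
  have h49 : ∀ u < 190587, (fun u => chkE tab 3 u) u = true := ext_range (a := 184378) (len := 6209) h48 e3_48
  have h50 : ∀ u < 194079, (fun u => chkE tab 3 u) u = true := ext_range (a := 190587) (len := 3492) h49 e3_49
  have h51 : ∀ u < 196430, (fun u => chkE tab 3 u) u = true := ext_range (a := 194079) (len := 2351) h50 e3_50
  have h52 : ∀ u < 198695, (fun u => chkE tab 3 u) u = true := ext_range (a := 196430) (len := 2265) h51 e3_51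
  have h53 : ∀ u < 201154, (fun u => chkE tab 3 u) u = true := ext_range (a := 198695) (len := 2459) h52 e3_52
  have h54 : ∀ u < 203569, (fun u => chkE tab 3 u) u = true := ext_range (a := 201154) (len := 2415) h53 e3_53
  have h55 : ∀ u < 206069, (fun u => chkE tab 3 u) u = true := ext_range (a := 203569) (len := 2500) h54 e3_54
  have h56 : ∀ u < 208596, (fun u => chkE tab 3 u) u = true := ext_range (a := 206069) (len := 2527) h55 e3_55
  have h57 : ∀ u < 211022, (fun u => chkE tab 3 u) u = true := ext_range (a := 208596) (len := 2426) h56 e3_56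
  have h58 : ∀ u < 213565, (fun u => chkE tab 3 u) u = true := ext_range (a := 211022) (len := 2543) h57 e3_57
  have h59 : ∀ u < 216131, (fun u => chkE tab 3 u) u = true := ext_range (a := 213565) (len := 2566) h58 e3_58
  have h60 : ∀ u < 218799, (fun u => chkE tab 3 u) u = true := ext_range (a := 216131) (len := 2668) h59 e3_59
  have h61 : ∀ u < 221527, (fun u => chkE tab 3 u) u = true := ext_range (a := 218799) (len := 2728) h60 e3_60
  have h62 : ∀ u < 224334, (fun u => chkE tab 3 u) u = true := ext_range (a := 221527) (len := 2807) h61 e3_61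
  have h63 : ∀ u < 227385, (fun u => chkE tab 3 u) u = true := ext_range (a := 224334) (len := 3051) h62 e3_62
  have h64 : ∀ u < 230897, (fun u => chkE tab 3 u) u = true := ext_range (a := 227385) (len := 3512) h63 e3_63
  have h65 : ∀ u < 231594, (fun u => chkE tab 3 u) u = true := ext_range (a := 230897) (len := 697) h64 e3_64
  exact h65

theorem hE4 : ∀ u < 231594, chkE tab 4 u = true := by
  have h0 : ∀ u < 0, (fun u => chkE tab 4 u) u = true := range_zero
  have h1 : ∀ u < 3146, (fun u => chkE tab 4 u) u = true := ext_range (a := 0) (len := 3146) h0 e4_0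
  have h2 : ∀ u < 6599, (fun u => chkE tab 4 u) u = true := ext_range (a := 3146) (len := 3453) h1 e4_1
  have h3 : ∀ u < 9646, (fun u => chkE tab 4 u) u = true := ext_range (a := 6599) (len := 3047) h2 e4_2
  have h4 : ∀ u < 12649, (fun u => chkE tab 4 u) u = true := ext_range (a := 9646) (len := 3003) h3 e4_3
  have h5 : ∀ u < 15641, (fun u => chkE tab 4 u) u = true := ext_range (a := 12649) (len := 2992) h4 e4_4
  have h6 : ∀ u < 18863, (fun u => chkE tab 4 u) u = true := ext_range (a := 15641) (len := 3222) h5 e4_5
  have h7 : ∀ u < 22006, (fun u => chkE tab 4 u) u = true := ext_range (a := 18863) (len := 3143) h6 e4_6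
  have h8 : ∀ u < 25082, (fun u => chkE tab 4 u) u = true := ext_range (a := 22006) (len := 3076) h7 e4_7
  have h9 : ∀ u < 27655, (fun u => chkE tab 4 u) u = true := ext_range (a := 25082) (len := 2573) h8 e4_8
  have h10 : ∀ u < 30550, (fun u => chkE tab 4 u) u = true := ext_range (a := 27655) (len := 2895) h9 e4_9
  have h11 : ∀ u < 33224, (fun u => chkE tab 4 u) u = true := ext_range (a := 30550) (len := 2674) h10 e4_10
  have h12 : ∀ u < 36099, (fun u => chkE tab 4 u) u = true := ext_range (a := 33224) (len := 2875) h11 e4_11
  have h13 : ∀ u < 39139, (fun u => chkE tab 4 u) u = true := ext_range (a := 36099) (len := 3040) h12 e4_12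
  have h14 : ∀ u < 42404, (fun u => chkE tab 4 u) u = true := ext_range (a := 39139) (len := 3265) h13 e4_13
  have h15 : ∀ u < 45039, (fun u => chkE tab 4 u) u = true := ext_range (a := 42404) (len := 2635) h14 e4_14
  have h16 : ∀ u < 47665, (fun u => chkE tab 4 u) u = true := ext_range (a := 45039) (len := 2626) h15 e4_15
  have h17 : ∀ u < 50095, (fun u => chkE tab 4 u) u = true := ext_range (a := 47665) (len := 2430) h16 e4_16
  have h18 : ∀ u < 52676, (fun u => chkE tab 4 u) u = true := ext_range (a := 50095) (len := 2581) h17 e4_17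
  have h19 : ∀ u < 55568, (fun u => chkE tab 4 u) u = true := ext_range (a := 52676) (len := 2892) h18 e4_18
  have h20 : ∀ u < 58858, (fun u => chkE tab 4 u) u = true := ext_range (a := 55568) (len := 3290) h19 e4_19
  have h21 : ∀ u < 62006, (fun u => chkE tab 4 u) u = true := ext_range (a := 58858) (len := 3148) h20 e4_20
  have h22 : ∀ u < 64902, (fun u => chkE tab 4 u) u = true := ext_range (a := 62006) (len := 2896) h21 e4_21
  have h23 : ∀ u < 67982, (fun u => chkE tab 4 u) u = true := ext_range (a := 64902) (len := 3080) h22 e4_22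
  have h24 : ∀ u < 70909, (fun u => chkE tab 4 u) u = true := ext_range (a := 67982) (len := 2927) h23 e4_23
  have h25 : ∀ u < 74050, (fun u => chkE tab 4 u) u = true := ext_range (a := 70909) (len := 3141) h24 e4_24
  have h26 : ∀ u < 77477, (fun u => chkE tab 4 u) u = true := ext_range (a := 74050) (len := 3427) h25 e4_25
  have h27 : ∀ u < 80544, (fun u => chkE tab 4 u) u = true := ext_range (a := 77477) (len := 3067) h26 e4_26
  have h28 : ∀ u < 83337, (fun u => chkE tab 4 u) u = true := ext_range (a := 80544) (len := 2793) h27 e4_27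
  have h29 : ∀ u < 86000, (fun u => chkE tab 4 u) u = true := ext_range (a := 83337) (len := 2663) h28 e4_28
  have h30 : ∀ u < 89031, (fun u => chkE tab 4 u) u = true := ext_range (a := 86000) (len := 3031) h29 e4_29
  have h31 : ∀ u < 91409, (fun u => chkE tab 4 u) u = true := ext_range (a := 89031) (len := 2378) h30 e4_30
  have h32 : ∀ u < 94894, (fun u => chkE tab 4 u) u = true := ext_range (a := 91409) (len := 3485) h31 e4_31
  have h33 : ∀ u < 98667, (fun u => chkE tab 4 u) u = true := ext_range (a := 94894) (len := 3773) h32 e4_32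
  have h34 : ∀ u < 102666, (fun u => chkE tab 4 u) u = true := ext_range (a := 98667) (len := 3999) h33 e4_33
  have h35 : ∀ u < 106988, (fun u => chkE tab 4 u) u = true := ext_range (a := 102666) (len := 4322) h34 e4_34
  have h36 : ∀ u < 109856, (fun u => chkE tab 4 u) u = true := ext_range (a := 106988) (len := 2868) h35 e4_35
  have h37 : ∀ u < 112975, (fun u => chkE tab 4 u) u = true := ext_range (a := 109856) (len := 3119) h36 e4_36
  have h38 : ∀ u < 116018, (fun u => chkE tab 4 u) u = true := ext_range (a := 112975) (len := 3043) h37 e4_37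
  have h39 : ∀ u < 119188, (fun u => chkE tab 4 u) u = true := ext_range (a := 116018) (len := 3170) h38 e4_38
  have h40 : ∀ u < 122893, (fun u => chkE tab 4 u) u = true := ext_range (a := 119188) (len := 3705) h39 e4_39
  have h41 : ∀ u < 126638, (fun u => chkE tab 4 u) u = true := ext_range (a := 122893) (len := 3745) h40 e4_40
  have h42 : ∀ u < 129577, (fun u => chkE tab 4 u) u = true := ext_range (a := 126638) (len := 2939) h41 e4_41
  have h43 : ∀ u < 132478, (fun u => chkE tab 4 u) u = true := ext_range (a := 129577) (len := 2901) h42 e4_42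
  have h44 : ∀ u < 135591, (fun u => chkE tab 4 u) u = true := ext_range (a := 132478) (len := 3113) h43 e4_43
  have h45 : ∀ u < 138770, (fun u => chkE tab 4 u) u = true := ext_range (a := 135591) (len := 3179) h44 e4_44
  have h46 : ∀ u < 141995, (fun u => chkE tab 4 u) u = true := ext_range (a := 138770) (len := 3225) h45 e4_45
  have h47 : ∀ u < 145834, (fun u => chkE tab 4 u) u = true := ext_range (a := 141995) (len := 3839) h46 e4_46
  have h48 : ∀ u < 150099, (fun u => chkE tab 4 u) u = true := ext_range (a := 145834) (len := 4265) h47 e4_47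
  have h49 : ∀ u < 154615, (fun u => chkE tab 4 u) u = true := ext_range (a := 150099) (len := 4516) h48 e4_48
  have h50 : ∀ u < 158324, (fun u => chkE tab 4 u) u = true := ext_range (a := 154615) (len := 3709) h49 e4_49
  have h51 : ∀ u < 162568, (fun u => chkE tab 4 u) u = true := ext_range (a := 158324) (len := 4244) h50 e4_50
  have h52 : ∀ u < 166627, (fun u => chkE tab 4 u) u = true := ext_range (a := 162568) (len := 4059) h51 e4_51
  have h53 : ∀ u < 172334, (fun u => chkE tab 4 u) u = true := ext_range (a := 166627) (len := 5707) h52 e4_52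
  have h54 : ∀ u < 178448, (fun u => chkE tab 4 u) u = true := ext_range (a := 172334) (len := 6114) h53 e4_53
  have h55 : ∀ u < 183546, (fun u => chkE tab 4 u) u = true := ext_range (a := 178448) (len := 5098) h54 e4_54
  have h56 : ∀ u < 188935, (fun u => chkE tab 4 u) u = true := ext_range (a := 183546) (len := 5389) h55 e4_55
  have h57 : ∀ u < 192882, (fun u => chkE tab 4 u) u = true := ext_range (a := 188935) (len := 3947) h56 e4_56
  have h58 : ∀ u < 194920, (fun u => chkE tab 4 u) u = true := ext_range (a := 192882) (len := 2038) h57 e4_57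
  have h59 : ∀ u < 196892, (fun u => chkE tab 4 u) u = true := ext_range (a := 194920) (len := 1972) h58 e4_58
  have h60 : ∀ u < 198757, (fun u => chkE tab 4 u) u = true := ext_range (a := 196892) (len := 1865) h59 e4_59
  have h61 : ∀ u < 200849, (fun u => chkE tab 4 u) u = true := ext_range (a := 198757) (len := 2092) h60 e4_60
  have h62 : ∀ u < 202892, (fun u => chkE tab 4 u) u = true := ext_range (a := 200849) (len := 2043) h61 e4_61
  have h63 : ∀ u < 204935, (fun u => chkE tab 4 u) u = true := ext_range (a := 202892) (len := 2043) h62 e4_62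
  have h64 : ∀ u < 207045, (fun u => chkE tab 4 u) u = true := ext_range (a := 204935) (len := 2110) h63 e4_63
  have h65 : ∀ u < 209179, (fun u => chkE tab 4 u) u = true := ext_range (a := 207045) (len := 2134) h64 e4_64
  have h66 : ∀ u < 211398, (fun u => chkE tab 4 u) u = true := ext_range (a := 209179) (len := 2219) h65 e4_65
  have h67 : ∀ u < 213655, (fun u => chkE tab 4 u) u = true := ext_range (a := 211398) (len := 2257) h66 e4_66
  have h68 : ∀ u < 215762, (fun u => chkE tab 4 u) u = true := ext_range (a := 213655) (len := 2107) h67 e4_67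
  have h69 : ∀ u < 217962, (fun u => chkE tab 4 u) u = true := ext_range (a := 215762) (len := 2200) h68 e4_68
  have h70 : ∀ u < 220274, (fun u => chkE tab 4 u) u = true := ext_range (a := 217962) (len := 2312) h69 e4_69
  have h71 : ∀ u < 222545, (fun u => chkE tab 4 u) u = true := ext_range (a := 220274) (len := 2271) h70 e4_70
  have h72 : ∀ u < 224965, (fun u => chkE tab 4 u) u = true := ext_range (a := 222545) (len := 2420) h71 e4_71
  have h73 : ∀ u < 227643, (fun u => chkE tab 4 u) u = true := ext_range (a := 224965) (len := 2678) h72 e4_72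
  have h74 : ∀ u < 230658, (fun u => chkE tab 4 u) u = true := ext_range (a := 227643) (len := 3015) h73 e4_73
  have h75 : ∀ u < 231594, (fun u => chkE tab 4 u) u = true := ext_range (a := 230658) (len := 936) h74 e4_74
  exact h75

theorem hE5 : ∀ u < 231594, chkE tab 5 u = true := by
  have h0 : ∀ u < 0, (fun u => chkE tab 5 u) u = true := range_zero
  have h1 : ∀ u < 4098, (fun u => chkE tab 5 u) u = true := ext_range (a := 0) (len := 4098) h0 e5_0
  have h2 : ∀ u < 8093, (fun u => chkE tab 5 u) u = true := ext_range (a := 4098) (len := 3995) h1 e5_1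
  have h3 : ∀ u < 12056, (fun u => chkE tab 5 u) u = true := ext_range (a := 8093) (len := 3963) h2 e5_2
  have h4 : ∀ u < 15291, (fun u => chkE tab 5 u) u = true := ext_range (a := 12056) (len := 3235) h3 e5_3
  have h5 : ∀ u < 19180, (fun u => chkE tab 5 u) u = true := ext_range (a := 15291) (len := 3889) h4 e5_4
  have h6 : ∀ u < 23013, (fun u => chkE tab 5 u) u = true := ext_range (a := 19180) (len := 3833) h5 e5_5
  have h7 : ∀ u < 26084, (fun u => chkE tab 5 u) u = true := ext_range (a := 23013) (len := 3071) h6 e5_6
  have h8 : ∀ u < 29463, (fun u => chkE tab 5 u) u = true := ext_range (a := 26084) (len := 3379) h7 e5_7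
  have h9 : ∀ u < 32748, (fun u => chkE tab 5 u) u = true := ext_range (a := 29463) (len := 3285) h8 e5_8
  have h10 : ∀ u < 35973, (fun u => chkE tab 5 u) u = true := ext_range (a := 32748) (len := 3225) h9 e5_9
  have h11 : ∀ u < 39824, (fun u => chkE tab 5 u) u = true := ext_range (a := 35973) (len := 3851) h10 e5_10
  have h12 : ∀ u < 43722, (fun u => chkE tab 5 u) u = true := ext_range (a := 39824) (len := 3898) h11 e5_11
  have h13 : ∀ u < 46888, (fun u => chkE tab 5 u) u = true := ext_range (a := 43722) (len := 3166) h12 e5_12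
  have h14 : ∀ u < 50102, (fun u => chkE tab 5 u) u = true := ext_range (a := 46888) (len := 3214) h13 e5_13
  have h15 : ∀ u < 53374, (fun u => chkE tab 5 u) u = true := ext_range (a := 50102) (len := 3272) h14 e5_14
  have h16 : ∀ u < 56871, (fun u => chkE tab 5 u) u = true := ext_range (a := 53374) (len := 3497) h15 e5_15
  have h17 : ∀ u < 61000, (fun u => chkE tab 5 u) u = true := ext_range (a := 56871) (len := 4129) h16 e5_16
  have h18 : ∀ u < 64494, (fun u => chkE tab 5 u) u = true := ext_range (a := 61000) (len := 3494) h17 e5_17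
  have h19 : ∀ u < 68722, (fun u => chkE tab 5 u) u = true := ext_range (a := 64494) (len := 4228) h18 e5_18
  have h20 : ∀ u < 72322, (fun u => chkE tab 5 u) u = true := ext_range (a := 68722) (len := 3600) h19 e5_19
  have h21 : ∀ u < 76207, (fun u => chkE tab 5 u) u = true := ext_range (a := 72322) (len := 3885) h20 e5_20
  have h22 : ∀ u < 80195, (fun u => chkE tab 5 u) u = true := ext_range (a := 76207) (len := 3988) h21 e5_21
  have h23 : ∀ u < 83516, (fun u => chkE tab 5 u) u = true := ext_range (a := 80195) (len := 3321) h22 e5_22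
  have h24 : ∀ u < 87035, (fun u => chkE tab 5 u) u = true := ext_range (a := 83516) (len := 3519) h23 e5_23
  have h25 : ∀ u < 90296, (fun u => chkE tab 5 u) u = true := ext_range (a := 87035) (len := 3261) h24 e5_24
  have h26 : ∀ u < 94162, (fun u => chkE tab 5 u) u = true := ext_range (a := 90296) (len := 3866) h25 e5_25
  have h27 : ∀ u < 98263, (fun u => chkE tab 5 u) u = true := ext_range (a := 94162) (len := 4101) h26 e5_26
  have h28 : ∀ u < 102518, (fun u => chkE tab 5 u) u = true := ext_range (a := 98263) (len := 4255) h27 e5_27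
  have h29 : ∀ u < 106685, (fun u => chkE tab 5 u) u = true := ext_range (a := 102518) (len := 4167) h28 e5_28
  have h30 : ∀ u < 109884, (fun u => chkE tab 5 u) u = true := ext_range (a := 106685) (len := 3199) h29 e5_29
  have h31 : ∀ u < 113145, (fun u => chkE tab 5 u) u = true := ext_range (a := 109884) (len := 3261) h30 e5_30
  have h32 : ∀ u < 116299, (fun u => chkE tab 5 u) u = true := ext_range (a := 113145) (len := 3154) h31 e5_31
  have h33 : ∀ u < 119614, (fun u => chkE tab 5 u) u = true := ext_range (a := 116299) (len := 3315) h32 e5_32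
  have h34 : ∀ u < 123590, (fun u => chkE tab 5 u) u = true := ext_range (a := 119614) (len := 3976) h33 e5_33
  have h35 : ∀ u < 127398, (fun u => chkE tab 5 u) u = true := ext_range (a := 123590) (len := 3808) h34 e5_34
  have h36 : ∀ u < 130593, (fun u => chkE tab 5 u) u = true := ext_range (a := 127398) (len := 3195) h35 e5_35
  have h37 : ∀ u < 133675, (fun u => chkE tab 5 u) u = true := ext_range (a := 130593) (len := 3082) h36 e5_36
  have h38 : ∀ u < 136694, (fun u => chkE tab 5 u) u = true := ext_range (a := 133675) (len := 3019) h37 e5_37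
  have h39 : ∀ u < 139782, (fun u => chkE tab 5 u) u = true := ext_range (a := 136694) (len := 3088) h38 e5_38
  have h40 : ∀ u < 143605, (fun u => chkE tab 5 u) u = true := ext_range (a := 139782) (len := 3823) h39 e5_39
  have h41 : ∀ u < 148033, (fun u => chkE tab 5 u) u = true := ext_range (a := 143605) (len := 4428) h40 e5_40
  have h42 : ∀ u < 152126, (fun u => chkE tab 5 u) u = true := ext_range (a := 148033) (len := 4093) h41 e5_41
  have h43 : ∀ u < 156378, (fun u => chkE tab 5 u) u = true := ext_range (a := 152126) (len := 4252) h42 e5_42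
  have h44 : ∀ u < 160500, (fun u => chkE tab 5 u) u = true := ext_range (a := 156378) (len := 4122) h43 e5_43
  have h45 : ∀ u < 164649, (fun u => chkE tab 5 u) u = true := ext_range (a := 160500) (len := 4149) h44 e5_44
  have h46 : ∀ u < 169860, (fun u => chkE tab 5 u) u = true := ext_range (a := 164649) (len := 5211) h45 e5_45
  have h47 : ∀ u < 176277, (fun u => chkE tab 5 u) u = true := ext_range (a := 169860) (len := 6417) h46 e5_46
  have h48 : ∀ u < 181487, (fun u => chkE tab 5 u) u = true := ext_range (a := 176277) (len := 5210) h47 e5_47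
  have h49 : ∀ u < 187058, (fun u => chkE tab 5 u) u = true := ext_range (a := 181487) (len := 5571) h48 e5_48
  have h50 : ∀ u < 191456, (fun u => chkE tab 5 u) u = true := ext_range (a := 187058) (len := 4398) h49 e5_49
  have h51 : ∀ u < 194276, (fun u => chkE tab 5 u) u = true := ext_range (a := 191456) (len := 2820) h50 e5_50
  have h52 : ∀ u < 196354, (fun u => chkE tab 5 u) u = true := ext_range (a := 194276) (len := 2078) h51 e5_51
  have h53 : ∀ u < 198396, (fun u => chkE tab 5 u) u = true := ext_range (a := 196354) (len := 2042) h52 e5_52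
  have h54 : ∀ u < 200364, (fun u => chkE tab 5 u) u = true := ext_range (a := 198396) (len := 1968) h53 e5_53
  have h55 : ∀ u < 202476, (fun u => chkE tab 5 u) u = true := ext_range (a := 200364) (len := 2112) h54 e5_54
  have h56 : ∀ u < 204510, (fun u => chkE tab 5 u) u = true := ext_range (a := 202476) (len := 2034) h55 e5_55
  have h57 : ∀ u < 206559, (fun u => chkE tab 5 u) u = true := ext_range (a := 204510) (len := 2049) h56 e5_56
  have h58 : ∀ u < 208749, (fun u => chkE tab 5 u) u = true := ext_range (a := 206559) (len := 2190) h57 e5_57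
  have h59 : ∀ u < 210850, (fun u => chkE tab 5 u) u = true := ext_range (a := 208749) (len := 2101) h58 e5_58
  have h60 : ∀ u < 212998, (fun u => chkE tab 5 u) u = true := ext_range (a := 210850) (len := 2148) h59 e5_59
  have h61 : ∀ u < 215116, (fun u => chkE tab 5 u) u = true := ext_range (a := 212998) (len := 2118) h60 e5_60
  have h62 : ∀ u < 217269, (fun u => chkE tab 5 u) u = true := ext_range (a := 215116) (len := 2153) h61 e5_61
  have h63 : ∀ u < 219631, (fun u => chkE tab 5 u) u = true := ext_range (a := 217269) (len := 2362) h62 e5_62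
  have h64 : ∀ u < 222092, (fun u => chkE tab 5 u) u = true := ext_range (a := 219631) (len := 2461) h63 e5_63
  have h65 : ∀ u < 224571, (fun u => chkE tab 5 u) u = true := ext_range (a := 222092) (len := 2479) h64 e5_64
  have h66 : ∀ u < 227134, (fun u => chkE tab 5 u) u = true := ext_range (a := 224571) (len := 2563) h65 e5_65
  have h67 : ∀ u < 230172, (fun u => chkE tab 5 u) u = true := ext_range (a := 227134) (len := 3038) h66 e5_66
  have h68 : ∀ u < 231594, (fun u => chkE tab 5 u) u = true := ext_range (a := 230172) (len := 1422) h67 e5_67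
  exact h68

theorem hE6 : ∀ u < 231594, chkE tab 6 u = true := by
  have h0 : ∀ u < 0, (fun u => chkE tab 6 u) u = true := range_zero
  have h1 : ∀ u < 4641, (fun u => chkE tab 6 u) u = true := ext_range (a := 0) (len := 4641) h0 e6_0
  have h2 : ∀ u < 9339, (fun u => chkE tab 6 u) u = true := ext_range (a := 4641) (len := 4698) h1 e6_1
  have h3 : ∀ u < 13956, (fun u => chkE tab 6 u) u = true := ext_range (a := 9339) (len := 4617) h2 e6_2
  have h4 : ∀ u < 18604, (fun u => chkE tab 6 u) u = true := ext_range (a := 13956) (len := 4648) h3 e6_3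
  have h5 : ∀ u < 22986, (fun u => chkE tab 6 u) u = true := ext_range (a := 18604) (len := 4382) h4 e6_4
  have h6 : ∀ u < 27655, (fun u => chkE tab 6 u) u = true := ext_range (a := 22986) (len := 4669) h5 e6_5
  have h7 : ∀ u < 31808, (fun u => chkE tab 6 u) u = true := ext_range (a := 27655) (len := 4153) h6 e6_6
  have h8 : ∀ u < 36193, (fun u => chkE tab 6 u) u = true := ext_range (a := 31808) (len := 4385) h7 e6_7
  have h9 : ∀ u < 40804, (fun u => chkE tab 6 u) u = true := ext_range (a := 36193) (len := 4611) h8 e6_8
  have h10 : ∀ u < 45142, (fun u => chkE tab 6 u) u = true := ext_range (a := 40804) (len := 4338) h9 e6_9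
  have h11 : ∀ u < 49365, (fun u => chkE tab 6 u) u = true := ext_range (a := 45142) (len := 4223) h10 e6_10
  have h12 : ∀ u < 53641, (fun u => chkE tab 6 u) u = true := ext_range (a := 49365) (len := 4276) h11 e6_11
  have h13 : ∀ u < 58382, (fun u => chkE tab 6 u) u = true := ext_range (a := 53641) (len := 4741) h12 e6_12
  have h14 : ∀ u < 62983, (fun u => chkE tab 6 u) u = true := ext_range (a := 58382) (len := 4601) h13 e6_13
  have h15 : ∀ u < 67481, (fun u => chkE tab 6 u) u = true := ext_range (a := 62983) (len := 4498) h14 e6_14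
  have h16 : ∀ u < 71938, (fun u => chkE tab 6 u) u = true := ext_range (a := 67481) (len := 4457) h15 e6_15
  have h17 : ∀ u < 76575, (fun u => chkE tab 6 u) u = true := ext_range (a := 71938) (len := 4637) h16 e6_16
  have h18 : ∀ u < 81162, (fun u => chkE tab 6 u) u = true := ext_range (a := 76575) (len := 4587) h17 e6_17
  have h19 : ∀ u < 85244, (fun u => chkE tab 6 u) u = true := ext_range (a := 81162) (len := 4082) h18 e6_18
  have h20 : ∀ u < 89557, (fun u => chkE tab 6 u) u = true := ext_range (a := 85244) (len := 4313) h19 e6_19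
  have h21 : ∀ u < 94575, (fun u => chkE tab 6 u) u = true := ext_range (a := 89557) (len := 5018) h20 e6_20
  have h22 : ∀ u < 100122, (fun u => chkE tab 6 u) u = true := ext_range (a := 94575) (len := 5547) h21 e6_21
  have h23 : ∀ u < 105371, (fun u => chkE tab 6 u) u = true := ext_range (a := 100122) (len := 5249) h22 e6_22
  have h24 : ∀ u < 109990, (fun u => chkE tab 6 u) u = true := ext_range (a := 105371) (len := 4619) h23 e6_23
  have h25 : ∀ u < 114042, (fun u => chkE tab 6 u) u = true := ext_range (a := 109990) (len := 4052) h24 e6_24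
  have h26 : ∀ u < 118010, (fun u => chkE tab 6 u) u = true := ext_range (a := 114042) (len := 3968) h25 e6_25
  have h27 : ∀ u < 122830, (fun u => chkE tab 6 u) u = true := ext_range (a := 118010) (len := 4820) h26 e6_26
  have h28 : ∀ u < 127624, (fun u => chkE tab 6 u) u = true := ext_range (a := 122830) (len := 4794) h27 e6_27
  have h29 : ∀ u < 131440, (fun u => chkE tab 6 u) u = true := ext_range (a := 127624) (len := 3816) h28 e6_28
  have h30 : ∀ u < 135366, (fun u => chkE tab 6 u) u = true := ext_range (a := 131440) (len := 3926) h29 e6_29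
  have h31 : ∀ u < 139384, (fun u => chkE tab 6 u) u = true := ext_range (a := 135366) (len := 4018) h30 e6_30
  have h32 : ∀ u < 143676, (fun u => chkE tab 6 u) u = true := ext_range (a := 139384) (len := 4292) h31 e6_31
  have h33 : ∀ u < 149216, (fun u => chkE tab 6 u) u = true := ext_range (a := 143676) (len := 5540) h32 e6_32
  have h34 : ∀ u < 153962, (fun u => chkE tab 6 u) u = true := ext_range (a := 149216) (len := 4746) h33 e6_33
  have h35 : ∀ u < 159081, (fun u => chkE tab 6 u) u = true := ext_range (a := 153962) (len := 5119) h34 e6_34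
  have h36 : ∀ u < 164199, (fun u => chkE tab 6 u) u = true := ext_range (a := 159081) (len := 5118) h35 e6_35
  have h37 : ∀ u < 171459, (fun u => chkE tab 6 u) u = true := ext_range (a := 164199) (len := 7260) h36 e6_36
  have h38 : ∀ u < 179622, (fun u => chkE tab 6 u) u = true := ext_range (a := 171459) (len := 8163) h37 e6_37
  have h39 : ∀ u < 186412, (fun u => chkE tab 6 u) u = true := ext_range (a := 179622) (len := 6790) h38 e6_38
  have h40 : ∀ u < 191849, (fun u => chkE tab 6 u) u = true := ext_range (a := 186412) (len := 5437) h39 e6_39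
  have h41 : ∀ u < 194837, (fun u => chkE tab 6 u) u = true := ext_range (a := 191849) (len := 2988) h40 e6_40
  have h42 : ∀ u < 197249, (fun u => chkE tab 6 u) u = true := ext_range (a := 194837) (len := 2412) h41 e6_41
  have h43 : ∀ u < 199824, (fun u => chkE tab 6 u) u = true := ext_range (a := 197249) (len := 2575) h42 e6_42
  have h44 : ∀ u < 202328, (fun u => chkE tab 6 u) u = true := ext_range (a := 199824) (len := 2504) h43 e6_43
  have h45 : ∀ u < 204889, (fun u => chkE tab 6 u) u = true := ext_range (a := 202328) (len := 2561) h44 e6_44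
  have h46 : ∀ u < 207449, (fun u => chkE tab 6 u) u = true := ext_range (a := 204889) (len := 2560) h45 e6_45
  have h47 : ∀ u < 210141, (fun u => chkE tab 6 u) u = true := ext_range (a := 207449) (len := 2692) h46 e6_46
  have h48 : ∀ u < 212830, (fun u => chkE tab 6 u) u = true := ext_range (a := 210141) (len := 2689) h47 e6_47
  have h49 : ∀ u < 215535, (fun u => chkE tab 6 u) u = true := ext_range (a := 212830) (len := 2705) h48 e6_48
  have h50 : ∀ u < 218192, (fun u => chkE tab 6 u) u = true := ext_range (a := 215535) (len := 2657) h49 e6_49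
  have h51 : ∀ u < 221028, (fun u => chkE tab 6 u) u = true := ext_range (a := 218192) (len := 2836) h50 e6_50
  have h52 : ∀ u < 223932, (fun u => chkE tab 6 u) u = true := ext_range (a := 221028) (len := 2904) h51 e6_51
  have h53 : ∀ u < 227013, (fun u => chkE tab 6 u) u = true := ext_range (a := 223932) (len := 3081) h52 e6_52
  have h54 : ∀ u < 230506, (fun u => chkE tab 6 u) u = true := ext_range (a := 227013) (len := 3493) h53 e6_53
  have h55 : ∀ u < 231594, (fun u => chkE tab 6 u) u = true := ext_range (a := 230506) (len := 1088) h54 e6_54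
  exact h55

theorem hE7 : ∀ u < 231594, chkE tab 7 u = true := by
  have h0 : ∀ u < 0, (fun u => chkE tab 7 u) u = true := range_zero
  have h1 : ∀ u < 3458, (fun u => chkE tab 7 u) u = true := ext_range (a := 0) (len := 3458) h0 e7_0
  have h2 : ∀ u < 7037, (fun u => chkE tab 7 u) u = true := ext_range (a := 3458) (len := 3579) h1 e7_1
  have h3 : ∀ u < 10379, (fun u => chkE tab 7 u) u = true := ext_range (a := 7037) (len := 3342) h2 e7_2
  have h4 : ∀ u < 13838, (fun u => chkE tab 7 u) u = true := ext_range (a := 10379) (len := 3459) h3 e7_3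
  have h5 : ∀ u < 17159, (fun u => chkE tab 7 u) u = true := ext_range (a := 13838) (len := 3321) h4 e7_4
  have h6 : ∀ u < 20192, (fun u => chkE tab 7 u) u = true := ext_range (a := 17159) (len := 3033) h5 e7_5
  have h7 : ∀ u < 23643, (fun u => chkE tab 7 u) u = true := ext_range (a := 20192) (len := 3451) h6 e7_6
  have h8 : ∀ u < 27003, (fun u => chkE tab 7 u) u = true := ext_range (a := 23643) (len := 3360) h7 e7_7
  have h9 : ∀ u < 30294, (fun u => chkE tab 7 u) u = true := ext_range (a := 27003) (len := 3291) h8 e7_8
  have h10 : ∀ u < 33281, (fun u => chkE tab 7 u) u = true := ext_range (a := 30294) (len := 2987) h9 e7_9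
  have h11 : ∀ u < 36340, (fun u => chkE tab 7 u) u = true := ext_range (a := 33281) (len := 3059) h10 e7_10
  have h12 : ∀ u < 39581, (fun u => chkE tab 7 u) u = true := ext_range (a := 36340) (len := 3241) h11 e7_11
  have h13 : ∀ u < 42927, (fun u => chkE tab 7 u) u = true := ext_range (a := 39581) (len := 3346) h12 e7_12
  have h14 : ∀ u < 45907, (fun u => chkE tab 7 u) u = true := ext_range (a := 42927) (len := 2980) h13 e7_13
  have h15 : ∀ u < 48982, (fun u => chkE tab 7 u) u = true := ext_range (a := 45907) (len := 3075) h14 e7_14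
  have h16 : ∀ u < 52022, (fun u => chkE tab 7 u) u = true := ext_range (a := 48982) (len := 3040) h15 e7_15
  have h17 : ∀ u < 55505, (fun u => chkE tab 7 u) u = true := ext_range (a := 52022) (len := 3483) h16 e7_16
  have h18 : ∀ u < 59252, (fun u => chkE tab 7 u) u = true := ext_range (a := 55505) (len := 3747) h17 e7_17
  have h19 : ∀ u < 62436, (fun u => chkE tab 7 u) u = true := ext_range (a := 59252) (len := 3184) h18 e7_18
  have h20 : ∀ u < 65798, (fun u => chkE tab 7 u) u = true := ext_range (a := 62436) (len := 3362) h19 e7_19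
  have h21 : ∀ u < 69008, (fun u => chkE tab 7 u) u = true := ext_range (a := 65798) (len := 3210) h20 e7_20
  have h22 : ∀ u < 72128, (fun u => chkE tab 7 u) u = true := ext_range (a := 69008) (len := 3120) h21 e7_21
  have h23 : ∀ u < 75528, (fun u => chkE tab 7 u) u = true := ext_range (a := 72128) (len := 3400) h22 e7_22
  have h24 : ∀ u < 79143, (fun u => chkE tab 7 u) u = true := ext_range (a := 75528) (len := 3615) h23 e7_23
  have h25 : ∀ u < 82258, (fun u => chkE tab 7 u) u = true := ext_range (a := 79143) (len := 3115) h24 e7_24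
  have h26 : ∀ u < 85049, (fun u => chkE tab 7 u) u = true := ext_range (a := 82258) (len := 2791) h25 e7_25
  have h27 : ∀ u < 88137, (fun u => chkE tab 7 u) u = true := ext_range (a := 85049) (len := 3088) h26 e7_26
  have h28 : ∀ u < 91244, (fun u => chkE tab 7 u) u = true := ext_range (a := 88137) (len := 3107) h27 e7_27
  have h29 : ∀ u < 95242, (fun u => chkE tab 7 u) u = true := ext_range (a := 91244) (len := 3998) h28 e7_28
  have h30 : ∀ u < 99436, (fun u => chkE tab 7 u) u = true := ext_range (a := 95242) (len := 4194) h29 e7_29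
  have h31 : ∀ u < 103573, (fun u => chkE tab 7 u) u = true := ext_range (a := 99436) (len := 4137) h30 e7_30
  have h32 : ∀ u < 108139, (fun u => chkE tab 7 u) u = true := ext_range (a := 103573) (len := 4566) h31 e7_31
  have h33 : ∀ u < 111393, (fun u => chkE tab 7 u) u = true := ext_range (a := 108139) (len := 3254) h32 e7_32
  have h34 : ∀ u < 115362, (fun u => chkE tab 7 u) u = true := ext_range (a := 111393) (len := 3969) h33 e7_33
  have h35 : ∀ u < 118992, (fun u => chkE tab 7 u) u = true := ext_range (a := 115362) (len := 3630) h34 e7_34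
  have h36 : ∀ u < 123405, (fun u => chkE tab 7 u) u = true := ext_range (a := 118992) (len := 4413) h35 e7_35
  have h37 : ∀ u < 127540, (fun u => chkE tab 7 u) u = true := ext_range (a := 123405) (len := 4135) h36 e7_36
  have h38 : ∀ u < 131319, (fun u => chkE tab 7 u) u = true := ext_range (a := 127540) (len := 3779) h37 e7_37
  have h39 : ∀ u < 134454, (fun u => chkE tab 7 u) u = true := ext_range (a := 131319) (len := 3135) h38 e7_38
  have h40 : ∀ u < 138320, (fun u => chkE tab 7 u) u = true := ext_range (a := 134454) (len := 3866) h39 e7_39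
  have h41 : ∀ u < 142009, (fun u => chkE tab 7 u) u = true := ext_range (a := 138320) (len := 3689) h40 e7_40
  have h42 : ∀ u < 146772, (fun u => chkE tab 7 u) u = true := ext_range (a := 142009) (len := 4763) h41 e7_41
  have h43 : ∀ u < 151435, (fun u => chkE tab 7 u) u = true := ext_range (a := 146772) (len := 4663) h42 e7_42
  have h44 : ∀ u < 155835, (fun u => chkE tab 7 u) u = true := ext_range (a := 151435) (len := 4400) h43 e7_43
  have h45 : ∀ u < 161092, (fun u => chkE tab 7 u) u = true := ext_range (a := 155835) (len := 5257) h44 e7_44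
  have h46 : ∀ u < 166021, (fun u => chkE tab 7 u) u = true := ext_range (a := 161092) (len := 4929) h45 e7_45
  have h47 : ∀ u < 172121, (fun u => chkE tab 7 u) u = true := ext_range (a := 166021) (len := 6100) h46 e7_46
  have h48 : ∀ u < 178361, (fun u => chkE tab 7 u) u = true := ext_range (a := 172121) (len := 6240) h47 e7_47
  have h49 : ∀ u < 184697, (fun u => chkE tab 7 u) u = true := ext_range (a := 178361) (len := 6336) h48 e7_48
  have h50 : ∀ u < 190553, (fun u => chkE tab 7 u) u = true := ext_range (a := 184697) (len := 5856) h49 e7_49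
  have h51 : ∀ u < 194418, (fun u => chkE tab 7 u) u = true := ext_range (a := 190553) (len := 3865) h50 e7_50
  have h52 : ∀ u < 197011, (fun u => chkE tab 7 u) u = true := ext_range (a := 194418) (len := 2593) h51 e7_51
  have h53 : ∀ u < 199630, (fun u => chkE tab 7 u) u = true := ext_range (a := 197011) (len := 2619) h52 e7_52
  have h54 : ∀ u < 202366, (fun u => chkE tab 7 u) u = true := ext_range (a := 199630) (len := 2736) h53 e7_53
  have h55 : ∀ u < 205200, (fun u => chkE tab 7 u) u = true := ext_range (a := 202366) (len := 2834) h54 e7_54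
  have h56 : ∀ u < 207889, (fun u => chkE tab 7 u) u = true := ext_range (a := 205200) (len := 2689) h55 e7_55
  have h57 : ∀ u < 210813, (fun u => chkE tab 7 u) u = true := ext_range (a := 207889) (len := 2924) h56 e7_56
  have h58 : ∀ u < 213723, (fun u => chkE tab 7 u) u = true := ext_range (a := 210813) (len := 2910) h57 e7_57
  have h59 : ∀ u < 216429, (fun u => chkE tab 7 u) u = true := ext_range (a := 213723) (len := 2706) h58 e7_58
  have h60 : ∀ u < 219308, (fun u => chkE tab 7 u) u = true := ext_range (a := 216429) (len := 2879) h59 e7_59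
  have h61 : ∀ u < 222426, (fun u => chkE tab 7 u) u = true := ext_range (a := 219308) (len := 3118) h60 e7_60
  have h62 : ∀ u < 225693, (fun u => chkE tab 7 u) u = true := ext_range (a := 222426) (len := 3267) h61 e7_61
  have h63 : ∀ u < 229129, (fun u => chkE tab 7 u) u = true := ext_range (a := 225693) (len := 3436) h62 e7_62
  have h64 : ∀ u < 231594, (fun u => chkE tab 7 u) u = true := ext_range (a := 229129) (len := 2465) h63 e7_63
  exact h64

theorem hL : ∀ u < 231594, chkL tab u = true := by
  have h0 : ∀ u < 0, (fun u => chkL tab u) u = true := range_zero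
  have h1 : ∀ u < 4259, (fun u => chkL tab u) u = true := ext_range (a := 0) (len := 4259) h0 l_0
  have h2 : ∀ u < 7942, (fun u => chkL tab u) u = true := ext_range (a := 4259) (len := 3683) h1 l_1
  have h3 : ∀ u < 10916, (fun u => chkL tab u) u = true := ext_range (a := 7942) (len := 2974) h2 l_2
  have h4 : ∀ u < 15992, (fun u => chkL tab u) u = true := ext_range (a := 10916) (len := 5076) h3 l_3
  have h5 : ∀ u < 19244, (fun u => chkL tab u) u = true := ext_range (a := 15992) (len := 3252) h4 l_4
  have h6 : ∀ u < 22092, (fun u => chkL tab u) u = true := ext_range (a := 19244) (len := 2848) h5 l_5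
  have h7 : ∀ u < 25317, (fun u => chkL tab u) u = true := ext_range (a := 22092) (len := 3225) h6 l_6
  have h8 : ∀ u < 30600, (fun u => chkL tab u) u = true := ext_range (a := 25317) (len := 5283) h7 l_7
  have h9 : ∀ u < 35045, (fun u => chkL tab u) u = true := ext_range (a := 30600) (len := 4445) h8 l_8
  have h10 : ∀ u < 38071, (fun u => chkL tab u) u = true := ext_range (a := 35045) (len := 3026) h9 l_9
  have h11 : ∀ u < 40501, (fun u => chkL tab u) u = true := ext_range (a := 38071) (len := 2430) h10 l_10
  have h12 : ∀ u < 43220, (fun u => chkL tab u) u = true := ext_range (a := 40501) (len := 2719) h11 l_11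
  have h13 : ∀ u < 45527, (fun u => chkL tab u) u = true := ext_range (a := 43220) (len := 2307) h12 l_12
  have h14 : ∀ u < 48774, (fun u => chkL tab u) u = true := ext_range (a := 45527) (len := 3247) h13 l_13
  have h15 : ∀ u < 53462, (fun u => chkL tab u) u = true := ext_range (a := 48774) (len := 4688) h14 l_14
  have h16 : ∀ u < 57265, (fun u => chkL tab u) u = true := ext_range (a := 53462) (len := 3803) h15 l_15
  have h17 : ∀ u < 59321, (fun u => chkL tab u) u = true := ext_range (a := 57265) (len := 2056) h16 l_16
  have h18 : ∀ u < 63362, (fun u => chkL tab u) u = true := ext_range (a := 59321) (len := 4041) h17 l_17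
  have h19 : ∀ u < 67119, (fun u => chkL tab u) u = true := ext_range (a := 63362) (len := 3757) h18 l_18
  have h20 : ∀ u < 70012, (fun u => chkL tab u) u = true := ext_range (a := 67119) (len := 2893) h19 l_19
  have h21 : ∀ u < 72620, (fun u => chkL tab u) u = true := ext_range (a := 70012) (len := 2608) h20 l_20
  have h22 : ∀ u < 75102, (fun u => chkL tab u) u = true := ext_range (a := 72620) (len := 2482) h21 l_21
  have h23 : ∀ u < 77445, (fun u => chkL tab u) u = true := ext_range (a := 75102) (len := 2343) h22 l_22
  have h24 : ∀ u < 79677, (fun u => chkL tab u) u = true := ext_range (a := 77445) (len := 2232) h23 l_23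
  have h25 : ∀ u < 81844, (fun u => chkL tab u) u = true := ext_range (a := 79677) (len := 2167) h24 l_24
  have h26 : ∀ u < 83696, (fun u => chkL tab u) u = true := ext_range (a := 81844) (len := 1852) h25 l_25
  have h27 : ∀ u < 86195, (fun u => chkL tab u) u = true := ext_range (a := 83696) (len := 2499) h26 l_26
  have h28 : ∀ u < 88394, (fun u => chkL tab u) u = true := ext_range (a := 86195) (len := 2199) h27 l_27
  have h29 : ∀ u < 91075, (fun u => chkL tab u) u = true := ext_range (a := 88394) (len := 2681) h28 l_28
  have h30 : ∀ u < 93589, (fun u => chkL tab u) u = true := ext_range (a := 91075) (len := 2514) h29 l_29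
  have h31 : ∀ u < 95944, (fun u => chkL tab u) u = true := ext_range (a := 93589) (len := 2355) h30 l_30
  have h32 : ∀ u < 98358, (fun u => chkL tab u) u = true := ext_range (a := 95944) (len := 2414) h31 l_31
  have h33 : ∀ u < 100611, (fun u => chkL tab u) u = true := ext_range (a := 98358) (len := 2253) h32 l_32
  have h34 : ∀ u < 103091, (fun u => chkL tab u) u = true := ext_range (a := 100611) (len := 2480) h33 l_33
  have h35 : ∀ u < 105612, (fun u => chkL tab u) u = true := ext_range (a := 103091) (len := 2521) h34 l_34
  have h36 : ∀ u < 108075, (fun u => chkL tab u) u = true := ext_range (a := 105612) (len := 2463) h35 l_35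
  have h37 : ∀ u < 111739, (fun u => chkL tab u) u = true := ext_range (a := 108075) (len := 3664) h36 l_36
  have h38 : ∀ u < 114494, (fun u => chkL tab u) u = true := ext_range (a := 111739) (len := 2755) h37 l_37
  have h39 : ∀ u < 118173, (fun u => chkL tab u) u = true := ext_range (a := 114494) (len := 3679) h38 l_38
  have h40 : ∀ u < 120383, (fun u => chkL tab u) u = true := ext_range (a := 118173) (len := 2210) h39 l_39
  have h41 : ∀ u < 122474, (fun u => chkL tab u) u = true := ext_range (a := 120383) (len := 2091) h40 l_40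
  have h42 : ∀ u < 124435, (fun u => chkL tab u) u = true := ext_range (a := 122474) (len := 1961) h41 l_41
  have h43 : ∀ u < 126497, (fun u => chkL tab u) u = true := ext_range (a := 124435) (len := 2062) h42 l_42
  have h44 : ∀ u < 129135, (fun u => chkL tab u) u = true := ext_range (a := 126497) (len := 2638) h43 l_43
  have h45 : ∀ u < 131997, (fun u => chkL tab u) u = true := ext_range (a := 129135) (len := 2862) h44 l_44
  have h46 : ∀ u < 134329, (fun u => chkL tab u) u = true := ext_range (a := 131997) (len := 2332) h45 l_45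
  have h47 : ∀ u < 136861, (fun u => chkL tab u) u = true := ext_range (a := 134329) (len := 2532) h46 l_46
  have h48 : ∀ u < 139948, (fun u => chkL tab u) u = true := ext_range (a := 136861) (len := 3087) h47 l_47
  have h49 : ∀ u < 142152, (fun u => chkL tab u) u = true := ext_range (a := 139948) (len := 2204) h48 l_48
  have h50 : ∀ u < 144484, (fun u => chkL tab u) u = true := ext_range (a := 142152) (len := 2332) h49 l_49
  have h51 : ∀ u < 146427, (fun u => chkL tab u) u = true := ext_range (a := 144484) (len := 1943) h50 l_50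
  have h52 : ∀ u < 148609, (fun u => chkL tab u) u = true := ext_range (a := 146427) (len := 2182) h51 l_51
  have h53 : ∀ u < 150632, (fun u => chkL tab u) u = true := ext_range (a := 148609) (len := 2023) h52 l_52
  have h54 : ∀ u < 152604, (fun u => chkL tab u) u = true := ext_range (a := 150632) (len := 1972) h53 l_53
  have h55 : ∀ u < 154357, (fun u => chkL tab u) u = true := ext_range (a := 152604) (len := 1753) h54 l_54
  have h56 : ∀ u < 156432, (fun u => chkL tab u) u = true := ext_range (a := 154357) (len := 2075) h55 l_55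
  have h57 : ∀ u < 158509, (fun u => chkL tab u) u = true := ext_range (a := 156432) (len := 2077) h56 l_56
  have h58 : ∀ u < 160615, (fun u => chkL tab u) u = true := ext_range (a := 158509) (len := 2106) h57 l_57
  have h59 : ∀ u < 162523, (fun u => chkL tab u) u = true := ext_range (a := 160615) (len := 1908) h58 l_58
  have h60 : ∀ u < 164488, (fun u => chkL tab u) u = true := ext_range (a := 162523) (len := 1965) h59 l_59
  have h61 : ∀ u < 166167, (fun u => chkL tab u) u = true := ext_range (a := 164488) (len := 1679) h60 l_60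
  have h62 : ∀ u < 168033, (fun u => chkL tab u) u = true := ext_range (a := 166167) (len := 1866) h61 l_61
  have h63 : ∀ u < 169678, (fun u => chkL tab u) u = true := ext_range (a := 168033) (len := 1645) h62 l_62
  have h64 : ∀ u < 171420, (fun u => chkL tab u) u = true := ext_range (a := 169678) (len := 1742) h63 l_63
  have h65 : ∀ u < 173009, (fun u => chkL tab u) u = true := ext_range (a := 171420) (len := 1589) h64 l_64
  have h66 : ∀ u < 174699, (fun u => chkL tab u) u = true := ext_range (a := 173009) (len := 1690) h65 l_65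
  have h67 : ∀ u < 176334, (fun u => chkL tab u) u = true := ext_range (a := 174699) (len := 1635) h66 l_66
  have h68 : ∀ u < 178184, (fun u => chkL tab u) u = true := ext_range (a := 176334) (len := 1850) h67 l_67
  have h69 : ∀ u < 179863, (fun u => chkL tab u) u = true := ext_range (a := 178184) (len := 1679) h68 l_68
  have h70 : ∀ u < 181722, (fun u => chkL tab u) u = true := ext_range (a := 179863) (len := 1859) h69 l_69
  have h71 : ∀ u < 183407, (fun u => chkL tab u) u = true := ext_range (a := 181722) (len := 1685) h70 l_70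
  have h72 : ∀ u < 185120, (fun u => chkL tab u) u = true := ext_range (a := 183407) (len := 1713) h71 l_71
  have h73 : ∀ u < 187005, (fun u => chkL tab u) u = true := ext_range (a := 185120) (len := 1885) h72 l_72
  have h74 : ∀ u < 188799, (fun u => chkL tab u) u = true := ext_range (a := 187005) (len := 1794) h73 l_73
  have h75 : ∀ u < 190880, (fun u => chkL tab u) u = true := ext_range (a := 188799) (len := 2081) h74 l_74
  have h76 : ∀ u < 193385, (fun u => chkL tab u) u = true := ext_range (a := 190880) (len := 2505) h75 l_75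
  have h77 : ∀ u < 214382, (fun u => chkL tab u) u = true := ext_range (a := 193385) (len := 20997) h76 l_76
  have h78 : ∀ u < 231594, (fun u => chkL tab u) u = true := ext_range (a := 214382) (len := 17212) h77 l_77
  exact h78

theorem hF : ∀ u < 122760, chkFin tab u = true := by
  have h0 : ∀ u < 0, (fun u => chkFin tab u) u = true := range_zero
  have h1 : ∀ u < 308, (fun u => chkFin tab u) u = true := ext_range (a := 0) (len := 308) h0 f_0
  have h2 : ∀ u < 616, (fun u => chkFin tab u) u = true := ext_range (a := 308) (len := 308) h1 f_1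
  have h3 : ∀ u < 924, (fun u => chkFin tab u) u = true := ext_range (a := 616) (len := 308) h2 f_2
  have h4 : ∀ u < 1232, (fun u => chkFin tab u) u = true := ext_range (a := 924) (len := 308) h3 f_3
  have h5 : ∀ u < 1540, (fun u => chkFin tab u) u = true := ext_range (a := 1232) (len := 308) h4 f_4
  have h6 : ∀ u < 1848, (fun u => chkFin tab u) u = true := ext_range (a := 1540) (len := 308) h5 f_5
  have h7 : ∀ u < 2156, (fun u => chkFin tab u) u = true := ext_range (a := 1848) (len := 308) h6 f_6
  have h8 : ∀ u < 2464, (fun u => chkFin tab u) u = true := ext_range (a := 2156) (len := 308) h7 f_7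
  have h9 : ∀ u < 2772, (fun u => chkFin tab u) u = true := ext_range (a := 2464) (len := 308) h8 f_8
  have h10 : ∀ u < 3080, (fun u => chkFin tab u) u = true := ext_range (a := 2772) (len := 308) h9 f_9
  have h11 : ∀ u < 3388, (fun u => chkFin tab u) u = true := ext_range (a := 3080) (len := 308) h10 f_10
  have h12 : ∀ u < 3696, (fun u => chkFin tab u) u = true := ext_range (a := 3388) (len := 308) h11 f_11
  have h13 : ∀ u < 4004, (fun u => chkFin tab u) u = true := ext_range (a := 3696) (len := 308) h12 f_12
  have h14 : ∀ u < 4312, (fun u => chkFin tab u) u = true := ext_range (a := 4004) (len := 308) h13 f_13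
  have h15 : ∀ u < 4620, (fun u => chkFin tab u) u = true := ext_range (a := 4312) (len := 308) h14 f_14
  have h16 : ∀ u < 4928, (fun u => chkFin tab u) u = true := ext_range (a := 4620) (len := 308) h15 f_15
  have h17 : ∀ u < 5236, (fun u => chkFin tab u) u = true := ext_range (a := 4928) (len := 308) h16 f_16
  have h18 : ∀ u < 5544, (fun u => chkFin tab u) u = true := ext_range (a := 5236) (len := 308) h17 f_17
  have h19 : ∀ u < 5852, (fun u => chkFin tab u) u = true := ext_range (a := 5544) (len := 308) h18 f_18
  have h20 : ∀ u < 6160, (fun u => chkFin tab u) u = true := ext_range (a := 5852) (len := 308) h19 f_19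
  have h21 : ∀ u < 6468, (fun u => chkFin tab u) u = true := ext_range (a := 6160) (len := 308) h20 f_20
  have h22 : ∀ u < 6776, (fun u => chkFin tab u) u = true := ext_range (a := 6468) (len := 308) h21 f_21
  have h23 : ∀ u < 7084, (fun u => chkFin tab u) u = true := ext_range (a := 6776) (len := 308) h22 f_22
  have h24 : ∀ u < 7392, (fun u => chkFin tab u) u = true := ext_range (a := 7084) (len := 308) h23 f_23
  have h25 : ∀ u < 7700, (fun u => chkFin tab u) u = true := ext_range (a := 7392) (len := 308) h24 f_24
  have h26 : ∀ u < 8008, (fun u => chkFin tab u) u = true := ext_range (a := 7700) (len := 308) h25 f_25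
  have h27 : ∀ u < 8316, (fun u => chkFin tab u) u = true := ext_range (a := 8008) (len := 308) h26 f_26
  have h28 : ∀ u < 8624, (fun u => chkFin tab u) u = true := ext_range (a := 8316) (len := 308) h27 f_27
  have h29 : ∀ u < 8932, (fun u => chkFin tab u) u = true := ext_range (a := 8624) (len := 308) h28 f_28
  have h30 : ∀ u < 9240, (fun u => chkFin tab u) u = true := ext_range (a := 8932) (len := 308) h29 f_29
  have h31 : ∀ u < 9548, (fun u => chkFin tab u) u = true := ext_range (a := 9240) (len := 308) h30 f_30
  have h32 : ∀ u < 9856, (fun u => chkFin tab u) u = true := ext_range (a := 9548) (len := 308) h31 f_31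
  have h33 : ∀ u < 10164, (fun u => chkFin tab u) u = true := ext_range (a := 9856) (len := 308) h32 f_32
  have h34 : ∀ u < 10472, (fun u => chkFin tab u) u = true := ext_range (a := 10164) (len := 308) h33 f_33
  have h35 : ∀ u < 10780, (fun u => chkFin tab u) u = true := ext_range (a := 10472) (len := 308) h34 f_34
  have h36 : ∀ u < 11088, (fun u => chkFin tab u) u = true := ext_range (a := 10780) (len := 308) h35 f_35
  have h37 : ∀ u < 11396, (fun u => chkFin tab u) u = true := ext_range (a := 11088) (len := 308) h36 f_36
  have h38 : ∀ u < 11704, (fun u => chkFin tab u) u = true := ext_range (a := 11396) (len := 308) h37 f_37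
  have h39 : ∀ u < 12012, (fun u => chkFin tab u) u = true := ext_range (a := 11704) (len := 308) h38 f_38
  have h40 : ∀ u < 12320, (fun u => chkFin tab u) u = true := ext_range (a := 12012) (len := 308) h39 f_39
  have h41 : ∀ u < 12628, (fun u => chkFin tab u) u = true := ext_range (a := 12320) (len := 308) h40 f_40
  have h42 : ∀ u < 12936, (fun u => chkFin tab u) u = true := ext_range (a := 12628) (len := 308) h41 f_41
  have h43 : ∀ u < 13244, (fun u => chkFin tab u) u = true := ext_range (a := 12936) (len := 308) h42 f_42
  have h44 : ∀ u < 13552, (fun u => chkFin tab u) u = true := ext_range (a := 13244) (len := 308) h43 f_43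
  have h45 : ∀ u < 13860, (fun u => chkFin tab u) u = true := ext_range (a := 13552) (len := 308) h44 f_44
  have h46 : ∀ u < 14168, (fun u => chkFin tab u) u = true := ext_range (a := 13860) (len := 308) h45 f_45
  have h47 : ∀ u < 14476, (fun u => chkFin tab u) u = true := ext_range (a := 14168) (len := 308) h46 f_46
  have h48 : ∀ u < 14784, (fun u => chkFin tab u) u = true := ext_range (a := 14476) (len := 308) h47 f_47
  have h49 : ∀ u < 15092, (fun u => chkFin tab u) u = true := ext_range (a := 14784) (len := 308) h48 f_48
  have h50 : ∀ u < 15400, (fun u => chkFin tab u) u = true := ext_range (a := 15092) (len := 308) h49 f_49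
  have h51 : ∀ u < 15708, (fun u => chkFin tab u) u = true := ext_range (a := 15400) (len := 308) h50 f_50
  have h52 : ∀ u < 16016, (fun u => chkFin tab u) u = true := ext_range (a := 15708) (len := 308) h51 f_51
  have h53 : ∀ u < 16324, (fun u => chkFin tab u) u = true := ext_range (a := 16016) (len := 308) h52 f_52
  have h54 : ∀ u < 16632, (fun u => chkFin tab u) u = true := ext_range (a := 16324) (len := 308) h53 f_53
  have h55 : ∀ u < 16940, (fun u => chkFin tab u) u = true := ext_range (a := 16632) (len := 308) h54 f_54
  have h56 : ∀ u < 17248, (fun u => chkFin tab u) u = true := ext_range (a := 16940) (len := 308) h55 f_55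
  have h57 : ∀ u < 17556, (fun u => chkFin tab u) u = true := ext_range (a := 17248) (len := 308) h56 f_56
  have h58 : ∀ u < 17864, (fun u => chkFin tab u) u = true := ext_range (a := 17556) (len := 308) h57 f_57
  have h59 : ∀ u < 18172, (fun u => chkFin tab u) u = true := ext_range (a := 17864) (len := 308) h58 f_58
  have h60 : ∀ u < 18480, (fun u => chkFin tab u) u = true := ext_range (a := 18172) (len := 308) h59 f_59
  have h61 : ∀ u < 18788, (fun u => chkFin tab u) u = true := ext_range (a := 18480) (len := 308) h60 f_60
  have h62 : ∀ u < 19096, (fun u => chkFin tab u) u = true := ext_range (a := 18788) (len := 308) h61 f_61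
  have h63 : ∀ u < 19404, (fun u => chkFin tab u) u = true := ext_range (a := 19096) (len := 308) h62 f_62
  have h64 : ∀ u < 19712, (fun u => chkFin tab u) u = true := ext_range (a := 19404) (len := 308) h63 f_63
  have h65 : ∀ u < 20020, (fun u => chkFin tab u) u = true := ext_range (a := 19712) (len := 308) h64 f_64
  have h66 : ∀ u < 20328, (fun u => chkFin tab u) u = true := ext_range (a := 20020) (len := 308) h65 f_65
  have h67 : ∀ u < 20636, (fun u => chkFin tab u) u = true := ext_range (a := 20328) (len := 308) h66 f_66
  have h68 : ∀ u < 20944, (fun u => chkFin tab u) u = true := ext_range (a := 20636) (len := 308) h67 f_67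
  have h69 : ∀ u < 21252, (fun u => chkFin tab u) u = true := ext_range (a := 20944) (len := 308) h68 f_68
  have h70 : ∀ u < 21560, (fun u => chkFin tab u) u = true := ext_range (a := 21252) (len := 308) h69 f_69
  have h71 : ∀ u < 21868, (fun u => chkFin tab u) u = true := ext_range (a := 21560) (len := 308) h70 f_70
  have h72 : ∀ u < 22176, (fun u => chkFin tab u) u = true := ext_range (a := 21868) (len := 308) h71 f_71
  have h73 : ∀ u < 22484, (fun u => chkFin tab u) u = true := ext_range (a := 22176) (len := 308) h72 f_72
  have h74 : ∀ u < 22792, (fun u => chkFin tab u) u = true := ext_range (a := 22484) (len := 308) h73 f_73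
  have h75 : ∀ u < 23100, (fun u => chkFin tab u) u = true := ext_range (a := 22792) (len := 308) h74 f_74
  have h76 : ∀ u < 23408, (fun u => chkFin tab u) u = true := ext_range (a := 23100) (len := 308) h75 f_75
  have h77 : ∀ u < 23716, (fun u => chkFin tab u) u = true := ext_range (a := 23408) (len := 308) h76 f_76
  have h78 : ∀ u < 24024, (fun u => chkFin tab u) u = true := ext_range (a := 23716) (len := 308) h77 f_77
  have h79 : ∀ u < 24332, (fun u => chkFin tab u) u = true := ext_range (a := 24024) (len := 308) h78 f_78
  have h80 : ∀ u < 24640, (fun u => chkFin tab u) u = true := ext_range (a := 24332) (len := 308) h79 f_79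
  have h81 : ∀ u < 24948, (fun u => chkFin tab u) u = true := ext_range (a := 24640) (len := 308) h80 f_80
  have h82 : ∀ u < 25256, (fun u => chkFin tab u) u = true := ext_range (a := 24948) (len := 308) h81 f_81
  have h83 : ∀ u < 25564, (fun u => chkFin tab u) u = true := ext_range (a := 25256) (len := 308) h82 f_82
  have h84 : ∀ u < 25872, (fun u => chkFin tab u) u = true := ext_range (a := 25564) (len := 308) h83 f_83
  have h85 : ∀ u < 26180, (fun u => chkFin tab u) u = true := ext_range (a := 25872) (len := 308) h84 f_84
  have h86 : ∀ u < 26488, (fun u => chkFin tab u) u = true := ext_range (a := 26180) (len := 308) h85 f_85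
  have h87 : ∀ u < 26796, (fun u => chkFin tab u) u = true := ext_range (a := 26488) (len := 308) h86 f_86
  have h88 : ∀ u < 27104, (fun u => chkFin tab u) u = true := ext_range (a := 26796) (len := 308) h87 f_87
  have h89 : ∀ u < 27412, (fun u => chkFin tab u) u = true := ext_range (a := 27104) (len := 308) h88 f_88
  have h90 : ∀ u < 27720, (fun u => chkFin tab u) u = true := ext_range (a := 27412) (len := 308) h89 f_89
  have h91 : ∀ u < 28028, (fun u => chkFin tab u) u = true := ext_range (a := 27720) (len := 308) h90 f_90
  have h92 : ∀ u < 28336, (fun u => chkFin tab u) u = true := ext_range (a := 28028) (len := 308) h91 f_91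
  have h93 : ∀ u < 28644, (fun u => chkFin tab u) u = true := ext_range (a := 28336) (len := 308) h92 f_92
  have h94 : ∀ u < 28952, (fun u => chkFin tab u) u = true := ext_range (a := 28644) (len := 308) h93 f_93
  have h95 : ∀ u < 29260, (fun u => chkFin tab u) u = true := ext_range (a := 28952) (len := 308) h94 f_94
  have h96 : ∀ u < 29568, (fun u => chkFin tab u) u = true := ext_range (a := 29260) (len := 308) h95 f_95
  have h97 : ∀ u < 29876, (fun u => chkFin tab u) u = true := ext_range (a := 29568) (len := 308) h96 f_96
  have h98 : ∀ u < 30184, (fun u => chkFin tab u) u = true := ext_range (a := 29876) (len := 308) h97 f_97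
  have h99 : ∀ u < 30492, (fun u => chkFin tab u) u = true := ext_range (a := 30184) (len := 308) h98 f_98
  have h100 : ∀ u < 30800, (fun u => chkFin tab u) u = true := ext_range (a := 30492) (len := 308) h99 f_99
  have h101 : ∀ u < 31108, (fun u => chkFin tab u) u = true := ext_range (a := 30800) (len := 308) h100 f_100
  have h102 : ∀ u < 31416, (fun u => chkFin tab u) u = true := ext_range (a := 31108) (len := 308) h101 f_101
  have h103 : ∀ u < 31724, (fun u => chkFin tab u) u = true := ext_range (a := 31416) (len := 308) h102 f_102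
  have h104 : ∀ u < 32032, (fun u => chkFin tab u) u = true := ext_range (a := 31724) (len := 308) h103 f_103
  have h105 : ∀ u < 32340, (fun u => chkFin tab u) u = true := ext_range (a := 32032) (len := 308) h104 f_104
  have h106 : ∀ u < 32648, (fun u => chkFin tab u) u = true := ext_range (a := 32340) (len := 308) h105 f_105
  have h107 : ∀ u < 32956, (fun u => chkFin tab u) u = true := ext_range (a := 32648) (len := 308) h106 f_106
  have h108 : ∀ u < 33264, (fun u => chkFin tab u) u = true := ext_range (a := 32956) (len := 308) h107 f_107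
  have h109 : ∀ u < 33572, (fun u => chkFin tab u) u = true := ext_range (a := 33264) (len := 308) h108 f_108
  have h110 : ∀ u < 33880, (fun u => chkFin tab u) u = true := ext_range (a := 33572) (len := 308) h109 f_109
  have h111 : ∀ u < 34188, (fun u => chkFin tab u) u = true := ext_range (a := 33880) (len := 308) h110 f_110
  have h112 : ∀ u < 34496, (fun u => chkFin tab u) u = true := ext_range (a := 34188) (len := 308) h111 f_111
  have h113 : ∀ u < 34804, (fun u => chkFin tab u) u = true := ext_range (a := 34496) (len := 308) h112 f_112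
  have h114 : ∀ u < 35112, (fun u => chkFin tab u) u = true := ext_range (a := 34804) (len := 308) h113 f_113
  have h115 : ∀ u < 35420, (fun u => chkFin tab u) u = true := ext_range (a := 35112) (len := 308) h114 f_114
  have h116 : ∀ u < 35728, (fun u => chkFin tab u) u = true := ext_range (a := 35420) (len := 308) h115 f_115
  have h117 : ∀ u < 36036, (fun u => chkFin tab u) u = true := ext_range (a := 35728) (len := 308) h116 f_116
  have h118 : ∀ u < 36344, (fun u => chkFin tab u) u = true := ext_range (a := 36036) (len := 308) h117 f_117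
  have h119 : ∀ u < 36652, (fun u => chkFin tab u) u = true := ext_range (a := 36344) (len := 308) h118 f_118
  have h120 : ∀ u < 36960, (fun u => chkFin tab u) u = true := ext_range (a := 36652) (len := 308) h119 f_119
  have h121 : ∀ u < 37268, (fun u => chkFin tab u) u = true := ext_range (a := 36960) (len := 308) h120 f_120
  have h122 : ∀ u < 37576, (fun u => chkFin tab u) u = true := ext_range (a := 37268) (len := 308) h121 f_121
  have h123 : ∀ u < 37884, (fun u => chkFin tab u) u = true := ext_range (a := 37576) (len := 308) h122 f_122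
  have h124 : ∀ u < 38192, (fun u => chkFin tab u) u = true := ext_range (a := 37884) (len := 308) h123 f_123
  have h125 : ∀ u < 38500, (fun u => chkFin tab u) u = true := ext_range (a := 38192) (len := 308) h124 f_124
  have h126 : ∀ u < 38808, (fun u => chkFin tab u) u = true := ext_range (a := 38500) (len := 308) h125 f_125
  have h127 : ∀ u < 39116, (fun u => chkFin tab u) u = true := ext_range (a := 38808) (len := 308) h126 f_126
  have h128 : ∀ u < 39424, (fun u => chkFin tab u) u = true := ext_range (a := 39116) (len := 308) h127 f_127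
  have h129 : ∀ u < 39732, (fun u => chkFin tab u) u = true := ext_range (a := 39424) (len := 308) h128 f_128
  have h130 : ∀ u < 40040, (fun u => chkFin tab u) u = true := ext_range (a := 39732) (len := 308) h129 f_129
  have h131 : ∀ u < 40348, (fun u => chkFin tab u) u = true := ext_range (a := 40040) (len := 308) h130 f_130
  have h132 : ∀ u < 40656, (fun u => chkFin tab u) u = true := ext_range (a := 40348) (len := 308) h131 f_131
  have h133 : ∀ u < 40964, (fun u => chkFin tab u) u = true := ext_range (a := 40656) (len := 308) h132 f_132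
  have h134 : ∀ u < 41272, (fun u => chkFin tab u) u = true := ext_range (a := 40964) (len := 308) h133 f_133
  have h135 : ∀ u < 41580, (fun u => chkFin tab u) u = true := ext_range (a := 41272) (len := 308) h134 f_134
  have h136 : ∀ u < 41888, (fun u => chkFin tab u) u = true := ext_range (a := 41580) (len := 308) h135 f_135
  have h137 : ∀ u < 42196, (fun u => chkFin tab u) u = true := ext_range (a := 41888) (len := 308) h136 f_136
  have h138 : ∀ u < 42504, (fun u => chkFin tab u) u = true := ext_range (a := 42196) (len := 308) h137 f_137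
  have h139 : ∀ u < 42812, (fun u => chkFin tab u) u = true := ext_range (a := 42504) (len := 308) h138 f_138
  have h140 : ∀ u < 43120, (fun u => chkFin tab u) u = true := ext_range (a := 42812) (len := 308) h139 f_139
  have h141 : ∀ u < 43428, (fun u => chkFin tab u) u = true := ext_range (a := 43120) (len := 308) h140 f_140
  have h142 : ∀ u < 43736, (fun u => chkFin tab u) u = true := ext_range (a := 43428) (len := 308) h141 f_141
  have h143 : ∀ u < 44044, (fun u => chkFin tab u) u = true := ext_range (a := 43736) (len := 308) h142 f_142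
  have h144 : ∀ u < 44352, (fun u => chkFin tab u) u = true := ext_range (a := 44044) (len := 308) h143 f_143
  have h145 : ∀ u < 44660, (fun u => chkFin tab u) u = true := ext_range (a := 44352) (len := 308) h144 f_144
  have h146 : ∀ u < 44968, (fun u => chkFin tab u) u = true := ext_range (a := 44660) (len := 308) h145 f_145
  have h147 : ∀ u < 45276, (fun u => chkFin tab u) u = true := ext_range (a := 44968) (len := 308) h146 f_146
  have h148 : ∀ u < 45584, (fun u => chkFin tab u) u = true := ext_range (a := 45276) (len := 308) h147 f_147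
  have h149 : ∀ u < 45892, (fun u => chkFin tab u) u = true := ext_range (a := 45584) (len := 308) h148 f_148
  have h150 : ∀ u < 46200, (fun u => chkFin tab u) u = true := ext_range (a := 45892) (len := 308) h149 f_149
  have h151 : ∀ u < 46508, (fun u => chkFin tab u) u = true := ext_range (a := 46200) (len := 308) h150 f_150
  have h152 : ∀ u < 46816, (fun u => chkFin tab u) u = true := ext_range (a := 46508) (len := 308) h151 f_151
  have h153 : ∀ u < 47124, (fun u => chkFin tab u) u = true := ext_range (a := 46816) (len := 308) h152 f_152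
  have h154 : ∀ u < 47432, (fun u => chkFin tab u) u = true := ext_range (a := 47124) (len := 308) h153 f_153
  have h155 : ∀ u < 47740, (fun u => chkFin tab u) u = true := ext_range (a := 47432) (len := 308) h154 f_154
  have h156 : ∀ u < 48048, (fun u => chkFin tab u) u = true := ext_range (a := 47740) (len := 308) h155 f_155
  have h157 : ∀ u < 48356, (fun u => chkFin tab u) u = true := ext_range (a := 48048) (len := 308) h156 f_156
  have h158 : ∀ u < 48664, (fun u => chkFin tab u) u = true := ext_range (a := 48356) (len := 308) h157 f_157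
  have h159 : ∀ u < 48972, (fun u => chkFin tab u) u = true := ext_range (a := 48664) (len := 308) h158 f_158
  have h160 : ∀ u < 49280, (fun u => chkFin tab u) u = true := ext_range (a := 48972) (len := 308) h159 f_159
  have h161 : ∀ u < 49588, (fun u => chkFin tab u) u = true := ext_range (a := 49280) (len := 308) h160 f_160
  have h162 : ∀ u < 49896, (fun u => chkFin tab u) u = true := ext_range (a := 49588) (len := 308) h161 f_161
  have h163 : ∀ u < 50204, (fun u => chkFin tab u) u = true := ext_range (a := 49896) (len := 308) h162 f_162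
  have h164 : ∀ u < 50512, (fun u => chkFin tab u) u = true := ext_range (a := 50204) (len := 308) h163 f_163
  have h165 : ∀ u < 50820, (fun u => chkFin tab u) u = true := ext_range (a := 50512) (len := 308) h164 f_164
  have h166 : ∀ u < 51128, (fun u => chkFin tab u) u = true := ext_range (a := 50820) (len := 308) h165 f_165
  have h167 : ∀ u < 51436, (fun u => chkFin tab u) u = true := ext_range (a := 51128) (len := 308) h166 f_166
  have h168 : ∀ u < 51744, (fun u => chkFin tab u) u = true := ext_range (a := 51436) (len := 308) h167 f_167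
  have h169 : ∀ u < 52052, (fun u => chkFin tab u) u = true := ext_range (a := 51744) (len := 308) h168 f_168
  have h170 : ∀ u < 52360, (fun u => chkFin tab u) u = true := ext_range (a := 52052) (len := 308) h169 f_169
  have h171 : ∀ u < 52668, (fun u => chkFin tab u) u = true := ext_range (a := 52360) (len := 308) h170 f_170
  have h172 : ∀ u < 52976, (fun u => chkFin tab u) u = true := ext_range (a := 52668) (len := 308) h171 f_171
  have h173 : ∀ u < 53284, (fun u => chkFin tab u) u = true := ext_range (a := 52976) (len := 308) h172 f_172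
  have h174 : ∀ u < 53592, (fun u => chkFin tab u) u = true := ext_range (a := 53284) (len := 308) h173 f_173
  have h175 : ∀ u < 53900, (fun u => chkFin tab u) u = true := ext_range (a := 53592) (len := 308) h174 f_174
  have h176 : ∀ u < 54208, (fun u => chkFin tab u) u = true := ext_range (a := 53900) (len := 308) h175 f_175
  have h177 : ∀ u < 54516, (fun u => chkFin tab u) u = true := ext_range (a := 54208) (len := 308) h176 f_176
  have h178 : ∀ u < 54824, (fun u => chkFin tab u) u = true := ext_range (a := 54516) (len := 308) h177 f_177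
  have h179 : ∀ u < 55132, (fun u => chkFin tab u) u = true := ext_range (a := 54824) (len := 308) h178 f_178
  have h180 : ∀ u < 55440, (fun u => chkFin tab u) u = true := ext_range (a := 55132) (len := 308) h179 f_179
  have h181 : ∀ u < 55748, (fun u => chkFin tab u) u = true := ext_range (a := 55440) (len := 308) h180 f_180
  have h182 : ∀ u < 56056, (fun u => chkFin tab u) u = true := ext_range (a := 55748) (len := 308) h181 f_181
  have h183 : ∀ u < 56364, (fun u => chkFin tab u) u = true := ext_range (a := 56056) (len := 308) h182 f_182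
  have h184 : ∀ u < 56672, (fun u => chkFin tab u) u = true := ext_range (a := 56364) (len := 308) h183 f_183
  have h185 : ∀ u < 56980, (fun u => chkFin tab u) u = true := ext_range (a := 56672) (len := 308) h184 f_184
  have h186 : ∀ u < 57288, (fun u => chkFin tab u) u = true := ext_range (a := 56980) (len := 308) h185 f_185
  have h187 : ∀ u < 57596, (fun u => chkFin tab u) u = true := ext_range (a := 57288) (len := 308) h186 f_186
  have h188 : ∀ u < 57904, (fun u => chkFin tab u) u = true := ext_range (a := 57596) (len := 308) h187 f_187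
  have h189 : ∀ u < 58212, (fun u => chkFin tab u) u = true := ext_range (a := 57904) (len := 308) h188 f_188
  have h190 : ∀ u < 58520, (fun u => chkFin tab u) u = true := ext_range (a := 58212) (len := 308) h189 f_189
  have h191 : ∀ u < 58828, (fun u => chkFin tab u) u = true := ext_range (a := 58520) (len := 308) h190 f_190
  have h192 : ∀ u < 59136, (fun u => chkFin tab u) u = true := ext_range (a := 58828) (len := 308) h191 f_191
  have h193 : ∀ u < 59444, (fun u => chkFin tab u) u = true := ext_range (a := 59136) (len := 308) h192 f_192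
  have h194 : ∀ u < 59752, (fun u => chkFin tab u) u = true := ext_range (a := 59444) (len := 308) h193 f_193
  have h195 : ∀ u < 60060, (fun u => chkFin tab u) u = true := ext_range (a := 59752) (len := 308) h194 f_194
  have h196 : ∀ u < 60368, (fun u => chkFin tab u) u = true := ext_range (a := 60060) (len := 308) h195 f_195
  have h197 : ∀ u < 60676, (fun u => chkFin tab u) u = true := ext_range (a := 60368) (len := 308) h196 f_196
  have h198 : ∀ u < 60984, (fun u => chkFin tab u) u = true := ext_range (a := 60676) (len := 308) h197 f_197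
  have h199 : ∀ u < 61292, (fun u => chkFin tab u) u = true := ext_range (a := 60984) (len := 308) h198 f_198
  have h200 : ∀ u < 61600, (fun u => chkFin tab u) u = true := ext_range (a := 61292) (len := 308) h199 f_199
  have h201 : ∀ u < 61908, (fun u => chkFin tab u) u = true := ext_range (a := 61600) (len := 308) h200 f_200
  have h202 : ∀ u < 62216, (fun u => chkFin tab u) u = true := ext_range (a := 61908) (len := 308) h201 f_201
  have h203 : ∀ u < 62524, (fun u => chkFin tab u) u = true := ext_range (a := 62216) (len := 308) h202 f_202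
  have h204 : ∀ u < 62832, (fun u => chkFin tab u) u = true := ext_range (a := 62524) (len := 308) h203 f_203
  have h205 : ∀ u < 63140, (fun u => chkFin tab u) u = true := ext_range (a := 62832) (len := 308) h204 f_204
  have h206 : ∀ u < 63448, (fun u => chkFin tab u) u = true := ext_range (a := 63140) (len := 308) h205 f_205
  have h207 : ∀ u < 63756, (fun u => chkFin tab u) u = true := ext_range (a := 63448) (len := 308) h206 f_206
  have h208 : ∀ u < 64064, (fun u => chkFin tab u) u = true := ext_range (a := 63756) (len := 308) h207 f_207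
  have h209 : ∀ u < 64372, (fun u => chkFin tab u) u = true := ext_range (a := 64064) (len := 308) h208 f_208
  have h210 : ∀ u < 64680, (fun u => chkFin tab u) u = true := ext_range (a := 64372) (len := 308) h209 f_209
  have h211 : ∀ u < 64988, (fun u => chkFin tab u) u = true := ext_range (a := 64680) (len := 308) h210 f_210
  have h212 : ∀ u < 65296, (fun u => chkFin tab u) u = true := ext_range (a := 64988) (len := 308) h211 f_211
  have h213 : ∀ u < 65604, (fun u => chkFin tab u) u = true := ext_range (a := 65296) (len := 308) h212 f_212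
  have h214 : ∀ u < 65912, (fun u => chkFin tab u) u = true := ext_range (a := 65604) (len := 308) h213 f_213
  have h215 : ∀ u < 66220, (fun u => chkFin tab u) u = true := ext_range (a := 65912) (len := 308) h214 f_214
  have h216 : ∀ u < 66528, (fun u => chkFin tab u) u = true := ext_range (a := 66220) (len := 308) h215 f_215
  have h217 : ∀ u < 66836, (fun u => chkFin tab u) u = true := ext_range (a := 66528) (len := 308) h216 f_216
  have h218 : ∀ u < 67144, (fun u => chkFin tab u) u = true := ext_range (a := 66836) (len := 308) h217 f_217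
  have h219 : ∀ u < 67452, (fun u => chkFin tab u) u = true := ext_range (a := 67144) (len := 308) h218 f_218
  have h220 : ∀ u < 67760, (fun u => chkFin tab u) u = true := ext_range (a := 67452) (len := 308) h219 f_219
  have h221 : ∀ u < 68068, (fun u => chkFin tab u) u = true := ext_range (a := 67760) (len := 308) h220 f_220
  have h222 : ∀ u < 68376, (fun u => chkFin tab u) u = true := ext_range (a := 68068) (len := 308) h221 f_221
  have h223 : ∀ u < 68684, (fun u => chkFin tab u) u = true := ext_range (a := 68376) (len := 308) h222 f_222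
  have h224 : ∀ u < 68992, (fun u => chkFin tab u) u = true := ext_range (a := 68684) (len := 308) h223 f_223
  have h225 : ∀ u < 69300, (fun u => chkFin tab u) u = true := ext_range (a := 68992) (len := 308) h224 f_224
  have h226 : ∀ u < 69608, (fun u => chkFin tab u) u = true := ext_range (a := 69300) (len := 308) h225 f_225
  have h227 : ∀ u < 69916, (fun u => chkFin tab u) u = true := ext_range (a := 69608) (len := 308) h226 f_226
  have h228 : ∀ u < 70224, (fun u => chkFin tab u) u = true := ext_range (a := 69916) (len := 308) h227 f_227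
  have h229 : ∀ u < 70532, (fun u => chkFin tab u) u = true := ext_range (a := 70224) (len := 308) h228 f_228
  have h230 : ∀ u < 70840, (fun u => chkFin tab u) u = true := ext_range (a := 70532) (len := 308) h229 f_229
  have h231 : ∀ u < 71148, (fun u => chkFin tab u) u = true := ext_range (a := 70840) (len := 308) h230 f_230
  have h232 : ∀ u < 71456, (fun u => chkFin tab u) u = true := ext_range (a := 71148) (len := 308) h231 f_231
  have h233 : ∀ u < 71764, (fun u => chkFin tab u) u = true := ext_range (a := 71456) (len := 308) h232 f_232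
  have h234 : ∀ u < 72072, (fun u => chkFin tab u) u = true := ext_range (a := 71764) (len := 308) h233 f_233
  have h235 : ∀ u < 72380, (fun u => chkFin tab u) u = true := ext_range (a := 72072) (len := 308) h234 f_234
  have h236 : ∀ u < 72688, (fun u => chkFin tab u) u = true := ext_range (a := 72380) (len := 308) h235 f_235
  have h237 : ∀ u < 72996, (fun u => chkFin tab u) u = true := ext_range (a := 72688) (len := 308) h236 f_236
  have h238 : ∀ u < 73304, (fun u => chkFin tab u) u = true := ext_range (a := 72996) (len := 308) h237 f_237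
  have h239 : ∀ u < 73612, (fun u => chkFin tab u) u = true := ext_range (a := 73304) (len := 308) h238 f_238
  have h240 : ∀ u < 73920, (fun u => chkFin tab u) u = true := ext_range (a := 73612) (len := 308) h239 f_239
  have h241 : ∀ u < 74228, (fun u => chkFin tab u) u = true := ext_range (a := 73920) (len := 308) h240 f_240
  have h242 : ∀ u < 74536, (fun u => chkFin tab u) u = true := ext_range (a := 74228) (len := 308) h241 f_241
  have h243 : ∀ u < 74844, (fun u => chkFin tab u) u = true := ext_range (a := 74536) (len := 308) h242 f_242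
  have h244 : ∀ u < 75152, (fun u => chkFin tab u) u = true := ext_range (a := 74844) (len := 308) h243 f_243
  have h245 : ∀ u < 75460, (fun u => chkFin tab u) u = true := ext_range (a := 75152) (len := 308) h244 f_244
  have h246 : ∀ u < 75768, (fun u => chkFin tab u) u = true := ext_range (a := 75460) (len := 308) h245 f_245
  have h247 : ∀ u < 76076, (fun u => chkFin tab u) u = true := ext_range (a := 75768) (len := 308) h246 f_246
  have h248 : ∀ u < 76384, (fun u => chkFin tab u) u = true := ext_range (a := 76076) (len := 308) h247 f_247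
  have h249 : ∀ u < 76692, (fun u => chkFin tab u) u = true := ext_range (a := 76384) (len := 308) h248 f_248
  have h250 : ∀ u < 77000, (fun u => chkFin tab u) u = true := ext_range (a := 76692) (len := 308) h249 f_249
  have h251 : ∀ u < 77308, (fun u => chkFin tab u) u = true := ext_range (a := 77000) (len := 308) h250 f_250
  have h252 : ∀ u < 77616, (fun u => chkFin tab u) u = true := ext_range (a := 77308) (len := 308) h251 f_251
  have h253 : ∀ u < 77924, (fun u => chkFin tab u) u = true := ext_range (a := 77616) (len := 308) h252 f_252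
  have h254 : ∀ u < 78232, (fun u => chkFin tab u) u = true := ext_range (a := 77924) (len := 308) h253 f_253
  have h255 : ∀ u < 78540, (fun u => chkFin tab u) u = true := ext_range (a := 78232) (len := 308) h254 f_254
  have h256 : ∀ u < 78848, (fun u => chkFin tab u) u = true := ext_range (a := 78540) (len := 308) h255 f_255
  have h257 : ∀ u < 79156, (fun u => chkFin tab u) u = true := ext_range (a := 78848) (len := 308) h256 f_256
  have h258 : ∀ u < 79464, (fun u => chkFin tab u) u = true := ext_range (a := 79156) (len := 308) h257 f_257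
  have h259 : ∀ u < 79772, (fun u => chkFin tab u) u = true := ext_range (a := 79464) (len := 308) h258 f_258
  have h260 : ∀ u < 80080, (fun u => chkFin tab u) u = true := ext_range (a := 79772) (len := 308) h259 f_259
  have h261 : ∀ u < 80388, (fun u => chkFin tab u) u = true := ext_range (a := 80080) (len := 308) h260 f_260
  have h262 : ∀ u < 80696, (fun u => chkFin tab u) u = true := ext_range (a := 80388) (len := 308) h261 f_261
  have h263 : ∀ u < 81004, (fun u => chkFin tab u) u = true := ext_range (a := 80696) (len := 308) h262 f_262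
  have h264 : ∀ u < 81312, (fun u => chkFin tab u) u = true := ext_range (a := 81004) (len := 308) h263 f_263
  have h265 : ∀ u < 81620, (fun u => chkFin tab u) u = true := ext_range (a := 81312) (len := 308) h264 f_264
  have h266 : ∀ u < 81928, (fun u => chkFin tab u) u = true := ext_range (a := 81620) (len := 308) h265 f_265
  have h267 : ∀ u < 82236, (fun u => chkFin tab u) u = true := ext_range (a := 81928) (len := 308) h266 f_266
  have h268 : ∀ u < 82544, (fun u => chkFin tab u) u = true := ext_range (a := 82236) (len := 308) h267 f_267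
  have h269 : ∀ u < 82852, (fun u => chkFin tab u) u = true := ext_range (a := 82544) (len := 308) h268 f_268
  have h270 : ∀ u < 83160, (fun u => chkFin tab u) u = true := ext_range (a := 82852) (len := 308) h269 f_269
  have h271 : ∀ u < 83468, (fun u => chkFin tab u) u = true := ext_range (a := 83160) (len := 308) h270 f_270
  have h272 : ∀ u < 83776, (fun u => chkFin tab u) u = true := ext_range (a := 83468) (len := 308) h271 f_271
  have h273 : ∀ u < 84084, (fun u => chkFin tab u) u = true := ext_range (a := 83776) (len := 308) h272 f_272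
  have h274 : ∀ u < 84392, (fun u => chkFin tab u) u = true := ext_range (a := 84084) (len := 308) h273 f_273
  have h275 : ∀ u < 84700, (fun u => chkFin tab u) u = true := ext_range (a := 84392) (len := 308) h274 f_274
  have h276 : ∀ u < 85008, (fun u => chkFin tab u) u = true := ext_range (a := 84700) (len := 308) h275 f_275
  have h277 : ∀ u < 85316, (fun u => chkFin tab u) u = true := ext_range (a := 85008) (len := 308) h276 f_276
  have h278 : ∀ u < 85624, (fun u => chkFin tab u) u = true := ext_range (a := 85316) (len := 308) h277 f_277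
  have h279 : ∀ u < 85932, (fun u => chkFin tab u) u = true := ext_range (a := 85624) (len := 308) h278 f_278
  have h280 : ∀ u < 86240, (fun u => chkFin tab u) u = true := ext_range (a := 85932) (len := 308) h279 f_279
  have h281 : ∀ u < 86548, (fun u => chkFin tab u) u = true := ext_range (a := 86240) (len := 308) h280 f_280
  have h282 : ∀ u < 86856, (fun u => chkFin tab u) u = true := ext_range (a := 86548) (len := 308) h281 f_281
  have h283 : ∀ u < 87164, (fun u => chkFin tab u) u = true := ext_range (a := 86856) (len := 308) h282 f_282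
  have h284 : ∀ u < 87472, (fun u => chkFin tab u) u = true := ext_range (a := 87164) (len := 308) h283 f_283
  have h285 : ∀ u < 87780, (fun u => chkFin tab u) u = true := ext_range (a := 87472) (len := 308) h284 f_284
  have h286 : ∀ u < 88088, (fun u => chkFin tab u) u = true := ext_range (a := 87780) (len := 308) h285 f_285
  have h287 : ∀ u < 88396, (fun u => chkFin tab u) u = true := ext_range (a := 88088) (len := 308) h286 f_286
  have h288 : ∀ u < 88704, (fun u => chkFin tab u) u = true := ext_range (a := 88396) (len := 308) h287 f_287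
  have h289 : ∀ u < 89012, (fun u => chkFin tab u) u = true := ext_range (a := 88704) (len := 308) h288 f_288
  have h290 : ∀ u < 89320, (fun u => chkFin tab u) u = true := ext_range (a := 89012) (len := 308) h289 f_289
  have h291 : ∀ u < 89628, (fun u => chkFin tab u) u = true := ext_range (a := 89320) (len := 308) h290 f_290
  have h292 : ∀ u < 89936, (fun u => chkFin tab u) u = true := ext_range (a := 89628) (len := 308) h291 f_291
  have h293 : ∀ u < 90244, (fun u => chkFin tab u) u = true := ext_range (a := 89936) (len := 308) h292 f_292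
  have h294 : ∀ u < 90552, (fun u => chkFin tab u) u = true := ext_range (a := 90244) (len := 308) h293 f_293
  have h295 : ∀ u < 90860, (fun u => chkFin tab u) u = true := ext_range (a := 90552) (len := 308) h294 f_294
  have h296 : ∀ u < 91168, (fun u => chkFin tab u) u = true := ext_range (a := 90860) (len := 308) h295 f_295
  have h297 : ∀ u < 91476, (fun u => chkFin tab u) u = true := ext_range (a := 91168) (len := 308) h296 f_296
  have h298 : ∀ u < 91784, (fun u => chkFin tab u) u = true := ext_range (a := 91476) (len := 308) h297 f_297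
  have h299 : ∀ u < 92092, (fun u => chkFin tab u) u = true := ext_range (a := 91784) (len := 308) h298 f_298
  have h300 : ∀ u < 92400, (fun u => chkFin tab u) u = true := ext_range (a := 92092) (len := 308) h299 f_299
  have h301 : ∀ u < 92708, (fun u => chkFin tab u) u = true := ext_range (a := 92400) (len := 308) h300 f_300
  have h302 : ∀ u < 93016, (fun u => chkFin tab u) u = true := ext_range (a := 92708) (len := 308) h301 f_301
  have h303 : ∀ u < 93324, (fun u => chkFin tab u) u = true := ext_range (a := 93016) (len := 308) h302 f_302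
  have h304 : ∀ u < 93632, (fun u => chkFin tab u) u = true := ext_range (a := 93324) (len := 308) h303 f_303
  have h305 : ∀ u < 93940, (fun u => chkFin tab u) u = true := ext_range (a := 93632) (len := 308) h304 f_304
  have h306 : ∀ u < 94248, (fun u => chkFin tab u) u = true := ext_range (a := 93940) (len := 308) h305 f_305
  have h307 : ∀ u < 94556, (fun u => chkFin tab u) u = true := ext_range (a := 94248) (len := 308) h306 f_306
  have h308 : ∀ u < 94864, (fun u => chkFin tab u) u = true := ext_range (a := 94556) (len := 308) h307 f_307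
  have h309 : ∀ u < 95172, (fun u => chkFin tab u) u = true := ext_range (a := 94864) (len := 308) h308 f_308
  have h310 : ∀ u < 95480, (fun u => chkFin tab u) u = true := ext_range (a := 95172) (len := 308) h309 f_309
  have h311 : ∀ u < 95788, (fun u => chkFin tab u) u = true := ext_range (a := 95480) (len := 308) h310 f_310
  have h312 : ∀ u < 96096, (fun u => chkFin tab u) u = true := ext_range (a := 95788) (len := 308) h311 f_311
  have h313 : ∀ u < 96404, (fun u => chkFin tab u) u = true := ext_range (a := 96096) (len := 308) h312 f_312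
  have h314 : ∀ u < 96712, (fun u => chkFin tab u) u = true := ext_range (a := 96404) (len := 308) h313 f_313
  have h315 : ∀ u < 97020, (fun u => chkFin tab u) u = true := ext_range (a := 96712) (len := 308) h314 f_314
  have h316 : ∀ u < 97328, (fun u => chkFin tab u) u = true := ext_range (a := 97020) (len := 308) h315 f_315
  have h317 : ∀ u < 97636, (fun u => chkFin tab u) u = true := ext_range (a := 97328) (len := 308) h316 f_316
  have h318 : ∀ u < 97944, (fun u => chkFin tab u) u = true := ext_range (a := 97636) (len := 308) h317 f_317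
  have h319 : ∀ u < 98252, (fun u => chkFin tab u) u = true := ext_range (a := 97944) (len := 308) h318 f_318
  have h320 : ∀ u < 98560, (fun u => chkFin tab u) u = true := ext_range (a := 98252) (len := 308) h319 f_319
  have h321 : ∀ u < 98868, (fun u => chkFin tab u) u = true := ext_range (a := 98560) (len := 308) h320 f_320
  have h322 : ∀ u < 99176, (fun u => chkFin tab u) u = true := ext_range (a := 98868) (len := 308) h321 f_321
  have h323 : ∀ u < 99484, (fun u => chkFin tab u) u = true := ext_range (a := 99176) (len := 308) h322 f_322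
  have h324 : ∀ u < 99792, (fun u => chkFin tab u) u = true := ext_range (a := 99484) (len := 308) h323 f_323
  have h325 : ∀ u < 100100, (fun u => chkFin tab u) u = true := ext_range (a := 99792) (len := 308) h324 f_324
  have h326 : ∀ u < 100408, (fun u => chkFin tab u) u = true := ext_range (a := 100100) (len := 308) h325 f_325
  have h327 : ∀ u < 100716, (fun u => chkFin tab u) u = true := ext_range (a := 100408) (len := 308) h326 f_326
  have h328 : ∀ u < 101024, (fun u => chkFin tab u) u = true := ext_range (a := 100716) (len := 308) h327 f_327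
  have h329 : ∀ u < 101332, (fun u => chkFin tab u) u = true := ext_range (a := 101024) (len := 308) h328 f_328
  have h330 : ∀ u < 101640, (fun u => chkFin tab u) u = true := ext_range (a := 101332) (len := 308) h329 f_329
  have h331 : ∀ u < 101948, (fun u => chkFin tab u) u = true := ext_range (a := 101640) (len := 308) h330 f_330
  have h332 : ∀ u < 102256, (fun u => chkFin tab u) u = true := ext_range (a := 101948) (len := 308) h331 f_331
  have h333 : ∀ u < 102564, (fun u => chkFin tab u) u = true := ext_range (a := 102256) (len := 308) h332 f_332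
  have h334 : ∀ u < 102872, (fun u => chkFin tab u) u = true := ext_range (a := 102564) (len := 308) h333 f_333
  have h335 : ∀ u < 103180, (fun u => chkFin tab u) u = true := ext_range (a := 102872) (len := 308) h334 f_334
  have h336 : ∀ u < 103488, (fun u => chkFin tab u) u = true := ext_range (a := 103180) (len := 308) h335 f_335
  have h337 : ∀ u < 103796, (fun u => chkFin tab u) u = true := ext_range (a := 103488) (len := 308) h336 f_336
  have h338 : ∀ u < 104104, (fun u => chkFin tab u) u = true := ext_range (a := 103796) (len := 308) h337 f_337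
  have h339 : ∀ u < 104412, (fun u => chkFin tab u) u = true := ext_range (a := 104104) (len := 308) h338 f_338
  have h340 : ∀ u < 104720, (fun u => chkFin tab u) u = true := ext_range (a := 104412) (len := 308) h339 f_339
  have h341 : ∀ u < 105028, (fun u => chkFin tab u) u = true := ext_range (a := 104720) (len := 308) h340 f_340
  have h342 : ∀ u < 105336, (fun u => chkFin tab u) u = true := ext_range (a := 105028) (len := 308) h341 f_341
  have h343 : ∀ u < 105644, (fun u => chkFin tab u) u = true := ext_range (a := 105336) (len := 308) h342 f_342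
  have h344 : ∀ u < 105952, (fun u => chkFin tab u) u = true := ext_range (a := 105644) (len := 308) h343 f_343
  have h345 : ∀ u < 106260, (fun u => chkFin tab u) u = true := ext_range (a := 105952) (len := 308) h344 f_344
  have h346 : ∀ u < 106568, (fun u => chkFin tab u) u = true := ext_range (a := 106260) (len := 308) h345 f_345
  have h347 : ∀ u < 106876, (fun u => chkFin tab u) u = true := ext_range (a := 106568) (len := 308) h346 f_346
  have h348 : ∀ u < 107184, (fun u => chkFin tab u) u = true := ext_range (a := 106876) (len := 308) h347 f_347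
  have h349 : ∀ u < 107492, (fun u => chkFin tab u) u = true := ext_range (a := 107184) (len := 308) h348 f_348
  have h350 : ∀ u < 107800, (fun u => chkFin tab u) u = true := ext_range (a := 107492) (len := 308) h349 f_349
  have h351 : ∀ u < 108108, (fun u => chkFin tab u) u = true := ext_range (a := 107800) (len := 308) h350 f_350
  have h352 : ∀ u < 108416, (fun u => chkFin tab u) u = true := ext_range (a := 108108) (len := 308) h351 f_351
  have h353 : ∀ u < 108724, (fun u => chkFin tab u) u = true := ext_range (a := 108416) (len := 308) h352 f_352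
  have h354 : ∀ u < 109032, (fun u => chkFin tab u) u = true := ext_range (a := 108724) (len := 308) h353 f_353
  have h355 : ∀ u < 109340, (fun u => chkFin tab u) u = true := ext_range (a := 109032) (len := 308) h354 f_354
  have h356 : ∀ u < 109648, (fun u => chkFin tab u) u = true := ext_range (a := 109340) (len := 308) h355 f_355
  have h357 : ∀ u < 109956, (fun u => chkFin tab u) u = true := ext_range (a := 109648) (len := 308) h356 f_356
  have h358 : ∀ u < 110264, (fun u => chkFin tab u) u = true := ext_range (a := 109956) (len := 308) h357 f_357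
  have h359 : ∀ u < 110572, (fun u => chkFin tab u) u = true := ext_range (a := 110264) (len := 308) h358 f_358
  have h360 : ∀ u < 110880, (fun u => chkFin tab u) u = true := ext_range (a := 110572) (len := 308) h359 f_359
  have h361 : ∀ u < 111188, (fun u => chkFin tab u) u = true := ext_range (a := 110880) (len := 308) h360 f_360
  have h362 : ∀ u < 111496, (fun u => chkFin tab u) u = true := ext_range (a := 111188) (len := 308) h361 f_361
  have h363 : ∀ u < 111804, (fun u => chkFin tab u) u = true := ext_range (a := 111496) (len := 308) h362 f_362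
  have h364 : ∀ u < 112112, (fun u => chkFin tab u) u = true := ext_range (a := 111804) (len := 308) h363 f_363
  have h365 : ∀ u < 112420, (fun u => chkFin tab u) u = true := ext_range (a := 112112) (len := 308) h364 f_364
  have h366 : ∀ u < 112728, (fun u => chkFin tab u) u = true := ext_range (a := 112420) (len := 308) h365 f_365
  have h367 : ∀ u < 113036, (fun u => chkFin tab u) u = true := ext_range (a := 112728) (len := 308) h366 f_366
  have h368 : ∀ u < 113344, (fun u => chkFin tab u) u = true := ext_range (a := 113036) (len := 308) h367 f_367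
  have h369 : ∀ u < 113652, (fun u => chkFin tab u) u = true := ext_range (a := 113344) (len := 308) h368 f_368
  have h370 : ∀ u < 113960, (fun u => chkFin tab u) u = true := ext_range (a := 113652) (len := 308) h369 f_369
  have h371 : ∀ u < 114268, (fun u => chkFin tab u) u = true := ext_range (a := 113960) (len := 308) h370 f_370
  have h372 : ∀ u < 114576, (fun u => chkFin tab u) u = true := ext_range (a := 114268) (len := 308) h371 f_371
  have h373 : ∀ u < 114884, (fun u => chkFin tab u) u = true := ext_range (a := 114576) (len := 308) h372 f_372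
  have h374 : ∀ u < 115192, (fun u => chkFin tab u) u = true := ext_range (a := 114884) (len := 308) h373 f_373
  have h375 : ∀ u < 115500, (fun u => chkFin tab u) u = true := ext_range (a := 115192) (len := 308) h374 f_374
  have h376 : ∀ u < 115808, (fun u => chkFin tab u) u = true := ext_range (a := 115500) (len := 308) h375 f_375
  have h377 : ∀ u < 116116, (fun u => chkFin tab u) u = true := ext_range (a := 115808) (len := 308) h376 f_376
  have h378 : ∀ u < 116424, (fun u => chkFin tab u) u = true := ext_range (a := 116116) (len := 308) h377 f_377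
  have h379 : ∀ u < 116732, (fun u => chkFin tab u) u = true := ext_range (a := 116424) (len := 308) h378 f_378
  have h380 : ∀ u < 117040, (fun u => chkFin tab u) u = true := ext_range (a := 116732) (len := 308) h379 f_379
  have h381 : ∀ u < 117348, (fun u => chkFin tab u) u = true := ext_range (a := 117040) (len := 308) h380 f_380
  have h382 : ∀ u < 117656, (fun u => chkFin tab u) u = true := ext_range (a := 117348) (len := 308) h381 f_381
  have h383 : ∀ u < 117964, (fun u => chkFin tab u) u = true := ext_range (a := 117656) (len := 308) h382 f_382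
  have h384 : ∀ u < 118272, (fun u => chkFin tab u) u = true := ext_range (a := 117964) (len := 308) h383 f_383
  have h385 : ∀ u < 118580, (fun u => chkFin tab u) u = true := ext_range (a := 118272) (len := 308) h384 f_384
  have h386 : ∀ u < 118888, (fun u => chkFin tab u) u = true := ext_range (a := 118580) (len := 308) h385 f_385
  have h387 : ∀ u < 119196, (fun u => chkFin tab u) u = true := ext_range (a := 118888) (len := 308) h386 f_386
  have h388 : ∀ u < 119504, (fun u => chkFin tab u) u = true := ext_range (a := 119196) (len := 308) h387 f_387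
  have h389 : ∀ u < 119812, (fun u => chkFin tab u) u = true := ext_range (a := 119504) (len := 308) h388 f_388
  have h390 : ∀ u < 120120, (fun u => chkFin tab u) u = true := ext_range (a := 119812) (len := 308) h389 f_389
  have h391 : ∀ u < 120428, (fun u => chkFin tab u) u = true := ext_range (a := 120120) (len := 308) h390 f_390
  have h392 : ∀ u < 120736, (fun u => chkFin tab u) u = true := ext_range (a := 120428) (len := 308) h391 f_391
  have h393 : ∀ u < 121044, (fun u => chkFin tab u) u = true := ext_range (a := 120736) (len := 308) h392 f_392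
  have h394 : ∀ u < 121352, (fun u => chkFin tab u) u = true := ext_range (a := 121044) (len := 308) h393 f_393
  have h395 : ∀ u < 121660, (fun u => chkFin tab u) u = true := ext_range (a := 121352) (len := 308) h394 f_394
  have h396 : ∀ u < 121968, (fun u => chkFin tab u) u = true := ext_range (a := 121660) (len := 308) h395 f_395
  have h397 : ∀ u < 122276, (fun u => chkFin tab u) u = true := ext_range (a := 121968) (len := 308) h396 f_396
  have h398 : ∀ u < 122584, (fun u => chkFin tab u) u = true := ext_range (a := 122276) (len := 308) h397 f_397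
  have h399 : ∀ u < 122760, (fun u => chkFin tab u) u = true := ext_range (a := 122584) (len := 176) h398 f_398
  exact h399

theorem hC : ∀ u < 231594, chkCls tab u = true := by
  have h0 : ∀ u < 0, (fun u => chkCls tab u) u = true := range_zero
  have h1 : ∀ u < 2667, (fun u => chkCls tab u) u = true := ext_range (a := 0) (len := 2667) h0 c_0
  have h2 : ∀ u < 5334, (fun u => chkCls tab u) u = true := ext_range (a := 2667) (len := 2667) h1 c_1
  have h3 : ∀ u < 8001, (fun u => chkCls tab u) u = true := ext_range (a := 5334) (len := 2667) h2 c_2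
  have h4 : ∀ u < 10668, (fun u => chkCls tab u) u = true := ext_range (a := 8001) (len := 2667) h3 c_3
  have h5 : ∀ u < 13335, (fun u => chkCls tab u) u = true := ext_range (a := 10668) (len := 2667) h4 c_4
  have h6 : ∀ u < 16002, (fun u => chkCls tab u) u = true := ext_range (a := 13335) (len := 2667) h5 c_5
  have h7 : ∀ u < 18669, (fun u => chkCls tab u) u = true := ext_range (a := 16002) (len := 2667) h6 c_6
  have h8 : ∀ u < 21336, (fun u => chkCls tab u) u = true := ext_range (a := 18669) (len := 2667) h7 c_7
  have h9 : ∀ u < 24003, (fun u => chkCls tab u) u = true := ext_range (a := 21336) (len := 2667) h8 c_8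
  have h10 : ∀ u < 26670, (fun u => chkCls tab u) u = true := ext_range (a := 24003) (len := 2667) h9 c_9
  have h11 : ∀ u < 29337, (fun u => chkCls tab u) u = true := ext_range (a := 26670) (len := 2667) h10 c_10
  have h12 : ∀ u < 32004, (fun u => chkCls tab u) u = true := ext_range (a := 29337) (len := 2667) h11 c_11
  have h13 : ∀ u < 34671, (fun u => chkCls tab u) u = true := ext_range (a := 32004) (len := 2667) h12 c_12
  have h14 : ∀ u < 37338, (fun u => chkCls tab u) u = true := ext_range (a := 34671) (len := 2667) h13 c_13
  have h15 : ∀ u < 40005, (fun u => chkCls tab u) u = true := ext_range (a := 37338) (len := 2667) h14 c_14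
  have h16 : ∀ u < 42672, (fun u => chkCls tab u) u = true := ext_range (a := 40005) (len := 2667) h15 c_15
  have h17 : ∀ u < 45339, (fun u => chkCls tab u) u = true := ext_range (a := 42672) (len := 2667) h16 c_16
  have h18 : ∀ u < 48006, (fun u => chkCls tab u) u = true := ext_range (a := 45339) (len := 2667) h17 c_17
  have h19 : ∀ u < 50673, (fun u => chkCls tab u) u = true := ext_range (a := 48006) (len := 2667) h18 c_18
  have h20 : ∀ u < 53340, (fun u => chkCls tab u) u = true := ext_range (a := 50673) (len := 2667) h19 c_19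
  have h21 : ∀ u < 56007, (fun u => chkCls tab u) u = true := ext_range (a := 53340) (len := 2667) h20 c_20
  have h22 : ∀ u < 58674, (fun u => chkCls tab u) u = true := ext_range (a := 56007) (len := 2667) h21 c_21
  have h23 : ∀ u < 61341, (fun u => chkCls tab u) u = true := ext_range (a := 58674) (len := 2667) h22 c_22
  have h24 : ∀ u < 64008, (fun u => chkCls tab u) u = true := ext_range (a := 61341) (len := 2667) h23 c_23
  have h25 : ∀ u < 66675, (fun u => chkCls tab u) u = true := ext_range (a := 64008) (len := 2667) h24 c_24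
  have h26 : ∀ u < 69342, (fun u => chkCls tab u) u = true := ext_range (a := 66675) (len := 2667) h25 c_25
  have h27 : ∀ u < 72009, (fun u => chkCls tab u) u = true := ext_range (a := 69342) (len := 2667) h26 c_26
  have h28 : ∀ u < 74676, (fun u => chkCls tab u) u = true := ext_range (a := 72009) (len := 2667) h27 c_27
  have h29 : ∀ u < 77343, (fun u => chkCls tab u) u = true := ext_range (a := 74676) (len := 2667) h28 c_28
  have h30 : ∀ u < 80010, (fun u => chkCls tab u) u = true := ext_range (a := 77343) (len := 2667) h29 c_29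
  have h31 : ∀ u < 82677, (fun u => chkCls tab u) u = true := ext_range (a := 80010) (len := 2667) h30 c_30
  have h32 : ∀ u < 85344, (fun u => chkCls tab u) u = true := ext_range (a := 82677) (len := 2667) h31 c_31
  have h33 : ∀ u < 88011, (fun u => chkCls tab u) u = true := ext_range (a := 85344) (len := 2667) h32 c_32
  have h34 : ∀ u < 90678, (fun u => chkCls tab u) u = true := ext_range (a := 88011) (len := 2667) h33 c_33
  have h35 : ∀ u < 93345, (fun u => chkCls tab u) u = true := ext_range (a := 90678) (len := 2667) h34 c_34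
  have h36 : ∀ u < 96012, (fun u => chkCls tab u) u = true := ext_range (a := 93345) (len := 2667) h35 c_35
  have h37 : ∀ u < 98679, (fun u => chkCls tab u) u = true := ext_range (a := 96012) (len := 2667) h36 c_36
  have h38 : ∀ u < 101346, (fun u => chkCls tab u) u = true := ext_range (a := 98679) (len := 2667) h37 c_37
  have h39 : ∀ u < 104013, (fun u => chkCls tab u) u = true := ext_range (a := 101346) (len := 2667) h38 c_38
  have h40 : ∀ u < 106680, (fun u => chkCls tab u) u = true := ext_range (a := 104013) (len := 2667) h39 c_39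
  have h41 : ∀ u < 109347, (fun u => chkCls tab u) u = true := ext_range (a := 106680) (len := 2667) h40 c_40
  have h42 : ∀ u < 112014, (fun u => chkCls tab u) u = true := ext_range (a := 109347) (len := 2667) h41 c_41
  have h43 : ∀ u < 114681, (fun u => chkCls tab u) u = true := ext_range (a := 112014) (len := 2667) h42 c_42
  have h44 : ∀ u < 117348, (fun u => chkCls tab u) u = true := ext_range (a := 114681) (len := 2667) h43 c_43
  have h45 : ∀ u < 120015, (fun u => chkCls tab u) u = true := ext_range (a := 117348) (len := 2667) h44 c_44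
  have h46 : ∀ u < 122682, (fun u => chkCls tab u) u = true := ext_range (a := 120015) (len := 2667) h45 c_45
  have h47 : ∀ u < 125349, (fun u => chkCls tab u) u = true := ext_range (a := 122682) (len := 2667) h46 c_46
  have h48 : ∀ u < 128016, (fun u => chkCls tab u) u = true := ext_range (a := 125349) (len := 2667) h47 c_47
  have h49 : ∀ u < 130683, (fun u => chkCls tab u) u = true := ext_range (a := 128016) (len := 2667) h48 c_48
  have h50 : ∀ u < 133350, (fun u => chkCls tab u) u = true := ext_range (a := 130683) (len := 2667) h49 c_49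
  have h51 : ∀ u < 136017, (fun u => chkCls tab u) u = true := ext_range (a := 133350) (len := 2667) h50 c_50
  have h52 : ∀ u < 138684, (fun u => chkCls tab u) u = true := ext_range (a := 136017) (len := 2667) h51 c_51
  have h53 : ∀ u < 141351, (fun u => chkCls tab u) u = true := ext_range (a := 138684) (len := 2667) h52 c_52
  have h54 : ∀ u < 144018, (fun u => chkCls tab u) u = true := ext_range (a := 141351) (len := 2667) h53 c_53
  have h55 : ∀ u < 146685, (fun u => chkCls tab u) u = true := ext_range (a := 144018) (len := 2667) h54 c_54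
  have h56 : ∀ u < 149352, (fun u => chkCls tab u) u = true := ext_range (a := 146685) (len := 2667) h55 c_55
  have h57 : ∀ u < 152019, (fun u => chkCls tab u) u = true := ext_range (a := 149352) (len := 2667) h56 c_56
  have h58 : ∀ u < 154686, (fun u => chkCls tab u) u = true := ext_range (a := 152019) (len := 2667) h57 c_57
  have h59 : ∀ u < 157353, (fun u => chkCls tab u) u = true := ext_range (a := 154686) (len := 2667) h58 c_58
  have h60 : ∀ u < 160020, (fun u => chkCls tab u) u = true := ext_range (a := 157353) (len := 2667) h59 c_59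
  have h61 : ∀ u < 162687, (fun u => chkCls tab u) u = true := ext_range (a := 160020) (len := 2667) h60 c_60
  have h62 : ∀ u < 165354, (fun u => chkCls tab u) u = true := ext_range (a := 162687) (len := 2667) h61 c_61
  have h63 : ∀ u < 168021, (fun u => chkCls tab u) u = true := ext_range (a := 165354) (len := 2667) h62 c_62
  have h64 : ∀ u < 170688, (fun u => chkCls tab u) u = true := ext_range (a := 168021) (len := 2667) h63 c_63
  have h65 : ∀ u < 173355, (fun u => chkCls tab u) u = true := ext_range (a := 170688) (len := 2667) h64 c_64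
  have h66 : ∀ u < 176022, (fun u => chkCls tab u) u = true := ext_range (a := 173355) (len := 2667) h65 c_65
  have h67 : ∀ u < 178689, (fun u => chkCls tab u) u = true := ext_range (a := 176022) (len := 2667) h66 c_66
  have h68 : ∀ u < 181356, (fun u => chkCls tab u) u = true := ext_range (a := 178689) (len := 2667) h67 c_67
  have h69 : ∀ u < 184023, (fun u => chkCls tab u) u = true := ext_range (a := 181356) (len := 2667) h68 c_68
  have h70 : ∀ u < 186690, (fun u => chkCls tab u) u = true := ext_range (a := 184023) (len := 2667) h69 c_69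
  have h71 : ∀ u < 189357, (fun u => chkCls tab u) u = true := ext_range (a := 186690) (len := 2667) h70 c_70
  have h72 : ∀ u < 192024, (fun u => chkCls tab u) u = true := ext_range (a := 189357) (len := 2667) h71 c_71
  have h73 : ∀ u < 194691, (fun u => chkCls tab u) u = true := ext_range (a := 192024) (len := 2667) h72 c_72
  have h74 : ∀ u < 197358, (fun u => chkCls tab u) u = true := ext_range (a := 194691) (len := 2667) h73 c_73
  have h75 : ∀ u < 200025, (fun u => chkCls tab u) u = true := ext_range (a := 197358) (len := 2667) h74 c_74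
  have h76 : ∀ u < 202692, (fun u => chkCls tab u) u = true := ext_range (a := 200025) (len := 2667) h75 c_75
  have h77 : ∀ u < 205359, (fun u => chkCls tab u) u = true := ext_range (a := 202692) (len := 2667) h76 c_76
  have h78 : ∀ u < 208026, (fun u => chkCls tab u) u = true := ext_range (a := 205359) (len := 2667) h77 c_77
  have h79 : ∀ u < 210693, (fun u => chkCls tab u) u = true := ext_range (a := 208026) (len := 2667) h78 c_78
  have h80 : ∀ u < 213360, (fun u => chkCls tab u) u = true := ext_range (a := 210693) (len := 2667) h79 c_79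
  have h81 : ∀ u < 216027, (fun u => chkCls tab u) u = true := ext_range (a := 213360) (len := 2667) h80 c_80
  have h82 : ∀ u < 218694, (fun u => chkCls tab u) u = true := ext_range (a := 216027) (len := 2667) h81 c_81
  have h83 : ∀ u < 221361, (fun u => chkCls tab u) u = true := ext_range (a := 218694) (len := 2667) h82 c_82
  have h84 : ∀ u < 224028, (fun u => chkCls tab u) u = true := ext_range (a := 221361) (len := 2667) h83 c_83
  have h85 : ∀ u < 226695, (fun u => chkCls tab u) u = true := ext_range (a := 224028) (len := 2667) h84 c_84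
  have h86 : ∀ u < 229362, (fun u => chkCls tab u) u = true := ext_range (a := 226695) (len := 2667) h85 c_85
  have h87 : ∀ u < 231594, (fun u => chkCls tab u) u = true := ext_range (a := 229362) (len := 2232) h86 c_86
  exact h87

theorem hM1 : ∀ u < 122760, chkM1 tab u = true := by
  have h0 : ∀ u < 0, (fun u => chkM1 tab u) u = true := range_zero
  have h1 : ∀ u < 793, (fun u => chkM1 tab u) u = true := ext_range (a := 0) (len := 793) h0 m1_0
  have h2 : ∀ u < 1586, (fun u => chkM1 tab u) u = true := ext_range (a := 793) (len := 793) h1 m1_1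
  have h3 : ∀ u < 2379, (fun u => chkM1 tab u) u = true := ext_range (a := 1586) (len := 793) h2 m1_2
  have h4 : ∀ u < 3172, (fun u => chkM1 tab u) u = true := ext_range (a := 2379) (len := 793) h3 m1_3
  have h5 : ∀ u < 3965, (fun u => chkM1 tab u) u = true := ext_range (a := 3172) (len := 793) h4 m1_4
  have h6 : ∀ u < 4758, (fun u => chkM1 tab u) u = true := ext_range (a := 3965) (len := 793) h5 m1_5
  have h7 : ∀ u < 5551, (fun u => chkM1 tab u) u = true := ext_range (a := 4758) (len := 793) h6 m1_6
  have h8 : ∀ u < 6344, (fun u => chkM1 tab u) u = true := ext_range (a := 5551) (len := 793) h7 m1_7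
  have h9 : ∀ u < 7137, (fun u => chkM1 tab u) u = true := ext_range (a := 6344) (len := 793) h8 m1_8
  have h10 : ∀ u < 7930, (fun u => chkM1 tab u) u = true := ext_range (a := 7137) (len := 793) h9 m1_9
  have h11 : ∀ u < 8723, (fun u => chkM1 tab u) u = true := ext_range (a := 7930) (len := 793) h10 m1_10
  have h12 : ∀ u < 9516, (fun u => chkM1 tab u) u = true := ext_range (a := 8723) (len := 793) h11 m1_11
  have h13 : ∀ u < 10309, (fun u => chkM1 tab u) u = true := ext_range (a := 9516) (len := 793) h12 m1_12
  have h14 : ∀ u < 11102, (fun u => chkM1 tab u) u = true := ext_range (a := 10309) (len := 793) h13 m1_13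
  have h15 : ∀ u < 11895, (fun u => chkM1 tab u) u = true := ext_range (a := 11102) (len := 793) h14 m1_14
  have h16 : ∀ u < 12688, (fun u => chkM1 tab u) u = true := ext_range (a := 11895) (len := 793) h15 m1_15
  have h17 : ∀ u < 13481, (fun u => chkM1 tab u) u = true := ext_range (a := 12688) (len := 793) h16 m1_16
  have h18 : ∀ u < 14274, (fun u => chkM1 tab u) u = true := ext_range (a := 13481) (len := 793) h17 m1_17
  have h19 : ∀ u < 15067, (fun u => chkM1 tab u) u = true := ext_range (a := 14274) (len := 793) h18 m1_18
  have h20 : ∀ u < 15860, (fun u => chkM1 tab u) u = true := ext_range (a := 15067) (len := 793) h19 m1_19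
  have h21 : ∀ u < 16653, (fun u => chkM1 tab u) u = true := ext_range (a := 15860) (len := 793) h20 m1_20
  have h22 : ∀ u < 17446, (fun u => chkM1 tab u) u = true := ext_range (a := 16653) (len := 793) h21 m1_21
  have h23 : ∀ u < 18239, (fun u => chkM1 tab u) u = true := ext_range (a := 17446) (len := 793) h22 m1_22
  have h24 : ∀ u < 19032, (fun u => chkM1 tab u) u = true := ext_range (a := 18239) (len := 793) h23 m1_23
  have h25 : ∀ u < 19825, (fun u => chkM1 tab u) u = true := ext_range (a := 19032) (len := 793) h24 m1_24
  have h26 : ∀ u < 20618, (fun u => chkM1 tab u) u = true := ext_range (a := 19825) (len := 793) h25 m1_25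
  have h27 : ∀ u < 21411, (fun u => chkM1 tab u) u = true := ext_range (a := 20618) (len := 793) h26 m1_26
  have h28 : ∀ u < 22204, (fun u => chkM1 tab u) u = true := ext_range (a := 21411) (len := 793) h27 m1_27
  have h29 : ∀ u < 22997, (fun u => chkM1 tab u) u = true := ext_range (a := 22204) (len := 793) h28 m1_28
  have h30 : ∀ u < 23790, (fun u => chkM1 tab u) u = true := ext_range (a := 22997) (len := 793) h29 m1_29
  have h31 : ∀ u < 24583, (fun u => chkM1 tab u) u = true := ext_range (a := 23790) (len := 793) h30 m1_30
  have h32 : ∀ u < 25376, (fun u => chkM1 tab u) u = true := ext_range (a := 24583) (len := 793) h31 m1_31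
  have h33 : ∀ u < 26169, (fun u => chkM1 tab u) u = true := ext_range (a := 25376) (len := 793) h32 m1_32
  have h34 : ∀ u < 26962, (fun u => chkM1 tab u) u = true := ext_range (a := 26169) (len := 793) h33 m1_33
  have h35 : ∀ u < 27755, (fun u => chkM1 tab u) u = true := ext_range (a := 26962) (len := 793) h34 m1_34
  have h36 : ∀ u < 28548, (fun u => chkM1 tab u) u = true := ext_range (a := 27755) (len := 793) h35 m1_35
  have h37 : ∀ u < 29341, (fun u => chkM1 tab u) u = true := ext_range (a := 28548) (len := 793) h36 m1_36
  have h38 : ∀ u < 30134, (fun u => chkM1 tab u) u = true := ext_range (a := 29341) (len := 793) h37 m1_37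
  have h39 : ∀ u < 30927, (fun u => chkM1 tab u) u = true := ext_range (a := 30134) (len := 793) h38 m1_38
  have h40 : ∀ u < 31720, (fun u => chkM1 tab u) u = true := ext_range (a := 30927) (len := 793) h39 m1_39
  have h41 : ∀ u < 32513, (fun u => chkM1 tab u) u = true := ext_range (a := 31720) (len := 793) h40 m1_40
  have h42 : ∀ u < 33306, (fun u => chkM1 tab u) u = true := ext_range (a := 32513) (len := 793) h41 m1_41
  have h43 : ∀ u < 34099, (fun u => chkM1 tab u) u = true := ext_range (a := 33306) (len := 793) h42 m1_42
  have h44 : ∀ u < 34892, (fun u => chkM1 tab u) u = true := ext_range (a := 34099) (len := 793) h43 m1_43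
  have h45 : ∀ u < 35685, (fun u => chkM1 tab u) u = true := ext_range (a := 34892) (len := 793) h44 m1_44
  have h46 : ∀ u < 36478, (fun u => chkM1 tab u) u = true := ext_range (a := 35685) (len := 793) h45 m1_45
  have h47 : ∀ u < 37271, (fun u => chkM1 tab u) u = true := ext_range (a := 36478) (len := 793) h46 m1_46
  have h48 : ∀ u < 38064, (fun u => chkM1 tab u) u = true := ext_range (a := 37271) (len := 793) h47 m1_47
  have h49 : ∀ u < 38857, (fun u => chkM1 tab u) u = true := ext_range (a := 38064) (len := 793) h48 m1_48
  have h50 : ∀ u < 39650, (fun u => chkM1 tab u) u = true := ext_range (a := 38857) (len := 793) h49 m1_49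
  have h51 : ∀ u < 40443, (fun u => chkM1 tab u) u = true := ext_range (a := 39650) (len := 793) h50 m1_50
  have h52 : ∀ u < 41236, (fun u => chkM1 tab u) u = true := ext_range (a := 40443) (len := 793) h51 m1_51
  have h53 : ∀ u < 42029, (fun u => chkM1 tab u) u = true := ext_range (a := 41236) (len := 793) h52 m1_52
  have h54 : ∀ u < 42822, (fun u => chkM1 tab u) u = true := ext_range (a := 42029) (len := 793) h53 m1_53
  have h55 : ∀ u < 43615, (fun u => chkM1 tab u) u = true := ext_range (a := 42822) (len := 793) h54 m1_54
  have h56 : ∀ u < 44408, (fun u => chkM1 tab u) u = true := ext_range (a := 43615) (len := 793) h55 m1_55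
  have h57 : ∀ u < 45201, (fun u => chkM1 tab u) u = true := ext_range (a := 44408) (len := 793) h56 m1_56
  have h58 : ∀ u < 45994, (fun u => chkM1 tab u) u = true := ext_range (a := 45201) (len := 793) h57 m1_57
  have h59 : ∀ u < 46787, (fun u => chkM1 tab u) u = true := ext_range (a := 45994) (len := 793) h58 m1_58
  have h60 : ∀ u < 47580, (fun u => chkM1 tab u) u = true := ext_range (a := 46787) (len := 793) h59 m1_59
  have h61 : ∀ u < 48373, (fun u => chkM1 tab u) u = true := ext_range (a := 47580) (len := 793) h60 m1_60
  have h62 : ∀ u < 49166, (fun u => chkM1 tab u) u = true := ext_range (a := 48373) (len := 793) h61 m1_61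
  have h63 : ∀ u < 49959, (fun u => chkM1 tab u) u = true := ext_range (a := 49166) (len := 793) h62 m1_62
  have h64 : ∀ u < 50752, (fun u => chkM1 tab u) u = true := ext_range (a := 49959) (len := 793) h63 m1_63
  have h65 : ∀ u < 51545, (fun u => chkM1 tab u) u = true := ext_range (a := 50752) (len := 793) h64 m1_64
  have h66 : ∀ u < 52338, (fun u => chkM1 tab u) u = true := ext_range (a := 51545) (len := 793) h65 m1_65
  have h67 : ∀ u < 53131, (fun u => chkM1 tab u) u = true := ext_range (a := 52338) (len := 793) h66 m1_66
  have h68 : ∀ u < 53924, (fun u => chkM1 tab u) u = true := ext_range (a := 53131) (len := 793) h67 m1_67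
  have h69 : ∀ u < 54717, (fun u => chkM1 tab u) u = true := ext_range (a := 53924) (len := 793) h68 m1_68
  have h70 : ∀ u < 55510, (fun u => chkM1 tab u) u = true := ext_range (a := 54717) (len := 793) h69 m1_69
  have h71 : ∀ u < 56303, (fun u => chkM1 tab u) u = true := ext_range (a := 55510) (len := 793) h70 m1_70
  have h72 : ∀ u < 57096, (fun u => chkM1 tab u) u = true := ext_range (a := 56303) (len := 793) h71 m1_71
  have h73 : ∀ u < 57889, (fun u => chkM1 tab u) u = true := ext_range (a := 57096) (len := 793) h72 m1_72
  have h74 : ∀ u < 58682, (fun u => chkM1 tab u) u = true := ext_range (a := 57889) (len := 793) h73 m1_73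
  have h75 : ∀ u < 59475, (fun u => chkM1 tab u) u = true := ext_range (a := 58682) (len := 793) h74 m1_74
  have h76 : ∀ u < 60268, (fun u => chkM1 tab u) u = true := ext_range (a := 59475) (len := 793) h75 m1_75
  have h77 : ∀ u < 61061, (fun u => chkM1 tab u) u = true := ext_range (a := 60268) (len := 793) h76 m1_76
  have h78 : ∀ u < 61854, (fun u => chkM1 tab u) u = true := ext_range (a := 61061) (len := 793) h77 m1_77
  have h79 : ∀ u < 62647, (fun u => chkM1 tab u) u = true := ext_range (a := 61854) (len := 793) h78 m1_78
  have h80 : ∀ u < 63440, (fun u => chkM1 tab u) u = true := ext_range (a := 62647) (len := 793) h79 m1_79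
  have h81 : ∀ u < 64233, (fun u => chkM1 tab u) u = true := ext_range (a := 63440) (len := 793) h80 m1_80
  have h82 : ∀ u < 65026, (fun u => chkM1 tab u) u = true := ext_range (a := 64233) (len := 793) h81 m1_81
  have h83 : ∀ u < 65819, (fun u => chkM1 tab u) u = true := ext_range (a := 65026) (len := 793) h82 m1_82
  have h84 : ∀ u < 66612, (fun u => chkM1 tab u) u = true := ext_range (a := 65819) (len := 793) h83 m1_83
  have h85 : ∀ u < 67405, (fun u => chkM1 tab u) u = true := ext_range (a := 66612) (len := 793) h84 m1_84
  have h86 : ∀ u < 68198, (fun u => chkM1 tab u) u = true := ext_range (a := 67405) (len := 793) h85 m1_85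
  have h87 : ∀ u < 68991, (fun u => chkM1 tab u) u = true := ext_range (a := 68198) (len := 793) h86 m1_86
  have h88 : ∀ u < 69784, (fun u => chkM1 tab u) u = true := ext_range (a := 68991) (len := 793) h87 m1_87
  have h89 : ∀ u < 70577, (fun u => chkM1 tab u) u = true := ext_range (a := 69784) (len := 793) h88 m1_88
  have h90 : ∀ u < 71370, (fun u => chkM1 tab u) u = true := ext_range (a := 70577) (len := 793) h89 m1_89
  have h91 : ∀ u < 72163, (fun u => chkM1 tab u) u = true := ext_range (a := 71370) (len := 793) h90 m1_90
  have h92 : ∀ u < 72956, (fun u => chkM1 tab u) u = true := ext_range (a := 72163) (len := 793) h91 m1_91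
  have h93 : ∀ u < 73749, (fun u => chkM1 tab u) u = true := ext_range (a := 72956) (len := 793) h92 m1_92
  have h94 : ∀ u < 74542, (fun u => chkM1 tab u) u = true := ext_range (a := 73749) (len := 793) h93 m1_93
  have h95 : ∀ u < 75335, (fun u => chkM1 tab u) u = true := ext_range (a := 74542) (len := 793) h94 m1_94
  have h96 : ∀ u < 76128, (fun u => chkM1 tab u) u = true := ext_range (a := 75335) (len := 793) h95 m1_95
  have h97 : ∀ u < 76921, (fun u => chkM1 tab u) u = true := ext_range (a := 76128) (len := 793) h96 m1_96
  have h98 : ∀ u < 77714, (fun u => chkM1 tab u) u = true := ext_range (a := 76921) (len := 793) h97 m1_97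
  have h99 : ∀ u < 78507, (fun u => chkM1 tab u) u = true := ext_range (a := 77714) (len := 793) h98 m1_98
  have h100 : ∀ u < 79300, (fun u => chkM1 tab u) u = true := ext_range (a := 78507) (len := 793) h99 m1_99
  have h101 : ∀ u < 80093, (fun u => chkM1 tab u) u = true := ext_range (a := 79300) (len := 793) h100 m1_100
  have h102 : ∀ u < 80886, (fun u => chkM1 tab u) u = true := ext_range (a := 80093) (len := 793) h101 m1_101
  have h103 : ∀ u < 81679, (fun u => chkM1 tab u) u = true := ext_range (a := 80886) (len := 793) h102 m1_102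
  have h104 : ∀ u < 82472, (fun u => chkM1 tab u) u = true := ext_range (a := 81679) (len := 793) h103 m1_103
  have h105 : ∀ u < 83265, (fun u => chkM1 tab u) u = true := ext_range (a := 82472) (len := 793) h104 m1_104
  have h106 : ∀ u < 84058, (fun u => chkM1 tab u) u = true := ext_range (a := 83265) (len := 793) h105 m1_105
  have h107 : ∀ u < 84851, (fun u => chkM1 tab u) u = true := ext_range (a := 84058) (len := 793) h106 m1_106
  have h108 : ∀ u < 85644, (fun u => chkM1 tab u) u = true := ext_range (a := 84851) (len := 793) h107 m1_107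
  have h109 : ∀ u < 86437, (fun u => chkM1 tab u) u = true := ext_range (a := 85644) (len := 793) h108 m1_108
  have h110 : ∀ u < 87230, (fun u => chkM1 tab u) u = true := ext_range (a := 86437) (len := 793) h109 m1_109
  have h111 : ∀ u < 88023, (fun u => chkM1 tab u) u = true := ext_range (a := 87230) (len := 793) h110 m1_110
  have h112 : ∀ u < 88816, (fun u => chkM1 tab u) u = true := ext_range (a := 88023) (len := 793) h111 m1_111
  have h113 : ∀ u < 89609, (fun u => chkM1 tab u) u = true := ext_range (a := 88816) (len := 793) h112 m1_112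
  have h114 : ∀ u < 90402, (fun u => chkM1 tab u) u = true := ext_range (a := 89609) (len := 793) h113 m1_113
  have h115 : ∀ u < 91195, (fun u => chkM1 tab u) u = true := ext_range (a := 90402) (len := 793) h114 m1_114
  have h116 : ∀ u < 91988, (fun u => chkM1 tab u) u = true := ext_range (a := 91195) (len := 793) h115 m1_115
  have h117 : ∀ u < 92781, (fun u => chkM1 tab u) u = true := ext_range (a := 91988) (len := 793) h116 m1_116
  have h118 : ∀ u < 93574, (fun u => chkM1 tab u) u = true := ext_range (a := 92781) (len := 793) h117 m1_117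
  have h119 : ∀ u < 94367, (fun u => chkM1 tab u) u = true := ext_range (a := 93574) (len := 793) h118 m1_118
  have h120 : ∀ u < 95160, (fun u => chkM1 tab u) u = true := ext_range (a := 94367) (len := 793) h119 m1_119
  have h121 : ∀ u < 95953, (fun u => chkM1 tab u) u = true := ext_range (a := 95160) (len := 793) h120 m1_120
  have h122 : ∀ u < 96746, (fun u => chkM1 tab u) u = true := ext_range (a := 95953) (len := 793) h121 m1_121
  have h123 : ∀ u < 97539, (fun u => chkM1 tab u) u = true := ext_range (a := 96746) (len := 793) h122 m1_122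
  have h124 : ∀ u < 98332, (fun u => chkM1 tab u) u = true := ext_range (a := 97539) (len := 793) h123 m1_123
  have h125 : ∀ u < 99125, (fun u => chkM1 tab u) u = true := ext_range (a := 98332) (len := 793) h124 m1_124
  have h126 : ∀ u < 99918, (fun u => chkM1 tab u) u = true := ext_range (a := 99125) (len := 793) h125 m1_125
  have h127 : ∀ u < 100711, (fun u => chkM1 tab u) u = true := ext_range (a := 99918) (len := 793) h126 m1_126
  have h128 : ∀ u < 101504, (fun u => chkM1 tab u) u = true := ext_range (a := 100711) (len := 793) h127 m1_127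
  have h129 : ∀ u < 102297, (fun u => chkM1 tab u) u = true := ext_range (a := 101504) (len := 793) h128 m1_128
  have h130 : ∀ u < 103090, (fun u => chkM1 tab u) u = true := ext_range (a := 102297) (len := 793) h129 m1_129
  have h131 : ∀ u < 103883, (fun u => chkM1 tab u) u = true := ext_range (a := 103090) (len := 793) h130 m1_130
  have h132 : ∀ u < 104676, (fun u => chkM1 tab u) u = true := ext_range (a := 103883) (len := 793) h131 m1_131
  have h133 : ∀ u < 105469, (fun u => chkM1 tab u) u = true := ext_range (a := 104676) (len := 793) h132 m1_132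
  have h134 : ∀ u < 106262, (fun u => chkM1 tab u) u = true := ext_range (a := 105469) (len := 793) h133 m1_133
  have h135 : ∀ u < 107055, (fun u => chkM1 tab u) u = true := ext_range (a := 106262) (len := 793) h134 m1_134
  have h136 : ∀ u < 107848, (fun u => chkM1 tab u) u = true := ext_range (a := 107055) (len := 793) h135 m1_135
  have h137 : ∀ u < 108641, (fun u => chkM1 tab u) u = true := ext_range (a := 107848) (len := 793) h136 m1_136
  have h138 : ∀ u < 109434, (fun u => chkM1 tab u) u = true := ext_range (a := 108641) (len := 793) h137 m1_137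
  have h139 : ∀ u < 110227, (fun u => chkM1 tab u) u = true := ext_range (a := 109434) (len := 793) h138 m1_138
  have h140 : ∀ u < 111020, (fun u => chkM1 tab u) u = true := ext_range (a := 110227) (len := 793) h139 m1_139
  have h141 : ∀ u < 111813, (fun u => chkM1 tab u) u = true := ext_range (a := 111020) (len := 793) h140 m1_140
  have h142 : ∀ u < 112606, (fun u => chkM1 tab u) u = true := ext_range (a := 111813) (len := 793) h141 m1_141
  have h143 : ∀ u < 113399, (fun u => chkM1 tab u) u = true := ext_range (a := 112606) (len := 793) h142 m1_142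
  have h144 : ∀ u < 114192, (fun u => chkM1 tab u) u = true := ext_range (a := 113399) (len := 793) h143 m1_143
  have h145 : ∀ u < 114985, (fun u => chkM1 tab u) u = true := ext_range (a := 114192) (len := 793) h144 m1_144
  have h146 : ∀ u < 115778, (fun u => chkM1 tab u) u = true := ext_range (a := 114985) (len := 793) h145 m1_145
  have h147 : ∀ u < 116571, (fun u => chkM1 tab u) u = true := ext_range (a := 115778) (len := 793) h146 m1_146
  have h148 : ∀ u < 117364, (fun u => chkM1 tab u) u = true := ext_range (a := 116571) (len := 793) h147 m1_147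
  have h149 : ∀ u < 118157, (fun u => chkM1 tab u) u = true := ext_range (a := 117364) (len := 793) h148 m1_148
  have h150 : ∀ u < 118950, (fun u => chkM1 tab u) u = true := ext_range (a := 118157) (len := 793) h149 m1_149
  have h151 : ∀ u < 119743, (fun u => chkM1 tab u) u = true := ext_range (a := 118950) (len := 793) h150 m1_150
  have h152 : ∀ u < 120536, (fun u => chkM1 tab u) u = true := ext_range (a := 119743) (len := 793) h151 m1_151
  have h153 : ∀ u < 121329, (fun u => chkM1 tab u) u = true := ext_range (a := 120536) (len := 793) h152 m1_152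
  have h154 : ∀ u < 122122, (fun u => chkM1 tab u) u = true := ext_range (a := 121329) (len := 793) h153 m1_153
  have h155 : ∀ u < 122760, (fun u => chkM1 tab u) u = true := ext_range (a := 122122) (len := 638) h154 m1_154
  exact h155

theorem hMA : ∀ u < 122760, chkAux tab aux u = true := by
  have h0 : ∀ u < 0, (fun u => chkAux tab aux u) u = true := range_zero
  have h1 : ∀ u < 1819, (fun u => chkAux tab aux u) u = true := ext_range (a := 0) (len := 1819) h0 ma_0
  have h2 : ∀ u < 3638, (fun u => chkAux tab aux u) u = true := ext_range (a := 1819) (len := 1819) h1 ma_1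
  have h3 : ∀ u < 5457, (fun u => chkAux tab aux u) u = true := ext_range (a := 3638) (len := 1819) h2 ma_2
  have h4 : ∀ u < 7276, (fun u => chkAux tab aux u) u = true := ext_range (a := 5457) (len := 1819) h3 ma_3
  have h5 : ∀ u < 9095, (fun u => chkAux tab aux u) u = true := ext_range (a := 7276) (len := 1819) h4 ma_4
  have h6 : ∀ u < 10914, (fun u => chkAux tab aux u) u = true := ext_range (a := 9095) (len := 1819) h5 ma_5
  have h7 : ∀ u < 12733, (fun u => chkAux tab aux u) u = true := ext_range (a := 10914) (len := 1819) h6 ma_6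
  have h8 : ∀ u < 14552, (fun u => chkAux tab aux u) u = true := ext_range (a := 12733) (len := 1819) h7 ma_7
  have h9 : ∀ u < 16371, (fun u => chkAux tab aux u) u = true := ext_range (a := 14552) (len := 1819) h8 ma_8
  have h10 : ∀ u < 18190, (fun u => chkAux tab aux u) u = true := ext_range (a := 16371) (len := 1819) h9 ma_9
  have h11 : ∀ u < 20009, (fun u => chkAux tab aux u) u = true := ext_range (a := 18190) (len := 1819) h10 ma_10
  have h12 : ∀ u < 21828, (fun u => chkAux tab aux u) u = true := ext_range (a := 20009) (len := 1819) h11 ma_11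
  have h13 : ∀ u < 23647, (fun u => chkAux tab aux u) u = true := ext_range (a := 21828) (len := 1819) h12 ma_12
  have h14 : ∀ u < 25466, (fun u => chkAux tab aux u) u = true := ext_range (a := 23647) (len := 1819) h13 ma_13
  have h15 : ∀ u < 27285, (fun u => chkAux tab aux u) u = true := ext_range (a := 25466) (len := 1819) h14 ma_14
  have h16 : ∀ u < 29104, (fun u => chkAux tab aux u) u = true := ext_range (a := 27285) (len := 1819) h15 ma_15
  have h17 : ∀ u < 30923, (fun u => chkAux tab aux u) u = true := ext_range (a := 29104) (len := 1819) h16 ma_16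
  have h18 : ∀ u < 32742, (fun u => chkAux tab aux u) u = true := ext_range (a := 30923) (len := 1819) h17 ma_17
  have h19 : ∀ u < 34561, (fun u => chkAux tab aux u) u = true := ext_range (a := 32742) (len := 1819) h18 ma_18
  have h20 : ∀ u < 36380, (fun u => chkAux tab aux u) u = true := ext_range (a := 34561) (len := 1819) h19 ma_19
  have h21 : ∀ u < 38199, (fun u => chkAux tab aux u) u = true := ext_range (a := 36380) (len := 1819) h20 ma_20
  have h22 : ∀ u < 40018, (fun u => chkAux tab aux u) u = true := ext_range (a := 38199) (len := 1819) h21 ma_21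
  have h23 : ∀ u < 41837, (fun u => chkAux tab aux u) u = true := ext_range (a := 40018) (len := 1819) h22 ma_22
  have h24 : ∀ u < 43656, (fun u => chkAux tab aux u) u = true := ext_range (a := 41837) (len := 1819) h23 ma_23
  have h25 : ∀ u < 45475, (fun u => chkAux tab aux u) u = true := ext_range (a := 43656) (len := 1819) h24 ma_24
  have h26 : ∀ u < 47294, (fun u => chkAux tab aux u) u = true := ext_range (a := 45475) (len := 1819) h25 ma_25
  have h27 : ∀ u < 49113, (fun u => chkAux tab aux u) u = true := ext_range (a := 47294) (len := 1819) h26 ma_26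
  have h28 : ∀ u < 50932, (fun u => chkAux tab aux u) u = true := ext_range (a := 49113) (len := 1819) h27 ma_27
  have h29 : ∀ u < 52751, (fun u => chkAux tab aux u) u = true := ext_range (a := 50932) (len := 1819) h28 ma_28
  have h30 : ∀ u < 54570, (fun u => chkAux tab aux u) u = true := ext_range (a := 52751) (len := 1819) h29 ma_29
  have h31 : ∀ u < 56389, (fun u => chkAux tab aux u) u = true := ext_range (a := 54570) (len := 1819) h30 ma_30
  have h32 : ∀ u < 58208, (fun u => chkAux tab aux u) u = true := ext_range (a := 56389) (len := 1819) h31 ma_31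
  have h33 : ∀ u < 60027, (fun u => chkAux tab aux u) u = true := ext_range (a := 58208) (len := 1819) h32 ma_32
  have h34 : ∀ u < 61846, (fun u => chkAux tab aux u) u = true := ext_range (a := 60027) (len := 1819) h33 ma_33
  have h35 : ∀ u < 63665, (fun u => chkAux tab aux u) u = true := ext_range (a := 61846) (len := 1819) h34 ma_34
  have h36 : ∀ u < 65484, (fun u => chkAux tab aux u) u = true := ext_range (a := 63665) (len := 1819) h35 ma_35
  have h37 : ∀ u < 67303, (fun u => chkAux tab aux u) u = true := ext_range (a := 65484) (len := 1819) h36 ma_36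
  have h38 : ∀ u < 69122, (fun u => chkAux tab aux u) u = true := ext_range (a := 67303) (len := 1819) h37 ma_37
  have h39 : ∀ u < 70941, (fun u => chkAux tab aux u) u = true := ext_range (a := 69122) (len := 1819) h38 ma_38
  have h40 : ∀ u < 72760, (fun u => chkAux tab aux u) u = true := ext_range (a := 70941) (len := 1819) h39 ma_39
  have h41 : ∀ u < 74579, (fun u => chkAux tab aux u) u = true := ext_range (a := 72760) (len := 1819) h40 ma_40
  have h42 : ∀ u < 76398, (fun u => chkAux tab aux u) u = true := ext_range (a := 74579) (len := 1819) h41 ma_41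
  have h43 : ∀ u < 78217, (fun u => chkAux tab aux u) u = true := ext_range (a := 76398) (len := 1819) h42 ma_42
  have h44 : ∀ u < 80036, (fun u => chkAux tab aux u) u = true := ext_range (a := 78217) (len := 1819) h43 ma_43
  have h45 : ∀ u < 81855, (fun u => chkAux tab aux u) u = true := ext_range (a := 80036) (len := 1819) h44 ma_44
  have h46 : ∀ u < 83674, (fun u => chkAux tab aux u) u = true := ext_range (a := 81855) (len := 1819) h45 ma_45
  have h47 : ∀ u < 85493, (fun u => chkAux tab aux u) u = true := ext_range (a := 83674) (len := 1819) h46 ma_46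
  have h48 : ∀ u < 87312, (fun u => chkAux tab aux u) u = true := ext_range (a := 85493) (len := 1819) h47 ma_47
  have h49 : ∀ u < 89131, (fun u => chkAux tab aux u) u = true := ext_range (a := 87312) (len := 1819) h48 ma_48
  have h50 : ∀ u < 90950, (fun u => chkAux tab aux u) u = true := ext_range (a := 89131) (len := 1819) h49 ma_49
  have h51 : ∀ u < 92769, (fun u => chkAux tab aux u) u = true := ext_range (a := 90950) (len := 1819) h50 ma_50
  have h52 : ∀ u < 94588, (fun u => chkAux tab aux u) u = true := ext_range (a := 92769) (len := 1819) h51 ma_51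
  have h53 : ∀ u < 96407, (fun u => chkAux tab aux u) u = true := ext_range (a := 94588) (len := 1819) h52 ma_52
  have h54 : ∀ u < 98226, (fun u => chkAux tab aux u) u = true := ext_range (a := 96407) (len := 1819) h53 ma_53
  have h55 : ∀ u < 100045, (fun u => chkAux tab aux u) u = true := ext_range (a := 98226) (len := 1819) h54 ma_54
  have h56 : ∀ u < 101864, (fun u => chkAux tab aux u) u = true := ext_range (a := 100045) (len := 1819) h55 ma_55
  have h57 : ∀ u < 103683, (fun u => chkAux tab aux u) u = true := ext_range (a := 101864) (len := 1819) h56 ma_56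
  have h58 : ∀ u < 105502, (fun u => chkAux tab aux u) u = true := ext_range (a := 103683) (len := 1819) h57 ma_57
  have h59 : ∀ u < 107321, (fun u => chkAux tab aux u) u = true := ext_range (a := 105502) (len := 1819) h58 ma_58
  have h60 : ∀ u < 109140, (fun u => chkAux tab aux u) u = true := ext_range (a := 107321) (len := 1819) h59 ma_59
  have h61 : ∀ u < 110959, (fun u => chkAux tab aux u) u = true := ext_range (a := 109140) (len := 1819) h60 ma_60
  have h62 : ∀ u < 112778, (fun u => chkAux tab aux u) u = true := ext_range (a := 110959) (len := 1819) h61 ma_61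
  have h63 : ∀ u < 114597, (fun u => chkAux tab aux u) u = true := ext_range (a := 112778) (len := 1819) h62 ma_62
  have h64 : ∀ u < 116416, (fun u => chkAux tab aux u) u = true := ext_range (a := 114597) (len := 1819) h63 ma_63
  have h65 : ∀ u < 118235, (fun u => chkAux tab aux u) u = true := ext_range (a := 116416) (len := 1819) h64 ma_64
  have h66 : ∀ u < 120054, (fun u => chkAux tab aux u) u = true := ext_range (a := 118235) (len := 1819) h65 ma_65
  have h67 : ∀ u < 121873, (fun u => chkAux tab aux u) u = true := ext_range (a := 120054) (len := 1819) h66 ma_66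
  have h68 : ∀ u < 122760, (fun u => chkAux tab aux u) u = true := ext_range (a := 121873) (len := 887) h67 ma_67
  exact h68

theorem hM2A : ∀ u < 122760, chkFix tab mwordsA u = true := by
  have h0 : ∀ u < 0, (fun u => chkFix tab mwordsA u) u = true := range_zero
  have h1 : ∀ u < 95, (fun u => chkFix tab mwordsA u) u = true := ext_range (a := 0) (len := 95) h0 m2_0
  have h2 : ∀ u < 190, (fun u => chkFix tab mwordsA u) u = true := ext_range (a := 95) (len := 95) h1 m2_1
  have h3 : ∀ u < 285, (fun u => chkFix tab mwordsA u) u = true := ext_range (a := 190) (len := 95) h2 m2_2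
  have h4 : ∀ u < 380, (fun u => chkFix tab mwordsA u) u = true := ext_range (a := 285) (len := 95) h3 m2_3
  have h5 : ∀ u < 475, (fun u => chkFix tab mwordsA u) u = true := ext_range (a := 380) (len := 95) h4 m2_4
  have h6 : ∀ u < 570, (fun u => chkFix tab mwordsA u) u = true := ext_range (a := 475) (len := 95) h5 m2_5
  have h7 : ∀ u < 665, (fun u => chkFix tab mwordsA u) u = true := ext_range (a := 570) (len := 95) h6 m2_6
  have h8 : ∀ u < 760, (fun u => chkFix tab mwordsA u) u = true := ext_range (a := 665) (len := 95) h7 m2_7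
  have h9 : ∀ u < 855, (fun u => chkFix tab mwordsA u) u = true := ext_range (a := 760) (len := 95) h8 m2_8
  have h10 : ∀ u < 950, (fun u => chkFix tab mwordsA u) u = true := ext_range (a := 855) (len := 95) h9 m2_9
  have h11 : ∀ u < 1045, (fun u => chkFix tab mwordsA u) u = true := ext_range (a := 950) (len := 95) h10 m2_10
  have h12 : ∀ u < 1140, (fun u => chkFix tab mwordsA u) u = true := ext_range (a := 1045) (len := 95) h11 m2_11
  have h13 : ∀ u < 1235, (fun u => chkFix tab mwordsA u) u = true := ext_range (a := 1140) (len := 95) h12 m2_12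
  have h14 : ∀ u < 1330, (fun u => chkFix tab mwordsA u) u = true := ext_range (a := 1235) (len := 95) h13 m2_13
  have h15 : ∀ u < 1425, (fun u => chkFix tab mwordsA u) u = true := ext_range (a := 1330) (len := 95) h14 m2_14
  have h16 : ∀ u < 1520, (fun u => chkFix tab mwordsA u) u = true := ext_range (a := 1425) (len := 95) h15 m2_15
  have h17 : ∀ u < 1615, (fun u => chkFix tab mwordsA u) u = true := ext_range (a := 1520) (len := 95) h16 m2_16
  have h18 : ∀ u < 1710, (fun u => chkFix tab mwordsA u) u = true := ext_range (a := 1615) (len := 95) h17 m2_17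
  have h19 : ∀ u < 1805, (fun u => chkFix tab mwordsA u) u = true := ext_range (a := 1710) (len := 95) h18 m2_18
  have h20 : ∀ u < 1900, (fun u => chkFix tab mwordsA u) u = true := ext_range (a := 1805) (len := 95) h19 m2_19
  have h21 : ∀ u < 1995, (fun u => chkFix tab mwordsA u) u = true := ext_range (a := 1900) (len := 95) h20 m2_20
  have h22 : ∀ u < 2090, (fun u => chkFix tab mwordsA u) u = true := ext_range (a := 1995) (len := 95) h21 m2_21
  have h23 : ∀ u < 2185, (fun u => chkFix tab mwordsA u) u = true := ext_range (a := 2090) (len := 95) h22 m2_22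
  have h24 : ∀ u < 2280, (fun u => chkFix tab mwordsA u) u = true := ext_range (a := 2185) (len := 95) h23 m2_23
  have h25 : ∀ u < 2375, (fun u => chkFix tab mwordsA u) u = true := ext_range (a := 2280) (len := 95) h24 m2_24
  have h26 : ∀ u < 2470, (fun u => chkFix tab mwordsA u) u = true := ext_range (a := 2375) (len := 95) h25 m2_25
  have h27 : ∀ u < 2565, (fun u => chkFix tab mwordsA u) u = true := ext_range (a := 2470) (len := 95) h26 m2_26
  have h28 : ∀ u < 2660, (fun u => chkFix tab mwordsA u) u = true := ext_range (a := 2565) (len := 95) h27 m2_27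
  have h29 : ∀ u < 2755, (fun u => chkFix tab mwordsA u) u = true := ext_range (a := 2660) (len := 95) h28 m2_28
  have h30 : ∀ u < 2850, (fun u => chkFix tab mwordsA u) u = true := ext_range (a := 2755) (len := 95) h29 m2_29
  have h31 : ∀ u < 2945, (fun u => chkFix tab mwordsA u) u = true := ext_range (a := 2850) (len := 95) h30 m2_30
  have h32 : ∀ u < 3040, (fun u => chkFix tab mwordsA u) u = true := ext_range (a := 2945) (len := 95) h31 m2_31
  have h33 : ∀ u < 3135, (fun u => chkFix tab mwordsA u) u = true := ext_range (a := 3040) (len := 95) h32 m2_32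
  have h34 : ∀ u < 3230, (fun u => chkFix tab mwordsA u) u = true := ext_range (a := 3135) (len := 95) h33 m2_33
  have h35 : ∀ u < 3325, (fun u => chkFix tab mwordsA u) u = true := ext_range (a := 3230) (len := 95) h34 m2_34
  have h36 : ∀ u < 3420, (fun u => chkFix tab mwordsA u) u = true := ext_range (a := 3325) (len := 95) h35 m2_35
  have h37 : ∀ u < 3515, (fun u => chkFix tab mwordsA u) u = true := ext_range (a := 3420) (len := 95) h36 m2_36
  have h38 : ∀ u < 3610, (fun u => chkFix tab mwordsA u) u = true := ext_range (a := 3515) (len := 95) h37 m2_37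
  have h39 : ∀ u < 3705, (fun u => chkFix tab mwordsA u) u = true := ext_range (a := 3610) (len := 95) h38 m2_38
  have h40 : ∀ u < 3800, (fun u => chkFix tab mwordsA u) u = true := ext_range (a := 3705) (len := 95) h39 m2_39
  have h41 : ∀ u < 3895, (fun u => chkFix tab mwordsA u) u = true := ext_range (a := 3800) (len := 95) h40 m2_40
  have h42 : ∀ u < 3990, (fun u => chkFix tab mwordsA u) u = true := ext_range (a := 3895) (len := 95) h41 m2_41
  have h43 : ∀ u < 4085, (fun u => chkFix tab mwordsA u) u = true := ext_range (a := 3990) (len := 95) h42 m2_42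
  have h44 : ∀ u < 4180, (fun u => chkFix tab mwordsA u) u = true := ext_range (a := 4085) (len := 95) h43 m2_43
  have h45 : ∀ u < 4275, (fun u => chkFix tab mwordsA u) u = true := ext_range (a := 4180) (len := 95) h44 m2_44
  have h46 : ∀ u < 4370, (fun u => chkFix tab mwordsA u) u = true := ext_range (a := 4275) (len := 95) h45 m2_45
  have h47 : ∀ u < 4465, (fun u => chkFix tab mwordsA u) u = true := ext_range (a := 4370) (len := 95) h46 m2_46
  have h48 : ∀ u < 4560, (fun u => chkFix tab mwordsA u) u = true := ext_range (a := 4465) (len := 95) h47 m2_47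
  have h49 : ∀ u < 4655, (fun u => chkFix tab mwordsA u) u = true := ext_range (a := 4560) (len := 95) h48 m2_48
  have h50 : ∀ u < 4750, (fun u => chkFix tab mwordsA u) u = true := ext_range (a := 4655) (len := 95) h49 m2_49
  have h51 : ∀ u < 4845, (fun u => chkFix tab mwordsA u) u = true := ext_range (a := 4750) (len := 95) h50 m2_50
  have h52 : ∀ u < 4940, (fun u => chkFix tab mwordsA u) u = true := ext_range (a := 4845) (len := 95) h51 m2_51
  have h53 : ∀ u < 5035, (fun u => chkFix tab mwordsA u) u = true := ext_range (a := 4940) (len := 95) h52 m2_52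
  have h54 : ∀ u < 5130, (fun u => chkFix tab mwordsA u) u = true := ext_range (a := 5035) (len := 95) h53 m2_53
  have h55 : ∀ u < 5225, (fun u => chkFix tab mwordsA u) u = true := ext_range (a := 5130) (len := 95) h54 m2_54
  have h56 : ∀ u < 5320, (fun u => chkFix tab mwordsA u) u = true := ext_range (a := 5225) (len := 95) h55 m2_55
  have h57 : ∀ u < 5415, (fun u => chkFix tab mwordsA u) u = true := ext_range (a := 5320) (len := 95) h56 m2_56
  have h58 : ∀ u < 5510, (fun u => chkFix tab mwordsA u) u = true := ext_range (a := 5415) (len := 95) h57 m2_57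
  have h59 : ∀ u < 5605, (fun u => chkFix tab mwordsA u) u = true := ext_range (a := 5510) (len := 95) h58 m2_58
  have h60 : ∀ u < 5700, (fun u => chkFix tab mwordsA u) u = true := ext_range (a := 5605) (len := 95) h59 m2_59
  have h61 : ∀ u < 5795, (fun u => chkFix tab mwordsA u) u = true := ext_range (a := 5700) (len := 95) h60 m2_60
  have h62 : ∀ u < 5890, (fun u => chkFix tab mwordsA u) u = true := ext_range (a := 5795) (len := 95) h61 m2_61
  have h63 : ∀ u < 5985, (fun u => chkFix tab mwordsA u) u = true := ext_range (a := 5890) (len := 95) h62 m2_62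
  have h64 : ∀ u < 6080, (fun u => chkFix tab mwordsA u) u = true := ext_range (a := 5985) (len := 95) h63 m2_63
  have h65 : ∀ u < 6175, (fun u => chkFix tab mwordsA u) u = true := ext_range (a := 6080) (len := 95) h64 m2_64
  have h66 : ∀ u < 6270, (fun u => chkFix tab mwordsA u) u = true := ext_range (a := 6175) (len := 95) h65 m2_65
  have h67 : ∀ u < 6365, (fun u => chkFix tab mwordsA u) u = true := ext_range (a := 6270) (len := 95) h66 m2_66
  have h68 : ∀ u < 6460, (fun u => chkFix tab mwordsA u) u = true := ext_range (a := 6365) (len := 95) h67 m2_67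
  have h69 : ∀ u < 6555, (fun u => chkFix tab mwordsA u) u = true := ext_range (a := 6460) (len := 95) h68 m2_68
  have h70 : ∀ u < 6650, (fun u => chkFix tab mwordsA u) u = true := ext_range (a := 6555) (len := 95) h69 m2_69
  have h71 : ∀ u < 6745, (fun u => chkFix tab mwordsA u) u = true := ext_range (a := 6650) (len := 95) h70 m2_70
  have h72 : ∀ u < 6840, (fun u => chkFix tab mwordsA u) u = true := ext_range (a := 6745) (len := 95) h71 m2_71
  have h73 : ∀ u < 6935, (fun u => chkFix tab mwordsA u) u = true := ext_range (a := 6840) (len := 95) h72 m2_72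
  have h74 : ∀ u < 7030, (fun u => chkFix tab mwordsA u) u = true := ext_range (a := 6935) (len := 95) h73 m2_73
  have h75 : ∀ u < 7125, (fun u => chkFix tab mwordsA u) u = true := ext_range (a := 7030) (len := 95) h74 m2_74
  have h76 : ∀ u < 7220, (fun u => chkFix tab mwordsA u) u = true := ext_range (a := 7125) (len := 95) h75 m2_75
  have h77 : ∀ u < 7315, (fun u => chkFix tab mwordsA u) u = true := ext_range (a := 7220) (len := 95) h76 m2_76
  have h78 : ∀ u < 7410, (fun u => chkFix tab mwordsA u) u = true := ext_range (a := 7315) (len := 95) h77 m2_77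
  have h79 : ∀ u < 7505, (fun u => chkFix tab mwordsA u) u = true := ext_range (a := 7410) (len := 95) h78 m2_78
  have h80 : ∀ u < 7600, (fun u => chkFix tab mwordsA u) u = true := ext_range (a := 7505) (len := 95) h79 m2_79
  have h81 : ∀ u < 7695, (fun u => chkFix tab mwordsA u) u = true := ext_range (a := 7600) (len := 95) h80 m2_80
  have h82 : ∀ u < 7790, (fun u => chkFix tab mwordsA u) u = true := ext_range (a := 7695) (len := 95) h81 m2_81
  have h83 : ∀ u < 7885, (fun u => chkFix tab mwordsA u) u = true := ext_range (a := 7790) (len := 95) h82 m2_82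
  have h84 : ∀ u < 7980, (fun u => chkFix tab mwordsA u) u = true := ext_range (a := 7885) (len := 95) h83 m2_83
  have h85 : ∀ u < 8075, (fun u => chkFix tab mwordsA u) u = true := ext_range (a := 7980) (len := 95) h84 m2_84
  have h86 : ∀ u < 8170, (fun u => chkFix tab mwordsA u) u = true := ext_range (a := 8075) (len := 95) h85 m2_85
  have h87 : ∀ u < 8265, (fun u => chkFix tab mwordsA u) u = true := ext_range (a := 8170) (len := 95) h86 m2_86
  have h88 : ∀ u < 8360, (fun u => chkFix tab mwordsA u) u = true := ext_range (a := 8265) (len := 95) h87 m2_87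
  have h89 : ∀ u < 8455, (fun u => chkFix tab mwordsA u) u = true := ext_range (a := 8360) (len := 95) h88 m2_88
  have h90 : ∀ u < 8550, (fun u => chkFix tab mwordsA u) u = true := ext_range (a := 8455) (len := 95) h89 m2_89
  have h91 : ∀ u < 8645, (fun u => chkFix tab mwordsA u) u = true := ext_range (a := 8550) (len := 95) h90 m2_90
  have h92 : ∀ u < 8740, (fun u => chkFix tab mwordsA u) u = true := ext_range (a := 8645) (len := 95) h91 m2_91
  have h93 : ∀ u < 8835, (fun u => chkFix tab mwordsA u) u = true := ext_range (a := 8740) (len := 95) h92 m2_92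
  have h94 : ∀ u < 8930, (fun u => chkFix tab mwordsA u) u = true := ext_range (a := 8835) (len := 95) h93 m2_93
  have h95 : ∀ u < 9025, (fun u => chkFix tab mwordsA u) u = true := ext_range (a := 8930) (len := 95) h94 m2_94
  have h96 : ∀ u < 9120, (fun u => chkFix tab mwordsA u) u = true := ext_range (a := 9025) (len := 95) h95 m2_95
  have h97 : ∀ u < 9215, (fun u => chkFix tab mwordsA u) u = true := ext_range (a := 9120) (len := 95) h96 m2_96
  have h98 : ∀ u < 9310, (fun u => chkFix tab mwordsA u) u = true := ext_range (a := 9215) (len := 95) h97 m2_97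
  have h99 : ∀ u < 9405, (fun u => chkFix tab mwordsA u) u = true := ext_range (a := 9310) (len := 95) h98 m2_98
  have h100 : ∀ u < 9500, (fun u => chkFix tab mwordsA u) u = true := ext_range (a := 9405) (len := 95) h99 m2_99
  have h101 : ∀ u < 9595, (fun u => chkFix tab mwordsA u) u = true := ext_range (a := 9500) (len := 95) h100 m2_100
  have h102 : ∀ u < 9690, (fun u => chkFix tab mwordsA u) u = true := ext_range (a := 9595) (len := 95) h101 m2_101
  have h103 : ∀ u < 9785, (fun u => chkFix tab mwordsA u) u = true := ext_range (a := 9690) (len := 95) h102 m2_102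
  have h104 : ∀ u < 9880, (fun u => chkFix tab mwordsA u) u = true := ext_range (a := 9785) (len := 95) h103 m2_103
  have h105 : ∀ u < 9975, (fun u => chkFix tab mwordsA u) u = true := ext_range (a := 9880) (len := 95) h104 m2_104
  have h106 : ∀ u < 10070, (fun u => chkFix tab mwordsA u) u = true := ext_range (a := 9975) (len := 95) h105 m2_105
  have h107 : ∀ u < 10165, (fun u => chkFix tab mwordsA u) u = true := ext_range (a := 10070) (len := 95) h106 m2_106
  have h108 : ∀ u < 10260, (fun u => chkFix tab mwordsA u) u = true := ext_range (a := 10165) (len := 95) h107 m2_107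
  have h109 : ∀ u < 10355, (fun u => chkFix tab mwordsA u) u = true := ext_range (a := 10260) (len := 95) h108 m2_108
  have h110 : ∀ u < 10450, (fun u => chkFix tab mwordsA u) u = true := ext_range (a := 10355) (len := 95) h109 m2_109
  have h111 : ∀ u < 10545, (fun u => chkFix tab mwordsA u) u = true := ext_range (a := 10450) (len := 95) h110 m2_110
  have h112 : ∀ u < 10640, (fun u => chkFix tab mwordsA u) u = true := ext_range (a := 10545) (len := 95) h111 m2_111
  have h113 : ∀ u < 10735, (fun u => chkFix tab mwordsA u) u = true := ext_range (a := 10640) (len := 95) h112 m2_112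
  have h114 : ∀ u < 10830, (fun u => chkFix tab mwordsA u) u = true := ext_range (a := 10735) (len := 95) h113 m2_113
  have h115 : ∀ u < 10925, (fun u => chkFix tab mwordsA u) u = true := ext_range (a := 10830) (len := 95) h114 m2_114
  have h116 : ∀ u < 11020, (fun u => chkFix tab mwordsA u) u = true := ext_range (a := 10925) (len := 95) h115 m2_115
  have h117 : ∀ u < 11115, (fun u => chkFix tab mwordsA u) u = true := ext_range (a := 11020) (len := 95) h116 m2_116
  have h118 : ∀ u < 11210, (fun u => chkFix tab mwordsA u) u = true := ext_range (a := 11115) (len := 95) h117 m2_117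
  have h119 : ∀ u < 11305, (fun u => chkFix tab mwordsA u) u = true := ext_range (a := 11210) (len := 95) h118 m2_118
  have h120 : ∀ u < 11400, (fun u => chkFix tab mwordsA u) u = true := ext_range (a := 11305) (len := 95) h119 m2_119
  have h121 : ∀ u < 11495, (fun u => chkFix tab mwordsA u) u = true := ext_range (a := 11400) (len := 95) h120 m2_120
  have h122 : ∀ u < 11590, (fun u => chkFix tab mwordsA u) u = true := ext_range (a := 11495) (len := 95) h121 m2_121
  have h123 : ∀ u < 11685, (fun u => chkFix tab mwordsA u) u = true := ext_range (a := 11590) (len := 95) h122 m2_122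
  have h124 : ∀ u < 11780, (fun u => chkFix tab mwordsA u) u = true := ext_range (a := 11685) (len := 95) h123 m2_123
  have h125 : ∀ u < 11875, (fun u => chkFix tab mwordsA u) u = true := ext_range (a := 11780) (len := 95) h124 m2_124
  have h126 : ∀ u < 11970, (fun u => chkFix tab mwordsA u) u = true := ext_range (a := 11875) (len := 95) h125 m2_125
  have h127 : ∀ u < 12065, (fun u => chkFix tab mwordsA u) u = true := ext_range (a := 11970) (len := 95) h126 m2_126
  have h128 : ∀ u < 12160, (fun u => chkFix tab mwordsA u) u = true := ext_range (a := 12065) (len := 95) h127 m2_127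
  have h129 : ∀ u < 12255, (fun u => chkFix tab mwordsA u) u = true := ext_range (a := 12160) (len := 95) h128 m2_128
  have h130 : ∀ u < 12350, (fun u => chkFix tab mwordsA u) u = true := ext_range (a := 12255) (len := 95) h129 m2_129
  have h131 : ∀ u < 12445, (fun u => chkFix tab mwordsA u) u = true := ext_range (a := 12350) (len := 95) h130 m2_130
  have h132 : ∀ u < 12540, (fun u => chkFix tab mwordsA u) u = true := ext_range (a := 12445) (len := 95) h131 m2_131
  have h133 : ∀ u < 12635, (fun u => chkFix tab mwordsA u) u = true := ext_range (a := 12540) (len := 95) h132 m2_132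
  have h134 : ∀ u < 12730, (fun u => chkFix tab mwordsA u) u = true := ext_range (a := 12635) (len := 95) h133 m2_133
  have h135 : ∀ u < 12825, (fun u => chkFix tab mwordsA u) u = true := ext_range (a := 12730) (len := 95) h134 m2_134
  have h136 : ∀ u < 12920, (fun u => chkFix tab mwordsA u) u = true := ext_range (a := 12825) (len := 95) h135 m2_135
  have h137 : ∀ u < 13015, (fun u => chkFix tab mwordsA u) u = true := ext_range (a := 12920) (len := 95) h136 m2_136
  have h138 : ∀ u < 13110, (fun u => chkFix tab mwordsA u) u = true := ext_range (a := 13015) (len := 95) h137 m2_137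
  have h139 : ∀ u < 13205, (fun u => chkFix tab mwordsA u) u = true := ext_range (a := 13110) (len := 95) h138 m2_138
  have h140 : ∀ u < 13300, (fun u => chkFix tab mwordsA u) u = true := ext_range (a := 13205) (len := 95) h139 m2_139
  have h141 : ∀ u < 13395, (fun u => chkFix tab mwordsA u) u = true := ext_range (a := 13300) (len := 95) h140 m2_140
  have h142 : ∀ u < 13490, (fun u => chkFix tab mwordsA u) u = true := ext_range (a := 13395) (len := 95) h141 m2_141
  have h143 : ∀ u < 13585, (fun u => chkFix tab mwordsA u) u = true := ext_range (a := 13490) (len := 95) h142 m2_142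
  have h144 : ∀ u < 13680, (fun u => chkFix tab mwordsA u) u = true := ext_range (a := 13585) (len := 95) h143 m2_143
  have h145 : ∀ u < 13775, (fun u => chkFix tab mwordsA u) u = true := ext_range (a := 13680) (len := 95) h144 m2_144
  have h146 : ∀ u < 13870, (fun u => chkFix tab mwordsA u) u = true := ext_range (a := 13775) (len := 95) h145 m2_145
  have h147 : ∀ u < 13965, (fun u => chkFix tab mwordsA u) u = true := ext_range (a := 13870) (len := 95) h146 m2_146
  have h148 : ∀ u < 14060, (fun u => chkFix tab mwordsA u) u = true := ext_range (a := 13965) (len := 95) h147 m2_147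
  have h149 : ∀ u < 14155, (fun u => chkFix tab mwordsA u) u = true := ext_range (a := 14060) (len := 95) h148 m2_148
  have h150 : ∀ u < 14250, (fun u => chkFix tab mwordsA u) u = true := ext_range (a := 14155) (len := 95) h149 m2_149
  have h151 : ∀ u < 14345, (fun u => chkFix tab mwordsA u) u = true := ext_range (a := 14250) (len := 95) h150 m2_150
  have h152 : ∀ u < 14440, (fun u => chkFix tab mwordsA u) u = true := ext_range (a := 14345) (len := 95) h151 m2_151
  have h153 : ∀ u < 14535, (fun u => chkFix tab mwordsA u) u = true := ext_range (a := 14440) (len := 95) h152 m2_152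
  have h154 : ∀ u < 14630, (fun u => chkFix tab mwordsA u) u = true := ext_range (a := 14535) (len := 95) h153 m2_153
  have h155 : ∀ u < 14725, (fun u => chkFix tab mwordsA u) u = true := ext_range (a := 14630) (len := 95) h154 m2_154
  have h156 : ∀ u < 14820, (fun u => chkFix tab mwordsA u) u = true := ext_range (a := 14725) (len := 95) h155 m2_155
  have h157 : ∀ u < 14915, (fun u => chkFix tab mwordsA u) u = true := ext_range (a := 14820) (len := 95) h156 m2_156
  have h158 : ∀ u < 15010, (fun u => chkFix tab mwordsA u) u = true := ext_range (a := 14915) (len := 95) h157 m2_157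
  have h159 : ∀ u < 15105, (fun u => chkFix tab mwordsA u) u = true := ext_range (a := 15010) (len := 95) h158 m2_158
  have h160 : ∀ u < 15200, (fun u => chkFix tab mwordsA u) u = true := ext_range (a := 15105) (len := 95) h159 m2_159
  have h161 : ∀ u < 15295, (fun u => chkFix tab mwordsA u) u = true := ext_range (a := 15200) (len := 95) h160 m2_160
  have h162 : ∀ u < 15390, (fun u => chkFix tab mwordsA u) u = true := ext_range (a := 15295) (len := 95) h161 m2_161
  have h163 : ∀ u < 15485, (fun u => chkFix tab mwordsA u) u = true := ext_range (a := 15390) (len := 95) h162 m2_162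
  have h164 : ∀ u < 15580, (fun u => chkFix tab mwordsA u) u = true := ext_range (a := 15485) (len := 95) h163 m2_163
  have h165 : ∀ u < 15675, (fun u => chkFix tab mwordsA u) u = true := ext_range (a := 15580) (len := 95) h164 m2_164
  have h166 : ∀ u < 15770, (fun u => chkFix tab mwordsA u) u = true := ext_range (a := 15675) (len := 95) h165 m2_165
  have h167 : ∀ u < 15865, (fun u => chkFix tab mwordsA u) u = true := ext_range (a := 15770) (len := 95) h166 m2_166
  have h168 : ∀ u < 15960, (fun u => chkFix tab mwordsA u) u = true := ext_range (a := 15865) (len := 95) h167 m2_167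
  have h169 : ∀ u < 16055, (fun u => chkFix tab mwordsA u) u = true := ext_range (a := 15960) (len := 95) h168 m2_168
  have h170 : ∀ u < 16150, (fun u => chkFix tab mwordsA u) u = true := ext_range (a := 16055) (len := 95) h169 m2_169
  have h171 : ∀ u < 16245, (fun u => chkFix tab mwordsA u) u = true := ext_range (a := 16150) (len := 95) h170 m2_170
  have h172 : ∀ u < 16340, (fun u => chkFix tab mwordsA u) u = true := ext_range (a := 16245) (len := 95) h171 m2_171
  have h173 : ∀ u < 16435, (fun u => chkFix tab mwordsA u) u = true := ext_range (a := 16340) (len := 95) h172 m2_172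
  have h174 : ∀ u < 16530, (fun u => chkFix tab mwordsA u) u = true := ext_range (a := 16435) (len := 95) h173 m2_173
  have h175 : ∀ u < 16625, (fun u => chkFix tab mwordsA u) u = true := ext_range (a := 16530) (len := 95) h174 m2_174
  have h176 : ∀ u < 16720, (fun u => chkFix tab mwordsA u) u = true := ext_range (a := 16625) (len := 95) h175 m2_175
  have h177 : ∀ u < 16815, (fun u => chkFix tab mwordsA u) u = true := ext_range (a := 16720) (len := 95) h176 m2_176
  have h178 : ∀ u < 16910, (fun u => chkFix tab mwordsA u) u = true := ext_range (a := 16815) (len := 95) h177 m2_177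
  have h179 : ∀ u < 17005, (fun u => chkFix tab mwordsA u) u = true := ext_range (a := 16910) (len := 95) h178 m2_178
  have h180 : ∀ u < 17100, (fun u => chkFix tab mwordsA u) u = true := ext_range (a := 17005) (len := 95) h179 m2_179
  have h181 : ∀ u < 17195, (fun u => chkFix tab mwordsA u) u = true := ext_range (a := 17100) (len := 95) h180 m2_180
  have h182 : ∀ u < 17290, (fun u => chkFix tab mwordsA u) u = true := ext_range (a := 17195) (len := 95) h181 m2_181
  have h183 : ∀ u < 17385, (fun u => chkFix tab mwordsA u) u = true := ext_range (a := 17290) (len := 95) h182 m2_182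
  have h184 : ∀ u < 17480, (fun u => chkFix tab mwordsA u) u = true := ext_range (a := 17385) (len := 95) h183 m2_183
  have h185 : ∀ u < 17575, (fun u => chkFix tab mwordsA u) u = true := ext_range (a := 17480) (len := 95) h184 m2_184
  have h186 : ∀ u < 17670, (fun u => chkFix tab mwordsA u) u = true := ext_range (a := 17575) (len := 95) h185 m2_185
  have h187 : ∀ u < 17765, (fun u => chkFix tab mwordsA u) u = true := ext_range (a := 17670) (len := 95) h186 m2_186
  have h188 : ∀ u < 17860, (fun u => chkFix tab mwordsA u) u = true := ext_range (a := 17765) (len := 95) h187 m2_187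
  have h189 : ∀ u < 17955, (fun u => chkFix tab mwordsA u) u = true := ext_range (a := 17860) (len := 95) h188 m2_188
  have h190 : ∀ u < 18050, (fun u => chkFix tab mwordsA u) u = true := ext_range (a := 17955) (len := 95) h189 m2_189
  have h191 : ∀ u < 18145, (fun u => chkFix tab mwordsA u) u = true := ext_range (a := 18050) (len := 95) h190 m2_190
  have h192 : ∀ u < 18240, (fun u => chkFix tab mwordsA u) u = true := ext_range (a := 18145) (len := 95) h191 m2_191
  have h193 : ∀ u < 18335, (fun u => chkFix tab mwordsA u) u = true := ext_range (a := 18240) (len := 95) h192 m2_192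
  have h194 : ∀ u < 18430, (fun u => chkFix tab mwordsA u) u = true := ext_range (a := 18335) (len := 95) h193 m2_193
  have h195 : ∀ u < 18525, (fun u => chkFix tab mwordsA u) u = true := ext_range (a := 18430) (len := 95) h194 m2_194
  have h196 : ∀ u < 18620, (fun u => chkFix tab mwordsA u) u = true := ext_range (a := 18525) (len := 95) h195 m2_195
  have h197 : ∀ u < 18715, (fun u => chkFix tab mwordsA u) u = true := ext_range (a := 18620) (len := 95) h196 m2_196
  have h198 : ∀ u < 18810, (fun u => chkFix tab mwordsA u) u = true := ext_range (a := 18715) (len := 95) h197 m2_197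
  have h199 : ∀ u < 18905, (fun u => chkFix tab mwordsA u) u = true := ext_range (a := 18810) (len := 95) h198 m2_198
  have h200 : ∀ u < 19000, (fun u => chkFix tab mwordsA u) u = true := ext_range (a := 18905) (len := 95) h199 m2_199
  have h201 : ∀ u < 19095, (fun u => chkFix tab mwordsA u) u = true := ext_range (a := 19000) (len := 95) h200 m2_200
  have h202 : ∀ u < 19190, (fun u => chkFix tab mwordsA u) u = true := ext_range (a := 19095) (len := 95) h201 m2_201
  have h203 : ∀ u < 19285, (fun u => chkFix tab mwordsA u) u = true := ext_range (a := 19190) (len := 95) h202 m2_202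
  have h204 : ∀ u < 19380, (fun u => chkFix tab mwordsA u) u = true := ext_range (a := 19285) (len := 95) h203 m2_203
  have h205 : ∀ u < 19475, (fun u => chkFix tab mwordsA u) u = true := ext_range (a := 19380) (len := 95) h204 m2_204
  have h206 : ∀ u < 19570, (fun u => chkFix tab mwordsA u) u = true := ext_range (a := 19475) (len := 95) h205 m2_205
  have h207 : ∀ u < 19665, (fun u => chkFix tab mwordsA u) u = true := ext_range (a := 19570) (len := 95) h206 m2_206
  have h208 : ∀ u < 19760, (fun u => chkFix tab mwordsA u) u = true := ext_range (a := 19665) (len := 95) h207 m2_207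
  have h209 : ∀ u < 19855, (fun u => chkFix tab mwordsA u) u = true := ext_range (a := 19760) (len := 95) h208 m2_208
  have h210 : ∀ u < 19950, (fun u => chkFix tab mwordsA u) u = true := ext_range (a := 19855) (len := 95) h209 m2_209
  have h211 : ∀ u < 20045, (fun u => chkFix tab mwordsA u) u = true := ext_range (a := 19950) (len := 95) h210 m2_210
  have h212 : ∀ u < 20140, (fun u => chkFix tab mwordsA u) u = true := ext_range (a := 20045) (len := 95) h211 m2_211
  have h213 : ∀ u < 20235, (fun u => chkFix tab mwordsA u) u = true := ext_range (a := 20140) (len := 95) h212 m2_212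
  have h214 : ∀ u < 20330, (fun u => chkFix tab mwordsA u) u = true := ext_range (a := 20235) (len := 95) h213 m2_213
  have h215 : ∀ u < 20425, (fun u => chkFix tab mwordsA u) u = true := ext_range (a := 20330) (len := 95) h214 m2_214
  have h216 : ∀ u < 20520, (fun u => chkFix tab mwordsA u) u = true := ext_range (a := 20425) (len := 95) h215 m2_215
  have h217 : ∀ u < 20615, (fun u => chkFix tab mwordsA u) u = true := ext_range (a := 20520) (len := 95) h216 m2_216
  have h218 : ∀ u < 20710, (fun u => chkFix tab mwordsA u) u = true := ext_range (a := 20615) (len := 95) h217 m2_217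
  have h219 : ∀ u < 20805, (fun u => chkFix tab mwordsA u) u = true := ext_range (a := 20710) (len := 95) h218 m2_218
  have h220 : ∀ u < 20900, (fun u => chkFix tab mwordsA u) u = true := ext_range (a := 20805) (len := 95) h219 m2_219
  have h221 : ∀ u < 20995, (fun u => chkFix tab mwordsA u) u = true := ext_range (a := 20900) (len := 95) h220 m2_220
  have h222 : ∀ u < 21090, (fun u => chkFix tab mwordsA u) u = true := ext_range (a := 20995) (len := 95) h221 m2_221
  have h223 : ∀ u < 21185, (fun u => chkFix tab mwordsA u) u = true := ext_range (a := 21090) (len := 95) h222 m2_222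
  have h224 : ∀ u < 21280, (fun u => chkFix tab mwordsA u) u = true := ext_range (a := 21185) (len := 95) h223 m2_223
  have h225 : ∀ u < 21375, (fun u => chkFix tab mwordsA u) u = true := ext_range (a := 21280) (len := 95) h224 m2_224
  have h226 : ∀ u < 21470, (fun u => chkFix tab mwordsA u) u = true := ext_range (a := 21375) (len := 95) h225 m2_225
  have h227 : ∀ u < 21565, (fun u => chkFix tab mwordsA u) u = true := ext_range (a := 21470) (len := 95) h226 m2_226
  have h228 : ∀ u < 21660, (fun u => chkFix tab mwordsA u) u = true := ext_range (a := 21565) (len := 95) h227 m2_227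
  have h229 : ∀ u < 21755, (fun u => chkFix tab mwordsA u) u = true := ext_range (a := 21660) (len := 95) h228 m2_228
  have h230 : ∀ u < 21850, (fun u => chkFix tab mwordsA u) u = true := ext_range (a := 21755) (len := 95) h229 m2_229
  have h231 : ∀ u < 21945, (fun u => chkFix tab mwordsA u) u = true := ext_range (a := 21850) (len := 95) h230 m2_230
  have h232 : ∀ u < 22040, (fun u => chkFix tab mwordsA u) u = true := ext_range (a := 21945) (len := 95) h231 m2_231
  have h233 : ∀ u < 22135, (fun u => chkFix tab mwordsA u) u = true := ext_range (a := 22040) (len := 95) h232 m2_232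
  have h234 : ∀ u < 22230, (fun u => chkFix tab mwordsA u) u = true := ext_range (a := 22135) (len := 95) h233 m2_233
  have h235 : ∀ u < 22325, (fun u => chkFix tab mwordsA u) u = true := ext_range (a := 22230) (len := 95) h234 m2_234
  have h236 : ∀ u < 22420, (fun u => chkFix tab mwordsA u) u = true := ext_range (a := 22325) (len := 95) h235 m2_235
  have h237 : ∀ u < 22515, (fun u => chkFix tab mwordsA u) u = true := ext_range (a := 22420) (len := 95) h236 m2_236
  have h238 : ∀ u < 22610, (fun u => chkFix tab mwordsA u) u = true := ext_range (a := 22515) (len := 95) h237 m2_237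
  have h239 : ∀ u < 22705, (fun u => chkFix tab mwordsA u) u = true := ext_range (a := 22610) (len := 95) h238 m2_238
  have h240 : ∀ u < 22800, (fun u => chkFix tab mwordsA u) u = true := ext_range (a := 22705) (len := 95) h239 m2_239
  have h241 : ∀ u < 22895, (fun u => chkFix tab mwordsA u) u = true := ext_range (a := 22800) (len := 95) h240 m2_240
  have h242 : ∀ u < 22990, (fun u => chkFix tab mwordsA u) u = true := ext_range (a := 22895) (len := 95) h241 m2_241
  have h243 : ∀ u < 23085, (fun u => chkFix tab mwordsA u) u = true := ext_range (a := 22990) (len := 95) h242 m2_242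
  have h244 : ∀ u < 23180, (fun u => chkFix tab mwordsA u) u = true := ext_range (a := 23085) (len := 95) h243 m2_243
  have h245 : ∀ u < 23275, (fun u => chkFix tab mwordsA u) u = true := ext_range (a := 23180) (len := 95) h244 m2_244
  have h246 : ∀ u < 23370, (fun u => chkFix tab mwordsA u) u = true := ext_range (a := 23275) (len := 95) h245 m2_245
  have h247 : ∀ u < 23465, (fun u => chkFix tab mwordsA u) u = true := ext_range (a := 23370) (len := 95) h246 m2_246
  have h248 : ∀ u < 23560, (fun u => chkFix tab mwordsA u) u = true := ext_range (a := 23465) (len := 95) h247 m2_247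
  have h249 : ∀ u < 23655, (fun u => chkFix tab mwordsA u) u = true := ext_range (a := 23560) (len := 95) h248 m2_248
  have h250 : ∀ u < 23750, (fun u => chkFix tab mwordsA u) u = true := ext_range (a := 23655) (len := 95) h249 m2_249
  have h251 : ∀ u < 23845, (fun u => chkFix tab mwordsA u) u = true := ext_range (a := 23750) (len := 95) h250 m2_250
  have h252 : ∀ u < 23940, (fun u => chkFix tab mwordsA u) u = true := ext_range (a := 23845) (len := 95) h251 m2_251
  have h253 : ∀ u < 24035, (fun u => chkFix tab mwordsA u) u = true := ext_range (a := 23940) (len := 95) h252 m2_252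
  have h254 : ∀ u < 24130, (fun u => chkFix tab mwordsA u) u = true := ext_range (a := 24035) (len := 95) h253 m2_253
  have h255 : ∀ u < 24225, (fun u => chkFix tab mwordsA u) u = true := ext_range (a := 24130) (len := 95) h254 m2_254
  have h256 : ∀ u < 24320, (fun u => chkFix tab mwordsA u) u = true := ext_range (a := 24225) (len := 95) h255 m2_255
  have h257 : ∀ u < 24415, (fun u => chkFix tab mwordsA u) u = true := ext_range (a := 24320) (len := 95) h256 m2_256
  have h258 : ∀ u < 24510, (fun u => chkFix tab mwordsA u) u = true := ext_range (a := 24415) (len := 95) h257 m2_257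
  have h259 : ∀ u < 24605, (fun u => chkFix tab mwordsA u) u = true := ext_range (a := 24510) (len := 95) h258 m2_258
  have h260 : ∀ u < 24700, (fun u => chkFix tab mwordsA u) u = true := ext_range (a := 24605) (len := 95) h259 m2_259
  have h261 : ∀ u < 24795, (fun u => chkFix tab mwordsA u) u = true := ext_range (a := 24700) (len := 95) h260 m2_260
  have h262 : ∀ u < 24890, (fun u => chkFix tab mwordsA u) u = true := ext_range (a := 24795) (len := 95) h261 m2_261
  have h263 : ∀ u < 24985, (fun u => chkFix tab mwordsA u) u = true := ext_range (a := 24890) (len := 95) h262 m2_262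
  have h264 : ∀ u < 25080, (fun u => chkFix tab mwordsA u) u = true := ext_range (a := 24985) (len := 95) h263 m2_263
  have h265 : ∀ u < 25175, (fun u => chkFix tab mwordsA u) u = true := ext_range (a := 25080) (len := 95) h264 m2_264
  have h266 : ∀ u < 25270, (fun u => chkFix tab mwordsA u) u = true := ext_range (a := 25175) (len := 95) h265 m2_265
  have h267 : ∀ u < 25365, (fun u => chkFix tab mwordsA u) u = true := ext_range (a := 25270) (len := 95) h266 m2_266
  have h268 : ∀ u < 25460, (fun u => chkFix tab mwordsA u) u = true := ext_range (a := 25365) (len := 95) h267 m2_267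
  have h269 : ∀ u < 25555, (fun u => chkFix tab mwordsA u) u = true := ext_range (a := 25460) (len := 95) h268 m2_268
  have h270 : ∀ u < 25650, (fun u => chkFix tab mwordsA u) u = true := ext_range (a := 25555) (len := 95) h269 m2_269
  have h271 : ∀ u < 25745, (fun u => chkFix tab mwordsA u) u = true := ext_range (a := 25650) (len := 95) h270 m2_270
  have h272 : ∀ u < 25840, (fun u => chkFix tab mwordsA u) u = true := ext_range (a := 25745) (len := 95) h271 m2_271
  have h273 : ∀ u < 25935, (fun u => chkFix tab mwordsA u) u = true := ext_range (a := 25840) (len := 95) h272 m2_272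
  have h274 : ∀ u < 26030, (fun u => chkFix tab mwordsA u) u = true := ext_range (a := 25935) (len := 95) h273 m2_273
  have h275 : ∀ u < 26125, (fun u => chkFix tab mwordsA u) u = true := ext_range (a := 26030) (len := 95) h274 m2_274
  have h276 : ∀ u < 26220, (fun u => chkFix tab mwordsA u) u = true := ext_range (a := 26125) (len := 95) h275 m2_275
  have h277 : ∀ u < 26315, (fun u => chkFix tab mwordsA u) u = true := ext_range (a := 26220) (len := 95) h276 m2_276
  have h278 : ∀ u < 26410, (fun u => chkFix tab mwordsA u) u = true := ext_range (a := 26315) (len := 95) h277 m2_277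
  have h279 : ∀ u < 26505, (fun u => chkFix tab mwordsA u) u = true := ext_range (a := 26410) (len := 95) h278 m2_278
  have h280 : ∀ u < 26600, (fun u => chkFix tab mwordsA u) u = true := ext_range (a := 26505) (len := 95) h279 m2_279
  have h281 : ∀ u < 26695, (fun u => chkFix tab mwordsA u) u = true := ext_range (a := 26600) (len := 95) h280 m2_280
  have h282 : ∀ u < 26790, (fun u => chkFix tab mwordsA u) u = true := ext_range (a := 26695) (len := 95) h281 m2_281
  have h283 : ∀ u < 26885, (fun u => chkFix tab mwordsA u) u = true := ext_range (a := 26790) (len := 95) h282 m2_282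
  have h284 : ∀ u < 26980, (fun u => chkFix tab mwordsA u) u = true := ext_range (a := 26885) (len := 95) h283 m2_283
  have h285 : ∀ u < 27075, (fun u => chkFix tab mwordsA u) u = true := ext_range (a := 26980) (len := 95) h284 m2_284
  have h286 : ∀ u < 27170, (fun u => chkFix tab mwordsA u) u = true := ext_range (a := 27075) (len := 95) h285 m2_285
  have h287 : ∀ u < 27265, (fun u => chkFix tab mwordsA u) u = true := ext_range (a := 27170) (len := 95) h286 m2_286
  have h288 : ∀ u < 27360, (fun u => chkFix tab mwordsA u) u = true := ext_range (a := 27265) (len := 95) h287 m2_287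
  have h289 : ∀ u < 27455, (fun u => chkFix tab mwordsA u) u = true := ext_range (a := 27360) (len := 95) h288 m2_288
  have h290 : ∀ u < 27550, (fun u => chkFix tab mwordsA u) u = true := ext_range (a := 27455) (len := 95) h289 m2_289
  have h291 : ∀ u < 27645, (fun u => chkFix tab mwordsA u) u = true := ext_range (a := 27550) (len := 95) h290 m2_290
  have h292 : ∀ u < 27740, (fun u => chkFix tab mwordsA u) u = true := ext_range (a := 27645) (len := 95) h291 m2_291
  have h293 : ∀ u < 27835, (fun u => chkFix tab mwordsA u) u = true := ext_range (a := 27740) (len := 95) h292 m2_292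
  have h294 : ∀ u < 27930, (fun u => chkFix tab mwordsA u) u = true := ext_range (a := 27835) (len := 95) h293 m2_293
  have h295 : ∀ u < 28025, (fun u => chkFix tab mwordsA u) u = true := ext_range (a := 27930) (len := 95) h294 m2_294
  have h296 : ∀ u < 28120, (fun u => chkFix tab mwordsA u) u = true := ext_range (a := 28025) (len := 95) h295 m2_295
  have h297 : ∀ u < 28215, (fun u => chkFix tab mwordsA u) u = true := ext_range (a := 28120) (len := 95) h296 m2_296
  have h298 : ∀ u < 28310, (fun u => chkFix tab mwordsA u) u = true := ext_range (a := 28215) (len := 95) h297 m2_297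
  have h299 : ∀ u < 28405, (fun u => chkFix tab mwordsA u) u = true := ext_range (a := 28310) (len := 95) h298 m2_298
  have h300 : ∀ u < 28500, (fun u => chkFix tab mwordsA u) u = true := ext_range (a := 28405) (len := 95) h299 m2_299
  have h301 : ∀ u < 28595, (fun u => chkFix tab mwordsA u) u = true := ext_range (a := 28500) (len := 95) h300 m2_300
  have h302 : ∀ u < 28690, (fun u => chkFix tab mwordsA u) u = true := ext_range (a := 28595) (len := 95) h301 m2_301
  have h303 : ∀ u < 28785, (fun u => chkFix tab mwordsA u) u = true := ext_range (a := 28690) (len := 95) h302 m2_302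
  have h304 : ∀ u < 28880, (fun u => chkFix tab mwordsA u) u = true := ext_range (a := 28785) (len := 95) h303 m2_303
  have h305 : ∀ u < 28975, (fun u => chkFix tab mwordsA u) u = true := ext_range (a := 28880) (len := 95) h304 m2_304
  have h306 : ∀ u < 29070, (fun u => chkFix tab mwordsA u) u = true := ext_range (a := 28975) (len := 95) h305 m2_305
  have h307 : ∀ u < 29165, (fun u => chkFix tab mwordsA u) u = true := ext_range (a := 29070) (len := 95) h306 m2_306
  have h308 : ∀ u < 29260, (fun u => chkFix tab mwordsA u) u = true := ext_range (a := 29165) (len := 95) h307 m2_307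
  have h309 : ∀ u < 29355, (fun u => chkFix tab mwordsA u) u = true := ext_range (a := 29260) (len := 95) h308 m2_308
  have h310 : ∀ u < 29450, (fun u => chkFix tab mwordsA u) u = true := ext_range (a := 29355) (len := 95) h309 m2_309
  have h311 : ∀ u < 29545, (fun u => chkFix tab mwordsA u) u = true := ext_range (a := 29450) (len := 95) h310 m2_310
  have h312 : ∀ u < 29640, (fun u => chkFix tab mwordsA u) u = true := ext_range (a := 29545) (len := 95) h311 m2_311
  have h313 : ∀ u < 29735, (fun u => chkFix tab mwordsA u) u = true := ext_range (a := 29640) (len := 95) h312 m2_312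
  have h314 : ∀ u < 29830, (fun u => chkFix tab mwordsA u) u = true := ext_range (a := 29735) (len := 95) h313 m2_313
  have h315 : ∀ u < 29925, (fun u => chkFix tab mwordsA u) u = true := ext_range (a := 29830) (len := 95) h314 m2_314
  have h316 : ∀ u < 30020, (fun u => chkFix tab mwordsA u) u = true := ext_range (a := 29925) (len := 95) h315 m2_315
  have h317 : ∀ u < 30115, (fun u => chkFix tab mwordsA u) u = true := ext_range (a := 30020) (len := 95) h316 m2_316
  have h318 : ∀ u < 30210, (fun u => chkFix tab mwordsA u) u = true := ext_range (a := 30115) (len := 95) h317 m2_317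
  have h319 : ∀ u < 30305, (fun u => chkFix tab mwordsA u) u = true := ext_range (a := 30210) (len := 95) h318 m2_318
  have h320 : ∀ u < 30400, (fun u => chkFix tab mwordsA u) u = true := ext_range (a := 30305) (len := 95) h319 m2_319
  have h321 : ∀ u < 30495, (fun u => chkFix tab mwordsA u) u = true := ext_range (a := 30400) (len := 95) h320 m2_320
  have h322 : ∀ u < 30590, (fun u => chkFix tab mwordsA u) u = true := ext_range (a := 30495) (len := 95) h321 m2_321
  have h323 : ∀ u < 30685, (fun u => chkFix tab mwordsA u) u = true := ext_range (a := 30590) (len := 95) h322 m2_322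
  have h324 : ∀ u < 30780, (fun u => chkFix tab mwordsA u) u = true := ext_range (a := 30685) (len := 95) h323 m2_323
  have h325 : ∀ u < 30875, (fun u => chkFix tab mwordsA u) u = true := ext_range (a := 30780) (len := 95) h324 m2_324
  have h326 : ∀ u < 30970, (fun u => chkFix tab mwordsA u) u = true := ext_range (a := 30875) (len := 95) h325 m2_325
  have h327 : ∀ u < 31065, (fun u => chkFix tab mwordsA u) u = true := ext_range (a := 30970) (len := 95) h326 m2_326
  have h328 : ∀ u < 31160, (fun u => chkFix tab mwordsA u) u = true := ext_range (a := 31065) (len := 95) h327 m2_327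
  have h329 : ∀ u < 31255, (fun u => chkFix tab mwordsA u) u = true := ext_range (a := 31160) (len := 95) h328 m2_328
  have h330 : ∀ u < 31350, (fun u => chkFix tab mwordsA u) u = true := ext_range (a := 31255) (len := 95) h329 m2_329
  have h331 : ∀ u < 31445, (fun u => chkFix tab mwordsA u) u = true := ext_range (a := 31350) (len := 95) h330 m2_330
  have h332 : ∀ u < 31540, (fun u => chkFix tab mwordsA u) u = true := ext_range (a := 31445) (len := 95) h331 m2_331
  have h333 : ∀ u < 31635, (fun u => chkFix tab mwordsA u) u = true := ext_range (a := 31540) (len := 95) h332 m2_332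
  have h334 : ∀ u < 31730, (fun u => chkFix tab mwordsA u) u = true := ext_range (a := 31635) (len := 95) h333 m2_333
  have h335 : ∀ u < 31825, (fun u => chkFix tab mwordsA u) u = true := ext_range (a := 31730) (len := 95) h334 m2_334
  have h336 : ∀ u < 31920, (fun u => chkFix tab mwordsA u) u = true := ext_range (a := 31825) (len := 95) h335 m2_335
  have h337 : ∀ u < 32015, (fun u => chkFix tab mwordsA u) u = true := ext_range (a := 31920) (len := 95) h336 m2_336
  have h338 : ∀ u < 32110, (fun u => chkFix tab mwordsA u) u = true := ext_range (a := 32015) (len := 95) h337 m2_337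
  have h339 : ∀ u < 32205, (fun u => chkFix tab mwordsA u) u = true := ext_range (a := 32110) (len := 95) h338 m2_338
  have h340 : ∀ u < 32300, (fun u => chkFix tab mwordsA u) u = true := ext_range (a := 32205) (len := 95) h339 m2_339
  have h341 : ∀ u < 32395, (fun u => chkFix tab mwordsA u) u = true := ext_range (a := 32300) (len := 95) h340 m2_340
  have h342 : ∀ u < 32490, (fun u => chkFix tab mwordsA u) u = true := ext_range (a := 32395) (len := 95) h341 m2_341
  have h343 : ∀ u < 32585, (fun u => chkFix tab mwordsA u) u = true := ext_range (a := 32490) (len := 95) h342 m2_342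
  have h344 : ∀ u < 32680, (fun u => chkFix tab mwordsA u) u = true := ext_range (a := 32585) (len := 95) h343 m2_343
  have h345 : ∀ u < 32775, (fun u => chkFix tab mwordsA u) u = true := ext_range (a := 32680) (len := 95) h344 m2_344
  have h346 : ∀ u < 32870, (fun u => chkFix tab mwordsA u) u = true := ext_range (a := 32775) (len := 95) h345 m2_345
  have h347 : ∀ u < 32965, (fun u => chkFix tab mwordsA u) u = true := ext_range (a := 32870) (len := 95) h346 m2_346
  have h348 : ∀ u < 33060, (fun u => chkFix tab mwordsA u) u = true := ext_range (a := 32965) (len := 95) h347 m2_347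
  have h349 : ∀ u < 33155, (fun u => chkFix tab mwordsA u) u = true := ext_range (a := 33060) (len := 95) h348 m2_348
  have h350 : ∀ u < 33250, (fun u => chkFix tab mwordsA u) u = true := ext_range (a := 33155) (len := 95) h349 m2_349
  have h351 : ∀ u < 33345, (fun u => chkFix tab mwordsA u) u = true := ext_range (a := 33250) (len := 95) h350 m2_350
  have h352 : ∀ u < 33440, (fun u => chkFix tab mwordsA u) u = true := ext_range (a := 33345) (len := 95) h351 m2_351
  have h353 : ∀ u < 33535, (fun u => chkFix tab mwordsA u) u = true := ext_range (a := 33440) (len := 95) h352 m2_352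
  have h354 : ∀ u < 33630, (fun u => chkFix tab mwordsA u) u = true := ext_range (a := 33535) (len := 95) h353 m2_353
  have h355 : ∀ u < 33725, (fun u => chkFix tab mwordsA u) u = true := ext_range (a := 33630) (len := 95) h354 m2_354
  have h356 : ∀ u < 33820, (fun u => chkFix tab mwordsA u) u = true := ext_range (a := 33725) (len := 95) h355 m2_355
  have h357 : ∀ u < 33915, (fun u => chkFix tab mwordsA u) u = true := ext_range (a := 33820) (len := 95) h356 m2_356
  have h358 : ∀ u < 34010, (fun u => chkFix tab mwordsA u) u = true := ext_range (a := 33915) (len := 95) h357 m2_357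
  have h359 : ∀ u < 34105, (fun u => chkFix tab mwordsA u) u = true := ext_range (a := 34010) (len := 95) h358 m2_358
  have h360 : ∀ u < 34200, (fun u => chkFix tab mwordsA u) u = true := ext_range (a := 34105) (len := 95) h359 m2_359
  have h361 : ∀ u < 34295, (fun u => chkFix tab mwordsA u) u = true := ext_range (a := 34200) (len := 95) h360 m2_360
  have h362 : ∀ u < 34390, (fun u => chkFix tab mwordsA u) u = true := ext_range (a := 34295) (len := 95) h361 m2_361
  have h363 : ∀ u < 34485, (fun u => chkFix tab mwordsA u) u = true := ext_range (a := 34390) (len := 95) h362 m2_362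
  have h364 : ∀ u < 34580, (fun u => chkFix tab mwordsA u) u = true := ext_range (a := 34485) (len := 95) h363 m2_363
  have h365 : ∀ u < 34675, (fun u => chkFix tab mwordsA u) u = true := ext_range (a := 34580) (len := 95) h364 m2_364
  have h366 : ∀ u < 34770, (fun u => chkFix tab mwordsA u) u = true := ext_range (a := 34675) (len := 95) h365 m2_365
  have h367 : ∀ u < 34865, (fun u => chkFix tab mwordsA u) u = true := ext_range (a := 34770) (len := 95) h366 m2_366
  have h368 : ∀ u < 34960, (fun u => chkFix tab mwordsA u) u = true := ext_range (a := 34865) (len := 95) h367 m2_367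
  have h369 : ∀ u < 35055, (fun u => chkFix tab mwordsA u) u = true := ext_range (a := 34960) (len := 95) h368 m2_368
  have h370 : ∀ u < 35150, (fun u => chkFix tab mwordsA u) u = true := ext_range (a := 35055) (len := 95) h369 m2_369
  have h371 : ∀ u < 35245, (fun u => chkFix tab mwordsA u) u = true := ext_range (a := 35150) (len := 95) h370 m2_370
  have h372 : ∀ u < 35340, (fun u => chkFix tab mwordsA u) u = true := ext_range (a := 35245) (len := 95) h371 m2_371
  have h373 : ∀ u < 35435, (fun u => chkFix tab mwordsA u) u = true := ext_range (a := 35340) (len := 95) h372 m2_372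
  have h374 : ∀ u < 35530, (fun u => chkFix tab mwordsA u) u = true := ext_range (a := 35435) (len := 95) h373 m2_373
  have h375 : ∀ u < 35625, (fun u => chkFix tab mwordsA u) u = true := ext_range (a := 35530) (len := 95) h374 m2_374
  have h376 : ∀ u < 35720, (fun u => chkFix tab mwordsA u) u = true := ext_range (a := 35625) (len := 95) h375 m2_375
  have h377 : ∀ u < 35815, (fun u => chkFix tab mwordsA u) u = true := ext_range (a := 35720) (len := 95) h376 m2_376
  have h378 : ∀ u < 35910, (fun u => chkFix tab mwordsA u) u = true := ext_range (a := 35815) (len := 95) h377 m2_377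
  have h379 : ∀ u < 36005, (fun u => chkFix tab mwordsA u) u = true := ext_range (a := 35910) (len := 95) h378 m2_378
  have h380 : ∀ u < 36100, (fun u => chkFix tab mwordsA u) u = true := ext_range (a := 36005) (len := 95) h379 m2_379
  have h381 : ∀ u < 36195, (fun u => chkFix tab mwordsA u) u = true := ext_range (a := 36100) (len := 95) h380 m2_380
  have h382 : ∀ u < 36290, (fun u => chkFix tab mwordsA u) u = true := ext_range (a := 36195) (len := 95) h381 m2_381
  have h383 : ∀ u < 36385, (fun u => chkFix tab mwordsA u) u = true := ext_range (a := 36290) (len := 95) h382 m2_382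
  have h384 : ∀ u < 36480, (fun u => chkFix tab mwordsA u) u = true := ext_range (a := 36385) (len := 95) h383 m2_383
  have h385 : ∀ u < 36575, (fun u => chkFix tab mwordsA u) u = true := ext_range (a := 36480) (len := 95) h384 m2_384
  have h386 : ∀ u < 36670, (fun u => chkFix tab mwordsA u) u = true := ext_range (a := 36575) (len := 95) h385 m2_385
  have h387 : ∀ u < 36765, (fun u => chkFix tab mwordsA u) u = true := ext_range (a := 36670) (len := 95) h386 m2_386
  have h388 : ∀ u < 36860, (fun u => chkFix tab mwordsA u) u = true := ext_range (a := 36765) (len := 95) h387 m2_387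
  have h389 : ∀ u < 36955, (fun u => chkFix tab mwordsA u) u = true := ext_range (a := 36860) (len := 95) h388 m2_388
  have h390 : ∀ u < 37050, (fun u => chkFix tab mwordsA u) u = true := ext_range (a := 36955) (len := 95) h389 m2_389
  have h391 : ∀ u < 37145, (fun u => chkFix tab mwordsA u) u = true := ext_range (a := 37050) (len := 95) h390 m2_390
  have h392 : ∀ u < 37240, (fun u => chkFix tab mwordsA u) u = true := ext_range (a := 37145) (len := 95) h391 m2_391
  have h393 : ∀ u < 37335, (fun u => chkFix tab mwordsA u) u = true := ext_range (a := 37240) (len := 95) h392 m2_392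
  have h394 : ∀ u < 37430, (fun u => chkFix tab mwordsA u) u = true := ext_range (a := 37335) (len := 95) h393 m2_393
  have h395 : ∀ u < 37525, (fun u => chkFix tab mwordsA u) u = true := ext_range (a := 37430) (len := 95) h394 m2_394
  have h396 : ∀ u < 37620, (fun u => chkFix tab mwordsA u) u = true := ext_range (a := 37525) (len := 95) h395 m2_395
  have h397 : ∀ u < 37715, (fun u => chkFix tab mwordsA u) u = true := ext_range (a := 37620) (len := 95) h396 m2_396
  have h398 : ∀ u < 37810, (fun u => chkFix tab mwordsA u) u = true := ext_range (a := 37715) (len := 95) h397 m2_397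
  have h399 : ∀ u < 37905, (fun u => chkFix tab mwordsA u) u = true := ext_range (a := 37810) (len := 95) h398 m2_398
  have h400 : ∀ u < 38000, (fun u => chkFix tab mwordsA u) u = true := ext_range (a := 37905) (len := 95) h399 m2_399
  have h401 : ∀ u < 38095, (fun u => chkFix tab mwordsA u) u = true := ext_range (a := 38000) (len := 95) h400 m2_400
  have h402 : ∀ u < 38190, (fun u => chkFix tab mwordsA u) u = true := ext_range (a := 38095) (len := 95) h401 m2_401
  have h403 : ∀ u < 38285, (fun u => chkFix tab mwordsA u) u = true := ext_range (a := 38190) (len := 95) h402 m2_402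
  have h404 : ∀ u < 38380, (fun u => chkFix tab mwordsA u) u = true := ext_range (a := 38285) (len := 95) h403 m2_403
  have h405 : ∀ u < 38475, (fun u => chkFix tab mwordsA u) u = true := ext_range (a := 38380) (len := 95) h404 m2_404
  have h406 : ∀ u < 38570, (fun u => chkFix tab mwordsA u) u = true := ext_range (a := 38475) (len := 95) h405 m2_405
  have h407 : ∀ u < 38665, (fun u => chkFix tab mwordsA u) u = true := ext_range (a := 38570) (len := 95) h406 m2_406
  have h408 : ∀ u < 38760, (fun u => chkFix tab mwordsA u) u = true := ext_range (a := 38665) (len := 95) h407 m2_407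
  have h409 : ∀ u < 38855, (fun u => chkFix tab mwordsA u) u = true := ext_range (a := 38760) (len := 95) h408 m2_408
  have h410 : ∀ u < 38950, (fun u => chkFix tab mwordsA u) u = true := ext_range (a := 38855) (len := 95) h409 m2_409
  have h411 : ∀ u < 39045, (fun u => chkFix tab mwordsA u) u = true := ext_range (a := 38950) (len := 95) h410 m2_410
  have h412 : ∀ u < 39140, (fun u => chkFix tab mwordsA u) u = true := ext_range (a := 39045) (len := 95) h411 m2_411
  have h413 : ∀ u < 39235, (fun u => chkFix tab mwordsA u) u = true := ext_range (a := 39140) (len := 95) h412 m2_412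
  have h414 : ∀ u < 39330, (fun u => chkFix tab mwordsA u) u = true := ext_range (a := 39235) (len := 95) h413 m2_413
  have h415 : ∀ u < 39425, (fun u => chkFix tab mwordsA u) u = true := ext_range (a := 39330) (len := 95) h414 m2_414
  have h416 : ∀ u < 39520, (fun u => chkFix tab mwordsA u) u = true := ext_range (a := 39425) (len := 95) h415 m2_415
  have h417 : ∀ u < 39615, (fun u => chkFix tab mwordsA u) u = true := ext_range (a := 39520) (len := 95) h416 m2_416
  have h418 : ∀ u < 39710, (fun u => chkFix tab mwordsA u) u = true := ext_range (a := 39615) (len := 95) h417 m2_417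
  have h419 : ∀ u < 39805, (fun u => chkFix tab mwordsA u) u = true := ext_range (a := 39710) (len := 95) h418 m2_418
  have h420 : ∀ u < 39900, (fun u => chkFix tab mwordsA u) u = true := ext_range (a := 39805) (len := 95) h419 m2_419
  have h421 : ∀ u < 39995, (fun u => chkFix tab mwordsA u) u = true := ext_range (a := 39900) (len := 95) h420 m2_420
  have h422 : ∀ u < 40090, (fun u => chkFix tab mwordsA u) u = true := ext_range (a := 39995) (len := 95) h421 m2_421
  have h423 : ∀ u < 40185, (fun u => chkFix tab mwordsA u) u = true := ext_range (a := 40090) (len := 95) h422 m2_422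
  have h424 : ∀ u < 40280, (fun u => chkFix tab mwordsA u) u = true := ext_range (a := 40185) (len := 95) h423 m2_423
  have h425 : ∀ u < 40375, (fun u => chkFix tab mwordsA u) u = true := ext_range (a := 40280) (len := 95) h424 m2_424
  have h426 : ∀ u < 40470, (fun u => chkFix tab mwordsA u) u = true := ext_range (a := 40375) (len := 95) h425 m2_425
  have h427 : ∀ u < 40565, (fun u => chkFix tab mwordsA u) u = true := ext_range (a := 40470) (len := 95) h426 m2_426
  have h428 : ∀ u < 40660, (fun u => chkFix tab mwordsA u) u = true := ext_range (a := 40565) (len := 95) h427 m2_427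
  have h429 : ∀ u < 40755, (fun u => chkFix tab mwordsA u) u = true := ext_range (a := 40660) (len := 95) h428 m2_428
  have h430 : ∀ u < 40850, (fun u => chkFix tab mwordsA u) u = true := ext_range (a := 40755) (len := 95) h429 m2_429
  have h431 : ∀ u < 40945, (fun u => chkFix tab mwordsA u) u = true := ext_range (a := 40850) (len := 95) h430 m2_430
  have h432 : ∀ u < 41040, (fun u => chkFix tab mwordsA u) u = true := ext_range (a := 40945) (len := 95) h431 m2_431
  have h433 : ∀ u < 41135, (fun u => chkFix tab mwordsA u) u = true := ext_range (a := 41040) (len := 95) h432 m2_432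
  have h434 : ∀ u < 41230, (fun u => chkFix tab mwordsA u) u = true := ext_range (a := 41135) (len := 95) h433 m2_433
  have h435 : ∀ u < 41325, (fun u => chkFix tab mwordsA u) u = true := ext_range (a := 41230) (len := 95) h434 m2_434
  have h436 : ∀ u < 41420, (fun u => chkFix tab mwordsA u) u = true := ext_range (a := 41325) (len := 95) h435 m2_435
  have h437 : ∀ u < 41515, (fun u => chkFix tab mwordsA u) u = true := ext_range (a := 41420) (len := 95) h436 m2_436
  have h438 : ∀ u < 41610, (fun u => chkFix tab mwordsA u) u = true := ext_range (a := 41515) (len := 95) h437 m2_437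
  have h439 : ∀ u < 41705, (fun u => chkFix tab mwordsA u) u = true := ext_range (a := 41610) (len := 95) h438 m2_438
  have h440 : ∀ u < 41800, (fun u => chkFix tab mwordsA u) u = true := ext_range (a := 41705) (len := 95) h439 m2_439
  have h441 : ∀ u < 41895, (fun u => chkFix tab mwordsA u) u = true := ext_range (a := 41800) (len := 95) h440 m2_440
  have h442 : ∀ u < 41990, (fun u => chkFix tab mwordsA u) u = true := ext_range (a := 41895) (len := 95) h441 m2_441
  have h443 : ∀ u < 42085, (fun u => chkFix tab mwordsA u) u = true := ext_range (a := 41990) (len := 95) h442 m2_442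
  have h444 : ∀ u < 42180, (fun u => chkFix tab mwordsA u) u = true := ext_range (a := 42085) (len := 95) h443 m2_443
  have h445 : ∀ u < 42275, (fun u => chkFix tab mwordsA u) u = true := ext_range (a := 42180) (len := 95) h444 m2_444
  have h446 : ∀ u < 42370, (fun u => chkFix tab mwordsA u) u = true := ext_range (a := 42275) (len := 95) h445 m2_445
  have h447 : ∀ u < 42465, (fun u => chkFix tab mwordsA u) u = true := ext_range (a := 42370) (len := 95) h446 m2_446
  have h448 : ∀ u < 42560, (fun u => chkFix tab mwordsA u) u = true := ext_range (a := 42465) (len := 95) h447 m2_447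
  have h449 : ∀ u < 42655, (fun u => chkFix tab mwordsA u) u = true := ext_range (a := 42560) (len := 95) h448 m2_448
  have h450 : ∀ u < 42750, (fun u => chkFix tab mwordsA u) u = true := ext_range (a := 42655) (len := 95) h449 m2_449
  have h451 : ∀ u < 42845, (fun u => chkFix tab mwordsA u) u = true := ext_range (a := 42750) (len := 95) h450 m2_450
  have h452 : ∀ u < 42940, (fun u => chkFix tab mwordsA u) u = true := ext_range (a := 42845) (len := 95) h451 m2_451
  have h453 : ∀ u < 43035, (fun u => chkFix tab mwordsA u) u = true := ext_range (a := 42940) (len := 95) h452 m2_452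
  have h454 : ∀ u < 43130, (fun u => chkFix tab mwordsA u) u = true := ext_range (a := 43035) (len := 95) h453 m2_453
  have h455 : ∀ u < 43225, (fun u => chkFix tab mwordsA u) u = true := ext_range (a := 43130) (len := 95) h454 m2_454
  have h456 : ∀ u < 43320, (fun u => chkFix tab mwordsA u) u = true := ext_range (a := 43225) (len := 95) h455 m2_455
  have h457 : ∀ u < 43415, (fun u => chkFix tab mwordsA u) u = true := ext_range (a := 43320) (len := 95) h456 m2_456
  have h458 : ∀ u < 43510, (fun u => chkFix tab mwordsA u) u = true := ext_range (a := 43415) (len := 95) h457 m2_457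
  have h459 : ∀ u < 43605, (fun u => chkFix tab mwordsA u) u = true := ext_range (a := 43510) (len := 95) h458 m2_458
  have h460 : ∀ u < 43700, (fun u => chkFix tab mwordsA u) u = true := ext_range (a := 43605) (len := 95) h459 m2_459
  have h461 : ∀ u < 43795, (fun u => chkFix tab mwordsA u) u = true := ext_range (a := 43700) (len := 95) h460 m2_460
  have h462 : ∀ u < 43890, (fun u => chkFix tab mwordsA u) u = true := ext_range (a := 43795) (len := 95) h461 m2_461
  have h463 : ∀ u < 43985, (fun u => chkFix tab mwordsA u) u = true := ext_range (a := 43890) (len := 95) h462 m2_462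
  have h464 : ∀ u < 44080, (fun u => chkFix tab mwordsA u) u = true := ext_range (a := 43985) (len := 95) h463 m2_463
  have h465 : ∀ u < 44175, (fun u => chkFix tab mwordsA u) u = true := ext_range (a := 44080) (len := 95) h464 m2_464
  have h466 : ∀ u < 44270, (fun u => chkFix tab mwordsA u) u = true := ext_range (a := 44175) (len := 95) h465 m2_465
  have h467 : ∀ u < 44365, (fun u => chkFix tab mwordsA u) u = true := ext_range (a := 44270) (len := 95) h466 m2_466
  have h468 : ∀ u < 44460, (fun u => chkFix tab mwordsA u) u = true := ext_range (a := 44365) (len := 95) h467 m2_467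
  have h469 : ∀ u < 44555, (fun u => chkFix tab mwordsA u) u = true := ext_range (a := 44460) (len := 95) h468 m2_468
  have h470 : ∀ u < 44650, (fun u => chkFix tab mwordsA u) u = true := ext_range (a := 44555) (len := 95) h469 m2_469
  have h471 : ∀ u < 44745, (fun u => chkFix tab mwordsA u) u = true := ext_range (a := 44650) (len := 95) h470 m2_470
  have h472 : ∀ u < 44840, (fun u => chkFix tab mwordsA u) u = true := ext_range (a := 44745) (len := 95) h471 m2_471
  have h473 : ∀ u < 44935, (fun u => chkFix tab mwordsA u) u = true := ext_range (a := 44840) (len := 95) h472 m2_472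
  have h474 : ∀ u < 45030, (fun u => chkFix tab mwordsA u) u = true := ext_range (a := 44935) (len := 95) h473 m2_473
  have h475 : ∀ u < 45125, (fun u => chkFix tab mwordsA u) u = true := ext_range (a := 45030) (len := 95) h474 m2_474
  have h476 : ∀ u < 45220, (fun u => chkFix tab mwordsA u) u = true := ext_range (a := 45125) (len := 95) h475 m2_475
  have h477 : ∀ u < 45315, (fun u => chkFix tab mwordsA u) u = true := ext_range (a := 45220) (len := 95) h476 m2_476
  have h478 : ∀ u < 45410, (fun u => chkFix tab mwordsA u) u = true := ext_range (a := 45315) (len := 95) h477 m2_477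
  have h479 : ∀ u < 45505, (fun u => chkFix tab mwordsA u) u = true := ext_range (a := 45410) (len := 95) h478 m2_478
  have h480 : ∀ u < 45600, (fun u => chkFix tab mwordsA u) u = true := ext_range (a := 45505) (len := 95) h479 m2_479
  have h481 : ∀ u < 45695, (fun u => chkFix tab mwordsA u) u = true := ext_range (a := 45600) (len := 95) h480 m2_480
  have h482 : ∀ u < 45790, (fun u => chkFix tab mwordsA u) u = true := ext_range (a := 45695) (len := 95) h481 m2_481
  have h483 : ∀ u < 45885, (fun u => chkFix tab mwordsA u) u = true := ext_range (a := 45790) (len := 95) h482 m2_482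
  have h484 : ∀ u < 45980, (fun u => chkFix tab mwordsA u) u = true := ext_range (a := 45885) (len := 95) h483 m2_483
  have h485 : ∀ u < 46075, (fun u => chkFix tab mwordsA u) u = true := ext_range (a := 45980) (len := 95) h484 m2_484
  have h486 : ∀ u < 46170, (fun u => chkFix tab mwordsA u) u = true := ext_range (a := 46075) (len := 95) h485 m2_485
  have h487 : ∀ u < 46265, (fun u => chkFix tab mwordsA u) u = true := ext_range (a := 46170) (len := 95) h486 m2_486
  have h488 : ∀ u < 46360, (fun u => chkFix tab mwordsA u) u = true := ext_range (a := 46265) (len := 95) h487 m2_487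
  have h489 : ∀ u < 46455, (fun u => chkFix tab mwordsA u) u = true := ext_range (a := 46360) (len := 95) h488 m2_488
  have h490 : ∀ u < 46550, (fun u => chkFix tab mwordsA u) u = true := ext_range (a := 46455) (len := 95) h489 m2_489
  have h491 : ∀ u < 46645, (fun u => chkFix tab mwordsA u) u = true := ext_range (a := 46550) (len := 95) h490 m2_490
  have h492 : ∀ u < 46740, (fun u => chkFix tab mwordsA u) u = true := ext_range (a := 46645) (len := 95) h491 m2_491
  have h493 : ∀ u < 46835, (fun u => chkFix tab mwordsA u) u = true := ext_range (a := 46740) (len := 95) h492 m2_492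
  have h494 : ∀ u < 46930, (fun u => chkFix tab mwordsA u) u = true := ext_range (a := 46835) (len := 95) h493 m2_493
  have h495 : ∀ u < 47025, (fun u => chkFix tab mwordsA u) u = true := ext_range (a := 46930) (len := 95) h494 m2_494
  have h496 : ∀ u < 47120, (fun u => chkFix tab mwordsA u) u = true := ext_range (a := 47025) (len := 95) h495 m2_495
  have h497 : ∀ u < 47215, (fun u => chkFix tab mwordsA u) u = true := ext_range (a := 47120) (len := 95) h496 m2_496
  have h498 : ∀ u < 47310, (fun u => chkFix tab mwordsA u) u = true := ext_range (a := 47215) (len := 95) h497 m2_497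
  have h499 : ∀ u < 47405, (fun u => chkFix tab mwordsA u) u = true := ext_range (a := 47310) (len := 95) h498 m2_498
  have h500 : ∀ u < 47500, (fun u => chkFix tab mwordsA u) u = true := ext_range (a := 47405) (len := 95) h499 m2_499
  have h501 : ∀ u < 47595, (fun u => chkFix tab mwordsA u) u = true := ext_range (a := 47500) (len := 95) h500 m2_500
  have h502 : ∀ u < 47690, (fun u => chkFix tab mwordsA u) u = true := ext_range (a := 47595) (len := 95) h501 m2_501
  have h503 : ∀ u < 47785, (fun u => chkFix tab mwordsA u) u = true := ext_range (a := 47690) (len := 95) h502 m2_502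
  have h504 : ∀ u < 47880, (fun u => chkFix tab mwordsA u) u = true := ext_range (a := 47785) (len := 95) h503 m2_503
  have h505 : ∀ u < 47975, (fun u => chkFix tab mwordsA u) u = true := ext_range (a := 47880) (len := 95) h504 m2_504
  have h506 : ∀ u < 48070, (fun u => chkFix tab mwordsA u) u = true := ext_range (a := 47975) (len := 95) h505 m2_505
  have h507 : ∀ u < 48165, (fun u => chkFix tab mwordsA u) u = true := ext_range (a := 48070) (len := 95) h506 m2_506
  have h508 : ∀ u < 48260, (fun u => chkFix tab mwordsA u) u = true := ext_range (a := 48165) (len := 95) h507 m2_507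
  have h509 : ∀ u < 48355, (fun u => chkFix tab mwordsA u) u = true := ext_range (a := 48260) (len := 95) h508 m2_508
  have h510 : ∀ u < 48450, (fun u => chkFix tab mwordsA u) u = true := ext_range (a := 48355) (len := 95) h509 m2_509
  have h511 : ∀ u < 48545, (fun u => chkFix tab mwordsA u) u = true := ext_range (a := 48450) (len := 95) h510 m2_510
  have h512 : ∀ u < 48640, (fun u => chkFix tab mwordsA u) u = true := ext_range (a := 48545) (len := 95) h511 m2_511
  have h513 : ∀ u < 48735, (fun u => chkFix tab mwordsA u) u = true := ext_range (a := 48640) (len := 95) h512 m2_512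
  have h514 : ∀ u < 48830, (fun u => chkFix tab mwordsA u) u = true := ext_range (a := 48735) (len := 95) h513 m2_513
  have h515 : ∀ u < 48925, (fun u => chkFix tab mwordsA u) u = true := ext_range (a := 48830) (len := 95) h514 m2_514
  have h516 : ∀ u < 49020, (fun u => chkFix tab mwordsA u) u = true := ext_range (a := 48925) (len := 95) h515 m2_515
  have h517 : ∀ u < 49115, (fun u => chkFix tab mwordsA u) u = true := ext_range (a := 49020) (len := 95) h516 m2_516
  have h518 : ∀ u < 49210, (fun u => chkFix tab mwordsA u) u = true := ext_range (a := 49115) (len := 95) h517 m2_517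
  have h519 : ∀ u < 49305, (fun u => chkFix tab mwordsA u) u = true := ext_range (a := 49210) (len := 95) h518 m2_518
  have h520 : ∀ u < 49400, (fun u => chkFix tab mwordsA u) u = true := ext_range (a := 49305) (len := 95) h519 m2_519
  have h521 : ∀ u < 49495, (fun u => chkFix tab mwordsA u) u = true := ext_range (a := 49400) (len := 95) h520 m2_520
  have h522 : ∀ u < 49590, (fun u => chkFix tab mwordsA u) u = true := ext_range (a := 49495) (len := 95) h521 m2_521
  have h523 : ∀ u < 49685, (fun u => chkFix tab mwordsA u) u = true := ext_range (a := 49590) (len := 95) h522 m2_522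
  have h524 : ∀ u < 49780, (fun u => chkFix tab mwordsA u) u = true := ext_range (a := 49685) (len := 95) h523 m2_523
  have h525 : ∀ u < 49875, (fun u => chkFix tab mwordsA u) u = true := ext_range (a := 49780) (len := 95) h524 m2_524
  have h526 : ∀ u < 49970, (fun u => chkFix tab mwordsA u) u = true := ext_range (a := 49875) (len := 95) h525 m2_525
  have h527 : ∀ u < 50065, (fun u => chkFix tab mwordsA u) u = true := ext_range (a := 49970) (len := 95) h526 m2_526
  have h528 : ∀ u < 50160, (fun u => chkFix tab mwordsA u) u = true := ext_range (a := 50065) (len := 95) h527 m2_527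
  have h529 : ∀ u < 50255, (fun u => chkFix tab mwordsA u) u = true := ext_range (a := 50160) (len := 95) h528 m2_528
  have h530 : ∀ u < 50350, (fun u => chkFix tab mwordsA u) u = true := ext_range (a := 50255) (len := 95) h529 m2_529
  have h531 : ∀ u < 50445, (fun u => chkFix tab mwordsA u) u = true := ext_range (a := 50350) (len := 95) h530 m2_530
  have h532 : ∀ u < 50540, (fun u => chkFix tab mwordsA u) u = true := ext_range (a := 50445) (len := 95) h531 m2_531
  have h533 : ∀ u < 50635, (fun u => chkFix tab mwordsA u) u = true := ext_range (a := 50540) (len := 95) h532 m2_532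
  have h534 : ∀ u < 50730, (fun u => chkFix tab mwordsA u) u = true := ext_range (a := 50635) (len := 95) h533 m2_533
  have h535 : ∀ u < 50825, (fun u => chkFix tab mwordsA u) u = true := ext_range (a := 50730) (len := 95) h534 m2_534
  have h536 : ∀ u < 50920, (fun u => chkFix tab mwordsA u) u = true := ext_range (a := 50825) (len := 95) h535 m2_535
  have h537 : ∀ u < 51015, (fun u => chkFix tab mwordsA u) u = true := ext_range (a := 50920) (len := 95) h536 m2_536
  have h538 : ∀ u < 51110, (fun u => chkFix tab mwordsA u) u = true := ext_range (a := 51015) (len := 95) h537 m2_537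
  have h539 : ∀ u < 51205, (fun u => chkFix tab mwordsA u) u = true := ext_range (a := 51110) (len := 95) h538 m2_538
  have h540 : ∀ u < 51300, (fun u => chkFix tab mwordsA u) u = true := ext_range (a := 51205) (len := 95) h539 m2_539
  have h541 : ∀ u < 51395, (fun u => chkFix tab mwordsA u) u = true := ext_range (a := 51300) (len := 95) h540 m2_540
  have h542 : ∀ u < 51490, (fun u => chkFix tab mwordsA u) u = true := ext_range (a := 51395) (len := 95) h541 m2_541
  have h543 : ∀ u < 51585, (fun u => chkFix tab mwordsA u) u = true := ext_range (a := 51490) (len := 95) h542 m2_542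
  have h544 : ∀ u < 51680, (fun u => chkFix tab mwordsA u) u = true := ext_range (a := 51585) (len := 95) h543 m2_543
  have h545 : ∀ u < 51775, (fun u => chkFix tab mwordsA u) u = true := ext_range (a := 51680) (len := 95) h544 m2_544
  have h546 : ∀ u < 51870, (fun u => chkFix tab mwordsA u) u = true := ext_range (a := 51775) (len := 95) h545 m2_545
  have h547 : ∀ u < 51965, (fun u => chkFix tab mwordsA u) u = true := ext_range (a := 51870) (len := 95) h546 m2_546
  have h548 : ∀ u < 52060, (fun u => chkFix tab mwordsA u) u = true := ext_range (a := 51965) (len := 95) h547 m2_547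
  have h549 : ∀ u < 52155, (fun u => chkFix tab mwordsA u) u = true := ext_range (a := 52060) (len := 95) h548 m2_548
  have h550 : ∀ u < 52250, (fun u => chkFix tab mwordsA u) u = true := ext_range (a := 52155) (len := 95) h549 m2_549
  have h551 : ∀ u < 52345, (fun u => chkFix tab mwordsA u) u = true := ext_range (a := 52250) (len := 95) h550 m2_550
  have h552 : ∀ u < 52440, (fun u => chkFix tab mwordsA u) u = true := ext_range (a := 52345) (len := 95) h551 m2_551
  have h553 : ∀ u < 52535, (fun u => chkFix tab mwordsA u) u = true := ext_range (a := 52440) (len := 95) h552 m2_552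
  have h554 : ∀ u < 52630, (fun u => chkFix tab mwordsA u) u = true := ext_range (a := 52535) (len := 95) h553 m2_553
  have h555 : ∀ u < 52725, (fun u => chkFix tab mwordsA u) u = true := ext_range (a := 52630) (len := 95) h554 m2_554
  have h556 : ∀ u < 52820, (fun u => chkFix tab mwordsA u) u = true := ext_range (a := 52725) (len := 95) h555 m2_555
  have h557 : ∀ u < 52915, (fun u => chkFix tab mwordsA u) u = true := ext_range (a := 52820) (len := 95) h556 m2_556
  have h558 : ∀ u < 53010, (fun u => chkFix tab mwordsA u) u = true := ext_range (a := 52915) (len := 95) h557 m2_557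
  have h559 : ∀ u < 53105, (fun u => chkFix tab mwordsA u) u = true := ext_range (a := 53010) (len := 95) h558 m2_558
  have h560 : ∀ u < 53200, (fun u => chkFix tab mwordsA u) u = true := ext_range (a := 53105) (len := 95) h559 m2_559
  have h561 : ∀ u < 53295, (fun u => chkFix tab mwordsA u) u = true := ext_range (a := 53200) (len := 95) h560 m2_560
  have h562 : ∀ u < 53390, (fun u => chkFix tab mwordsA u) u = true := ext_range (a := 53295) (len := 95) h561 m2_561
  have h563 : ∀ u < 53485, (fun u => chkFix tab mwordsA u) u = true := ext_range (a := 53390) (len := 95) h562 m2_562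
  have h564 : ∀ u < 53580, (fun u => chkFix tab mwordsA u) u = true := ext_range (a := 53485) (len := 95) h563 m2_563
  have h565 : ∀ u < 53675, (fun u => chkFix tab mwordsA u) u = true := ext_range (a := 53580) (len := 95) h564 m2_564
  have h566 : ∀ u < 53770, (fun u => chkFix tab mwordsA u) u = true := ext_range (a := 53675) (len := 95) h565 m2_565
  have h567 : ∀ u < 53865, (fun u => chkFix tab mwordsA u) u = true := ext_range (a := 53770) (len := 95) h566 m2_566
  have h568 : ∀ u < 53960, (fun u => chkFix tab mwordsA u) u = true := ext_range (a := 53865) (len := 95) h567 m2_567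
  have h569 : ∀ u < 54055, (fun u => chkFix tab mwordsA u) u = true := ext_range (a := 53960) (len := 95) h568 m2_568
  have h570 : ∀ u < 54150, (fun u => chkFix tab mwordsA u) u = true := ext_range (a := 54055) (len := 95) h569 m2_569
  have h571 : ∀ u < 54245, (fun u => chkFix tab mwordsA u) u = true := ext_range (a := 54150) (len := 95) h570 m2_570
  have h572 : ∀ u < 54340, (fun u => chkFix tab mwordsA u) u = true := ext_range (a := 54245) (len := 95) h571 m2_571
  have h573 : ∀ u < 54435, (fun u => chkFix tab mwordsA u) u = true := ext_range (a := 54340) (len := 95) h572 m2_572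
  have h574 : ∀ u < 54530, (fun u => chkFix tab mwordsA u) u = true := ext_range (a := 54435) (len := 95) h573 m2_573
  have h575 : ∀ u < 54625, (fun u => chkFix tab mwordsA u) u = true := ext_range (a := 54530) (len := 95) h574 m2_574
  have h576 : ∀ u < 54720, (fun u => chkFix tab mwordsA u) u = true := ext_range (a := 54625) (len := 95) h575 m2_575
  have h577 : ∀ u < 54815, (fun u => chkFix tab mwordsA u) u = true := ext_range (a := 54720) (len := 95) h576 m2_576
  have h578 : ∀ u < 54910, (fun u => chkFix tab mwordsA u) u = true := ext_range (a := 54815) (len := 95) h577 m2_577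
  have h579 : ∀ u < 55005, (fun u => chkFix tab mwordsA u) u = true := ext_range (a := 54910) (len := 95) h578 m2_578
  have h580 : ∀ u < 55100, (fun u => chkFix tab mwordsA u) u = true := ext_range (a := 55005) (len := 95) h579 m2_579
  have h581 : ∀ u < 55195, (fun u => chkFix tab mwordsA u) u = true := ext_range (a := 55100) (len := 95) h580 m2_580
  have h582 : ∀ u < 55290, (fun u => chkFix tab mwordsA u) u = true := ext_range (a := 55195) (len := 95) h581 m2_581
  have h583 : ∀ u < 55385, (fun u => chkFix tab mwordsA u) u = true := ext_range (a := 55290) (len := 95) h582 m2_582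
  have h584 : ∀ u < 55480, (fun u => chkFix tab mwordsA u) u = true := ext_range (a := 55385) (len := 95) h583 m2_583
  have h585 : ∀ u < 55575, (fun u => chkFix tab mwordsA u) u = true := ext_range (a := 55480) (len := 95) h584 m2_584
  have h586 : ∀ u < 55670, (fun u => chkFix tab mwordsA u) u = true := ext_range (a := 55575) (len := 95) h585 m2_585
  have h587 : ∀ u < 55765, (fun u => chkFix tab mwordsA u) u = true := ext_range (a := 55670) (len := 95) h586 m2_586
  have h588 : ∀ u < 55860, (fun u => chkFix tab mwordsA u) u = true := ext_range (a := 55765) (len := 95) h587 m2_587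
  have h589 : ∀ u < 55955, (fun u => chkFix tab mwordsA u) u = true := ext_range (a := 55860) (len := 95) h588 m2_588
  have h590 : ∀ u < 56050, (fun u => chkFix tab mwordsA u) u = true := ext_range (a := 55955) (len := 95) h589 m2_589
  have h591 : ∀ u < 56145, (fun u => chkFix tab mwordsA u) u = true := ext_range (a := 56050) (len := 95) h590 m2_590
  have h592 : ∀ u < 56240, (fun u => chkFix tab mwordsA u) u = true := ext_range (a := 56145) (len := 95) h591 m2_591
  have h593 : ∀ u < 56335, (fun u => chkFix tab mwordsA u) u = true := ext_range (a := 56240) (len := 95) h592 m2_592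
  have h594 : ∀ u < 56430, (fun u => chkFix tab mwordsA u) u = true := ext_range (a := 56335) (len := 95) h593 m2_593
  have h595 : ∀ u < 56525, (fun u => chkFix tab mwordsA u) u = true := ext_range (a := 56430) (len := 95) h594 m2_594
  have h596 : ∀ u < 56620, (fun u => chkFix tab mwordsA u) u = true := ext_range (a := 56525) (len := 95) h595 m2_595
  have h597 : ∀ u < 56715, (fun u => chkFix tab mwordsA u) u = true := ext_range (a := 56620) (len := 95) h596 m2_596
  have h598 : ∀ u < 56810, (fun u => chkFix tab mwordsA u) u = true := ext_range (a := 56715) (len := 95) h597 m2_597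
  have h599 : ∀ u < 56905, (fun u => chkFix tab mwordsA u) u = true := ext_range (a := 56810) (len := 95) h598 m2_598
  have h600 : ∀ u < 57000, (fun u => chkFix tab mwordsA u) u = true := ext_range (a := 56905) (len := 95) h599 m2_599
  have h601 : ∀ u < 57095, (fun u => chkFix tab mwordsA u) u = true := ext_range (a := 57000) (len := 95) h600 m2_600
  have h602 : ∀ u < 57190, (fun u => chkFix tab mwordsA u) u = true := ext_range (a := 57095) (len := 95) h601 m2_601
  have h603 : ∀ u < 57285, (fun u => chkFix tab mwordsA u) u = true := ext_range (a := 57190) (len := 95) h602 m2_602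
  have h604 : ∀ u < 57380, (fun u => chkFix tab mwordsA u) u = true := ext_range (a := 57285) (len := 95) h603 m2_603
  have h605 : ∀ u < 57475, (fun u => chkFix tab mwordsA u) u = true := ext_range (a := 57380) (len := 95) h604 m2_604
  have h606 : ∀ u < 57570, (fun u => chkFix tab mwordsA u) u = true := ext_range (a := 57475) (len := 95) h605 m2_605
  have h607 : ∀ u < 57665, (fun u => chkFix tab mwordsA u) u = true := ext_range (a := 57570) (len := 95) h606 m2_606
  have h608 : ∀ u < 57760, (fun u => chkFix tab mwordsA u) u = true := ext_range (a := 57665) (len := 95) h607 m2_607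
  have h609 : ∀ u < 57855, (fun u => chkFix tab mwordsA u) u = true := ext_range (a := 57760) (len := 95) h608 m2_608
  have h610 : ∀ u < 57950, (fun u => chkFix tab mwordsA u) u = true := ext_range (a := 57855) (len := 95) h609 m2_609
  have h611 : ∀ u < 58045, (fun u => chkFix tab mwordsA u) u = true := ext_range (a := 57950) (len := 95) h610 m2_610
  have h612 : ∀ u < 58140, (fun u => chkFix tab mwordsA u) u = true := ext_range (a := 58045) (len := 95) h611 m2_611
  have h613 : ∀ u < 58235, (fun u => chkFix tab mwordsA u) u = true := ext_range (a := 58140) (len := 95) h612 m2_612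
  have h614 : ∀ u < 58330, (fun u => chkFix tab mwordsA u) u = true := ext_range (a := 58235) (len := 95) h613 m2_613
  have h615 : ∀ u < 58425, (fun u => chkFix tab mwordsA u) u = true := ext_range (a := 58330) (len := 95) h614 m2_614
  have h616 : ∀ u < 58520, (fun u => chkFix tab mwordsA u) u = true := ext_range (a := 58425) (len := 95) h615 m2_615
  have h617 : ∀ u < 58615, (fun u => chkFix tab mwordsA u) u = true := ext_range (a := 58520) (len := 95) h616 m2_616
  have h618 : ∀ u < 58710, (fun u => chkFix tab mwordsA u) u = true := ext_range (a := 58615) (len := 95) h617 m2_617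
  have h619 : ∀ u < 58805, (fun u => chkFix tab mwordsA u) u = true := ext_range (a := 58710) (len := 95) h618 m2_618
  have h620 : ∀ u < 58900, (fun u => chkFix tab mwordsA u) u = true := ext_range (a := 58805) (len := 95) h619 m2_619
  have h621 : ∀ u < 58995, (fun u => chkFix tab mwordsA u) u = true := ext_range (a := 58900) (len := 95) h620 m2_620
  have h622 : ∀ u < 59090, (fun u => chkFix tab mwordsA u) u = true := ext_range (a := 58995) (len := 95) h621 m2_621
  have h623 : ∀ u < 59185, (fun u => chkFix tab mwordsA u) u = true := ext_range (a := 59090) (len := 95) h622 m2_622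
  have h624 : ∀ u < 59280, (fun u => chkFix tab mwordsA u) u = true := ext_range (a := 59185) (len := 95) h623 m2_623
  have h625 : ∀ u < 59375, (fun u => chkFix tab mwordsA u) u = true := ext_range (a := 59280) (len := 95) h624 m2_624
  have h626 : ∀ u < 59470, (fun u => chkFix tab mwordsA u) u = true := ext_range (a := 59375) (len := 95) h625 m2_625
  have h627 : ∀ u < 59565, (fun u => chkFix tab mwordsA u) u = true := ext_range (a := 59470) (len := 95) h626 m2_626
  have h628 : ∀ u < 59660, (fun u => chkFix tab mwordsA u) u = true := ext_range (a := 59565) (len := 95) h627 m2_627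
  have h629 : ∀ u < 59755, (fun u => chkFix tab mwordsA u) u = true := ext_range (a := 59660) (len := 95) h628 m2_628
  have h630 : ∀ u < 59850, (fun u => chkFix tab mwordsA u) u = true := ext_range (a := 59755) (len := 95) h629 m2_629
  have h631 : ∀ u < 59945, (fun u => chkFix tab mwordsA u) u = true := ext_range (a := 59850) (len := 95) h630 m2_630
  have h632 : ∀ u < 60040, (fun u => chkFix tab mwordsA u) u = true := ext_range (a := 59945) (len := 95) h631 m2_631
  have h633 : ∀ u < 60135, (fun u => chkFix tab mwordsA u) u = true := ext_range (a := 60040) (len := 95) h632 m2_632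
  have h634 : ∀ u < 60230, (fun u => chkFix tab mwordsA u) u = true := ext_range (a := 60135) (len := 95) h633 m2_633
  have h635 : ∀ u < 60325, (fun u => chkFix tab mwordsA u) u = true := ext_range (a := 60230) (len := 95) h634 m2_634
  have h636 : ∀ u < 60420, (fun u => chkFix tab mwordsA u) u = true := ext_range (a := 60325) (len := 95) h635 m2_635
  have h637 : ∀ u < 60515, (fun u => chkFix tab mwordsA u) u = true := ext_range (a := 60420) (len := 95) h636 m2_636
  have h638 : ∀ u < 60610, (fun u => chkFix tab mwordsA u) u = true := ext_range (a := 60515) (len := 95) h637 m2_637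
  have h639 : ∀ u < 60705, (fun u => chkFix tab mwordsA u) u = true := ext_range (a := 60610) (len := 95) h638 m2_638
  have h640 : ∀ u < 60800, (fun u => chkFix tab mwordsA u) u = true := ext_range (a := 60705) (len := 95) h639 m2_639
  have h641 : ∀ u < 60895, (fun u => chkFix tab mwordsA u) u = true := ext_range (a := 60800) (len := 95) h640 m2_640
  have h642 : ∀ u < 60990, (fun u => chkFix tab mwordsA u) u = true := ext_range (a := 60895) (len := 95) h641 m2_641
  have h643 : ∀ u < 61085, (fun u => chkFix tab mwordsA u) u = true := ext_range (a := 60990) (len := 95) h642 m2_642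
  have h644 : ∀ u < 61180, (fun u => chkFix tab mwordsA u) u = true := ext_range (a := 61085) (len := 95) h643 m2_643
  have h645 : ∀ u < 61275, (fun u => chkFix tab mwordsA u) u = true := ext_range (a := 61180) (len := 95) h644 m2_644
  have h646 : ∀ u < 61370, (fun u => chkFix tab mwordsA u) u = true := ext_range (a := 61275) (len := 95) h645 m2_645
  have h647 : ∀ u < 61465, (fun u => chkFix tab mwordsA u) u = true := ext_range (a := 61370) (len := 95) h646 m2_646
  have h648 : ∀ u < 61560, (fun u => chkFix tab mwordsA u) u = true := ext_range (a := 61465) (len := 95) h647 m2_647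
  have h649 : ∀ u < 61655, (fun u => chkFix tab mwordsA u) u = true := ext_range (a := 61560) (len := 95) h648 m2_648
  have h650 : ∀ u < 61750, (fun u => chkFix tab mwordsA u) u = true := ext_range (a := 61655) (len := 95) h649 m2_649
  have h651 : ∀ u < 61845, (fun u => chkFix tab mwordsA u) u = true := ext_range (a := 61750) (len := 95) h650 m2_650
  have h652 : ∀ u < 61940, (fun u => chkFix tab mwordsA u) u = true := ext_range (a := 61845) (len := 95) h651 m2_651
  have h653 : ∀ u < 62035, (fun u => chkFix tab mwordsA u) u = true := ext_range (a := 61940) (len := 95) h652 m2_652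
  have h654 : ∀ u < 62130, (fun u => chkFix tab mwordsA u) u = true := ext_range (a := 62035) (len := 95) h653 m2_653
  have h655 : ∀ u < 62225, (fun u => chkFix tab mwordsA u) u = true := ext_range (a := 62130) (len := 95) h654 m2_654
  have h656 : ∀ u < 62320, (fun u => chkFix tab mwordsA u) u = true := ext_range (a := 62225) (len := 95) h655 m2_655
  have h657 : ∀ u < 62415, (fun u => chkFix tab mwordsA u) u = true := ext_range (a := 62320) (len := 95) h656 m2_656
  have h658 : ∀ u < 62510, (fun u => chkFix tab mwordsA u) u = true := ext_range (a := 62415) (len := 95) h657 m2_657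
  have h659 : ∀ u < 62605, (fun u => chkFix tab mwordsA u) u = true := ext_range (a := 62510) (len := 95) h658 m2_658
  have h660 : ∀ u < 62700, (fun u => chkFix tab mwordsA u) u = true := ext_range (a := 62605) (len := 95) h659 m2_659
  have h661 : ∀ u < 62795, (fun u => chkFix tab mwordsA u) u = true := ext_range (a := 62700) (len := 95) h660 m2_660
  have h662 : ∀ u < 62890, (fun u => chkFix tab mwordsA u) u = true := ext_range (a := 62795) (len := 95) h661 m2_661
  have h663 : ∀ u < 62985, (fun u => chkFix tab mwordsA u) u = true := ext_range (a := 62890) (len := 95) h662 m2_662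
  have h664 : ∀ u < 63080, (fun u => chkFix tab mwordsA u) u = true := ext_range (a := 62985) (len := 95) h663 m2_663
  have h665 : ∀ u < 63175, (fun u => chkFix tab mwordsA u) u = true := ext_range (a := 63080) (len := 95) h664 m2_664
  have h666 : ∀ u < 63270, (fun u => chkFix tab mwordsA u) u = true := ext_range (a := 63175) (len := 95) h665 m2_665
  have h667 : ∀ u < 63365, (fun u => chkFix tab mwordsA u) u = true := ext_range (a := 63270) (len := 95) h666 m2_666
  have h668 : ∀ u < 63460, (fun u => chkFix tab mwordsA u) u = true := ext_range (a := 63365) (len := 95) h667 m2_667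
  have h669 : ∀ u < 63555, (fun u => chkFix tab mwordsA u) u = true := ext_range (a := 63460) (len := 95) h668 m2_668
  have h670 : ∀ u < 63650, (fun u => chkFix tab mwordsA u) u = true := ext_range (a := 63555) (len := 95) h669 m2_669
  have h671 : ∀ u < 63745, (fun u => chkFix tab mwordsA u) u = true := ext_range (a := 63650) (len := 95) h670 m2_670
  have h672 : ∀ u < 63840, (fun u => chkFix tab mwordsA u) u = true := ext_range (a := 63745) (len := 95) h671 m2_671
  have h673 : ∀ u < 63935, (fun u => chkFix tab mwordsA u) u = true := ext_range (a := 63840) (len := 95) h672 m2_672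
  have h674 : ∀ u < 64030, (fun u => chkFix tab mwordsA u) u = true := ext_range (a := 63935) (len := 95) h673 m2_673
  have h675 : ∀ u < 64125, (fun u => chkFix tab mwordsA u) u = true := ext_range (a := 64030) (len := 95) h674 m2_674
  have h676 : ∀ u < 64220, (fun u => chkFix tab mwordsA u) u = true := ext_range (a := 64125) (len := 95) h675 m2_675
  have h677 : ∀ u < 64315, (fun u => chkFix tab mwordsA u) u = true := ext_range (a := 64220) (len := 95) h676 m2_676
  have h678 : ∀ u < 64410, (fun u => chkFix tab mwordsA u) u = true := ext_range (a := 64315) (len := 95) h677 m2_677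
  have h679 : ∀ u < 64505, (fun u => chkFix tab mwordsA u) u = true := ext_range (a := 64410) (len := 95) h678 m2_678
  have h680 : ∀ u < 64600, (fun u => chkFix tab mwordsA u) u = true := ext_range (a := 64505) (len := 95) h679 m2_679
  have h681 : ∀ u < 64695, (fun u => chkFix tab mwordsA u) u = true := ext_range (a := 64600) (len := 95) h680 m2_680
  have h682 : ∀ u < 64790, (fun u => chkFix tab mwordsA u) u = true := ext_range (a := 64695) (len := 95) h681 m2_681
  have h683 : ∀ u < 64885, (fun u => chkFix tab mwordsA u) u = true := ext_range (a := 64790) (len := 95) h682 m2_682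
  have h684 : ∀ u < 64980, (fun u => chkFix tab mwordsA u) u = true := ext_range (a := 64885) (len := 95) h683 m2_683
  have h685 : ∀ u < 65075, (fun u => chkFix tab mwordsA u) u = true := ext_range (a := 64980) (len := 95) h684 m2_684
  have h686 : ∀ u < 65170, (fun u => chkFix tab mwordsA u) u = true := ext_range (a := 65075) (len := 95) h685 m2_685
  have h687 : ∀ u < 65265, (fun u => chkFix tab mwordsA u) u = true := ext_range (a := 65170) (len := 95) h686 m2_686
  have h688 : ∀ u < 65360, (fun u => chkFix tab mwordsA u) u = true := ext_range (a := 65265) (len := 95) h687 m2_687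
  have h689 : ∀ u < 65455, (fun u => chkFix tab mwordsA u) u = true := ext_range (a := 65360) (len := 95) h688 m2_688
  have h690 : ∀ u < 65550, (fun u => chkFix tab mwordsA u) u = true := ext_range (a := 65455) (len := 95) h689 m2_689
  have h691 : ∀ u < 65645, (fun u => chkFix tab mwordsA u) u = true := ext_range (a := 65550) (len := 95) h690 m2_690
  have h692 : ∀ u < 65740, (fun u => chkFix tab mwordsA u) u = true := ext_range (a := 65645) (len := 95) h691 m2_691
  have h693 : ∀ u < 65835, (fun u => chkFix tab mwordsA u) u = true := ext_range (a := 65740) (len := 95) h692 m2_692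
  have h694 : ∀ u < 65930, (fun u => chkFix tab mwordsA u) u = true := ext_range (a := 65835) (len := 95) h693 m2_693
  have h695 : ∀ u < 66025, (fun u => chkFix tab mwordsA u) u = true := ext_range (a := 65930) (len := 95) h694 m2_694
  have h696 : ∀ u < 66120, (fun u => chkFix tab mwordsA u) u = true := ext_range (a := 66025) (len := 95) h695 m2_695
  have h697 : ∀ u < 66215, (fun u => chkFix tab mwordsA u) u = true := ext_range (a := 66120) (len := 95) h696 m2_696
  have h698 : ∀ u < 66310, (fun u => chkFix tab mwordsA u) u = true := ext_range (a := 66215) (len := 95) h697 m2_697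
  have h699 : ∀ u < 66405, (fun u => chkFix tab mwordsA u) u = true := ext_range (a := 66310) (len := 95) h698 m2_698
  have h700 : ∀ u < 66500, (fun u => chkFix tab mwordsA u) u = true := ext_range (a := 66405) (len := 95) h699 m2_699
  have h701 : ∀ u < 66595, (fun u => chkFix tab mwordsA u) u = true := ext_range (a := 66500) (len := 95) h700 m2_700
  have h702 : ∀ u < 66690, (fun u => chkFix tab mwordsA u) u = true := ext_range (a := 66595) (len := 95) h701 m2_701
  have h703 : ∀ u < 66785, (fun u => chkFix tab mwordsA u) u = true := ext_range (a := 66690) (len := 95) h702 m2_702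
  have h704 : ∀ u < 66880, (fun u => chkFix tab mwordsA u) u = true := ext_range (a := 66785) (len := 95) h703 m2_703
  have h705 : ∀ u < 66975, (fun u => chkFix tab mwordsA u) u = true := ext_range (a := 66880) (len := 95) h704 m2_704
  have h706 : ∀ u < 67070, (fun u => chkFix tab mwordsA u) u = true := ext_range (a := 66975) (len := 95) h705 m2_705
  have h707 : ∀ u < 67165, (fun u => chkFix tab mwordsA u) u = true := ext_range (a := 67070) (len := 95) h706 m2_706
  have h708 : ∀ u < 67260, (fun u => chkFix tab mwordsA u) u = true := ext_range (a := 67165) (len := 95) h707 m2_707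
  have h709 : ∀ u < 67355, (fun u => chkFix tab mwordsA u) u = true := ext_range (a := 67260) (len := 95) h708 m2_708
  have h710 : ∀ u < 67450, (fun u => chkFix tab mwordsA u) u = true := ext_range (a := 67355) (len := 95) h709 m2_709
  have h711 : ∀ u < 67545, (fun u => chkFix tab mwordsA u) u = true := ext_range (a := 67450) (len := 95) h710 m2_710
  have h712 : ∀ u < 67640, (fun u => chkFix tab mwordsA u) u = true := ext_range (a := 67545) (len := 95) h711 m2_711
  have h713 : ∀ u < 67735, (fun u => chkFix tab mwordsA u) u = true := ext_range (a := 67640) (len := 95) h712 m2_712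
  have h714 : ∀ u < 67830, (fun u => chkFix tab mwordsA u) u = true := ext_range (a := 67735) (len := 95) h713 m2_713
  have h715 : ∀ u < 67925, (fun u => chkFix tab mwordsA u) u = true := ext_range (a := 67830) (len := 95) h714 m2_714
  have h716 : ∀ u < 68020, (fun u => chkFix tab mwordsA u) u = true := ext_range (a := 67925) (len := 95) h715 m2_715
  have h717 : ∀ u < 68115, (fun u => chkFix tab mwordsA u) u = true := ext_range (a := 68020) (len := 95) h716 m2_716
  have h718 : ∀ u < 68210, (fun u => chkFix tab mwordsA u) u = true := ext_range (a := 68115) (len := 95) h717 m2_717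
  have h719 : ∀ u < 68305, (fun u => chkFix tab mwordsA u) u = true := ext_range (a := 68210) (len := 95) h718 m2_718
  have h720 : ∀ u < 68400, (fun u => chkFix tab mwordsA u) u = true := ext_range (a := 68305) (len := 95) h719 m2_719
  have h721 : ∀ u < 68495, (fun u => chkFix tab mwordsA u) u = true := ext_range (a := 68400) (len := 95) h720 m2_720
  have h722 : ∀ u < 68590, (fun u => chkFix tab mwordsA u) u = true := ext_range (a := 68495) (len := 95) h721 m2_721
  have h723 : ∀ u < 68685, (fun u => chkFix tab mwordsA u) u = true := ext_range (a := 68590) (len := 95) h722 m2_722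
  have h724 : ∀ u < 68780, (fun u => chkFix tab mwordsA u) u = true := ext_range (a := 68685) (len := 95) h723 m2_723
  have h725 : ∀ u < 68875, (fun u => chkFix tab mwordsA u) u = true := ext_range (a := 68780) (len := 95) h724 m2_724
  have h726 : ∀ u < 68970, (fun u => chkFix tab mwordsA u) u = true := ext_range (a := 68875) (len := 95) h725 m2_725
  have h727 : ∀ u < 69065, (fun u => chkFix tab mwordsA u) u = true := ext_range (a := 68970) (len := 95) h726 m2_726
  have h728 : ∀ u < 69160, (fun u => chkFix tab mwordsA u) u = true := ext_range (a := 69065) (len := 95) h727 m2_727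
  have h729 : ∀ u < 69255, (fun u => chkFix tab mwordsA u) u = true := ext_range (a := 69160) (len := 95) h728 m2_728
  have h730 : ∀ u < 69350, (fun u => chkFix tab mwordsA u) u = true := ext_range (a := 69255) (len := 95) h729 m2_729
  have h731 : ∀ u < 69445, (fun u => chkFix tab mwordsA u) u = true := ext_range (a := 69350) (len := 95) h730 m2_730
  have h732 : ∀ u < 69540, (fun u => chkFix tab mwordsA u) u = true := ext_range (a := 69445) (len := 95) h731 m2_731
  have h733 : ∀ u < 69635, (fun u => chkFix tab mwordsA u) u = true := ext_range (a := 69540) (len := 95) h732 m2_732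
  have h734 : ∀ u < 69730, (fun u => chkFix tab mwordsA u) u = true := ext_range (a := 69635) (len := 95) h733 m2_733
  have h735 : ∀ u < 69825, (fun u => chkFix tab mwordsA u) u = true := ext_range (a := 69730) (len := 95) h734 m2_734
  have h736 : ∀ u < 69920, (fun u => chkFix tab mwordsA u) u = true := ext_range (a := 69825) (len := 95) h735 m2_735
  have h737 : ∀ u < 70015, (fun u => chkFix tab mwordsA u) u = true := ext_range (a := 69920) (len := 95) h736 m2_736
  have h738 : ∀ u < 70110, (fun u => chkFix tab mwordsA u) u = true := ext_range (a := 70015) (len := 95) h737 m2_737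
  have h739 : ∀ u < 70205, (fun u => chkFix tab mwordsA u) u = true := ext_range (a := 70110) (len := 95) h738 m2_738
  have h740 : ∀ u < 70300, (fun u => chkFix tab mwordsA u) u = true := ext_range (a := 70205) (len := 95) h739 m2_739
  have h741 : ∀ u < 70395, (fun u => chkFix tab mwordsA u) u = true := ext_range (a := 70300) (len := 95) h740 m2_740
  have h742 : ∀ u < 70490, (fun u => chkFix tab mwordsA u) u = true := ext_range (a := 70395) (len := 95) h741 m2_741
  have h743 : ∀ u < 70585, (fun u => chkFix tab mwordsA u) u = true := ext_range (a := 70490) (len := 95) h742 m2_742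
  have h744 : ∀ u < 70680, (fun u => chkFix tab mwordsA u) u = true := ext_range (a := 70585) (len := 95) h743 m2_743
  have h745 : ∀ u < 70775, (fun u => chkFix tab mwordsA u) u = true := ext_range (a := 70680) (len := 95) h744 m2_744
  have h746 : ∀ u < 70870, (fun u => chkFix tab mwordsA u) u = true := ext_range (a := 70775) (len := 95) h745 m2_745
  have h747 : ∀ u < 70965, (fun u => chkFix tab mwordsA u) u = true := ext_range (a := 70870) (len := 95) h746 m2_746
  have h748 : ∀ u < 71060, (fun u => chkFix tab mwordsA u) u = true := ext_range (a := 70965) (len := 95) h747 m2_747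
  have h749 : ∀ u < 71155, (fun u => chkFix tab mwordsA u) u = true := ext_range (a := 71060) (len := 95) h748 m2_748
  have h750 : ∀ u < 71250, (fun u => chkFix tab mwordsA u) u = true := ext_range (a := 71155) (len := 95) h749 m2_749
  have h751 : ∀ u < 71345, (fun u => chkFix tab mwordsA u) u = true := ext_range (a := 71250) (len := 95) h750 m2_750
  have h752 : ∀ u < 71440, (fun u => chkFix tab mwordsA u) u = true := ext_range (a := 71345) (len := 95) h751 m2_751
  have h753 : ∀ u < 71535, (fun u => chkFix tab mwordsA u) u = true := ext_range (a := 71440) (len := 95) h752 m2_752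
  have h754 : ∀ u < 71630, (fun u => chkFix tab mwordsA u) u = true := ext_range (a := 71535) (len := 95) h753 m2_753
  have h755 : ∀ u < 71725, (fun u => chkFix tab mwordsA u) u = true := ext_range (a := 71630) (len := 95) h754 m2_754
  have h756 : ∀ u < 71820, (fun u => chkFix tab mwordsA u) u = true := ext_range (a := 71725) (len := 95) h755 m2_755
  have h757 : ∀ u < 71915, (fun u => chkFix tab mwordsA u) u = true := ext_range (a := 71820) (len := 95) h756 m2_756
  have h758 : ∀ u < 72010, (fun u => chkFix tab mwordsA u) u = true := ext_range (a := 71915) (len := 95) h757 m2_757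
  have h759 : ∀ u < 72105, (fun u => chkFix tab mwordsA u) u = true := ext_range (a := 72010) (len := 95) h758 m2_758
  have h760 : ∀ u < 72200, (fun u => chkFix tab mwordsA u) u = true := ext_range (a := 72105) (len := 95) h759 m2_759
  have h761 : ∀ u < 72295, (fun u => chkFix tab mwordsA u) u = true := ext_range (a := 72200) (len := 95) h760 m2_760
  have h762 : ∀ u < 72390, (fun u => chkFix tab mwordsA u) u = true := ext_range (a := 72295) (len := 95) h761 m2_761
  have h763 : ∀ u < 72485, (fun u => chkFix tab mwordsA u) u = true := ext_range (a := 72390) (len := 95) h762 m2_762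
  have h764 : ∀ u < 72580, (fun u => chkFix tab mwordsA u) u = true := ext_range (a := 72485) (len := 95) h763 m2_763
  have h765 : ∀ u < 72675, (fun u => chkFix tab mwordsA u) u = true := ext_range (a := 72580) (len := 95) h764 m2_764
  have h766 : ∀ u < 72770, (fun u => chkFix tab mwordsA u) u = true := ext_range (a := 72675) (len := 95) h765 m2_765
  have h767 : ∀ u < 72865, (fun u => chkFix tab mwordsA u) u = true := ext_range (a := 72770) (len := 95) h766 m2_766
  have h768 : ∀ u < 72960, (fun u => chkFix tab mwordsA u) u = true := ext_range (a := 72865) (len := 95) h767 m2_767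
  have h769 : ∀ u < 73055, (fun u => chkFix tab mwordsA u) u = true := ext_range (a := 72960) (len := 95) h768 m2_768
  have h770 : ∀ u < 73150, (fun u => chkFix tab mwordsA u) u = true := ext_range (a := 73055) (len := 95) h769 m2_769
  have h771 : ∀ u < 73245, (fun u => chkFix tab mwordsA u) u = true := ext_range (a := 73150) (len := 95) h770 m2_770
  have h772 : ∀ u < 73340, (fun u => chkFix tab mwordsA u) u = true := ext_range (a := 73245) (len := 95) h771 m2_771
  have h773 : ∀ u < 73435, (fun u => chkFix tab mwordsA u) u = true := ext_range (a := 73340) (len := 95) h772 m2_772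
  have h774 : ∀ u < 73530, (fun u => chkFix tab mwordsA u) u = true := ext_range (a := 73435) (len := 95) h773 m2_773
  have h775 : ∀ u < 73625, (fun u => chkFix tab mwordsA u) u = true := ext_range (a := 73530) (len := 95) h774 m2_774
  have h776 : ∀ u < 73720, (fun u => chkFix tab mwordsA u) u = true := ext_range (a := 73625) (len := 95) h775 m2_775
  have h777 : ∀ u < 73815, (fun u => chkFix tab mwordsA u) u = true := ext_range (a := 73720) (len := 95) h776 m2_776
  have h778 : ∀ u < 73910, (fun u => chkFix tab mwordsA u) u = true := ext_range (a := 73815) (len := 95) h777 m2_777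
  have h779 : ∀ u < 74005, (fun u => chkFix tab mwordsA u) u = true := ext_range (a := 73910) (len := 95) h778 m2_778
  have h780 : ∀ u < 74100, (fun u => chkFix tab mwordsA u) u = true := ext_range (a := 74005) (len := 95) h779 m2_779
  have h781 : ∀ u < 74195, (fun u => chkFix tab mwordsA u) u = true := ext_range (a := 74100) (len := 95) h780 m2_780
  have h782 : ∀ u < 74290, (fun u => chkFix tab mwordsA u) u = true := ext_range (a := 74195) (len := 95) h781 m2_781
  have h783 : ∀ u < 74385, (fun u => chkFix tab mwordsA u) u = true := ext_range (a := 74290) (len := 95) h782 m2_782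
  have h784 : ∀ u < 74480, (fun u => chkFix tab mwordsA u) u = true := ext_range (a := 74385) (len := 95) h783 m2_783
  have h785 : ∀ u < 74575, (fun u => chkFix tab mwordsA u) u = true := ext_range (a := 74480) (len := 95) h784 m2_784
  have h786 : ∀ u < 74670, (fun u => chkFix tab mwordsA u) u = true := ext_range (a := 74575) (len := 95) h785 m2_785
  have h787 : ∀ u < 74765, (fun u => chkFix tab mwordsA u) u = true := ext_range (a := 74670) (len := 95) h786 m2_786
  have h788 : ∀ u < 74860, (fun u => chkFix tab mwordsA u) u = true := ext_range (a := 74765) (len := 95) h787 m2_787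
  have h789 : ∀ u < 74955, (fun u => chkFix tab mwordsA u) u = true := ext_range (a := 74860) (len := 95) h788 m2_788
  have h790 : ∀ u < 75050, (fun u => chkFix tab mwordsA u) u = true := ext_range (a := 74955) (len := 95) h789 m2_789
  have h791 : ∀ u < 75145, (fun u => chkFix tab mwordsA u) u = true := ext_range (a := 75050) (len := 95) h790 m2_790
  have h792 : ∀ u < 75240, (fun u => chkFix tab mwordsA u) u = true := ext_range (a := 75145) (len := 95) h791 m2_791
  have h793 : ∀ u < 75335, (fun u => chkFix tab mwordsA u) u = true := ext_range (a := 75240) (len := 95) h792 m2_792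
  have h794 : ∀ u < 75430, (fun u => chkFix tab mwordsA u) u = true := ext_range (a := 75335) (len := 95) h793 m2_793
  have h795 : ∀ u < 75525, (fun u => chkFix tab mwordsA u) u = true := ext_range (a := 75430) (len := 95) h794 m2_794
  have h796 : ∀ u < 75620, (fun u => chkFix tab mwordsA u) u = true := ext_range (a := 75525) (len := 95) h795 m2_795
  have h797 : ∀ u < 75715, (fun u => chkFix tab mwordsA u) u = true := ext_range (a := 75620) (len := 95) h796 m2_796
  have h798 : ∀ u < 75810, (fun u => chkFix tab mwordsA u) u = true := ext_range (a := 75715) (len := 95) h797 m2_797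
  have h799 : ∀ u < 75905, (fun u => chkFix tab mwordsA u) u = true := ext_range (a := 75810) (len := 95) h798 m2_798
  have h800 : ∀ u < 76000, (fun u => chkFix tab mwordsA u) u = true := ext_range (a := 75905) (len := 95) h799 m2_799
  have h801 : ∀ u < 76095, (fun u => chkFix tab mwordsA u) u = true := ext_range (a := 76000) (len := 95) h800 m2_800
  have h802 : ∀ u < 76190, (fun u => chkFix tab mwordsA u) u = true := ext_range (a := 76095) (len := 95) h801 m2_801
  have h803 : ∀ u < 76285, (fun u => chkFix tab mwordsA u) u = true := ext_range (a := 76190) (len := 95) h802 m2_802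
  have h804 : ∀ u < 76380, (fun u => chkFix tab mwordsA u) u = true := ext_range (a := 76285) (len := 95) h803 m2_803
  have h805 : ∀ u < 76475, (fun u => chkFix tab mwordsA u) u = true := ext_range (a := 76380) (len := 95) h804 m2_804
  have h806 : ∀ u < 76570, (fun u => chkFix tab mwordsA u) u = true := ext_range (a := 76475) (len := 95) h805 m2_805
  have h807 : ∀ u < 76665, (fun u => chkFix tab mwordsA u) u = true := ext_range (a := 76570) (len := 95) h806 m2_806
  have h808 : ∀ u < 76760, (fun u => chkFix tab mwordsA u) u = true := ext_range (a := 76665) (len := 95) h807 m2_807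
  have h809 : ∀ u < 76855, (fun u => chkFix tab mwordsA u) u = true := ext_range (a := 76760) (len := 95) h808 m2_808
  have h810 : ∀ u < 76950, (fun u => chkFix tab mwordsA u) u = true := ext_range (a := 76855) (len := 95) h809 m2_809
  have h811 : ∀ u < 77045, (fun u => chkFix tab mwordsA u) u = true := ext_range (a := 76950) (len := 95) h810 m2_810
  have h812 : ∀ u < 77140, (fun u => chkFix tab mwordsA u) u = true := ext_range (a := 77045) (len := 95) h811 m2_811
  have h813 : ∀ u < 77235, (fun u => chkFix tab mwordsA u) u = true := ext_range (a := 77140) (len := 95) h812 m2_812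
  have h814 : ∀ u < 77330, (fun u => chkFix tab mwordsA u) u = true := ext_range (a := 77235) (len := 95) h813 m2_813
  have h815 : ∀ u < 77425, (fun u => chkFix tab mwordsA u) u = true := ext_range (a := 77330) (len := 95) h814 m2_814
  have h816 : ∀ u < 77520, (fun u => chkFix tab mwordsA u) u = true := ext_range (a := 77425) (len := 95) h815 m2_815
  have h817 : ∀ u < 77615, (fun u => chkFix tab mwordsA u) u = true := ext_range (a := 77520) (len := 95) h816 m2_816
  have h818 : ∀ u < 77710, (fun u => chkFix tab mwordsA u) u = true := ext_range (a := 77615) (len := 95) h817 m2_817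
  have h819 : ∀ u < 77805, (fun u => chkFix tab mwordsA u) u = true := ext_range (a := 77710) (len := 95) h818 m2_818
  have h820 : ∀ u < 77900, (fun u => chkFix tab mwordsA u) u = true := ext_range (a := 77805) (len := 95) h819 m2_819
  have h821 : ∀ u < 77995, (fun u => chkFix tab mwordsA u) u = true := ext_range (a := 77900) (len := 95) h820 m2_820
  have h822 : ∀ u < 78090, (fun u => chkFix tab mwordsA u) u = true := ext_range (a := 77995) (len := 95) h821 m2_821
  have h823 : ∀ u < 78185, (fun u => chkFix tab mwordsA u) u = true := ext_range (a := 78090) (len := 95) h822 m2_822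
  have h824 : ∀ u < 78280, (fun u => chkFix tab mwordsA u) u = true := ext_range (a := 78185) (len := 95) h823 m2_823
  have h825 : ∀ u < 78375, (fun u => chkFix tab mwordsA u) u = true := ext_range (a := 78280) (len := 95) h824 m2_824
  have h826 : ∀ u < 78470, (fun u => chkFix tab mwordsA u) u = true := ext_range (a := 78375) (len := 95) h825 m2_825
  have h827 : ∀ u < 78565, (fun u => chkFix tab mwordsA u) u = true := ext_range (a := 78470) (len := 95) h826 m2_826
  have h828 : ∀ u < 78660, (fun u => chkFix tab mwordsA u) u = true := ext_range (a := 78565) (len := 95) h827 m2_827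
  have h829 : ∀ u < 78755, (fun u => chkFix tab mwordsA u) u = true := ext_range (a := 78660) (len := 95) h828 m2_828
  have h830 : ∀ u < 78850, (fun u => chkFix tab mwordsA u) u = true := ext_range (a := 78755) (len := 95) h829 m2_829
  have h831 : ∀ u < 78945, (fun u => chkFix tab mwordsA u) u = true := ext_range (a := 78850) (len := 95) h830 m2_830
  have h832 : ∀ u < 79040, (fun u => chkFix tab mwordsA u) u = true := ext_range (a := 78945) (len := 95) h831 m2_831
  have h833 : ∀ u < 79135, (fun u => chkFix tab mwordsA u) u = true := ext_range (a := 79040) (len := 95) h832 m2_832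
  have h834 : ∀ u < 79230, (fun u => chkFix tab mwordsA u) u = true := ext_range (a := 79135) (len := 95) h833 m2_833
  have h835 : ∀ u < 79325, (fun u => chkFix tab mwordsA u) u = true := ext_range (a := 79230) (len := 95) h834 m2_834
  have h836 : ∀ u < 79420, (fun u => chkFix tab mwordsA u) u = true := ext_range (a := 79325) (len := 95) h835 m2_835
  have h837 : ∀ u < 79515, (fun u => chkFix tab mwordsA u) u = true := ext_range (a := 79420) (len := 95) h836 m2_836
  have h838 : ∀ u < 79610, (fun u => chkFix tab mwordsA u) u = true := ext_range (a := 79515) (len := 95) h837 m2_837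
  have h839 : ∀ u < 79705, (fun u => chkFix tab mwordsA u) u = true := ext_range (a := 79610) (len := 95) h838 m2_838
  have h840 : ∀ u < 79800, (fun u => chkFix tab mwordsA u) u = true := ext_range (a := 79705) (len := 95) h839 m2_839
  have h841 : ∀ u < 79895, (fun u => chkFix tab mwordsA u) u = true := ext_range (a := 79800) (len := 95) h840 m2_840
  have h842 : ∀ u < 79990, (fun u => chkFix tab mwordsA u) u = true := ext_range (a := 79895) (len := 95) h841 m2_841
  have h843 : ∀ u < 80085, (fun u => chkFix tab mwordsA u) u = true := ext_range (a := 79990) (len := 95) h842 m2_842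
  have h844 : ∀ u < 80180, (fun u => chkFix tab mwordsA u) u = true := ext_range (a := 80085) (len := 95) h843 m2_843
  have h845 : ∀ u < 80275, (fun u => chkFix tab mwordsA u) u = true := ext_range (a := 80180) (len := 95) h844 m2_844
  have h846 : ∀ u < 80370, (fun u => chkFix tab mwordsA u) u = true := ext_range (a := 80275) (len := 95) h845 m2_845
  have h847 : ∀ u < 80465, (fun u => chkFix tab mwordsA u) u = true := ext_range (a := 80370) (len := 95) h846 m2_846
  have h848 : ∀ u < 80560, (fun u => chkFix tab mwordsA u) u = true := ext_range (a := 80465) (len := 95) h847 m2_847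
  have h849 : ∀ u < 80655, (fun u => chkFix tab mwordsA u) u = true := ext_range (a := 80560) (len := 95) h848 m2_848
  have h850 : ∀ u < 80750, (fun u => chkFix tab mwordsA u) u = true := ext_range (a := 80655) (len := 95) h849 m2_849
  have h851 : ∀ u < 80845, (fun u => chkFix tab mwordsA u) u = true := ext_range (a := 80750) (len := 95) h850 m2_850
  have h852 : ∀ u < 80940, (fun u => chkFix tab mwordsA u) u = true := ext_range (a := 80845) (len := 95) h851 m2_851
  have h853 : ∀ u < 81035, (fun u => chkFix tab mwordsA u) u = true := ext_range (a := 80940) (len := 95) h852 m2_852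
  have h854 : ∀ u < 81130, (fun u => chkFix tab mwordsA u) u = true := ext_range (a := 81035) (len := 95) h853 m2_853
  have h855 : ∀ u < 81225, (fun u => chkFix tab mwordsA u) u = true := ext_range (a := 81130) (len := 95) h854 m2_854
  have h856 : ∀ u < 81320, (fun u => chkFix tab mwordsA u) u = true := ext_range (a := 81225) (len := 95) h855 m2_855
  have h857 : ∀ u < 81415, (fun u => chkFix tab mwordsA u) u = true := ext_range (a := 81320) (len := 95) h856 m2_856
  have h858 : ∀ u < 81510, (fun u => chkFix tab mwordsA u) u = true := ext_range (a := 81415) (len := 95) h857 m2_857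
  have h859 : ∀ u < 81605, (fun u => chkFix tab mwordsA u) u = true := ext_range (a := 81510) (len := 95) h858 m2_858
  have h860 : ∀ u < 81700, (fun u => chkFix tab mwordsA u) u = true := ext_range (a := 81605) (len := 95) h859 m2_859
  have h861 : ∀ u < 81795, (fun u => chkFix tab mwordsA u) u = true := ext_range (a := 81700) (len := 95) h860 m2_860
  have h862 : ∀ u < 81890, (fun u => chkFix tab mwordsA u) u = true := ext_range (a := 81795) (len := 95) h861 m2_861
  have h863 : ∀ u < 81985, (fun u => chkFix tab mwordsA u) u = true := ext_range (a := 81890) (len := 95) h862 m2_862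
  have h864 : ∀ u < 82080, (fun u => chkFix tab mwordsA u) u = true := ext_range (a := 81985) (len := 95) h863 m2_863
  have h865 : ∀ u < 82175, (fun u => chkFix tab mwordsA u) u = true := ext_range (a := 82080) (len := 95) h864 m2_864
  have h866 : ∀ u < 82270, (fun u => chkFix tab mwordsA u) u = true := ext_range (a := 82175) (len := 95) h865 m2_865
  have h867 : ∀ u < 82365, (fun u => chkFix tab mwordsA u) u = true := ext_range (a := 82270) (len := 95) h866 m2_866
  have h868 : ∀ u < 82460, (fun u => chkFix tab mwordsA u) u = true := ext_range (a := 82365) (len := 95) h867 m2_867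
  have h869 : ∀ u < 82555, (fun u => chkFix tab mwordsA u) u = true := ext_range (a := 82460) (len := 95) h868 m2_868
  have h870 : ∀ u < 82650, (fun u => chkFix tab mwordsA u) u = true := ext_range (a := 82555) (len := 95) h869 m2_869
  have h871 : ∀ u < 82745, (fun u => chkFix tab mwordsA u) u = true := ext_range (a := 82650) (len := 95) h870 m2_870
  have h872 : ∀ u < 82840, (fun u => chkFix tab mwordsA u) u = true := ext_range (a := 82745) (len := 95) h871 m2_871
  have h873 : ∀ u < 82935, (fun u => chkFix tab mwordsA u) u = true := ext_range (a := 82840) (len := 95) h872 m2_872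
  have h874 : ∀ u < 83030, (fun u => chkFix tab mwordsA u) u = true := ext_range (a := 82935) (len := 95) h873 m2_873
  have h875 : ∀ u < 83125, (fun u => chkFix tab mwordsA u) u = true := ext_range (a := 83030) (len := 95) h874 m2_874
  have h876 : ∀ u < 83220, (fun u => chkFix tab mwordsA u) u = true := ext_range (a := 83125) (len := 95) h875 m2_875
  have h877 : ∀ u < 83315, (fun u => chkFix tab mwordsA u) u = true := ext_range (a := 83220) (len := 95) h876 m2_876
  have h878 : ∀ u < 83410, (fun u => chkFix tab mwordsA u) u = true := ext_range (a := 83315) (len := 95) h877 m2_877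
  have h879 : ∀ u < 83505, (fun u => chkFix tab mwordsA u) u = true := ext_range (a := 83410) (len := 95) h878 m2_878
  have h880 : ∀ u < 83600, (fun u => chkFix tab mwordsA u) u = true := ext_range (a := 83505) (len := 95) h879 m2_879
  have h881 : ∀ u < 83695, (fun u => chkFix tab mwordsA u) u = true := ext_range (a := 83600) (len := 95) h880 m2_880
  have h882 : ∀ u < 83790, (fun u => chkFix tab mwordsA u) u = true := ext_range (a := 83695) (len := 95) h881 m2_881
  have h883 : ∀ u < 83885, (fun u => chkFix tab mwordsA u) u = true := ext_range (a := 83790) (len := 95) h882 m2_882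
  have h884 : ∀ u < 83980, (fun u => chkFix tab mwordsA u) u = true := ext_range (a := 83885) (len := 95) h883 m2_883
  have h885 : ∀ u < 84075, (fun u => chkFix tab mwordsA u) u = true := ext_range (a := 83980) (len := 95) h884 m2_884
  have h886 : ∀ u < 84170, (fun u => chkFix tab mwordsA u) u = true := ext_range (a := 84075) (len := 95) h885 m2_885
  have h887 : ∀ u < 84265, (fun u => chkFix tab mwordsA u) u = true := ext_range (a := 84170) (len := 95) h886 m2_886
  have h888 : ∀ u < 84360, (fun u => chkFix tab mwordsA u) u = true := ext_range (a := 84265) (len := 95) h887 m2_887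
  have h889 : ∀ u < 84455, (fun u => chkFix tab mwordsA u) u = true := ext_range (a := 84360) (len := 95) h888 m2_888
  have h890 : ∀ u < 84550, (fun u => chkFix tab mwordsA u) u = true := ext_range (a := 84455) (len := 95) h889 m2_889
  have h891 : ∀ u < 84645, (fun u => chkFix tab mwordsA u) u = true := ext_range (a := 84550) (len := 95) h890 m2_890
  have h892 : ∀ u < 84740, (fun u => chkFix tab mwordsA u) u = true := ext_range (a := 84645) (len := 95) h891 m2_891
  have h893 : ∀ u < 84835, (fun u => chkFix tab mwordsA u) u = true := ext_range (a := 84740) (len := 95) h892 m2_892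
  have h894 : ∀ u < 84930, (fun u => chkFix tab mwordsA u) u = true := ext_range (a := 84835) (len := 95) h893 m2_893
  have h895 : ∀ u < 85025, (fun u => chkFix tab mwordsA u) u = true := ext_range (a := 84930) (len := 95) h894 m2_894
  have h896 : ∀ u < 85120, (fun u => chkFix tab mwordsA u) u = true := ext_range (a := 85025) (len := 95) h895 m2_895
  have h897 : ∀ u < 85215, (fun u => chkFix tab mwordsA u) u = true := ext_range (a := 85120) (len := 95) h896 m2_896
  have h898 : ∀ u < 85310, (fun u => chkFix tab mwordsA u) u = true := ext_range (a := 85215) (len := 95) h897 m2_897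
  have h899 : ∀ u < 85405, (fun u => chkFix tab mwordsA u) u = true := ext_range (a := 85310) (len := 95) h898 m2_898
  have h900 : ∀ u < 85500, (fun u => chkFix tab mwordsA u) u = true := ext_range (a := 85405) (len := 95) h899 m2_899
  have h901 : ∀ u < 85595, (fun u => chkFix tab mwordsA u) u = true := ext_range (a := 85500) (len := 95) h900 m2_900
  have h902 : ∀ u < 85690, (fun u => chkFix tab mwordsA u) u = true := ext_range (a := 85595) (len := 95) h901 m2_901
  have h903 : ∀ u < 85785, (fun u => chkFix tab mwordsA u) u = true := ext_range (a := 85690) (len := 95) h902 m2_902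
  have h904 : ∀ u < 85880, (fun u => chkFix tab mwordsA u) u = true := ext_range (a := 85785) (len := 95) h903 m2_903
  have h905 : ∀ u < 85975, (fun u => chkFix tab mwordsA u) u = true := ext_range (a := 85880) (len := 95) h904 m2_904
  have h906 : ∀ u < 86070, (fun u => chkFix tab mwordsA u) u = true := ext_range (a := 85975) (len := 95) h905 m2_905
  have h907 : ∀ u < 86165, (fun u => chkFix tab mwordsA u) u = true := ext_range (a := 86070) (len := 95) h906 m2_906
  have h908 : ∀ u < 86260, (fun u => chkFix tab mwordsA u) u = true := ext_range (a := 86165) (len := 95) h907 m2_907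
  have h909 : ∀ u < 86355, (fun u => chkFix tab mwordsA u) u = true := ext_range (a := 86260) (len := 95) h908 m2_908
  have h910 : ∀ u < 86450, (fun u => chkFix tab mwordsA u) u = true := ext_range (a := 86355) (len := 95) h909 m2_909
  have h911 : ∀ u < 86545, (fun u => chkFix tab mwordsA u) u = true := ext_range (a := 86450) (len := 95) h910 m2_910
  have h912 : ∀ u < 86640, (fun u => chkFix tab mwordsA u) u = true := ext_range (a := 86545) (len := 95) h911 m2_911
  have h913 : ∀ u < 86735, (fun u => chkFix tab mwordsA u) u = true := ext_range (a := 86640) (len := 95) h912 m2_912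
  have h914 : ∀ u < 86830, (fun u => chkFix tab mwordsA u) u = true := ext_range (a := 86735) (len := 95) h913 m2_913
  have h915 : ∀ u < 86925, (fun u => chkFix tab mwordsA u) u = true := ext_range (a := 86830) (len := 95) h914 m2_914
  have h916 : ∀ u < 87020, (fun u => chkFix tab mwordsA u) u = true := ext_range (a := 86925) (len := 95) h915 m2_915
  have h917 : ∀ u < 87115, (fun u => chkFix tab mwordsA u) u = true := ext_range (a := 87020) (len := 95) h916 m2_916
  have h918 : ∀ u < 87210, (fun u => chkFix tab mwordsA u) u = true := ext_range (a := 87115) (len := 95) h917 m2_917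
  have h919 : ∀ u < 87305, (fun u => chkFix tab mwordsA u) u = true := ext_range (a := 87210) (len := 95) h918 m2_918
  have h920 : ∀ u < 87400, (fun u => chkFix tab mwordsA u) u = true := ext_range (a := 87305) (len := 95) h919 m2_919
  have h921 : ∀ u < 87495, (fun u => chkFix tab mwordsA u) u = true := ext_range (a := 87400) (len := 95) h920 m2_920
  have h922 : ∀ u < 87590, (fun u => chkFix tab mwordsA u) u = true := ext_range (a := 87495) (len := 95) h921 m2_921
  have h923 : ∀ u < 87685, (fun u => chkFix tab mwordsA u) u = true := ext_range (a := 87590) (len := 95) h922 m2_922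
  have h924 : ∀ u < 87780, (fun u => chkFix tab mwordsA u) u = true := ext_range (a := 87685) (len := 95) h923 m2_923
  have h925 : ∀ u < 87875, (fun u => chkFix tab mwordsA u) u = true := ext_range (a := 87780) (len := 95) h924 m2_924
  have h926 : ∀ u < 87970, (fun u => chkFix tab mwordsA u) u = true := ext_range (a := 87875) (len := 95) h925 m2_925
  have h927 : ∀ u < 88065, (fun u => chkFix tab mwordsA u) u = true := ext_range (a := 87970) (len := 95) h926 m2_926
  have h928 : ∀ u < 88160, (fun u => chkFix tab mwordsA u) u = true := ext_range (a := 88065) (len := 95) h927 m2_927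
  have h929 : ∀ u < 88255, (fun u => chkFix tab mwordsA u) u = true := ext_range (a := 88160) (len := 95) h928 m2_928
  have h930 : ∀ u < 88350, (fun u => chkFix tab mwordsA u) u = true := ext_range (a := 88255) (len := 95) h929 m2_929
  have h931 : ∀ u < 88445, (fun u => chkFix tab mwordsA u) u = true := ext_range (a := 88350) (len := 95) h930 m2_930
  have h932 : ∀ u < 88540, (fun u => chkFix tab mwordsA u) u = true := ext_range (a := 88445) (len := 95) h931 m2_931
  have h933 : ∀ u < 88635, (fun u => chkFix tab mwordsA u) u = true := ext_range (a := 88540) (len := 95) h932 m2_932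
  have h934 : ∀ u < 88730, (fun u => chkFix tab mwordsA u) u = true := ext_range (a := 88635) (len := 95) h933 m2_933
  have h935 : ∀ u < 88825, (fun u => chkFix tab mwordsA u) u = true := ext_range (a := 88730) (len := 95) h934 m2_934
  have h936 : ∀ u < 88920, (fun u => chkFix tab mwordsA u) u = true := ext_range (a := 88825) (len := 95) h935 m2_935
  have h937 : ∀ u < 89015, (fun u => chkFix tab mwordsA u) u = true := ext_range (a := 88920) (len := 95) h936 m2_936
  have h938 : ∀ u < 89110, (fun u => chkFix tab mwordsA u) u = true := ext_range (a := 89015) (len := 95) h937 m2_937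
  have h939 : ∀ u < 89205, (fun u => chkFix tab mwordsA u) u = true := ext_range (a := 89110) (len := 95) h938 m2_938
  have h940 : ∀ u < 89300, (fun u => chkFix tab mwordsA u) u = true := ext_range (a := 89205) (len := 95) h939 m2_939
  have h941 : ∀ u < 89395, (fun u => chkFix tab mwordsA u) u = true := ext_range (a := 89300) (len := 95) h940 m2_940
  have h942 : ∀ u < 89490, (fun u => chkFix tab mwordsA u) u = true := ext_range (a := 89395) (len := 95) h941 m2_941
  have h943 : ∀ u < 89585, (fun u => chkFix tab mwordsA u) u = true := ext_range (a := 89490) (len := 95) h942 m2_942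
  have h944 : ∀ u < 89680, (fun u => chkFix tab mwordsA u) u = true := ext_range (a := 89585) (len := 95) h943 m2_943
  have h945 : ∀ u < 89775, (fun u => chkFix tab mwordsA u) u = true := ext_range (a := 89680) (len := 95) h944 m2_944
  have h946 : ∀ u < 89870, (fun u => chkFix tab mwordsA u) u = true := ext_range (a := 89775) (len := 95) h945 m2_945
  have h947 : ∀ u < 89965, (fun u => chkFix tab mwordsA u) u = true := ext_range (a := 89870) (len := 95) h946 m2_946
  have h948 : ∀ u < 90060, (fun u => chkFix tab mwordsA u) u = true := ext_range (a := 89965) (len := 95) h947 m2_947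
  have h949 : ∀ u < 90155, (fun u => chkFix tab mwordsA u) u = true := ext_range (a := 90060) (len := 95) h948 m2_948
  have h950 : ∀ u < 90250, (fun u => chkFix tab mwordsA u) u = true := ext_range (a := 90155) (len := 95) h949 m2_949
  have h951 : ∀ u < 90345, (fun u => chkFix tab mwordsA u) u = true := ext_range (a := 90250) (len := 95) h950 m2_950
  have h952 : ∀ u < 90440, (fun u => chkFix tab mwordsA u) u = true := ext_range (a := 90345) (len := 95) h951 m2_951
  have h953 : ∀ u < 90535, (fun u => chkFix tab mwordsA u) u = true := ext_range (a := 90440) (len := 95) h952 m2_952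
  have h954 : ∀ u < 90630, (fun u => chkFix tab mwordsA u) u = true := ext_range (a := 90535) (len := 95) h953 m2_953
  have h955 : ∀ u < 90725, (fun u => chkFix tab mwordsA u) u = true := ext_range (a := 90630) (len := 95) h954 m2_954
  have h956 : ∀ u < 90820, (fun u => chkFix tab mwordsA u) u = true := ext_range (a := 90725) (len := 95) h955 m2_955
  have h957 : ∀ u < 90915, (fun u => chkFix tab mwordsA u) u = true := ext_range (a := 90820) (len := 95) h956 m2_956
  have h958 : ∀ u < 91010, (fun u => chkFix tab mwordsA u) u = true := ext_range (a := 90915) (len := 95) h957 m2_957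
  have h959 : ∀ u < 91105, (fun u => chkFix tab mwordsA u) u = true := ext_range (a := 91010) (len := 95) h958 m2_958
  have h960 : ∀ u < 91200, (fun u => chkFix tab mwordsA u) u = true := ext_range (a := 91105) (len := 95) h959 m2_959
  have h961 : ∀ u < 91295, (fun u => chkFix tab mwordsA u) u = true := ext_range (a := 91200) (len := 95) h960 m2_960
  have h962 : ∀ u < 91390, (fun u => chkFix tab mwordsA u) u = true := ext_range (a := 91295) (len := 95) h961 m2_961
  have h963 : ∀ u < 91485, (fun u => chkFix tab mwordsA u) u = true := ext_range (a := 91390) (len := 95) h962 m2_962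
  have h964 : ∀ u < 91580, (fun u => chkFix tab mwordsA u) u = true := ext_range (a := 91485) (len := 95) h963 m2_963
  have h965 : ∀ u < 91675, (fun u => chkFix tab mwordsA u) u = true := ext_range (a := 91580) (len := 95) h964 m2_964
  have h966 : ∀ u < 91770, (fun u => chkFix tab mwordsA u) u = true := ext_range (a := 91675) (len := 95) h965 m2_965
  have h967 : ∀ u < 91865, (fun u => chkFix tab mwordsA u) u = true := ext_range (a := 91770) (len := 95) h966 m2_966
  have h968 : ∀ u < 91960, (fun u => chkFix tab mwordsA u) u = true := ext_range (a := 91865) (len := 95) h967 m2_967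
  have h969 : ∀ u < 92055, (fun u => chkFix tab mwordsA u) u = true := ext_range (a := 91960) (len := 95) h968 m2_968
  have h970 : ∀ u < 92150, (fun u => chkFix tab mwordsA u) u = true := ext_range (a := 92055) (len := 95) h969 m2_969
  have h971 : ∀ u < 92245, (fun u => chkFix tab mwordsA u) u = true := ext_range (a := 92150) (len := 95) h970 m2_970
  have h972 : ∀ u < 92340, (fun u => chkFix tab mwordsA u) u = true := ext_range (a := 92245) (len := 95) h971 m2_971
  have h973 : ∀ u < 92435, (fun u => chkFix tab mwordsA u) u = true := ext_range (a := 92340) (len := 95) h972 m2_972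
  have h974 : ∀ u < 92530, (fun u => chkFix tab mwordsA u) u = true := ext_range (a := 92435) (len := 95) h973 m2_973
  have h975 : ∀ u < 92625, (fun u => chkFix tab mwordsA u) u = true := ext_range (a := 92530) (len := 95) h974 m2_974
  have h976 : ∀ u < 92720, (fun u => chkFix tab mwordsA u) u = true := ext_range (a := 92625) (len := 95) h975 m2_975
  have h977 : ∀ u < 92815, (fun u => chkFix tab mwordsA u) u = true := ext_range (a := 92720) (len := 95) h976 m2_976
  have h978 : ∀ u < 92910, (fun u => chkFix tab mwordsA u) u = true := ext_range (a := 92815) (len := 95) h977 m2_977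
  have h979 : ∀ u < 93005, (fun u => chkFix tab mwordsA u) u = true := ext_range (a := 92910) (len := 95) h978 m2_978
  have h980 : ∀ u < 93100, (fun u => chkFix tab mwordsA u) u = true := ext_range (a := 93005) (len := 95) h979 m2_979
  have h981 : ∀ u < 93195, (fun u => chkFix tab mwordsA u) u = true := ext_range (a := 93100) (len := 95) h980 m2_980
  have h982 : ∀ u < 93290, (fun u => chkFix tab mwordsA u) u = true := ext_range (a := 93195) (len := 95) h981 m2_981
  have h983 : ∀ u < 93385, (fun u => chkFix tab mwordsA u) u = true := ext_range (a := 93290) (len := 95) h982 m2_982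
  have h984 : ∀ u < 93480, (fun u => chkFix tab mwordsA u) u = true := ext_range (a := 93385) (len := 95) h983 m2_983
  have h985 : ∀ u < 93575, (fun u => chkFix tab mwordsA u) u = true := ext_range (a := 93480) (len := 95) h984 m2_984
  have h986 : ∀ u < 93670, (fun u => chkFix tab mwordsA u) u = true := ext_range (a := 93575) (len := 95) h985 m2_985
  have h987 : ∀ u < 93765, (fun u => chkFix tab mwordsA u) u = true := ext_range (a := 93670) (len := 95) h986 m2_986
  have h988 : ∀ u < 93860, (fun u => chkFix tab mwordsA u) u = true := ext_range (a := 93765) (len := 95) h987 m2_987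
  have h989 : ∀ u < 93955, (fun u => chkFix tab mwordsA u) u = true := ext_range (a := 93860) (len := 95) h988 m2_988
  have h990 : ∀ u < 94050, (fun u => chkFix tab mwordsA u) u = true := ext_range (a := 93955) (len := 95) h989 m2_989
  have h991 : ∀ u < 94145, (fun u => chkFix tab mwordsA u) u = true := ext_range (a := 94050) (len := 95) h990 m2_990
  have h992 : ∀ u < 94240, (fun u => chkFix tab mwordsA u) u = true := ext_range (a := 94145) (len := 95) h991 m2_991
  have h993 : ∀ u < 94335, (fun u => chkFix tab mwordsA u) u = true := ext_range (a := 94240) (len := 95) h992 m2_992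
  have h994 : ∀ u < 94430, (fun u => chkFix tab mwordsA u) u = true := ext_range (a := 94335) (len := 95) h993 m2_993
  have h995 : ∀ u < 94525, (fun u => chkFix tab mwordsA u) u = true := ext_range (a := 94430) (len := 95) h994 m2_994
  have h996 : ∀ u < 94620, (fun u => chkFix tab mwordsA u) u = true := ext_range (a := 94525) (len := 95) h995 m2_995
  have h997 : ∀ u < 94715, (fun u => chkFix tab mwordsA u) u = true := ext_range (a := 94620) (len := 95) h996 m2_996
  have h998 : ∀ u < 94810, (fun u => chkFix tab mwordsA u) u = true := ext_range (a := 94715) (len := 95) h997 m2_997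
  have h999 : ∀ u < 94905, (fun u => chkFix tab mwordsA u) u = true := ext_range (a := 94810) (len := 95) h998 m2_998
  have h1000 : ∀ u < 95000, (fun u => chkFix tab mwordsA u) u = true := ext_range (a := 94905) (len := 95) h999 m2_999
  have h1001 : ∀ u < 95095, (fun u => chkFix tab mwordsA u) u = true := ext_range (a := 95000) (len := 95) h1000 m2_1000
  have h1002 : ∀ u < 95190, (fun u => chkFix tab mwordsA u) u = true := ext_range (a := 95095) (len := 95) h1001 m2_1001
  have h1003 : ∀ u < 95285, (fun u => chkFix tab mwordsA u) u = true := ext_range (a := 95190) (len := 95) h1002 m2_1002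
  have h1004 : ∀ u < 95380, (fun u => chkFix tab mwordsA u) u = true := ext_range (a := 95285) (len := 95) h1003 m2_1003
  have h1005 : ∀ u < 95475, (fun u => chkFix tab mwordsA u) u = true := ext_range (a := 95380) (len := 95) h1004 m2_1004
  have h1006 : ∀ u < 95570, (fun u => chkFix tab mwordsA u) u = true := ext_range (a := 95475) (len := 95) h1005 m2_1005
  have h1007 : ∀ u < 95665, (fun u => chkFix tab mwordsA u) u = true := ext_range (a := 95570) (len := 95) h1006 m2_1006
  have h1008 : ∀ u < 95760, (fun u => chkFix tab mwordsA u) u = true := ext_range (a := 95665) (len := 95) h1007 m2_1007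
  have h1009 : ∀ u < 95855, (fun u => chkFix tab mwordsA u) u = true := ext_range (a := 95760) (len := 95) h1008 m2_1008
  have h1010 : ∀ u < 95950, (fun u => chkFix tab mwordsA u) u = true := ext_range (a := 95855) (len := 95) h1009 m2_1009
  have h1011 : ∀ u < 96045, (fun u => chkFix tab mwordsA u) u = true := ext_range (a := 95950) (len := 95) h1010 m2_1010
  have h1012 : ∀ u < 96140, (fun u => chkFix tab mwordsA u) u = true := ext_range (a := 96045) (len := 95) h1011 m2_1011
  have h1013 : ∀ u < 96235, (fun u => chkFix tab mwordsA u) u = true := ext_range (a := 96140) (len := 95) h1012 m2_1012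
  have h1014 : ∀ u < 96330, (fun u => chkFix tab mwordsA u) u = true := ext_range (a := 96235) (len := 95) h1013 m2_1013
  have h1015 : ∀ u < 96425, (fun u => chkFix tab mwordsA u) u = true := ext_range (a := 96330) (len := 95) h1014 m2_1014
  have h1016 : ∀ u < 96520, (fun u => chkFix tab mwordsA u) u = true := ext_range (a := 96425) (len := 95) h1015 m2_1015
  have h1017 : ∀ u < 96615, (fun u => chkFix tab mwordsA u) u = true := ext_range (a := 96520) (len := 95) h1016 m2_1016
  have h1018 : ∀ u < 96710, (fun u => chkFix tab mwordsA u) u = true := ext_range (a := 96615) (len := 95) h1017 m2_1017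
  have h1019 : ∀ u < 96805, (fun u => chkFix tab mwordsA u) u = true := ext_range (a := 96710) (len := 95) h1018 m2_1018
  have h1020 : ∀ u < 96900, (fun u => chkFix tab mwordsA u) u = true := ext_range (a := 96805) (len := 95) h1019 m2_1019
  have h1021 : ∀ u < 96995, (fun u => chkFix tab mwordsA u) u = true := ext_range (a := 96900) (len := 95) h1020 m2_1020
  have h1022 : ∀ u < 97090, (fun u => chkFix tab mwordsA u) u = true := ext_range (a := 96995) (len := 95) h1021 m2_1021
  have h1023 : ∀ u < 97185, (fun u => chkFix tab mwordsA u) u = true := ext_range (a := 97090) (len := 95) h1022 m2_1022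
  have h1024 : ∀ u < 97280, (fun u => chkFix tab mwordsA u) u = true := ext_range (a := 97185) (len := 95) h1023 m2_1023
  have h1025 : ∀ u < 97375, (fun u => chkFix tab mwordsA u) u = true := ext_range (a := 97280) (len := 95) h1024 m2_1024
  have h1026 : ∀ u < 97470, (fun u => chkFix tab mwordsA u) u = true := ext_range (a := 97375) (len := 95) h1025 m2_1025
  have h1027 : ∀ u < 97565, (fun u => chkFix tab mwordsA u) u = true := ext_range (a := 97470) (len := 95) h1026 m2_1026
  have h1028 : ∀ u < 97660, (fun u => chkFix tab mwordsA u) u = true := ext_range (a := 97565) (len := 95) h1027 m2_1027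
  have h1029 : ∀ u < 97755, (fun u => chkFix tab mwordsA u) u = true := ext_range (a := 97660) (len := 95) h1028 m2_1028
  have h1030 : ∀ u < 97850, (fun u => chkFix tab mwordsA u) u = true := ext_range (a := 97755) (len := 95) h1029 m2_1029
  have h1031 : ∀ u < 97945, (fun u => chkFix tab mwordsA u) u = true := ext_range (a := 97850) (len := 95) h1030 m2_1030
  have h1032 : ∀ u < 98040, (fun u => chkFix tab mwordsA u) u = true := ext_range (a := 97945) (len := 95) h1031 m2_1031
  have h1033 : ∀ u < 98135, (fun u => chkFix tab mwordsA u) u = true := ext_range (a := 98040) (len := 95) h1032 m2_1032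
  have h1034 : ∀ u < 98230, (fun u => chkFix tab mwordsA u) u = true := ext_range (a := 98135) (len := 95) h1033 m2_1033
  have h1035 : ∀ u < 98325, (fun u => chkFix tab mwordsA u) u = true := ext_range (a := 98230) (len := 95) h1034 m2_1034
  have h1036 : ∀ u < 98420, (fun u => chkFix tab mwordsA u) u = true := ext_range (a := 98325) (len := 95) h1035 m2_1035
  have h1037 : ∀ u < 98515, (fun u => chkFix tab mwordsA u) u = true := ext_range (a := 98420) (len := 95) h1036 m2_1036
  have h1038 : ∀ u < 98610, (fun u => chkFix tab mwordsA u) u = true := ext_range (a := 98515) (len := 95) h1037 m2_1037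
  have h1039 : ∀ u < 98705, (fun u => chkFix tab mwordsA u) u = true := ext_range (a := 98610) (len := 95) h1038 m2_1038
  have h1040 : ∀ u < 98800, (fun u => chkFix tab mwordsA u) u = true := ext_range (a := 98705) (len := 95) h1039 m2_1039
  have h1041 : ∀ u < 98895, (fun u => chkFix tab mwordsA u) u = true := ext_range (a := 98800) (len := 95) h1040 m2_1040
  have h1042 : ∀ u < 98990, (fun u => chkFix tab mwordsA u) u = true := ext_range (a := 98895) (len := 95) h1041 m2_1041
  have h1043 : ∀ u < 99085, (fun u => chkFix tab mwordsA u) u = true := ext_range (a := 98990) (len := 95) h1042 m2_1042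
  have h1044 : ∀ u < 99180, (fun u => chkFix tab mwordsA u) u = true := ext_range (a := 99085) (len := 95) h1043 m2_1043
  have h1045 : ∀ u < 99275, (fun u => chkFix tab mwordsA u) u = true := ext_range (a := 99180) (len := 95) h1044 m2_1044
  have h1046 : ∀ u < 99370, (fun u => chkFix tab mwordsA u) u = true := ext_range (a := 99275) (len := 95) h1045 m2_1045
  have h1047 : ∀ u < 99465, (fun u => chkFix tab mwordsA u) u = true := ext_range (a := 99370) (len := 95) h1046 m2_1046
  have h1048 : ∀ u < 99560, (fun u => chkFix tab mwordsA u) u = true := ext_range (a := 99465) (len := 95) h1047 m2_1047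
  have h1049 : ∀ u < 99655, (fun u => chkFix tab mwordsA u) u = true := ext_range (a := 99560) (len := 95) h1048 m2_1048
  have h1050 : ∀ u < 99750, (fun u => chkFix tab mwordsA u) u = true := ext_range (a := 99655) (len := 95) h1049 m2_1049
  have h1051 : ∀ u < 99845, (fun u => chkFix tab mwordsA u) u = true := ext_range (a := 99750) (len := 95) h1050 m2_1050
  have h1052 : ∀ u < 99940, (fun u => chkFix tab mwordsA u) u = true := ext_range (a := 99845) (len := 95) h1051 m2_1051
  have h1053 : ∀ u < 100035, (fun u => chkFix tab mwordsA u) u = true := ext_range (a := 99940) (len := 95) h1052 m2_1052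
  have h1054 : ∀ u < 100130, (fun u => chkFix tab mwordsA u) u = true := ext_range (a := 100035) (len := 95) h1053 m2_1053
  have h1055 : ∀ u < 100225, (fun u => chkFix tab mwordsA u) u = true := ext_range (a := 100130) (len := 95) h1054 m2_1054
  have h1056 : ∀ u < 100320, (fun u => chkFix tab mwordsA u) u = true := ext_range (a := 100225) (len := 95) h1055 m2_1055
  have h1057 : ∀ u < 100415, (fun u => chkFix tab mwordsA u) u = true := ext_range (a := 100320) (len := 95) h1056 m2_1056
  have h1058 : ∀ u < 100510, (fun u => chkFix tab mwordsA u) u = true := ext_range (a := 100415) (len := 95) h1057 m2_1057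
  have h1059 : ∀ u < 100605, (fun u => chkFix tab mwordsA u) u = true := ext_range (a := 100510) (len := 95) h1058 m2_1058
  have h1060 : ∀ u < 100700, (fun u => chkFix tab mwordsA u) u = true := ext_range (a := 100605) (len := 95) h1059 m2_1059
  have h1061 : ∀ u < 100795, (fun u => chkFix tab mwordsA u) u = true := ext_range (a := 100700) (len := 95) h1060 m2_1060
  have h1062 : ∀ u < 100890, (fun u => chkFix tab mwordsA u) u = true := ext_range (a := 100795) (len := 95) h1061 m2_1061
  have h1063 : ∀ u < 100985, (fun u => chkFix tab mwordsA u) u = true := ext_range (a := 100890) (len := 95) h1062 m2_1062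
  have h1064 : ∀ u < 101080, (fun u => chkFix tab mwordsA u) u = true := ext_range (a := 100985) (len := 95) h1063 m2_1063
  have h1065 : ∀ u < 101175, (fun u => chkFix tab mwordsA u) u = true := ext_range (a := 101080) (len := 95) h1064 m2_1064
  have h1066 : ∀ u < 101270, (fun u => chkFix tab mwordsA u) u = true := ext_range (a := 101175) (len := 95) h1065 m2_1065
  have h1067 : ∀ u < 101365, (fun u => chkFix tab mwordsA u) u = true := ext_range (a := 101270) (len := 95) h1066 m2_1066
  have h1068 : ∀ u < 101460, (fun u => chkFix tab mwordsA u) u = true := ext_range (a := 101365) (len := 95) h1067 m2_1067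
  have h1069 : ∀ u < 101555, (fun u => chkFix tab mwordsA u) u = true := ext_range (a := 101460) (len := 95) h1068 m2_1068
  have h1070 : ∀ u < 101650, (fun u => chkFix tab mwordsA u) u = true := ext_range (a := 101555) (len := 95) h1069 m2_1069
  have h1071 : ∀ u < 101745, (fun u => chkFix tab mwordsA u) u = true := ext_range (a := 101650) (len := 95) h1070 m2_1070
  have h1072 : ∀ u < 101840, (fun u => chkFix tab mwordsA u) u = true := ext_range (a := 101745) (len := 95) h1071 m2_1071
  have h1073 : ∀ u < 101935, (fun u => chkFix tab mwordsA u) u = true := ext_range (a := 101840) (len := 95) h1072 m2_1072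
  have h1074 : ∀ u < 102030, (fun u => chkFix tab mwordsA u) u = true := ext_range (a := 101935) (len := 95) h1073 m2_1073
  have h1075 : ∀ u < 102125, (fun u => chkFix tab mwordsA u) u = true := ext_range (a := 102030) (len := 95) h1074 m2_1074
  have h1076 : ∀ u < 102220, (fun u => chkFix tab mwordsA u) u = true := ext_range (a := 102125) (len := 95) h1075 m2_1075
  have h1077 : ∀ u < 102315, (fun u => chkFix tab mwordsA u) u = true := ext_range (a := 102220) (len := 95) h1076 m2_1076
  have h1078 : ∀ u < 102410, (fun u => chkFix tab mwordsA u) u = true := ext_range (a := 102315) (len := 95) h1077 m2_1077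
  have h1079 : ∀ u < 102505, (fun u => chkFix tab mwordsA u) u = true := ext_range (a := 102410) (len := 95) h1078 m2_1078
  have h1080 : ∀ u < 102600, (fun u => chkFix tab mwordsA u) u = true := ext_range (a := 102505) (len := 95) h1079 m2_1079
  have h1081 : ∀ u < 102695, (fun u => chkFix tab mwordsA u) u = true := ext_range (a := 102600) (len := 95) h1080 m2_1080
  have h1082 : ∀ u < 102790, (fun u => chkFix tab mwordsA u) u = true := ext_range (a := 102695) (len := 95) h1081 m2_1081
  have h1083 : ∀ u < 102885, (fun u => chkFix tab mwordsA u) u = true := ext_range (a := 102790) (len := 95) h1082 m2_1082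
  have h1084 : ∀ u < 102980, (fun u => chkFix tab mwordsA u) u = true := ext_range (a := 102885) (len := 95) h1083 m2_1083
  have h1085 : ∀ u < 103075, (fun u => chkFix tab mwordsA u) u = true := ext_range (a := 102980) (len := 95) h1084 m2_1084
  have h1086 : ∀ u < 103170, (fun u => chkFix tab mwordsA u) u = true := ext_range (a := 103075) (len := 95) h1085 m2_1085
  have h1087 : ∀ u < 103265, (fun u => chkFix tab mwordsA u) u = true := ext_range (a := 103170) (len := 95) h1086 m2_1086
  have h1088 : ∀ u < 103360, (fun u => chkFix tab mwordsA u) u = true := ext_range (a := 103265) (len := 95) h1087 m2_1087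
  have h1089 : ∀ u < 103455, (fun u => chkFix tab mwordsA u) u = true := ext_range (a := 103360) (len := 95) h1088 m2_1088
  have h1090 : ∀ u < 103550, (fun u => chkFix tab mwordsA u) u = true := ext_range (a := 103455) (len := 95) h1089 m2_1089
  have h1091 : ∀ u < 103645, (fun u => chkFix tab mwordsA u) u = true := ext_range (a := 103550) (len := 95) h1090 m2_1090
  have h1092 : ∀ u < 103740, (fun u => chkFix tab mwordsA u) u = true := ext_range (a := 103645) (len := 95) h1091 m2_1091
  have h1093 : ∀ u < 103835, (fun u => chkFix tab mwordsA u) u = true := ext_range (a := 103740) (len := 95) h1092 m2_1092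
  have h1094 : ∀ u < 103930, (fun u => chkFix tab mwordsA u) u = true := ext_range (a := 103835) (len := 95) h1093 m2_1093
  have h1095 : ∀ u < 104025, (fun u => chkFix tab mwordsA u) u = true := ext_range (a := 103930) (len := 95) h1094 m2_1094
  have h1096 : ∀ u < 104120, (fun u => chkFix tab mwordsA u) u = true := ext_range (a := 104025) (len := 95) h1095 m2_1095
  have h1097 : ∀ u < 104215, (fun u => chkFix tab mwordsA u) u = true := ext_range (a := 104120) (len := 95) h1096 m2_1096
  have h1098 : ∀ u < 104310, (fun u => chkFix tab mwordsA u) u = true := ext_range (a := 104215) (len := 95) h1097 m2_1097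
  have h1099 : ∀ u < 104405, (fun u => chkFix tab mwordsA u) u = true := ext_range (a := 104310) (len := 95) h1098 m2_1098
  have h1100 : ∀ u < 104500, (fun u => chkFix tab mwordsA u) u = true := ext_range (a := 104405) (len := 95) h1099 m2_1099
  have h1101 : ∀ u < 104595, (fun u => chkFix tab mwordsA u) u = true := ext_range (a := 104500) (len := 95) h1100 m2_1100
  have h1102 : ∀ u < 104690, (fun u => chkFix tab mwordsA u) u = true := ext_range (a := 104595) (len := 95) h1101 m2_1101
  have h1103 : ∀ u < 104785, (fun u => chkFix tab mwordsA u) u = true := ext_range (a := 104690) (len := 95) h1102 m2_1102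
  have h1104 : ∀ u < 104880, (fun u => chkFix tab mwordsA u) u = true := ext_range (a := 104785) (len := 95) h1103 m2_1103
  have h1105 : ∀ u < 104975, (fun u => chkFix tab mwordsA u) u = true := ext_range (a := 104880) (len := 95) h1104 m2_1104
  have h1106 : ∀ u < 105070, (fun u => chkFix tab mwordsA u) u = true := ext_range (a := 104975) (len := 95) h1105 m2_1105
  have h1107 : ∀ u < 105165, (fun u => chkFix tab mwordsA u) u = true := ext_range (a := 105070) (len := 95) h1106 m2_1106
  have h1108 : ∀ u < 105260, (fun u => chkFix tab mwordsA u) u = true := ext_range (a := 105165) (len := 95) h1107 m2_1107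
  have h1109 : ∀ u < 105355, (fun u => chkFix tab mwordsA u) u = true := ext_range (a := 105260) (len := 95) h1108 m2_1108
  have h1110 : ∀ u < 105450, (fun u => chkFix tab mwordsA u) u = true := ext_range (a := 105355) (len := 95) h1109 m2_1109
  have h1111 : ∀ u < 105545, (fun u => chkFix tab mwordsA u) u = true := ext_range (a := 105450) (len := 95) h1110 m2_1110
  have h1112 : ∀ u < 105640, (fun u => chkFix tab mwordsA u) u = true := ext_range (a := 105545) (len := 95) h1111 m2_1111
  have h1113 : ∀ u < 105735, (fun u => chkFix tab mwordsA u) u = true := ext_range (a := 105640) (len := 95) h1112 m2_1112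
  have h1114 : ∀ u < 105830, (fun u => chkFix tab mwordsA u) u = true := ext_range (a := 105735) (len := 95) h1113 m2_1113
  have h1115 : ∀ u < 105925, (fun u => chkFix tab mwordsA u) u = true := ext_range (a := 105830) (len := 95) h1114 m2_1114
  have h1116 : ∀ u < 106020, (fun u => chkFix tab mwordsA u) u = true := ext_range (a := 105925) (len := 95) h1115 m2_1115
  have h1117 : ∀ u < 106115, (fun u => chkFix tab mwordsA u) u = true := ext_range (a := 106020) (len := 95) h1116 m2_1116
  have h1118 : ∀ u < 106210, (fun u => chkFix tab mwordsA u) u = true := ext_range (a := 106115) (len := 95) h1117 m2_1117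
  have h1119 : ∀ u < 106305, (fun u => chkFix tab mwordsA u) u = true := ext_range (a := 106210) (len := 95) h1118 m2_1118
  have h1120 : ∀ u < 106400, (fun u => chkFix tab mwordsA u) u = true := ext_range (a := 106305) (len := 95) h1119 m2_1119
  have h1121 : ∀ u < 106495, (fun u => chkFix tab mwordsA u) u = true := ext_range (a := 106400) (len := 95) h1120 m2_1120
  have h1122 : ∀ u < 106590, (fun u => chkFix tab mwordsA u) u = true := ext_range (a := 106495) (len := 95) h1121 m2_1121
  have h1123 : ∀ u < 106685, (fun u => chkFix tab mwordsA u) u = true := ext_range (a := 106590) (len := 95) h1122 m2_1122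
  have h1124 : ∀ u < 106780, (fun u => chkFix tab mwordsA u) u = true := ext_range (a := 106685) (len := 95) h1123 m2_1123
  have h1125 : ∀ u < 106875, (fun u => chkFix tab mwordsA u) u = true := ext_range (a := 106780) (len := 95) h1124 m2_1124
  have h1126 : ∀ u < 106970, (fun u => chkFix tab mwordsA u) u = true := ext_range (a := 106875) (len := 95) h1125 m2_1125
  have h1127 : ∀ u < 107065, (fun u => chkFix tab mwordsA u) u = true := ext_range (a := 106970) (len := 95) h1126 m2_1126
  have h1128 : ∀ u < 107160, (fun u => chkFix tab mwordsA u) u = true := ext_range (a := 107065) (len := 95) h1127 m2_1127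
  have h1129 : ∀ u < 107255, (fun u => chkFix tab mwordsA u) u = true := ext_range (a := 107160) (len := 95) h1128 m2_1128
  have h1130 : ∀ u < 107350, (fun u => chkFix tab mwordsA u) u = true := ext_range (a := 107255) (len := 95) h1129 m2_1129
  have h1131 : ∀ u < 107445, (fun u => chkFix tab mwordsA u) u = true := ext_range (a := 107350) (len := 95) h1130 m2_1130
  have h1132 : ∀ u < 107540, (fun u => chkFix tab mwordsA u) u = true := ext_range (a := 107445) (len := 95) h1131 m2_1131
  have h1133 : ∀ u < 107635, (fun u => chkFix tab mwordsA u) u = true := ext_range (a := 107540) (len := 95) h1132 m2_1132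
  have h1134 : ∀ u < 107730, (fun u => chkFix tab mwordsA u) u = true := ext_range (a := 107635) (len := 95) h1133 m2_1133
  have h1135 : ∀ u < 107825, (fun u => chkFix tab mwordsA u) u = true := ext_range (a := 107730) (len := 95) h1134 m2_1134
  have h1136 : ∀ u < 107920, (fun u => chkFix tab mwordsA u) u = true := ext_range (a := 107825) (len := 95) h1135 m2_1135
  have h1137 : ∀ u < 108015, (fun u => chkFix tab mwordsA u) u = true := ext_range (a := 107920) (len := 95) h1136 m2_1136
  have h1138 : ∀ u < 108110, (fun u => chkFix tab mwordsA u) u = true := ext_range (a := 108015) (len := 95) h1137 m2_1137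
  have h1139 : ∀ u < 108205, (fun u => chkFix tab mwordsA u) u = true := ext_range (a := 108110) (len := 95) h1138 m2_1138
  have h1140 : ∀ u < 108300, (fun u => chkFix tab mwordsA u) u = true := ext_range (a := 108205) (len := 95) h1139 m2_1139
  have h1141 : ∀ u < 108395, (fun u => chkFix tab mwordsA u) u = true := ext_range (a := 108300) (len := 95) h1140 m2_1140
  have h1142 : ∀ u < 108490, (fun u => chkFix tab mwordsA u) u = true := ext_range (a := 108395) (len := 95) h1141 m2_1141
  have h1143 : ∀ u < 108585, (fun u => chkFix tab mwordsA u) u = true := ext_range (a := 108490) (len := 95) h1142 m2_1142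
  have h1144 : ∀ u < 108680, (fun u => chkFix tab mwordsA u) u = true := ext_range (a := 108585) (len := 95) h1143 m2_1143
  have h1145 : ∀ u < 108775, (fun u => chkFix tab mwordsA u) u = true := ext_range (a := 108680) (len := 95) h1144 m2_1144
  have h1146 : ∀ u < 108870, (fun u => chkFix tab mwordsA u) u = true := ext_range (a := 108775) (len := 95) h1145 m2_1145
  have h1147 : ∀ u < 108965, (fun u => chkFix tab mwordsA u) u = true := ext_range (a := 108870) (len := 95) h1146 m2_1146
  have h1148 : ∀ u < 109060, (fun u => chkFix tab mwordsA u) u = true := ext_range (a := 108965) (len := 95) h1147 m2_1147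
  have h1149 : ∀ u < 109155, (fun u => chkFix tab mwordsA u) u = true := ext_range (a := 109060) (len := 95) h1148 m2_1148
  have h1150 : ∀ u < 109250, (fun u => chkFix tab mwordsA u) u = true := ext_range (a := 109155) (len := 95) h1149 m2_1149
  have h1151 : ∀ u < 109345, (fun u => chkFix tab mwordsA u) u = true := ext_range (a := 109250) (len := 95) h1150 m2_1150
  have h1152 : ∀ u < 109440, (fun u => chkFix tab mwordsA u) u = true := ext_range (a := 109345) (len := 95) h1151 m2_1151
  have h1153 : ∀ u < 109535, (fun u => chkFix tab mwordsA u) u = true := ext_range (a := 109440) (len := 95) h1152 m2_1152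
  have h1154 : ∀ u < 109630, (fun u => chkFix tab mwordsA u) u = true := ext_range (a := 109535) (len := 95) h1153 m2_1153
  have h1155 : ∀ u < 109725, (fun u => chkFix tab mwordsA u) u = true := ext_range (a := 109630) (len := 95) h1154 m2_1154
  have h1156 : ∀ u < 109820, (fun u => chkFix tab mwordsA u) u = true := ext_range (a := 109725) (len := 95) h1155 m2_1155
  have h1157 : ∀ u < 109915, (fun u => chkFix tab mwordsA u) u = true := ext_range (a := 109820) (len := 95) h1156 m2_1156
  have h1158 : ∀ u < 110010, (fun u => chkFix tab mwordsA u) u = true := ext_range (a := 109915) (len := 95) h1157 m2_1157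
  have h1159 : ∀ u < 110105, (fun u => chkFix tab mwordsA u) u = true := ext_range (a := 110010) (len := 95) h1158 m2_1158
  have h1160 : ∀ u < 110200, (fun u => chkFix tab mwordsA u) u = true := ext_range (a := 110105) (len := 95) h1159 m2_1159
  have h1161 : ∀ u < 110295, (fun u => chkFix tab mwordsA u) u = true := ext_range (a := 110200) (len := 95) h1160 m2_1160
  have h1162 : ∀ u < 110390, (fun u => chkFix tab mwordsA u) u = true := ext_range (a := 110295) (len := 95) h1161 m2_1161
  have h1163 : ∀ u < 110485, (fun u => chkFix tab mwordsA u) u = true := ext_range (a := 110390) (len := 95) h1162 m2_1162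
  have h1164 : ∀ u < 110580, (fun u => chkFix tab mwordsA u) u = true := ext_range (a := 110485) (len := 95) h1163 m2_1163
  have h1165 : ∀ u < 110675, (fun u => chkFix tab mwordsA u) u = true := ext_range (a := 110580) (len := 95) h1164 m2_1164
  have h1166 : ∀ u < 110770, (fun u => chkFix tab mwordsA u) u = true := ext_range (a := 110675) (len := 95) h1165 m2_1165
  have h1167 : ∀ u < 110865, (fun u => chkFix tab mwordsA u) u = true := ext_range (a := 110770) (len := 95) h1166 m2_1166
  have h1168 : ∀ u < 110960, (fun u => chkFix tab mwordsA u) u = true := ext_range (a := 110865) (len := 95) h1167 m2_1167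
  have h1169 : ∀ u < 111055, (fun u => chkFix tab mwordsA u) u = true := ext_range (a := 110960) (len := 95) h1168 m2_1168
  have h1170 : ∀ u < 111150, (fun u => chkFix tab mwordsA u) u = true := ext_range (a := 111055) (len := 95) h1169 m2_1169
  have h1171 : ∀ u < 111245, (fun u => chkFix tab mwordsA u) u = true := ext_range (a := 111150) (len := 95) h1170 m2_1170
  have h1172 : ∀ u < 111340, (fun u => chkFix tab mwordsA u) u = true := ext_range (a := 111245) (len := 95) h1171 m2_1171
  have h1173 : ∀ u < 111435, (fun u => chkFix tab mwordsA u) u = true := ext_range (a := 111340) (len := 95) h1172 m2_1172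
  have h1174 : ∀ u < 111530, (fun u => chkFix tab mwordsA u) u = true := ext_range (a := 111435) (len := 95) h1173 m2_1173
  have h1175 : ∀ u < 111625, (fun u => chkFix tab mwordsA u) u = true := ext_range (a := 111530) (len := 95) h1174 m2_1174
  have h1176 : ∀ u < 111720, (fun u => chkFix tab mwordsA u) u = true := ext_range (a := 111625) (len := 95) h1175 m2_1175
  have h1177 : ∀ u < 111815, (fun u => chkFix tab mwordsA u) u = true := ext_range (a := 111720) (len := 95) h1176 m2_1176
  have h1178 : ∀ u < 111910, (fun u => chkFix tab mwordsA u) u = true := ext_range (a := 111815) (len := 95) h1177 m2_1177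
  have h1179 : ∀ u < 112005, (fun u => chkFix tab mwordsA u) u = true := ext_range (a := 111910) (len := 95) h1178 m2_1178
  have h1180 : ∀ u < 112100, (fun u => chkFix tab mwordsA u) u = true := ext_range (a := 112005) (len := 95) h1179 m2_1179
  have h1181 : ∀ u < 112195, (fun u => chkFix tab mwordsA u) u = true := ext_range (a := 112100) (len := 95) h1180 m2_1180
  have h1182 : ∀ u < 112290, (fun u => chkFix tab mwordsA u) u = true := ext_range (a := 112195) (len := 95) h1181 m2_1181
  have h1183 : ∀ u < 112385, (fun u => chkFix tab mwordsA u) u = true := ext_range (a := 112290) (len := 95) h1182 m2_1182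
  have h1184 : ∀ u < 112480, (fun u => chkFix tab mwordsA u) u = true := ext_range (a := 112385) (len := 95) h1183 m2_1183
  have h1185 : ∀ u < 112575, (fun u => chkFix tab mwordsA u) u = true := ext_range (a := 112480) (len := 95) h1184 m2_1184
  have h1186 : ∀ u < 112670, (fun u => chkFix tab mwordsA u) u = true := ext_range (a := 112575) (len := 95) h1185 m2_1185
  have h1187 : ∀ u < 112765, (fun u => chkFix tab mwordsA u) u = true := ext_range (a := 112670) (len := 95) h1186 m2_1186
  have h1188 : ∀ u < 112860, (fun u => chkFix tab mwordsA u) u = true := ext_range (a := 112765) (len := 95) h1187 m2_1187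
  have h1189 : ∀ u < 112955, (fun u => chkFix tab mwordsA u) u = true := ext_range (a := 112860) (len := 95) h1188 m2_1188
  have h1190 : ∀ u < 113050, (fun u => chkFix tab mwordsA u) u = true := ext_range (a := 112955) (len := 95) h1189 m2_1189
  have h1191 : ∀ u < 113145, (fun u => chkFix tab mwordsA u) u = true := ext_range (a := 113050) (len := 95) h1190 m2_1190
  have h1192 : ∀ u < 113240, (fun u => chkFix tab mwordsA u) u = true := ext_range (a := 113145) (len := 95) h1191 m2_1191
  have h1193 : ∀ u < 113335, (fun u => chkFix tab mwordsA u) u = true := ext_range (a := 113240) (len := 95) h1192 m2_1192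
  have h1194 : ∀ u < 113430, (fun u => chkFix tab mwordsA u) u = true := ext_range (a := 113335) (len := 95) h1193 m2_1193
  have h1195 : ∀ u < 113525, (fun u => chkFix tab mwordsA u) u = true := ext_range (a := 113430) (len := 95) h1194 m2_1194
  have h1196 : ∀ u < 113620, (fun u => chkFix tab mwordsA u) u = true := ext_range (a := 113525) (len := 95) h1195 m2_1195
  have h1197 : ∀ u < 113715, (fun u => chkFix tab mwordsA u) u = true := ext_range (a := 113620) (len := 95) h1196 m2_1196
  have h1198 : ∀ u < 113810, (fun u => chkFix tab mwordsA u) u = true := ext_range (a := 113715) (len := 95) h1197 m2_1197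
  have h1199 : ∀ u < 113905, (fun u => chkFix tab mwordsA u) u = true := ext_range (a := 113810) (len := 95) h1198 m2_1198
  have h1200 : ∀ u < 114000, (fun u => chkFix tab mwordsA u) u = true := ext_range (a := 113905) (len := 95) h1199 m2_1199
  have h1201 : ∀ u < 114095, (fun u => chkFix tab mwordsA u) u = true := ext_range (a := 114000) (len := 95) h1200 m2_1200
  have h1202 : ∀ u < 114190, (fun u => chkFix tab mwordsA u) u = true := ext_range (a := 114095) (len := 95) h1201 m2_1201
  have h1203 : ∀ u < 114285, (fun u => chkFix tab mwordsA u) u = true := ext_range (a := 114190) (len := 95) h1202 m2_1202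
  have h1204 : ∀ u < 114380, (fun u => chkFix tab mwordsA u) u = true := ext_range (a := 114285) (len := 95) h1203 m2_1203
  have h1205 : ∀ u < 114475, (fun u => chkFix tab mwordsA u) u = true := ext_range (a := 114380) (len := 95) h1204 m2_1204
  have h1206 : ∀ u < 114570, (fun u => chkFix tab mwordsA u) u = true := ext_range (a := 114475) (len := 95) h1205 m2_1205
  have h1207 : ∀ u < 114665, (fun u => chkFix tab mwordsA u) u = true := ext_range (a := 114570) (len := 95) h1206 m2_1206
  have h1208 : ∀ u < 114760, (fun u => chkFix tab mwordsA u) u = true := ext_range (a := 114665) (len := 95) h1207 m2_1207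
  have h1209 : ∀ u < 114855, (fun u => chkFix tab mwordsA u) u = true := ext_range (a := 114760) (len := 95) h1208 m2_1208
  have h1210 : ∀ u < 114950, (fun u => chkFix tab mwordsA u) u = true := ext_range (a := 114855) (len := 95) h1209 m2_1209
  have h1211 : ∀ u < 115045, (fun u => chkFix tab mwordsA u) u = true := ext_range (a := 114950) (len := 95) h1210 m2_1210
  have h1212 : ∀ u < 115140, (fun u => chkFix tab mwordsA u) u = true := ext_range (a := 115045) (len := 95) h1211 m2_1211
  have h1213 : ∀ u < 115235, (fun u => chkFix tab mwordsA u) u = true := ext_range (a := 115140) (len := 95) h1212 m2_1212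
  have h1214 : ∀ u < 115330, (fun u => chkFix tab mwordsA u) u = true := ext_range (a := 115235) (len := 95) h1213 m2_1213
  have h1215 : ∀ u < 115425, (fun u => chkFix tab mwordsA u) u = true := ext_range (a := 115330) (len := 95) h1214 m2_1214
  have h1216 : ∀ u < 115520, (fun u => chkFix tab mwordsA u) u = true := ext_range (a := 115425) (len := 95) h1215 m2_1215
  have h1217 : ∀ u < 115615, (fun u => chkFix tab mwordsA u) u = true := ext_range (a := 115520) (len := 95) h1216 m2_1216
  have h1218 : ∀ u < 115710, (fun u => chkFix tab mwordsA u) u = true := ext_range (a := 115615) (len := 95) h1217 m2_1217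
  have h1219 : ∀ u < 115805, (fun u => chkFix tab mwordsA u) u = true := ext_range (a := 115710) (len := 95) h1218 m2_1218
  have h1220 : ∀ u < 115900, (fun u => chkFix tab mwordsA u) u = true := ext_range (a := 115805) (len := 95) h1219 m2_1219
  have h1221 : ∀ u < 115995, (fun u => chkFix tab mwordsA u) u = true := ext_range (a := 115900) (len := 95) h1220 m2_1220
  have h1222 : ∀ u < 116090, (fun u => chkFix tab mwordsA u) u = true := ext_range (a := 115995) (len := 95) h1221 m2_1221
  have h1223 : ∀ u < 116185, (fun u => chkFix tab mwordsA u) u = true := ext_range (a := 116090) (len := 95) h1222 m2_1222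
  have h1224 : ∀ u < 116280, (fun u => chkFix tab mwordsA u) u = true := ext_range (a := 116185) (len := 95) h1223 m2_1223
  have h1225 : ∀ u < 116375, (fun u => chkFix tab mwordsA u) u = true := ext_range (a := 116280) (len := 95) h1224 m2_1224
  have h1226 : ∀ u < 116470, (fun u => chkFix tab mwordsA u) u = true := ext_range (a := 116375) (len := 95) h1225 m2_1225
  have h1227 : ∀ u < 116565, (fun u => chkFix tab mwordsA u) u = true := ext_range (a := 116470) (len := 95) h1226 m2_1226
  have h1228 : ∀ u < 116660, (fun u => chkFix tab mwordsA u) u = true := ext_range (a := 116565) (len := 95) h1227 m2_1227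
  have h1229 : ∀ u < 116755, (fun u => chkFix tab mwordsA u) u = true := ext_range (a := 116660) (len := 95) h1228 m2_1228
  have h1230 : ∀ u < 116850, (fun u => chkFix tab mwordsA u) u = true := ext_range (a := 116755) (len := 95) h1229 m2_1229
  have h1231 : ∀ u < 116945, (fun u => chkFix tab mwordsA u) u = true := ext_range (a := 116850) (len := 95) h1230 m2_1230
  have h1232 : ∀ u < 117040, (fun u => chkFix tab mwordsA u) u = true := ext_range (a := 116945) (len := 95) h1231 m2_1231
  have h1233 : ∀ u < 117135, (fun u => chkFix tab mwordsA u) u = true := ext_range (a := 117040) (len := 95) h1232 m2_1232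
  have h1234 : ∀ u < 117230, (fun u => chkFix tab mwordsA u) u = true := ext_range (a := 117135) (len := 95) h1233 m2_1233
  have h1235 : ∀ u < 117325, (fun u => chkFix tab mwordsA u) u = true := ext_range (a := 117230) (len := 95) h1234 m2_1234
  have h1236 : ∀ u < 117420, (fun u => chkFix tab mwordsA u) u = true := ext_range (a := 117325) (len := 95) h1235 m2_1235
  have h1237 : ∀ u < 117515, (fun u => chkFix tab mwordsA u) u = true := ext_range (a := 117420) (len := 95) h1236 m2_1236
  have h1238 : ∀ u < 117610, (fun u => chkFix tab mwordsA u) u = true := ext_range (a := 117515) (len := 95) h1237 m2_1237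
  have h1239 : ∀ u < 117705, (fun u => chkFix tab mwordsA u) u = true := ext_range (a := 117610) (len := 95) h1238 m2_1238
  have h1240 : ∀ u < 117800, (fun u => chkFix tab mwordsA u) u = true := ext_range (a := 117705) (len := 95) h1239 m2_1239
  have h1241 : ∀ u < 117895, (fun u => chkFix tab mwordsA u) u = true := ext_range (a := 117800) (len := 95) h1240 m2_1240
  have h1242 : ∀ u < 117990, (fun u => chkFix tab mwordsA u) u = true := ext_range (a := 117895) (len := 95) h1241 m2_1241
  have h1243 : ∀ u < 118085, (fun u => chkFix tab mwordsA u) u = true := ext_range (a := 117990) (len := 95) h1242 m2_1242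
  have h1244 : ∀ u < 118180, (fun u => chkFix tab mwordsA u) u = true := ext_range (a := 118085) (len := 95) h1243 m2_1243
  have h1245 : ∀ u < 118275, (fun u => chkFix tab mwordsA u) u = true := ext_range (a := 118180) (len := 95) h1244 m2_1244
  have h1246 : ∀ u < 118370, (fun u => chkFix tab mwordsA u) u = true := ext_range (a := 118275) (len := 95) h1245 m2_1245
  have h1247 : ∀ u < 118465, (fun u => chkFix tab mwordsA u) u = true := ext_range (a := 118370) (len := 95) h1246 m2_1246
  have h1248 : ∀ u < 118560, (fun u => chkFix tab mwordsA u) u = true := ext_range (a := 118465) (len := 95) h1247 m2_1247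
  have h1249 : ∀ u < 118655, (fun u => chkFix tab mwordsA u) u = true := ext_range (a := 118560) (len := 95) h1248 m2_1248
  have h1250 : ∀ u < 118750, (fun u => chkFix tab mwordsA u) u = true := ext_range (a := 118655) (len := 95) h1249 m2_1249
  have h1251 : ∀ u < 118845, (fun u => chkFix tab mwordsA u) u = true := ext_range (a := 118750) (len := 95) h1250 m2_1250
  have h1252 : ∀ u < 118940, (fun u => chkFix tab mwordsA u) u = true := ext_range (a := 118845) (len := 95) h1251 m2_1251
  have h1253 : ∀ u < 119035, (fun u => chkFix tab mwordsA u) u = true := ext_range (a := 118940) (len := 95) h1252 m2_1252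
  have h1254 : ∀ u < 119130, (fun u => chkFix tab mwordsA u) u = true := ext_range (a := 119035) (len := 95) h1253 m2_1253
  have h1255 : ∀ u < 119225, (fun u => chkFix tab mwordsA u) u = true := ext_range (a := 119130) (len := 95) h1254 m2_1254
  have h1256 : ∀ u < 119320, (fun u => chkFix tab mwordsA u) u = true := ext_range (a := 119225) (len := 95) h1255 m2_1255
  have h1257 : ∀ u < 119415, (fun u => chkFix tab mwordsA u) u = true := ext_range (a := 119320) (len := 95) h1256 m2_1256
  have h1258 : ∀ u < 119510, (fun u => chkFix tab mwordsA u) u = true := ext_range (a := 119415) (len := 95) h1257 m2_1257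
  have h1259 : ∀ u < 119605, (fun u => chkFix tab mwordsA u) u = true := ext_range (a := 119510) (len := 95) h1258 m2_1258
  have h1260 : ∀ u < 119700, (fun u => chkFix tab mwordsA u) u = true := ext_range (a := 119605) (len := 95) h1259 m2_1259
  have h1261 : ∀ u < 119795, (fun u => chkFix tab mwordsA u) u = true := ext_range (a := 119700) (len := 95) h1260 m2_1260
  have h1262 : ∀ u < 119890, (fun u => chkFix tab mwordsA u) u = true := ext_range (a := 119795) (len := 95) h1261 m2_1261
  have h1263 : ∀ u < 119985, (fun u => chkFix tab mwordsA u) u = true := ext_range (a := 119890) (len := 95) h1262 m2_1262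
  have h1264 : ∀ u < 120080, (fun u => chkFix tab mwordsA u) u = true := ext_range (a := 119985) (len := 95) h1263 m2_1263
  have h1265 : ∀ u < 120175, (fun u => chkFix tab mwordsA u) u = true := ext_range (a := 120080) (len := 95) h1264 m2_1264
  have h1266 : ∀ u < 120270, (fun u => chkFix tab mwordsA u) u = true := ext_range (a := 120175) (len := 95) h1265 m2_1265
  have h1267 : ∀ u < 120365, (fun u => chkFix tab mwordsA u) u = true := ext_range (a := 120270) (len := 95) h1266 m2_1266
  have h1268 : ∀ u < 120460, (fun u => chkFix tab mwordsA u) u = true := ext_range (a := 120365) (len := 95) h1267 m2_1267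
  have h1269 : ∀ u < 120555, (fun u => chkFix tab mwordsA u) u = true := ext_range (a := 120460) (len := 95) h1268 m2_1268
  have h1270 : ∀ u < 120650, (fun u => chkFix tab mwordsA u) u = true := ext_range (a := 120555) (len := 95) h1269 m2_1269
  have h1271 : ∀ u < 120745, (fun u => chkFix tab mwordsA u) u = true := ext_range (a := 120650) (len := 95) h1270 m2_1270
  have h1272 : ∀ u < 120840, (fun u => chkFix tab mwordsA u) u = true := ext_range (a := 120745) (len := 95) h1271 m2_1271
  have h1273 : ∀ u < 120935, (fun u => chkFix tab mwordsA u) u = true := ext_range (a := 120840) (len := 95) h1272 m2_1272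
  have h1274 : ∀ u < 121030, (fun u => chkFix tab mwordsA u) u = true := ext_range (a := 120935) (len := 95) h1273 m2_1273
  have h1275 : ∀ u < 121125, (fun u => chkFix tab mwordsA u) u = true := ext_range (a := 121030) (len := 95) h1274 m2_1274
  have h1276 : ∀ u < 121220, (fun u => chkFix tab mwordsA u) u = true := ext_range (a := 121125) (len := 95) h1275 m2_1275
  have h1277 : ∀ u < 121315, (fun u => chkFix tab mwordsA u) u = true := ext_range (a := 121220) (len := 95) h1276 m2_1276
  have h1278 : ∀ u < 121410, (fun u => chkFix tab mwordsA u) u = true := ext_range (a := 121315) (len := 95) h1277 m2_1277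
  have h1279 : ∀ u < 121505, (fun u => chkFix tab mwordsA u) u = true := ext_range (a := 121410) (len := 95) h1278 m2_1278
  have h1280 : ∀ u < 121600, (fun u => chkFix tab mwordsA u) u = true := ext_range (a := 121505) (len := 95) h1279 m2_1279
  have h1281 : ∀ u < 121695, (fun u => chkFix tab mwordsA u) u = true := ext_range (a := 121600) (len := 95) h1280 m2_1280
  have h1282 : ∀ u < 121790, (fun u => chkFix tab mwordsA u) u = true := ext_range (a := 121695) (len := 95) h1281 m2_1281
  have h1283 : ∀ u < 121885, (fun u => chkFix tab mwordsA u) u = true := ext_range (a := 121790) (len := 95) h1282 m2_1282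
  have h1284 : ∀ u < 121980, (fun u => chkFix tab mwordsA u) u = true := ext_range (a := 121885) (len := 95) h1283 m2_1283
  have h1285 : ∀ u < 122075, (fun u => chkFix tab mwordsA u) u = true := ext_range (a := 121980) (len := 95) h1284 m2_1284
  have h1286 : ∀ u < 122170, (fun u => chkFix tab mwordsA u) u = true := ext_range (a := 122075) (len := 95) h1285 m2_1285
  have h1287 : ∀ u < 122265, (fun u => chkFix tab mwordsA u) u = true := ext_range (a := 122170) (len := 95) h1286 m2_1286
  have h1288 : ∀ u < 122360, (fun u => chkFix tab mwordsA u) u = true := ext_range (a := 122265) (len := 95) h1287 m2_1287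
  have h1289 : ∀ u < 122455, (fun u => chkFix tab mwordsA u) u = true := ext_range (a := 122360) (len := 95) h1288 m2_1288
  have h1290 : ∀ u < 122550, (fun u => chkFix tab mwordsA u) u = true := ext_range (a := 122455) (len := 95) h1289 m2_1289
  have h1291 : ∀ u < 122645, (fun u => chkFix tab mwordsA u) u = true := ext_range (a := 122550) (len := 95) h1290 m2_1290
  have h1292 : ∀ u < 122740, (fun u => chkFix tab mwordsA u) u = true := ext_range (a := 122645) (len := 95) h1291 m2_1291
  have h1293 : ∀ u < 122760, (fun u => chkFix tab mwordsA u) u = true := ext_range (a := 122740) (len := 20) h1292 m2_1292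
  exact h1293

theorem hO1 : ∀ u < 122760, chkO1 tab orb u = true := by
  have h0 : ∀ u < 0, (fun u => chkO1 tab orb u) u = true := range_zero
  have h1 : ∀ u < 513, (fun u => chkO1 tab orb u) u = true := ext_range (a := 0) (len := 513) h0 o1_0
  have h2 : ∀ u < 1026, (fun u => chkO1 tab orb u) u = true := ext_range (a := 513) (len := 513) h1 o1_1
  have h3 : ∀ u < 1539, (fun u => chkO1 tab orb u) u = true := ext_range (a := 1026) (len := 513) h2 o1_2
  have h4 : ∀ u < 2052, (fun u => chkO1 tab orb u) u = true := ext_range (a := 1539) (len := 513) h3 o1_3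
  have h5 : ∀ u < 2565, (fun u => chkO1 tab orb u) u = true := ext_range (a := 2052) (len := 513) h4 o1_4
  have h6 : ∀ u < 3078, (fun u => chkO1 tab orb u) u = true := ext_range (a := 2565) (len := 513) h5 o1_5
  have h7 : ∀ u < 3591, (fun u => chkO1 tab orb u) u = true := ext_range (a := 3078) (len := 513) h6 o1_6
  have h8 : ∀ u < 4104, (fun u => chkO1 tab orb u) u = true := ext_range (a := 3591) (len := 513) h7 o1_7
  have h9 : ∀ u < 4617, (fun u => chkO1 tab orb u) u = true := ext_range (a := 4104) (len := 513) h8 o1_8
  have h10 : ∀ u < 5130, (fun u => chkO1 tab orb u) u = true := ext_range (a := 4617) (len := 513) h9 o1_9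
  have h11 : ∀ u < 5643, (fun u => chkO1 tab orb u) u = true := ext_range (a := 5130) (len := 513) h10 o1_10
  have h12 : ∀ u < 6156, (fun u => chkO1 tab orb u) u = true := ext_range (a := 5643) (len := 513) h11 o1_11
  have h13 : ∀ u < 6669, (fun u => chkO1 tab orb u) u = true := ext_range (a := 6156) (len := 513) h12 o1_12
  have h14 : ∀ u < 7182, (fun u => chkO1 tab orb u) u = true := ext_range (a := 6669) (len := 513) h13 o1_13
  have h15 : ∀ u < 7695, (fun u => chkO1 tab orb u) u = true := ext_range (a := 7182) (len := 513) h14 o1_14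
  have h16 : ∀ u < 8208, (fun u => chkO1 tab orb u) u = true := ext_range (a := 7695) (len := 513) h15 o1_15
  have h17 : ∀ u < 8721, (fun u => chkO1 tab orb u) u = true := ext_range (a := 8208) (len := 513) h16 o1_16
  have h18 : ∀ u < 9234, (fun u => chkO1 tab orb u) u = true := ext_range (a := 8721) (len := 513) h17 o1_17
  have h19 : ∀ u < 9747, (fun u => chkO1 tab orb u) u = true := ext_range (a := 9234) (len := 513) h18 o1_18
  have h20 : ∀ u < 10260, (fun u => chkO1 tab orb u) u = true := ext_range (a := 9747) (len := 513) h19 o1_19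
  have h21 : ∀ u < 10773, (fun u => chkO1 tab orb u) u = true := ext_range (a := 10260) (len := 513) h20 o1_20
  have h22 : ∀ u < 11286, (fun u => chkO1 tab orb u) u = true := ext_range (a := 10773) (len := 513) h21 o1_21
  have h23 : ∀ u < 11799, (fun u => chkO1 tab orb u) u = true := ext_range (a := 11286) (len := 513) h22 o1_22
  have h24 : ∀ u < 12312, (fun u => chkO1 tab orb u) u = true := ext_range (a := 11799) (len := 513) h23 o1_23
  have h25 : ∀ u < 12825, (fun u => chkO1 tab orb u) u = true := ext_range (a := 12312) (len := 513) h24 o1_24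
  have h26 : ∀ u < 13338, (fun u => chkO1 tab orb u) u = true := ext_range (a := 12825) (len := 513) h25 o1_25
  have h27 : ∀ u < 13851, (fun u => chkO1 tab orb u) u = true := ext_range (a := 13338) (len := 513) h26 o1_26
  have h28 : ∀ u < 14364, (fun u => chkO1 tab orb u) u = true := ext_range (a := 13851) (len := 513) h27 o1_27
  have h29 : ∀ u < 14877, (fun u => chkO1 tab orb u) u = true := ext_range (a := 14364) (len := 513) h28 o1_28
  have h30 : ∀ u < 15390, (fun u => chkO1 tab orb u) u = true := ext_range (a := 14877) (len := 513) h29 o1_29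
  have h31 : ∀ u < 15903, (fun u => chkO1 tab orb u) u = true := ext_range (a := 15390) (len := 513) h30 o1_30
  have h32 : ∀ u < 16416, (fun u => chkO1 tab orb u) u = true := ext_range (a := 15903) (len := 513) h31 o1_31
  have h33 : ∀ u < 16929, (fun u => chkO1 tab orb u) u = true := ext_range (a := 16416) (len := 513) h32 o1_32
  have h34 : ∀ u < 17442, (fun u => chkO1 tab orb u) u = true := ext_range (a := 16929) (len := 513) h33 o1_33
  have h35 : ∀ u < 17955, (fun u => chkO1 tab orb u) u = true := ext_range (a := 17442) (len := 513) h34 o1_34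
  have h36 : ∀ u < 18468, (fun u => chkO1 tab orb u) u = true := ext_range (a := 17955) (len := 513) h35 o1_35
  have h37 : ∀ u < 18981, (fun u => chkO1 tab orb u) u = true := ext_range (a := 18468) (len := 513) h36 o1_36
  have h38 : ∀ u < 19494, (fun u => chkO1 tab orb u) u = true := ext_range (a := 18981) (len := 513) h37 o1_37
  have h39 : ∀ u < 20007, (fun u => chkO1 tab orb u) u = true := ext_range (a := 19494) (len := 513) h38 o1_38
  have h40 : ∀ u < 20520, (fun u => chkO1 tab orb u) u = true := ext_range (a := 20007) (len := 513) h39 o1_39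
  have h41 : ∀ u < 21033, (fun u => chkO1 tab orb u) u = true := ext_range (a := 20520) (len := 513) h40 o1_40
  have h42 : ∀ u < 21546, (fun u => chkO1 tab orb u) u = true := ext_range (a := 21033) (len := 513) h41 o1_41
  have h43 : ∀ u < 22059, (fun u => chkO1 tab orb u) u = true := ext_range (a := 21546) (len := 513) h42 o1_42
  have h44 : ∀ u < 22572, (fun u => chkO1 tab orb u) u = true := ext_range (a := 22059) (len := 513) h43 o1_43
  have h45 : ∀ u < 23085, (fun u => chkO1 tab orb u) u = true := ext_range (a := 22572) (len := 513) h44 o1_44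
  have h46 : ∀ u < 23598, (fun u => chkO1 tab orb u) u = true := ext_range (a := 23085) (len := 513) h45 o1_45
  have h47 : ∀ u < 24111, (fun u => chkO1 tab orb u) u = true := ext_range (a := 23598) (len := 513) h46 o1_46
  have h48 : ∀ u < 24624, (fun u => chkO1 tab orb u) u = true := ext_range (a := 24111) (len := 513) h47 o1_47
  have h49 : ∀ u < 25137, (fun u => chkO1 tab orb u) u = true := ext_range (a := 24624) (len := 513) h48 o1_48
  have h50 : ∀ u < 25650, (fun u => chkO1 tab orb u) u = true := ext_range (a := 25137) (len := 513) h49 o1_49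
  have h51 : ∀ u < 26163, (fun u => chkO1 tab orb u) u = true := ext_range (a := 25650) (len := 513) h50 o1_50
  have h52 : ∀ u < 26676, (fun u => chkO1 tab orb u) u = true := ext_range (a := 26163) (len := 513) h51 o1_51
  have h53 : ∀ u < 27189, (fun u => chkO1 tab orb u) u = true := ext_range (a := 26676) (len := 513) h52 o1_52
  have h54 : ∀ u < 27702, (fun u => chkO1 tab orb u) u = true := ext_range (a := 27189) (len := 513) h53 o1_53
  have h55 : ∀ u < 28215, (fun u => chkO1 tab orb u) u = true := ext_range (a := 27702) (len := 513) h54 o1_54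
  have h56 : ∀ u < 28728, (fun u => chkO1 tab orb u) u = true := ext_range (a := 28215) (len := 513) h55 o1_55
  have h57 : ∀ u < 29241, (fun u => chkO1 tab orb u) u = true := ext_range (a := 28728) (len := 513) h56 o1_56
  have h58 : ∀ u < 29754, (fun u => chkO1 tab orb u) u = true := ext_range (a := 29241) (len := 513) h57 o1_57
  have h59 : ∀ u < 30267, (fun u => chkO1 tab orb u) u = true := ext_range (a := 29754) (len := 513) h58 o1_58
  have h60 : ∀ u < 30780, (fun u => chkO1 tab orb u) u = true := ext_range (a := 30267) (len := 513) h59 o1_59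
  have h61 : ∀ u < 31293, (fun u => chkO1 tab orb u) u = true := ext_range (a := 30780) (len := 513) h60 o1_60
  have h62 : ∀ u < 31806, (fun u => chkO1 tab orb u) u = true := ext_range (a := 31293) (len := 513) h61 o1_61
  have h63 : ∀ u < 32319, (fun u => chkO1 tab orb u) u = true := ext_range (a := 31806) (len := 513) h62 o1_62
  have h64 : ∀ u < 32832, (fun u => chkO1 tab orb u) u = true := ext_range (a := 32319) (len := 513) h63 o1_63
  have h65 : ∀ u < 33345, (fun u => chkO1 tab orb u) u = true := ext_range (a := 32832) (len := 513) h64 o1_64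
  have h66 : ∀ u < 33858, (fun u => chkO1 tab orb u) u = true := ext_range (a := 33345) (len := 513) h65 o1_65
  have h67 : ∀ u < 34371, (fun u => chkO1 tab orb u) u = true := ext_range (a := 33858) (len := 513) h66 o1_66
  have h68 : ∀ u < 34884, (fun u => chkO1 tab orb u) u = true := ext_range (a := 34371) (len := 513) h67 o1_67
  have h69 : ∀ u < 35397, (fun u => chkO1 tab orb u) u = true := ext_range (a := 34884) (len := 513) h68 o1_68
  have h70 : ∀ u < 35910, (fun u => chkO1 tab orb u) u = true := ext_range (a := 35397) (len := 513) h69 o1_69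
  have h71 : ∀ u < 36423, (fun u => chkO1 tab orb u) u = true := ext_range (a := 35910) (len := 513) h70 o1_70
  have h72 : ∀ u < 36936, (fun u => chkO1 tab orb u) u = true := ext_range (a := 36423) (len := 513) h71 o1_71
  have h73 : ∀ u < 37449, (fun u => chkO1 tab orb u) u = true := ext_range (a := 36936) (len := 513) h72 o1_72
  have h74 : ∀ u < 37962, (fun u => chkO1 tab orb u) u = true := ext_range (a := 37449) (len := 513) h73 o1_73
  have h75 : ∀ u < 38475, (fun u => chkO1 tab orb u) u = true := ext_range (a := 37962) (len := 513) h74 o1_74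
  have h76 : ∀ u < 38988, (fun u => chkO1 tab orb u) u = true := ext_range (a := 38475) (len := 513) h75 o1_75
  have h77 : ∀ u < 39501, (fun u => chkO1 tab orb u) u = true := ext_range (a := 38988) (len := 513) h76 o1_76
  have h78 : ∀ u < 40014, (fun u => chkO1 tab orb u) u = true := ext_range (a := 39501) (len := 513) h77 o1_77
  have h79 : ∀ u < 40527, (fun u => chkO1 tab orb u) u = true := ext_range (a := 40014) (len := 513) h78 o1_78
  have h80 : ∀ u < 41040, (fun u => chkO1 tab orb u) u = true := ext_range (a := 40527) (len := 513) h79 o1_79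
  have h81 : ∀ u < 41553, (fun u => chkO1 tab orb u) u = true := ext_range (a := 41040) (len := 513) h80 o1_80
  have h82 : ∀ u < 42066, (fun u => chkO1 tab orb u) u = true := ext_range (a := 41553) (len := 513) h81 o1_81
  have h83 : ∀ u < 42579, (fun u => chkO1 tab orb u) u = true := ext_range (a := 42066) (len := 513) h82 o1_82
  have h84 : ∀ u < 43092, (fun u => chkO1 tab orb u) u = true := ext_range (a := 42579) (len := 513) h83 o1_83
  have h85 : ∀ u < 43605, (fun u => chkO1 tab orb u) u = true := ext_range (a := 43092) (len := 513) h84 o1_84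
  have h86 : ∀ u < 44118, (fun u => chkO1 tab orb u) u = true := ext_range (a := 43605) (len := 513) h85 o1_85
  have h87 : ∀ u < 44631, (fun u => chkO1 tab orb u) u = true := ext_range (a := 44118) (len := 513) h86 o1_86
  have h88 : ∀ u < 45144, (fun u => chkO1 tab orb u) u = true := ext_range (a := 44631) (len := 513) h87 o1_87
  have h89 : ∀ u < 45657, (fun u => chkO1 tab orb u) u = true := ext_range (a := 45144) (len := 513) h88 o1_88
  have h90 : ∀ u < 46170, (fun u => chkO1 tab orb u) u = true := ext_range (a := 45657) (len := 513) h89 o1_89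
  have h91 : ∀ u < 46683, (fun u => chkO1 tab orb u) u = true := ext_range (a := 46170) (len := 513) h90 o1_90
  have h92 : ∀ u < 47196, (fun u => chkO1 tab orb u) u = true := ext_range (a := 46683) (len := 513) h91 o1_91
  have h93 : ∀ u < 47709, (fun u => chkO1 tab orb u) u = true := ext_range (a := 47196) (len := 513) h92 o1_92
  have h94 : ∀ u < 48222, (fun u => chkO1 tab orb u) u = true := ext_range (a := 47709) (len := 513) h93 o1_93
  have h95 : ∀ u < 48735, (fun u => chkO1 tab orb u) u = true := ext_range (a := 48222) (len := 513) h94 o1_94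
  have h96 : ∀ u < 49248, (fun u => chkO1 tab orb u) u = true := ext_range (a := 48735) (len := 513) h95 o1_95
  have h97 : ∀ u < 49761, (fun u => chkO1 tab orb u) u = true := ext_range (a := 49248) (len := 513) h96 o1_96
  have h98 : ∀ u < 50274, (fun u => chkO1 tab orb u) u = true := ext_range (a := 49761) (len := 513) h97 o1_97
  have h99 : ∀ u < 50787, (fun u => chkO1 tab orb u) u = true := ext_range (a := 50274) (len := 513) h98 o1_98
  have h100 : ∀ u < 51300, (fun u => chkO1 tab orb u) u = true := ext_range (a := 50787) (len := 513) h99 o1_99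
  have h101 : ∀ u < 51813, (fun u => chkO1 tab orb u) u = true := ext_range (a := 51300) (len := 513) h100 o1_100
  have h102 : ∀ u < 52326, (fun u => chkO1 tab orb u) u = true := ext_range (a := 51813) (len := 513) h101 o1_101
  have h103 : ∀ u < 52839, (fun u => chkO1 tab orb u) u = true := ext_range (a := 52326) (len := 513) h102 o1_102
  have h104 : ∀ u < 53352, (fun u => chkO1 tab orb u) u = true := ext_range (a := 52839) (len := 513) h103 o1_103
  have h105 : ∀ u < 53865, (fun u => chkO1 tab orb u) u = true := ext_range (a := 53352) (len := 513) h104 o1_104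
  have h106 : ∀ u < 54378, (fun u => chkO1 tab orb u) u = true := ext_range (a := 53865) (len := 513) h105 o1_105
  have h107 : ∀ u < 54891, (fun u => chkO1 tab orb u) u = true := ext_range (a := 54378) (len := 513) h106 o1_106
  have h108 : ∀ u < 55404, (fun u => chkO1 tab orb u) u = true := ext_range (a := 54891) (len := 513) h107 o1_107
  have h109 : ∀ u < 55917, (fun u => chkO1 tab orb u) u = true := ext_range (a := 55404) (len := 513) h108 o1_108
  have h110 : ∀ u < 56430, (fun u => chkO1 tab orb u) u = true := ext_range (a := 55917) (len := 513) h109 o1_109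
  have h111 : ∀ u < 56943, (fun u => chkO1 tab orb u) u = true := ext_range (a := 56430) (len := 513) h110 o1_110
  have h112 : ∀ u < 57456, (fun u => chkO1 tab orb u) u = true := ext_range (a := 56943) (len := 513) h111 o1_111
  have h113 : ∀ u < 57969, (fun u => chkO1 tab orb u) u = true := ext_range (a := 57456) (len := 513) h112 o1_112
  have h114 : ∀ u < 58482, (fun u => chkO1 tab orb u) u = true := ext_range (a := 57969) (len := 513) h113 o1_113
  have h115 : ∀ u < 58995, (fun u => chkO1 tab orb u) u = true := ext_range (a := 58482) (len := 513) h114 o1_114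
  have h116 : ∀ u < 59508, (fun u => chkO1 tab orb u) u = true := ext_range (a := 58995) (len := 513) h115 o1_115
  have h117 : ∀ u < 60021, (fun u => chkO1 tab orb u) u = true := ext_range (a := 59508) (len := 513) h116 o1_116
  have h118 : ∀ u < 60534, (fun u => chkO1 tab orb u) u = true := ext_range (a := 60021) (len := 513) h117 o1_117
  have h119 : ∀ u < 61047, (fun u => chkO1 tab orb u) u = true := ext_range (a := 60534) (len := 513) h118 o1_118
  have h120 : ∀ u < 61560, (fun u => chkO1 tab orb u) u = true := ext_range (a := 61047) (len := 513) h119 o1_119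
  have h121 : ∀ u < 62073, (fun u => chkO1 tab orb u) u = true := ext_range (a := 61560) (len := 513) h120 o1_120
  have h122 : ∀ u < 62586, (fun u => chkO1 tab orb u) u = true := ext_range (a := 62073) (len := 513) h121 o1_121
  have h123 : ∀ u < 63099, (fun u => chkO1 tab orb u) u = true := ext_range (a := 62586) (len := 513) h122 o1_122
  have h124 : ∀ u < 63612, (fun u => chkO1 tab orb u) u = true := ext_range (a := 63099) (len := 513) h123 o1_123
  have h125 : ∀ u < 64125, (fun u => chkO1 tab orb u) u = true := ext_range (a := 63612) (len := 513) h124 o1_124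
  have h126 : ∀ u < 64638, (fun u => chkO1 tab orb u) u = true := ext_range (a := 64125) (len := 513) h125 o1_125
  have h127 : ∀ u < 65151, (fun u => chkO1 tab orb u) u = true := ext_range (a := 64638) (len := 513) h126 o1_126
  have h128 : ∀ u < 65664, (fun u => chkO1 tab orb u) u = true := ext_range (a := 65151) (len := 513) h127 o1_127
  have h129 : ∀ u < 66177, (fun u => chkO1 tab orb u) u = true := ext_range (a := 65664) (len := 513) h128 o1_128
  have h130 : ∀ u < 66690, (fun u => chkO1 tab orb u) u = true := ext_range (a := 66177) (len := 513) h129 o1_129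
  have h131 : ∀ u < 67203, (fun u => chkO1 tab orb u) u = true := ext_range (a := 66690) (len := 513) h130 o1_130
  have h132 : ∀ u < 67716, (fun u => chkO1 tab orb u) u = true := ext_range (a := 67203) (len := 513) h131 o1_131
  have h133 : ∀ u < 68229, (fun u => chkO1 tab orb u) u = true := ext_range (a := 67716) (len := 513) h132 o1_132
  have h134 : ∀ u < 68742, (fun u => chkO1 tab orb u) u = true := ext_range (a := 68229) (len := 513) h133 o1_133
  have h135 : ∀ u < 69255, (fun u => chkO1 tab orb u) u = true := ext_range (a := 68742) (len := 513) h134 o1_134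
  have h136 : ∀ u < 69768, (fun u => chkO1 tab orb u) u = true := ext_range (a := 69255) (len := 513) h135 o1_135
  have h137 : ∀ u < 70281, (fun u => chkO1 tab orb u) u = true := ext_range (a := 69768) (len := 513) h136 o1_136
  have h138 : ∀ u < 70794, (fun u => chkO1 tab orb u) u = true := ext_range (a := 70281) (len := 513) h137 o1_137
  have h139 : ∀ u < 71307, (fun u => chkO1 tab orb u) u = true := ext_range (a := 70794) (len := 513) h138 o1_138
  have h140 : ∀ u < 71820, (fun u => chkO1 tab orb u) u = true := ext_range (a := 71307) (len := 513) h139 o1_139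
  have h141 : ∀ u < 72333, (fun u => chkO1 tab orb u) u = true := ext_range (a := 71820) (len := 513) h140 o1_140
  have h142 : ∀ u < 72846, (fun u => chkO1 tab orb u) u = true := ext_range (a := 72333) (len := 513) h141 o1_141
  have h143 : ∀ u < 73359, (fun u => chkO1 tab orb u) u = true := ext_range (a := 72846) (len := 513) h142 o1_142
  have h144 : ∀ u < 73872, (fun u => chkO1 tab orb u) u = true := ext_range (a := 73359) (len := 513) h143 o1_143
  have h145 : ∀ u < 74385, (fun u => chkO1 tab orb u) u = true := ext_range (a := 73872) (len := 513) h144 o1_144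
  have h146 : ∀ u < 74898, (fun u => chkO1 tab orb u) u = true := ext_range (a := 74385) (len := 513) h145 o1_145
  have h147 : ∀ u < 75411, (fun u => chkO1 tab orb u) u = true := ext_range (a := 74898) (len := 513) h146 o1_146
  have h148 : ∀ u < 75924, (fun u => chkO1 tab orb u) u = true := ext_range (a := 75411) (len := 513) h147 o1_147
  have h149 : ∀ u < 76437, (fun u => chkO1 tab orb u) u = true := ext_range (a := 75924) (len := 513) h148 o1_148
  have h150 : ∀ u < 76950, (fun u => chkO1 tab orb u) u = true := ext_range (a := 76437) (len := 513) h149 o1_149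
  have h151 : ∀ u < 77463, (fun u => chkO1 tab orb u) u = true := ext_range (a := 76950) (len := 513) h150 o1_150
  have h152 : ∀ u < 77976, (fun u => chkO1 tab orb u) u = true := ext_range (a := 77463) (len := 513) h151 o1_151
  have h153 : ∀ u < 78489, (fun u => chkO1 tab orb u) u = true := ext_range (a := 77976) (len := 513) h152 o1_152
  have h154 : ∀ u < 79002, (fun u => chkO1 tab orb u) u = true := ext_range (a := 78489) (len := 513) h153 o1_153
  have h155 : ∀ u < 79515, (fun u => chkO1 tab orb u) u = true := ext_range (a := 79002) (len := 513) h154 o1_154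
  have h156 : ∀ u < 80028, (fun u => chkO1 tab orb u) u = true := ext_range (a := 79515) (len := 513) h155 o1_155
  have h157 : ∀ u < 80541, (fun u => chkO1 tab orb u) u = true := ext_range (a := 80028) (len := 513) h156 o1_156
  have h158 : ∀ u < 81054, (fun u => chkO1 tab orb u) u = true := ext_range (a := 80541) (len := 513) h157 o1_157
  have h159 : ∀ u < 81567, (fun u => chkO1 tab orb u) u = true := ext_range (a := 81054) (len := 513) h158 o1_158
  have h160 : ∀ u < 82080, (fun u => chkO1 tab orb u) u = true := ext_range (a := 81567) (len := 513) h159 o1_159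
  have h161 : ∀ u < 82593, (fun u => chkO1 tab orb u) u = true := ext_range (a := 82080) (len := 513) h160 o1_160
  have h162 : ∀ u < 83106, (fun u => chkO1 tab orb u) u = true := ext_range (a := 82593) (len := 513) h161 o1_161
  have h163 : ∀ u < 83619, (fun u => chkO1 tab orb u) u = true := ext_range (a := 83106) (len := 513) h162 o1_162
  have h164 : ∀ u < 84132, (fun u => chkO1 tab orb u) u = true := ext_range (a := 83619) (len := 513) h163 o1_163
  have h165 : ∀ u < 84645, (fun u => chkO1 tab orb u) u = true := ext_range (a := 84132) (len := 513) h164 o1_164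
  have h166 : ∀ u < 85158, (fun u => chkO1 tab orb u) u = true := ext_range (a := 84645) (len := 513) h165 o1_165
  have h167 : ∀ u < 85671, (fun u => chkO1 tab orb u) u = true := ext_range (a := 85158) (len := 513) h166 o1_166
  have h168 : ∀ u < 86184, (fun u => chkO1 tab orb u) u = true := ext_range (a := 85671) (len := 513) h167 o1_167
  have h169 : ∀ u < 86697, (fun u => chkO1 tab orb u) u = true := ext_range (a := 86184) (len := 513) h168 o1_168
  have h170 : ∀ u < 87210, (fun u => chkO1 tab orb u) u = true := ext_range (a := 86697) (len := 513) h169 o1_169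
  have h171 : ∀ u < 87723, (fun u => chkO1 tab orb u) u = true := ext_range (a := 87210) (len := 513) h170 o1_170
  have h172 : ∀ u < 88236, (fun u => chkO1 tab orb u) u = true := ext_range (a := 87723) (len := 513) h171 o1_171
  have h173 : ∀ u < 88749, (fun u => chkO1 tab orb u) u = true := ext_range (a := 88236) (len := 513) h172 o1_172
  have h174 : ∀ u < 89262, (fun u => chkO1 tab orb u) u = true := ext_range (a := 88749) (len := 513) h173 o1_173
  have h175 : ∀ u < 89775, (fun u => chkO1 tab orb u) u = true := ext_range (a := 89262) (len := 513) h174 o1_174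
  have h176 : ∀ u < 90288, (fun u => chkO1 tab orb u) u = true := ext_range (a := 89775) (len := 513) h175 o1_175
  have h177 : ∀ u < 90801, (fun u => chkO1 tab orb u) u = true := ext_range (a := 90288) (len := 513) h176 o1_176
  have h178 : ∀ u < 91314, (fun u => chkO1 tab orb u) u = true := ext_range (a := 90801) (len := 513) h177 o1_177
  have h179 : ∀ u < 91827, (fun u => chkO1 tab orb u) u = true := ext_range (a := 91314) (len := 513) h178 o1_178
  have h180 : ∀ u < 92340, (fun u => chkO1 tab orb u) u = true := ext_range (a := 91827) (len := 513) h179 o1_179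
  have h181 : ∀ u < 92853, (fun u => chkO1 tab orb u) u = true := ext_range (a := 92340) (len := 513) h180 o1_180
  have h182 : ∀ u < 93366, (fun u => chkO1 tab orb u) u = true := ext_range (a := 92853) (len := 513) h181 o1_181
  have h183 : ∀ u < 93879, (fun u => chkO1 tab orb u) u = true := ext_range (a := 93366) (len := 513) h182 o1_182
  have h184 : ∀ u < 94392, (fun u => chkO1 tab orb u) u = true := ext_range (a := 93879) (len := 513) h183 o1_183
  have h185 : ∀ u < 94905, (fun u => chkO1 tab orb u) u = true := ext_range (a := 94392) (len := 513) h184 o1_184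
  have h186 : ∀ u < 95418, (fun u => chkO1 tab orb u) u = true := ext_range (a := 94905) (len := 513) h185 o1_185
  have h187 : ∀ u < 95931, (fun u => chkO1 tab orb u) u = true := ext_range (a := 95418) (len := 513) h186 o1_186
  have h188 : ∀ u < 96444, (fun u => chkO1 tab orb u) u = true := ext_range (a := 95931) (len := 513) h187 o1_187
  have h189 : ∀ u < 96957, (fun u => chkO1 tab orb u) u = true := ext_range (a := 96444) (len := 513) h188 o1_188
  have h190 : ∀ u < 97470, (fun u => chkO1 tab orb u) u = true := ext_range (a := 96957) (len := 513) h189 o1_189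
  have h191 : ∀ u < 97983, (fun u => chkO1 tab orb u) u = true := ext_range (a := 97470) (len := 513) h190 o1_190
  have h192 : ∀ u < 98496, (fun u => chkO1 tab orb u) u = true := ext_range (a := 97983) (len := 513) h191 o1_191
  have h193 : ∀ u < 99009, (fun u => chkO1 tab orb u) u = true := ext_range (a := 98496) (len := 513) h192 o1_192
  have h194 : ∀ u < 99522, (fun u => chkO1 tab orb u) u = true := ext_range (a := 99009) (len := 513) h193 o1_193
  have h195 : ∀ u < 100035, (fun u => chkO1 tab orb u) u = true := ext_range (a := 99522) (len := 513) h194 o1_194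
  have h196 : ∀ u < 100548, (fun u => chkO1 tab orb u) u = true := ext_range (a := 100035) (len := 513) h195 o1_195
  have h197 : ∀ u < 101061, (fun u => chkO1 tab orb u) u = true := ext_range (a := 100548) (len := 513) h196 o1_196
  have h198 : ∀ u < 101574, (fun u => chkO1 tab orb u) u = true := ext_range (a := 101061) (len := 513) h197 o1_197
  have h199 : ∀ u < 102087, (fun u => chkO1 tab orb u) u = true := ext_range (a := 101574) (len := 513) h198 o1_198
  have h200 : ∀ u < 102600, (fun u => chkO1 tab orb u) u = true := ext_range (a := 102087) (len := 513) h199 o1_199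
  have h201 : ∀ u < 103113, (fun u => chkO1 tab orb u) u = true := ext_range (a := 102600) (len := 513) h200 o1_200
  have h202 : ∀ u < 103626, (fun u => chkO1 tab orb u) u = true := ext_range (a := 103113) (len := 513) h201 o1_201
  have h203 : ∀ u < 104139, (fun u => chkO1 tab orb u) u = true := ext_range (a := 103626) (len := 513) h202 o1_202
  have h204 : ∀ u < 104652, (fun u => chkO1 tab orb u) u = true := ext_range (a := 104139) (len := 513) h203 o1_203
  have h205 : ∀ u < 105165, (fun u => chkO1 tab orb u) u = true := ext_range (a := 104652) (len := 513) h204 o1_204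
  have h206 : ∀ u < 105678, (fun u => chkO1 tab orb u) u = true := ext_range (a := 105165) (len := 513) h205 o1_205
  have h207 : ∀ u < 106191, (fun u => chkO1 tab orb u) u = true := ext_range (a := 105678) (len := 513) h206 o1_206
  have h208 : ∀ u < 106704, (fun u => chkO1 tab orb u) u = true := ext_range (a := 106191) (len := 513) h207 o1_207
  have h209 : ∀ u < 107217, (fun u => chkO1 tab orb u) u = true := ext_range (a := 106704) (len := 513) h208 o1_208
  have h210 : ∀ u < 107730, (fun u => chkO1 tab orb u) u = true := ext_range (a := 107217) (len := 513) h209 o1_209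
  have h211 : ∀ u < 108243, (fun u => chkO1 tab orb u) u = true := ext_range (a := 107730) (len := 513) h210 o1_210
  have h212 : ∀ u < 108756, (fun u => chkO1 tab orb u) u = true := ext_range (a := 108243) (len := 513) h211 o1_211
  have h213 : ∀ u < 109269, (fun u => chkO1 tab orb u) u = true := ext_range (a := 108756) (len := 513) h212 o1_212
  have h214 : ∀ u < 109782, (fun u => chkO1 tab orb u) u = true := ext_range (a := 109269) (len := 513) h213 o1_213
  have h215 : ∀ u < 110295, (fun u => chkO1 tab orb u) u = true := ext_range (a := 109782) (len := 513) h214 o1_214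
  have h216 : ∀ u < 110808, (fun u => chkO1 tab orb u) u = true := ext_range (a := 110295) (len := 513) h215 o1_215
  have h217 : ∀ u < 111321, (fun u => chkO1 tab orb u) u = true := ext_range (a := 110808) (len := 513) h216 o1_216
  have h218 : ∀ u < 111834, (fun u => chkO1 tab orb u) u = true := ext_range (a := 111321) (len := 513) h217 o1_217
  have h219 : ∀ u < 112347, (fun u => chkO1 tab orb u) u = true := ext_range (a := 111834) (len := 513) h218 o1_218
  have h220 : ∀ u < 112860, (fun u => chkO1 tab orb u) u = true := ext_range (a := 112347) (len := 513) h219 o1_219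
  have h221 : ∀ u < 113373, (fun u => chkO1 tab orb u) u = true := ext_range (a := 112860) (len := 513) h220 o1_220
  have h222 : ∀ u < 113886, (fun u => chkO1 tab orb u) u = true := ext_range (a := 113373) (len := 513) h221 o1_221
  have h223 : ∀ u < 114399, (fun u => chkO1 tab orb u) u = true := ext_range (a := 113886) (len := 513) h222 o1_222
  have h224 : ∀ u < 114912, (fun u => chkO1 tab orb u) u = true := ext_range (a := 114399) (len := 513) h223 o1_223
  have h225 : ∀ u < 115425, (fun u => chkO1 tab orb u) u = true := ext_range (a := 114912) (len := 513) h224 o1_224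
  have h226 : ∀ u < 115938, (fun u => chkO1 tab orb u) u = true := ext_range (a := 115425) (len := 513) h225 o1_225
  have h227 : ∀ u < 116451, (fun u => chkO1 tab orb u) u = true := ext_range (a := 115938) (len := 513) h226 o1_226
  have h228 : ∀ u < 116964, (fun u => chkO1 tab orb u) u = true := ext_range (a := 116451) (len := 513) h227 o1_227
  have h229 : ∀ u < 117477, (fun u => chkO1 tab orb u) u = true := ext_range (a := 116964) (len := 513) h228 o1_228
  have h230 : ∀ u < 117990, (fun u => chkO1 tab orb u) u = true := ext_range (a := 117477) (len := 513) h229 o1_229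
  have h231 : ∀ u < 118503, (fun u => chkO1 tab orb u) u = true := ext_range (a := 117990) (len := 513) h230 o1_230
  have h232 : ∀ u < 119016, (fun u => chkO1 tab orb u) u = true := ext_range (a := 118503) (len := 513) h231 o1_231
  have h233 : ∀ u < 119529, (fun u => chkO1 tab orb u) u = true := ext_range (a := 119016) (len := 513) h232 o1_232
  have h234 : ∀ u < 120042, (fun u => chkO1 tab orb u) u = true := ext_range (a := 119529) (len := 513) h233 o1_233
  have h235 : ∀ u < 120555, (fun u => chkO1 tab orb u) u = true := ext_range (a := 120042) (len := 513) h234 o1_234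
  have h236 : ∀ u < 121068, (fun u => chkO1 tab orb u) u = true := ext_range (a := 120555) (len := 513) h235 o1_235
  have h237 : ∀ u < 121581, (fun u => chkO1 tab orb u) u = true := ext_range (a := 121068) (len := 513) h236 o1_236
  have h238 : ∀ u < 122094, (fun u => chkO1 tab orb u) u = true := ext_range (a := 121581) (len := 513) h237 o1_237
  have h239 : ∀ u < 122607, (fun u => chkO1 tab orb u) u = true := ext_range (a := 122094) (len := 513) h238 o1_238
  have h240 : ∀ u < 122760, (fun u => chkO1 tab orb u) u = true := ext_range (a := 122607) (len := 153) h239 o1_239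
  exact h240

theorem hO2 : ∀ u < 122760, chkO2 tab orb u = true := by
  have h0 : ∀ u < 0, (fun u => chkO2 tab orb u) u = true := range_zero
  have h1 : ∀ u < 1334, (fun u => chkO2 tab orb u) u = true := ext_range (a := 0) (len := 1334) h0 o2_0
  have h2 : ∀ u < 2668, (fun u => chkO2 tab orb u) u = true := ext_range (a := 1334) (len := 1334) h1 o2_1
  have h3 : ∀ u < 4002, (fun u => chkO2 tab orb u) u = true := ext_range (a := 2668) (len := 1334) h2 o2_2
  have h4 : ∀ u < 5336, (fun u => chkO2 tab orb u) u = true := ext_range (a := 4002) (len := 1334) h3 o2_3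
  have h5 : ∀ u < 6670, (fun u => chkO2 tab orb u) u = true := ext_range (a := 5336) (len := 1334) h4 o2_4
  have h6 : ∀ u < 8004, (fun u => chkO2 tab orb u) u = true := ext_range (a := 6670) (len := 1334) h5 o2_5
  have h7 : ∀ u < 9338, (fun u => chkO2 tab orb u) u = true := ext_range (a := 8004) (len := 1334) h6 o2_6
  have h8 : ∀ u < 10672, (fun u => chkO2 tab orb u) u = true := ext_range (a := 9338) (len := 1334) h7 o2_7
  have h9 : ∀ u < 12006, (fun u => chkO2 tab orb u) u = true := ext_range (a := 10672) (len := 1334) h8 o2_8
  have h10 : ∀ u < 13340, (fun u => chkO2 tab orb u) u = true := ext_range (a := 12006) (len := 1334) h9 o2_9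
  have h11 : ∀ u < 14674, (fun u => chkO2 tab orb u) u = true := ext_range (a := 13340) (len := 1334) h10 o2_10
  have h12 : ∀ u < 16008, (fun u => chkO2 tab orb u) u = true := ext_range (a := 14674) (len := 1334) h11 o2_11
  have h13 : ∀ u < 17342, (fun u => chkO2 tab orb u) u = true := ext_range (a := 16008) (len := 1334) h12 o2_12
  have h14 : ∀ u < 18676, (fun u => chkO2 tab orb u) u = true := ext_range (a := 17342) (len := 1334) h13 o2_13
  have h15 : ∀ u < 20010, (fun u => chkO2 tab orb u) u = true := ext_range (a := 18676) (len := 1334) h14 o2_14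
  have h16 : ∀ u < 21344, (fun u => chkO2 tab orb u) u = true := ext_range (a := 20010) (len := 1334) h15 o2_15
  have h17 : ∀ u < 22678, (fun u => chkO2 tab orb u) u = true := ext_range (a := 21344) (len := 1334) h16 o2_16
  have h18 : ∀ u < 24012, (fun u => chkO2 tab orb u) u = true := ext_range (a := 22678) (len := 1334) h17 o2_17
  have h19 : ∀ u < 25346, (fun u => chkO2 tab orb u) u = true := ext_range (a := 24012) (len := 1334) h18 o2_18
  have h20 : ∀ u < 26680, (fun u => chkO2 tab orb u) u = true := ext_range (a := 25346) (len := 1334) h19 o2_19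
  have h21 : ∀ u < 28014, (fun u => chkO2 tab orb u) u = true := ext_range (a := 26680) (len := 1334) h20 o2_20
  have h22 : ∀ u < 29348, (fun u => chkO2 tab orb u) u = true := ext_range (a := 28014) (len := 1334) h21 o2_21
  have h23 : ∀ u < 30682, (fun u => chkO2 tab orb u) u = true := ext_range (a := 29348) (len := 1334) h22 o2_22
  have h24 : ∀ u < 32016, (fun u => chkO2 tab orb u) u = true := ext_range (a := 30682) (len := 1334) h23 o2_23
  have h25 : ∀ u < 33350, (fun u => chkO2 tab orb u) u = true := ext_range (a := 32016) (len := 1334) h24 o2_24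
  have h26 : ∀ u < 34684, (fun u => chkO2 tab orb u) u = true := ext_range (a := 33350) (len := 1334) h25 o2_25
  have h27 : ∀ u < 36018, (fun u => chkO2 tab orb u) u = true := ext_range (a := 34684) (len := 1334) h26 o2_26
  have h28 : ∀ u < 37352, (fun u => chkO2 tab orb u) u = true := ext_range (a := 36018) (len := 1334) h27 o2_27
  have h29 : ∀ u < 38686, (fun u => chkO2 tab orb u) u = true := ext_range (a := 37352) (len := 1334) h28 o2_28
  have h30 : ∀ u < 40020, (fun u => chkO2 tab orb u) u = true := ext_range (a := 38686) (len := 1334) h29 o2_29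
  have h31 : ∀ u < 41354, (fun u => chkO2 tab orb u) u = true := ext_range (a := 40020) (len := 1334) h30 o2_30
  have h32 : ∀ u < 42688, (fun u => chkO2 tab orb u) u = true := ext_range (a := 41354) (len := 1334) h31 o2_31
  have h33 : ∀ u < 44022, (fun u => chkO2 tab orb u) u = true := ext_range (a := 42688) (len := 1334) h32 o2_32
  have h34 : ∀ u < 45356, (fun u => chkO2 tab orb u) u = true := ext_range (a := 44022) (len := 1334) h33 o2_33
  have h35 : ∀ u < 46690, (fun u => chkO2 tab orb u) u = true := ext_range (a := 45356) (len := 1334) h34 o2_34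
  have h36 : ∀ u < 48024, (fun u => chkO2 tab orb u) u = true := ext_range (a := 46690) (len := 1334) h35 o2_35
  have h37 : ∀ u < 49358, (fun u => chkO2 tab orb u) u = true := ext_range (a := 48024) (len := 1334) h36 o2_36
  have h38 : ∀ u < 50692, (fun u => chkO2 tab orb u) u = true := ext_range (a := 49358) (len := 1334) h37 o2_37
  have h39 : ∀ u < 52026, (fun u => chkO2 tab orb u) u = true := ext_range (a := 50692) (len := 1334) h38 o2_38
  have h40 : ∀ u < 53360, (fun u => chkO2 tab orb u) u = true := ext_range (a := 52026) (len := 1334) h39 o2_39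
  have h41 : ∀ u < 54694, (fun u => chkO2 tab orb u) u = true := ext_range (a := 53360) (len := 1334) h40 o2_40
  have h42 : ∀ u < 56028, (fun u => chkO2 tab orb u) u = true := ext_range (a := 54694) (len := 1334) h41 o2_41
  have h43 : ∀ u < 57362, (fun u => chkO2 tab orb u) u = true := ext_range (a := 56028) (len := 1334) h42 o2_42
  have h44 : ∀ u < 58696, (fun u => chkO2 tab orb u) u = true := ext_range (a := 57362) (len := 1334) h43 o2_43
  have h45 : ∀ u < 60030, (fun u => chkO2 tab orb u) u = true := ext_range (a := 58696) (len := 1334) h44 o2_44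
  have h46 : ∀ u < 61364, (fun u => chkO2 tab orb u) u = true := ext_range (a := 60030) (len := 1334) h45 o2_45
  have h47 : ∀ u < 62698, (fun u => chkO2 tab orb u) u = true := ext_range (a := 61364) (len := 1334) h46 o2_46
  have h48 : ∀ u < 64032, (fun u => chkO2 tab orb u) u = true := ext_range (a := 62698) (len := 1334) h47 o2_47
  have h49 : ∀ u < 65366, (fun u => chkO2 tab orb u) u = true := ext_range (a := 64032) (len := 1334) h48 o2_48
  have h50 : ∀ u < 66700, (fun u => chkO2 tab orb u) u = true := ext_range (a := 65366) (len := 1334) h49 o2_49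
  have h51 : ∀ u < 68034, (fun u => chkO2 tab orb u) u = true := ext_range (a := 66700) (len := 1334) h50 o2_50
  have h52 : ∀ u < 69368, (fun u => chkO2 tab orb u) u = true := ext_range (a := 68034) (len := 1334) h51 o2_51
  have h53 : ∀ u < 70702, (fun u => chkO2 tab orb u) u = true := ext_range (a := 69368) (len := 1334) h52 o2_52
  have h54 : ∀ u < 72036, (fun u => chkO2 tab orb u) u = true := ext_range (a := 70702) (len := 1334) h53 o2_53
  have h55 : ∀ u < 73370, (fun u => chkO2 tab orb u) u = true := ext_range (a := 72036) (len := 1334) h54 o2_54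
  have h56 : ∀ u < 74704, (fun u => chkO2 tab orb u) u = true := ext_range (a := 73370) (len := 1334) h55 o2_55
  have h57 : ∀ u < 76038, (fun u => chkO2 tab orb u) u = true := ext_range (a := 74704) (len := 1334) h56 o2_56
  have h58 : ∀ u < 77372, (fun u => chkO2 tab orb u) u = true := ext_range (a := 76038) (len := 1334) h57 o2_57
  have h59 : ∀ u < 78706, (fun u => chkO2 tab orb u) u = true := ext_range (a := 77372) (len := 1334) h58 o2_58
  have h60 : ∀ u < 80040, (fun u => chkO2 tab orb u) u = true := ext_range (a := 78706) (len := 1334) h59 o2_59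
  have h61 : ∀ u < 81374, (fun u => chkO2 tab orb u) u = true := ext_range (a := 80040) (len := 1334) h60 o2_60
  have h62 : ∀ u < 82708, (fun u => chkO2 tab orb u) u = true := ext_range (a := 81374) (len := 1334) h61 o2_61
  have h63 : ∀ u < 84042, (fun u => chkO2 tab orb u) u = true := ext_range (a := 82708) (len := 1334) h62 o2_62
  have h64 : ∀ u < 85376, (fun u => chkO2 tab orb u) u = true := ext_range (a := 84042) (len := 1334) h63 o2_63
  have h65 : ∀ u < 86710, (fun u => chkO2 tab orb u) u = true := ext_range (a := 85376) (len := 1334) h64 o2_64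
  have h66 : ∀ u < 88044, (fun u => chkO2 tab orb u) u = true := ext_range (a := 86710) (len := 1334) h65 o2_65
  have h67 : ∀ u < 89378, (fun u => chkO2 tab orb u) u = true := ext_range (a := 88044) (len := 1334) h66 o2_66
  have h68 : ∀ u < 90712, (fun u => chkO2 tab orb u) u = true := ext_range (a := 89378) (len := 1334) h67 o2_67
  have h69 : ∀ u < 92046, (fun u => chkO2 tab orb u) u = true := ext_range (a := 90712) (len := 1334) h68 o2_68
  have h70 : ∀ u < 93380, (fun u => chkO2 tab orb u) u = true := ext_range (a := 92046) (len := 1334) h69 o2_69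
  have h71 : ∀ u < 94714, (fun u => chkO2 tab orb u) u = true := ext_range (a := 93380) (len := 1334) h70 o2_70
  have h72 : ∀ u < 96048, (fun u => chkO2 tab orb u) u = true := ext_range (a := 94714) (len := 1334) h71 o2_71
  have h73 : ∀ u < 97382, (fun u => chkO2 tab orb u) u = true := ext_range (a := 96048) (len := 1334) h72 o2_72
  have h74 : ∀ u < 98716, (fun u => chkO2 tab orb u) u = true := ext_range (a := 97382) (len := 1334) h73 o2_73
  have h75 : ∀ u < 100050, (fun u => chkO2 tab orb u) u = true := ext_range (a := 98716) (len := 1334) h74 o2_74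
  have h76 : ∀ u < 101384, (fun u => chkO2 tab orb u) u = true := ext_range (a := 100050) (len := 1334) h75 o2_75
  have h77 : ∀ u < 102718, (fun u => chkO2 tab orb u) u = true := ext_range (a := 101384) (len := 1334) h76 o2_76
  have h78 : ∀ u < 104052, (fun u => chkO2 tab orb u) u = true := ext_range (a := 102718) (len := 1334) h77 o2_77
  have h79 : ∀ u < 105386, (fun u => chkO2 tab orb u) u = true := ext_range (a := 104052) (len := 1334) h78 o2_78
  have h80 : ∀ u < 106720, (fun u => chkO2 tab orb u) u = true := ext_range (a := 105386) (len := 1334) h79 o2_79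
  have h81 : ∀ u < 108054, (fun u => chkO2 tab orb u) u = true := ext_range (a := 106720) (len := 1334) h80 o2_80
  have h82 : ∀ u < 109388, (fun u => chkO2 tab orb u) u = true := ext_range (a := 108054) (len := 1334) h81 o2_81
  have h83 : ∀ u < 110722, (fun u => chkO2 tab orb u) u = true := ext_range (a := 109388) (len := 1334) h82 o2_82
  have h84 : ∀ u < 112056, (fun u => chkO2 tab orb u) u = true := ext_range (a := 110722) (len := 1334) h83 o2_83
  have h85 : ∀ u < 113390, (fun u => chkO2 tab orb u) u = true := ext_range (a := 112056) (len := 1334) h84 o2_84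
  have h86 : ∀ u < 114724, (fun u => chkO2 tab orb u) u = true := ext_range (a := 113390) (len := 1334) h85 o2_85
  have h87 : ∀ u < 116058, (fun u => chkO2 tab orb u) u = true := ext_range (a := 114724) (len := 1334) h86 o2_86
  have h88 : ∀ u < 117392, (fun u => chkO2 tab orb u) u = true := ext_range (a := 116058) (len := 1334) h87 o2_87
  have h89 : ∀ u < 118726, (fun u => chkO2 tab orb u) u = true := ext_range (a := 117392) (len := 1334) h88 o2_88
  have h90 : ∀ u < 120060, (fun u => chkO2 tab orb u) u = true := ext_range (a := 118726) (len := 1334) h89 o2_89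
  have h91 : ∀ u < 121394, (fun u => chkO2 tab orb u) u = true := ext_range (a := 120060) (len := 1334) h90 o2_90
  have h92 : ∀ u < 122728, (fun u => chkO2 tab orb u) u = true := ext_range (a := 121394) (len := 1334) h91 o2_91
  have h93 : ∀ u < 122760, (fun u => chkO2 tab orb u) u = true := ext_range (a := 122728) (len := 32) h92 o2_92
  exact h93

theorem hOL : ∀ u < 122760, Nat.blt (orb.lab u) 5 = true := by
  have h0 : ∀ u < 0, (fun u => Nat.blt (orb.lab u) 5) u = true := range_zero
  have h1 : ∀ u < 8000, (fun u => Nat.blt (orb.lab u) 5) u = true := ext_range (a := 0) (len := 8000) h0 ol_0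
  have h2 : ∀ u < 16000, (fun u => Nat.blt (orb.lab u) 5) u = true := ext_range (a := 8000) (len := 8000) h1 ol_1
  have h3 : ∀ u < 24000, (fun u => Nat.blt (orb.lab u) 5) u = true := ext_range (a := 16000) (len := 8000) h2 ol_2
  have h4 : ∀ u < 32000, (fun u => Nat.blt (orb.lab u) 5) u = true := ext_range (a := 24000) (len := 8000) h3 ol_3
  have h5 : ∀ u < 40000, (fun u => Nat.blt (orb.lab u) 5) u = true := ext_range (a := 32000) (len := 8000) h4 ol_4
  have h6 : ∀ u < 48000, (fun u => Nat.blt (orb.lab u) 5) u = true := ext_range (a := 40000) (len := 8000) h5 ol_5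
  have h7 : ∀ u < 56000, (fun u => Nat.blt (orb.lab u) 5) u = true := ext_range (a := 48000) (len := 8000) h6 ol_6
  have h8 : ∀ u < 64000, (fun u => Nat.blt (orb.lab u) 5) u = true := ext_range (a := 56000) (len := 8000) h7 ol_7
  have h9 : ∀ u < 72000, (fun u => Nat.blt (orb.lab u) 5) u = true := ext_range (a := 64000) (len := 8000) h8 ol_8
  have h10 : ∀ u < 80000, (fun u => Nat.blt (orb.lab u) 5) u = true := ext_range (a := 72000) (len := 8000) h9 ol_9
  have h11 : ∀ u < 88000, (fun u => Nat.blt (orb.lab u) 5) u = true := ext_range (a := 80000) (len := 8000) h10 ol_10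
  have h12 : ∀ u < 96000, (fun u => Nat.blt (orb.lab u) 5) u = true := ext_range (a := 88000) (len := 8000) h11 ol_11
  have h13 : ∀ u < 104000, (fun u => Nat.blt (orb.lab u) 5) u = true := ext_range (a := 96000) (len := 8000) h12 ol_12
  have h14 : ∀ u < 112000, (fun u => Nat.blt (orb.lab u) 5) u = true := ext_range (a := 104000) (len := 8000) h13 ol_13
  have h15 : ∀ u < 120000, (fun u => Nat.blt (orb.lab u) 5) u = true := ext_range (a := 112000) (len := 8000) h14 ol_14
  have h16 : ∀ u < 122760, (fun u => Nat.blt (orb.lab u) 5) u = true := ext_range (a := 120000) (len := 2760) h15 ol_15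
  exact h16

theorem hSlp : ∀ u < 122760, chkSlp tab slp u = true := by
  have h0 : ∀ u < 0, (fun u => chkSlp tab slp u) u = true := range_zero
  have h1 : ∀ u < 18, (fun u => chkSlp tab slp u) u = true := ext_range (a := 0) (len := 18) h0 sl_0
  have h2 : ∀ u < 36, (fun u => chkSlp tab slp u) u = true := ext_range (a := 18) (len := 18) h1 sl_1
  have h3 : ∀ u < 54, (fun u => chkSlp tab slp u) u = true := ext_range (a := 36) (len := 18) h2 sl_2
  have h4 : ∀ u < 72, (fun u => chkSlp tab slp u) u = true := ext_range (a := 54) (len := 18) h3 sl_3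
  have h5 : ∀ u < 90, (fun u => chkSlp tab slp u) u = true := ext_range (a := 72) (len := 18) h4 sl_4
  have h6 : ∀ u < 108, (fun u => chkSlp tab slp u) u = true := ext_range (a := 90) (len := 18) h5 sl_5
  have h7 : ∀ u < 126, (fun u => chkSlp tab slp u) u = true := ext_range (a := 108) (len := 18) h6 sl_6
  have h8 : ∀ u < 144, (fun u => chkSlp tab slp u) u = true := ext_range (a := 126) (len := 18) h7 sl_7
  have h9 : ∀ u < 162, (fun u => chkSlp tab slp u) u = true := ext_range (a := 144) (len := 18) h8 sl_8
  have h10 : ∀ u < 180, (fun u => chkSlp tab slp u) u = true := ext_range (a := 162) (len := 18) h9 sl_9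
  have h11 : ∀ u < 198, (fun u => chkSlp tab slp u) u = true := ext_range (a := 180) (len := 18) h10 sl_10
  have h12 : ∀ u < 216, (fun u => chkSlp tab slp u) u = true := ext_range (a := 198) (len := 18) h11 sl_11
  have h13 : ∀ u < 234, (fun u => chkSlp tab slp u) u = true := ext_range (a := 216) (len := 18) h12 sl_12
  have h14 : ∀ u < 252, (fun u => chkSlp tab slp u) u = true := ext_range (a := 234) (len := 18) h13 sl_13
  have h15 : ∀ u < 270, (fun u => chkSlp tab slp u) u = true := ext_range (a := 252) (len := 18) h14 sl_14
  have h16 : ∀ u < 288, (fun u => chkSlp tab slp u) u = true := ext_range (a := 270) (len := 18) h15 sl_15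
  have h17 : ∀ u < 306, (fun u => chkSlp tab slp u) u = true := ext_range (a := 288) (len := 18) h16 sl_16
  have h18 : ∀ u < 324, (fun u => chkSlp tab slp u) u = true := ext_range (a := 306) (len := 18) h17 sl_17
  have h19 : ∀ u < 342, (fun u => chkSlp tab slp u) u = true := ext_range (a := 324) (len := 18) h18 sl_18
  have h20 : ∀ u < 360, (fun u => chkSlp tab slp u) u = true := ext_range (a := 342) (len := 18) h19 sl_19
  have h21 : ∀ u < 378, (fun u => chkSlp tab slp u) u = true := ext_range (a := 360) (len := 18) h20 sl_20
  have h22 : ∀ u < 396, (fun u => chkSlp tab slp u) u = true := ext_range (a := 378) (len := 18) h21 sl_21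
  have h23 : ∀ u < 414, (fun u => chkSlp tab slp u) u = true := ext_range (a := 396) (len := 18) h22 sl_22
  have h24 : ∀ u < 432, (fun u => chkSlp tab slp u) u = true := ext_range (a := 414) (len := 18) h23 sl_23
  have h25 : ∀ u < 450, (fun u => chkSlp tab slp u) u = true := ext_range (a := 432) (len := 18) h24 sl_24
  have h26 : ∀ u < 468, (fun u => chkSlp tab slp u) u = true := ext_range (a := 450) (len := 18) h25 sl_25
  have h27 : ∀ u < 486, (fun u => chkSlp tab slp u) u = true := ext_range (a := 468) (len := 18) h26 sl_26
  have h28 : ∀ u < 504, (fun u => chkSlp tab slp u) u = true := ext_range (a := 486) (len := 18) h27 sl_27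
  have h29 : ∀ u < 522, (fun u => chkSlp tab slp u) u = true := ext_range (a := 504) (len := 18) h28 sl_28
  have h30 : ∀ u < 540, (fun u => chkSlp tab slp u) u = true := ext_range (a := 522) (len := 18) h29 sl_29
  have h31 : ∀ u < 558, (fun u => chkSlp tab slp u) u = true := ext_range (a := 540) (len := 18) h30 sl_30
  have h32 : ∀ u < 576, (fun u => chkSlp tab slp u) u = true := ext_range (a := 558) (len := 18) h31 sl_31
  have h33 : ∀ u < 594, (fun u => chkSlp tab slp u) u = true := ext_range (a := 576) (len := 18) h32 sl_32
  have h34 : ∀ u < 612, (fun u => chkSlp tab slp u) u = true := ext_range (a := 594) (len := 18) h33 sl_33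
  have h35 : ∀ u < 630, (fun u => chkSlp tab slp u) u = true := ext_range (a := 612) (len := 18) h34 sl_34
  have h36 : ∀ u < 648, (fun u => chkSlp tab slp u) u = true := ext_range (a := 630) (len := 18) h35 sl_35
  have h37 : ∀ u < 666, (fun u => chkSlp tab slp u) u = true := ext_range (a := 648) (len := 18) h36 sl_36
  have h38 : ∀ u < 684, (fun u => chkSlp tab slp u) u = true := ext_range (a := 666) (len := 18) h37 sl_37
  have h39 : ∀ u < 702, (fun u => chkSlp tab slp u) u = true := ext_range (a := 684) (len := 18) h38 sl_38
  have h40 : ∀ u < 720, (fun u => chkSlp tab slp u) u = true := ext_range (a := 702) (len := 18) h39 sl_39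
  have h41 : ∀ u < 738, (fun u => chkSlp tab slp u) u = true := ext_range (a := 720) (len := 18) h40 sl_40
  have h42 : ∀ u < 756, (fun u => chkSlp tab slp u) u = true := ext_range (a := 738) (len := 18) h41 sl_41
  have h43 : ∀ u < 774, (fun u => chkSlp tab slp u) u = true := ext_range (a := 756) (len := 18) h42 sl_42
  have h44 : ∀ u < 792, (fun u => chkSlp tab slp u) u = true := ext_range (a := 774) (len := 18) h43 sl_43
  have h45 : ∀ u < 810, (fun u => chkSlp tab slp u) u = true := ext_range (a := 792) (len := 18) h44 sl_44
  have h46 : ∀ u < 828, (fun u => chkSlp tab slp u) u = true := ext_range (a := 810) (len := 18) h45 sl_45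
  have h47 : ∀ u < 846, (fun u => chkSlp tab slp u) u = true := ext_range (a := 828) (len := 18) h46 sl_46
  have h48 : ∀ u < 864, (fun u => chkSlp tab slp u) u = true := ext_range (a := 846) (len := 18) h47 sl_47
  have h49 : ∀ u < 882, (fun u => chkSlp tab slp u) u = true := ext_range (a := 864) (len := 18) h48 sl_48
  have h50 : ∀ u < 900, (fun u => chkSlp tab slp u) u = true := ext_range (a := 882) (len := 18) h49 sl_49
  have h51 : ∀ u < 918, (fun u => chkSlp tab slp u) u = true := ext_range (a := 900) (len := 18) h50 sl_50
  have h52 : ∀ u < 936, (fun u => chkSlp tab slp u) u = true := ext_range (a := 918) (len := 18) h51 sl_51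
  have h53 : ∀ u < 954, (fun u => chkSlp tab slp u) u = true := ext_range (a := 936) (len := 18) h52 sl_52
  have h54 : ∀ u < 972, (fun u => chkSlp tab slp u) u = true := ext_range (a := 954) (len := 18) h53 sl_53
  have h55 : ∀ u < 990, (fun u => chkSlp tab slp u) u = true := ext_range (a := 972) (len := 18) h54 sl_54
  have h56 : ∀ u < 1008, (fun u => chkSlp tab slp u) u = true := ext_range (a := 990) (len := 18) h55 sl_55
  have h57 : ∀ u < 1026, (fun u => chkSlp tab slp u) u = true := ext_range (a := 1008) (len := 18) h56 sl_56
  have h58 : ∀ u < 1044, (fun u => chkSlp tab slp u) u = true := ext_range (a := 1026) (len := 18) h57 sl_57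
  have h59 : ∀ u < 1062, (fun u => chkSlp tab slp u) u = true := ext_range (a := 1044) (len := 18) h58 sl_58
  have h60 : ∀ u < 1080, (fun u => chkSlp tab slp u) u = true := ext_range (a := 1062) (len := 18) h59 sl_59
  have h61 : ∀ u < 1098, (fun u => chkSlp tab slp u) u = true := ext_range (a := 1080) (len := 18) h60 sl_60
  have h62 : ∀ u < 1116, (fun u => chkSlp tab slp u) u = true := ext_range (a := 1098) (len := 18) h61 sl_61
  have h63 : ∀ u < 1134, (fun u => chkSlp tab slp u) u = true := ext_range (a := 1116) (len := 18) h62 sl_62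
  have h64 : ∀ u < 1152, (fun u => chkSlp tab slp u) u = true := ext_range (a := 1134) (len := 18) h63 sl_63
  have h65 : ∀ u < 1170, (fun u => chkSlp tab slp u) u = true := ext_range (a := 1152) (len := 18) h64 sl_64
  have h66 : ∀ u < 1188, (fun u => chkSlp tab slp u) u = true := ext_range (a := 1170) (len := 18) h65 sl_65
  have h67 : ∀ u < 1206, (fun u => chkSlp tab slp u) u = true := ext_range (a := 1188) (len := 18) h66 sl_66
  have h68 : ∀ u < 1224, (fun u => chkSlp tab slp u) u = true := ext_range (a := 1206) (len := 18) h67 sl_67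
  have h69 : ∀ u < 1242, (fun u => chkSlp tab slp u) u = true := ext_range (a := 1224) (len := 18) h68 sl_68
  have h70 : ∀ u < 1260, (fun u => chkSlp tab slp u) u = true := ext_range (a := 1242) (len := 18) h69 sl_69
  have h71 : ∀ u < 1278, (fun u => chkSlp tab slp u) u = true := ext_range (a := 1260) (len := 18) h70 sl_70
  have h72 : ∀ u < 1296, (fun u => chkSlp tab slp u) u = true := ext_range (a := 1278) (len := 18) h71 sl_71
  have h73 : ∀ u < 1314, (fun u => chkSlp tab slp u) u = true := ext_range (a := 1296) (len := 18) h72 sl_72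
  have h74 : ∀ u < 1332, (fun u => chkSlp tab slp u) u = true := ext_range (a := 1314) (len := 18) h73 sl_73
  have h75 : ∀ u < 1350, (fun u => chkSlp tab slp u) u = true := ext_range (a := 1332) (len := 18) h74 sl_74
  have h76 : ∀ u < 1368, (fun u => chkSlp tab slp u) u = true := ext_range (a := 1350) (len := 18) h75 sl_75
  have h77 : ∀ u < 1386, (fun u => chkSlp tab slp u) u = true := ext_range (a := 1368) (len := 18) h76 sl_76
  have h78 : ∀ u < 1404, (fun u => chkSlp tab slp u) u = true := ext_range (a := 1386) (len := 18) h77 sl_77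
  have h79 : ∀ u < 1422, (fun u => chkSlp tab slp u) u = true := ext_range (a := 1404) (len := 18) h78 sl_78
  have h80 : ∀ u < 1440, (fun u => chkSlp tab slp u) u = true := ext_range (a := 1422) (len := 18) h79 sl_79
  have h81 : ∀ u < 1458, (fun u => chkSlp tab slp u) u = true := ext_range (a := 1440) (len := 18) h80 sl_80
  have h82 : ∀ u < 1476, (fun u => chkSlp tab slp u) u = true := ext_range (a := 1458) (len := 18) h81 sl_81
  have h83 : ∀ u < 1494, (fun u => chkSlp tab slp u) u = true := ext_range (a := 1476) (len := 18) h82 sl_82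
  have h84 : ∀ u < 1512, (fun u => chkSlp tab slp u) u = true := ext_range (a := 1494) (len := 18) h83 sl_83
  have h85 : ∀ u < 1530, (fun u => chkSlp tab slp u) u = true := ext_range (a := 1512) (len := 18) h84 sl_84
  have h86 : ∀ u < 1548, (fun u => chkSlp tab slp u) u = true := ext_range (a := 1530) (len := 18) h85 sl_85
  have h87 : ∀ u < 1566, (fun u => chkSlp tab slp u) u = true := ext_range (a := 1548) (len := 18) h86 sl_86
  have h88 : ∀ u < 1584, (fun u => chkSlp tab slp u) u = true := ext_range (a := 1566) (len := 18) h87 sl_87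
  have h89 : ∀ u < 1602, (fun u => chkSlp tab slp u) u = true := ext_range (a := 1584) (len := 18) h88 sl_88
  have h90 : ∀ u < 1620, (fun u => chkSlp tab slp u) u = true := ext_range (a := 1602) (len := 18) h89 sl_89
  have h91 : ∀ u < 1638, (fun u => chkSlp tab slp u) u = true := ext_range (a := 1620) (len := 18) h90 sl_90
  have h92 : ∀ u < 1656, (fun u => chkSlp tab slp u) u = true := ext_range (a := 1638) (len := 18) h91 sl_91
  have h93 : ∀ u < 1674, (fun u => chkSlp tab slp u) u = true := ext_range (a := 1656) (len := 18) h92 sl_92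
  have h94 : ∀ u < 1692, (fun u => chkSlp tab slp u) u = true := ext_range (a := 1674) (len := 18) h93 sl_93
  have h95 : ∀ u < 1710, (fun u => chkSlp tab slp u) u = true := ext_range (a := 1692) (len := 18) h94 sl_94
  have h96 : ∀ u < 1728, (fun u => chkSlp tab slp u) u = true := ext_range (a := 1710) (len := 18) h95 sl_95
  have h97 : ∀ u < 1746, (fun u => chkSlp tab slp u) u = true := ext_range (a := 1728) (len := 18) h96 sl_96
  have h98 : ∀ u < 1764, (fun u => chkSlp tab slp u) u = true := ext_range (a := 1746) (len := 18) h97 sl_97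
  have h99 : ∀ u < 1782, (fun u => chkSlp tab slp u) u = true := ext_range (a := 1764) (len := 18) h98 sl_98
  have h100 : ∀ u < 1800, (fun u => chkSlp tab slp u) u = true := ext_range (a := 1782) (len := 18) h99 sl_99
  have h101 : ∀ u < 1818, (fun u => chkSlp tab slp u) u = true := ext_range (a := 1800) (len := 18) h100 sl_100
  have h102 : ∀ u < 1836, (fun u => chkSlp tab slp u) u = true := ext_range (a := 1818) (len := 18) h101 sl_101
  have h103 : ∀ u < 1854, (fun u => chkSlp tab slp u) u = true := ext_range (a := 1836) (len := 18) h102 sl_102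
  have h104 : ∀ u < 1872, (fun u => chkSlp tab slp u) u = true := ext_range (a := 1854) (len := 18) h103 sl_103
  have h105 : ∀ u < 1890, (fun u => chkSlp tab slp u) u = true := ext_range (a := 1872) (len := 18) h104 sl_104
  have h106 : ∀ u < 1908, (fun u => chkSlp tab slp u) u = true := ext_range (a := 1890) (len := 18) h105 sl_105
  have h107 : ∀ u < 1926, (fun u => chkSlp tab slp u) u = true := ext_range (a := 1908) (len := 18) h106 sl_106
  have h108 : ∀ u < 1944, (fun u => chkSlp tab slp u) u = true := ext_range (a := 1926) (len := 18) h107 sl_107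
  have h109 : ∀ u < 1962, (fun u => chkSlp tab slp u) u = true := ext_range (a := 1944) (len := 18) h108 sl_108
  have h110 : ∀ u < 1980, (fun u => chkSlp tab slp u) u = true := ext_range (a := 1962) (len := 18) h109 sl_109
  have h111 : ∀ u < 1998, (fun u => chkSlp tab slp u) u = true := ext_range (a := 1980) (len := 18) h110 sl_110
  have h112 : ∀ u < 2016, (fun u => chkSlp tab slp u) u = true := ext_range (a := 1998) (len := 18) h111 sl_111
  have h113 : ∀ u < 2034, (fun u => chkSlp tab slp u) u = true := ext_range (a := 2016) (len := 18) h112 sl_112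
  have h114 : ∀ u < 2052, (fun u => chkSlp tab slp u) u = true := ext_range (a := 2034) (len := 18) h113 sl_113
  have h115 : ∀ u < 2070, (fun u => chkSlp tab slp u) u = true := ext_range (a := 2052) (len := 18) h114 sl_114
  have h116 : ∀ u < 2088, (fun u => chkSlp tab slp u) u = true := ext_range (a := 2070) (len := 18) h115 sl_115
  have h117 : ∀ u < 2106, (fun u => chkSlp tab slp u) u = true := ext_range (a := 2088) (len := 18) h116 sl_116
  have h118 : ∀ u < 2124, (fun u => chkSlp tab slp u) u = true := ext_range (a := 2106) (len := 18) h117 sl_117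
  have h119 : ∀ u < 2142, (fun u => chkSlp tab slp u) u = true := ext_range (a := 2124) (len := 18) h118 sl_118
  have h120 : ∀ u < 2160, (fun u => chkSlp tab slp u) u = true := ext_range (a := 2142) (len := 18) h119 sl_119
  have h121 : ∀ u < 2178, (fun u => chkSlp tab slp u) u = true := ext_range (a := 2160) (len := 18) h120 sl_120
  have h122 : ∀ u < 2196, (fun u => chkSlp tab slp u) u = true := ext_range (a := 2178) (len := 18) h121 sl_121
  have h123 : ∀ u < 2214, (fun u => chkSlp tab slp u) u = true := ext_range (a := 2196) (len := 18) h122 sl_122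
  have h124 : ∀ u < 2232, (fun u => chkSlp tab slp u) u = true := ext_range (a := 2214) (len := 18) h123 sl_123
  have h125 : ∀ u < 2250, (fun u => chkSlp tab slp u) u = true := ext_range (a := 2232) (len := 18) h124 sl_124
  have h126 : ∀ u < 2268, (fun u => chkSlp tab slp u) u = true := ext_range (a := 2250) (len := 18) h125 sl_125
  have h127 : ∀ u < 2286, (fun u => chkSlp tab slp u) u = true := ext_range (a := 2268) (len := 18) h126 sl_126
  have h128 : ∀ u < 2304, (fun u => chkSlp tab slp u) u = true := ext_range (a := 2286) (len := 18) h127 sl_127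
  have h129 : ∀ u < 2322, (fun u => chkSlp tab slp u) u = true := ext_range (a := 2304) (len := 18) h128 sl_128
  have h130 : ∀ u < 2340, (fun u => chkSlp tab slp u) u = true := ext_range (a := 2322) (len := 18) h129 sl_129
  have h131 : ∀ u < 2358, (fun u => chkSlp tab slp u) u = true := ext_range (a := 2340) (len := 18) h130 sl_130
  have h132 : ∀ u < 2376, (fun u => chkSlp tab slp u) u = true := ext_range (a := 2358) (len := 18) h131 sl_131
  have h133 : ∀ u < 2394, (fun u => chkSlp tab slp u) u = true := ext_range (a := 2376) (len := 18) h132 sl_132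
  have h134 : ∀ u < 2412, (fun u => chkSlp tab slp u) u = true := ext_range (a := 2394) (len := 18) h133 sl_133
  have h135 : ∀ u < 2430, (fun u => chkSlp tab slp u) u = true := ext_range (a := 2412) (len := 18) h134 sl_134
  have h136 : ∀ u < 2448, (fun u => chkSlp tab slp u) u = true := ext_range (a := 2430) (len := 18) h135 sl_135
  have h137 : ∀ u < 2466, (fun u => chkSlp tab slp u) u = true := ext_range (a := 2448) (len := 18) h136 sl_136
  have h138 : ∀ u < 2484, (fun u => chkSlp tab slp u) u = true := ext_range (a := 2466) (len := 18) h137 sl_137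
  have h139 : ∀ u < 2502, (fun u => chkSlp tab slp u) u = true := ext_range (a := 2484) (len := 18) h138 sl_138
  have h140 : ∀ u < 2520, (fun u => chkSlp tab slp u) u = true := ext_range (a := 2502) (len := 18) h139 sl_139
  have h141 : ∀ u < 2538, (fun u => chkSlp tab slp u) u = true := ext_range (a := 2520) (len := 18) h140 sl_140
  have h142 : ∀ u < 2556, (fun u => chkSlp tab slp u) u = true := ext_range (a := 2538) (len := 18) h141 sl_141
  have h143 : ∀ u < 2574, (fun u => chkSlp tab slp u) u = true := ext_range (a := 2556) (len := 18) h142 sl_142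
  have h144 : ∀ u < 2592, (fun u => chkSlp tab slp u) u = true := ext_range (a := 2574) (len := 18) h143 sl_143
  have h145 : ∀ u < 2610, (fun u => chkSlp tab slp u) u = true := ext_range (a := 2592) (len := 18) h144 sl_144
  have h146 : ∀ u < 2628, (fun u => chkSlp tab slp u) u = true := ext_range (a := 2610) (len := 18) h145 sl_145
  have h147 : ∀ u < 2646, (fun u => chkSlp tab slp u) u = true := ext_range (a := 2628) (len := 18) h146 sl_146
  have h148 : ∀ u < 2664, (fun u => chkSlp tab slp u) u = true := ext_range (a := 2646) (len := 18) h147 sl_147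
  have h149 : ∀ u < 2682, (fun u => chkSlp tab slp u) u = true := ext_range (a := 2664) (len := 18) h148 sl_148
  have h150 : ∀ u < 2700, (fun u => chkSlp tab slp u) u = true := ext_range (a := 2682) (len := 18) h149 sl_149
  have h151 : ∀ u < 2718, (fun u => chkSlp tab slp u) u = true := ext_range (a := 2700) (len := 18) h150 sl_150
  have h152 : ∀ u < 2736, (fun u => chkSlp tab slp u) u = true := ext_range (a := 2718) (len := 18) h151 sl_151
  have h153 : ∀ u < 2754, (fun u => chkSlp tab slp u) u = true := ext_range (a := 2736) (len := 18) h152 sl_152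
  have h154 : ∀ u < 2772, (fun u => chkSlp tab slp u) u = true := ext_range (a := 2754) (len := 18) h153 sl_153
  have h155 : ∀ u < 2790, (fun u => chkSlp tab slp u) u = true := ext_range (a := 2772) (len := 18) h154 sl_154
  have h156 : ∀ u < 2808, (fun u => chkSlp tab slp u) u = true := ext_range (a := 2790) (len := 18) h155 sl_155
  have h157 : ∀ u < 2826, (fun u => chkSlp tab slp u) u = true := ext_range (a := 2808) (len := 18) h156 sl_156
  have h158 : ∀ u < 2844, (fun u => chkSlp tab slp u) u = true := ext_range (a := 2826) (len := 18) h157 sl_157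
  have h159 : ∀ u < 2862, (fun u => chkSlp tab slp u) u = true := ext_range (a := 2844) (len := 18) h158 sl_158
  have h160 : ∀ u < 2880, (fun u => chkSlp tab slp u) u = true := ext_range (a := 2862) (len := 18) h159 sl_159
  have h161 : ∀ u < 2898, (fun u => chkSlp tab slp u) u = true := ext_range (a := 2880) (len := 18) h160 sl_160
  have h162 : ∀ u < 2916, (fun u => chkSlp tab slp u) u = true := ext_range (a := 2898) (len := 18) h161 sl_161
  have h163 : ∀ u < 2934, (fun u => chkSlp tab slp u) u = true := ext_range (a := 2916) (len := 18) h162 sl_162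
  have h164 : ∀ u < 2952, (fun u => chkSlp tab slp u) u = true := ext_range (a := 2934) (len := 18) h163 sl_163
  have h165 : ∀ u < 2970, (fun u => chkSlp tab slp u) u = true := ext_range (a := 2952) (len := 18) h164 sl_164
  have h166 : ∀ u < 2988, (fun u => chkSlp tab slp u) u = true := ext_range (a := 2970) (len := 18) h165 sl_165
  have h167 : ∀ u < 3006, (fun u => chkSlp tab slp u) u = true := ext_range (a := 2988) (len := 18) h166 sl_166
  have h168 : ∀ u < 3024, (fun u => chkSlp tab slp u) u = true := ext_range (a := 3006) (len := 18) h167 sl_167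
  have h169 : ∀ u < 3042, (fun u => chkSlp tab slp u) u = true := ext_range (a := 3024) (len := 18) h168 sl_168
  have h170 : ∀ u < 3060, (fun u => chkSlp tab slp u) u = true := ext_range (a := 3042) (len := 18) h169 sl_169
  have h171 : ∀ u < 3078, (fun u => chkSlp tab slp u) u = true := ext_range (a := 3060) (len := 18) h170 sl_170
  have h172 : ∀ u < 3096, (fun u => chkSlp tab slp u) u = true := ext_range (a := 3078) (len := 18) h171 sl_171
  have h173 : ∀ u < 3114, (fun u => chkSlp tab slp u) u = true := ext_range (a := 3096) (len := 18) h172 sl_172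
  have h174 : ∀ u < 3132, (fun u => chkSlp tab slp u) u = true := ext_range (a := 3114) (len := 18) h173 sl_173
  have h175 : ∀ u < 3150, (fun u => chkSlp tab slp u) u = true := ext_range (a := 3132) (len := 18) h174 sl_174
  have h176 : ∀ u < 3168, (fun u => chkSlp tab slp u) u = true := ext_range (a := 3150) (len := 18) h175 sl_175
  have h177 : ∀ u < 3186, (fun u => chkSlp tab slp u) u = true := ext_range (a := 3168) (len := 18) h176 sl_176
  have h178 : ∀ u < 3204, (fun u => chkSlp tab slp u) u = true := ext_range (a := 3186) (len := 18) h177 sl_177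
  have h179 : ∀ u < 3222, (fun u => chkSlp tab slp u) u = true := ext_range (a := 3204) (len := 18) h178 sl_178
  have h180 : ∀ u < 3240, (fun u => chkSlp tab slp u) u = true := ext_range (a := 3222) (len := 18) h179 sl_179
  have h181 : ∀ u < 3258, (fun u => chkSlp tab slp u) u = true := ext_range (a := 3240) (len := 18) h180 sl_180
  have h182 : ∀ u < 3276, (fun u => chkSlp tab slp u) u = true := ext_range (a := 3258) (len := 18) h181 sl_181
  have h183 : ∀ u < 3294, (fun u => chkSlp tab slp u) u = true := ext_range (a := 3276) (len := 18) h182 sl_182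
  have h184 : ∀ u < 3312, (fun u => chkSlp tab slp u) u = true := ext_range (a := 3294) (len := 18) h183 sl_183
  have h185 : ∀ u < 3330, (fun u => chkSlp tab slp u) u = true := ext_range (a := 3312) (len := 18) h184 sl_184
  have h186 : ∀ u < 3348, (fun u => chkSlp tab slp u) u = true := ext_range (a := 3330) (len := 18) h185 sl_185
  have h187 : ∀ u < 3366, (fun u => chkSlp tab slp u) u = true := ext_range (a := 3348) (len := 18) h186 sl_186
  have h188 : ∀ u < 3384, (fun u => chkSlp tab slp u) u = true := ext_range (a := 3366) (len := 18) h187 sl_187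
  have h189 : ∀ u < 3402, (fun u => chkSlp tab slp u) u = true := ext_range (a := 3384) (len := 18) h188 sl_188
  have h190 : ∀ u < 3420, (fun u => chkSlp tab slp u) u = true := ext_range (a := 3402) (len := 18) h189 sl_189
  have h191 : ∀ u < 3438, (fun u => chkSlp tab slp u) u = true := ext_range (a := 3420) (len := 18) h190 sl_190
  have h192 : ∀ u < 3456, (fun u => chkSlp tab slp u) u = true := ext_range (a := 3438) (len := 18) h191 sl_191
  have h193 : ∀ u < 3474, (fun u => chkSlp tab slp u) u = true := ext_range (a := 3456) (len := 18) h192 sl_192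
  have h194 : ∀ u < 3492, (fun u => chkSlp tab slp u) u = true := ext_range (a := 3474) (len := 18) h193 sl_193
  have h195 : ∀ u < 3510, (fun u => chkSlp tab slp u) u = true := ext_range (a := 3492) (len := 18) h194 sl_194
  have h196 : ∀ u < 3528, (fun u => chkSlp tab slp u) u = true := ext_range (a := 3510) (len := 18) h195 sl_195
  have h197 : ∀ u < 3546, (fun u => chkSlp tab slp u) u = true := ext_range (a := 3528) (len := 18) h196 sl_196
  have h198 : ∀ u < 3564, (fun u => chkSlp tab slp u) u = true := ext_range (a := 3546) (len := 18) h197 sl_197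
  have h199 : ∀ u < 3582, (fun u => chkSlp tab slp u) u = true := ext_range (a := 3564) (len := 18) h198 sl_198
  have h200 : ∀ u < 3600, (fun u => chkSlp tab slp u) u = true := ext_range (a := 3582) (len := 18) h199 sl_199
  have h201 : ∀ u < 3618, (fun u => chkSlp tab slp u) u = true := ext_range (a := 3600) (len := 18) h200 sl_200
  have h202 : ∀ u < 3636, (fun u => chkSlp tab slp u) u = true := ext_range (a := 3618) (len := 18) h201 sl_201
  have h203 : ∀ u < 3654, (fun u => chkSlp tab slp u) u = true := ext_range (a := 3636) (len := 18) h202 sl_202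
  have h204 : ∀ u < 3672, (fun u => chkSlp tab slp u) u = true := ext_range (a := 3654) (len := 18) h203 sl_203
  have h205 : ∀ u < 3690, (fun u => chkSlp tab slp u) u = true := ext_range (a := 3672) (len := 18) h204 sl_204
  have h206 : ∀ u < 3708, (fun u => chkSlp tab slp u) u = true := ext_range (a := 3690) (len := 18) h205 sl_205
  have h207 : ∀ u < 3726, (fun u => chkSlp tab slp u) u = true := ext_range (a := 3708) (len := 18) h206 sl_206
  have h208 : ∀ u < 3744, (fun u => chkSlp tab slp u) u = true := ext_range (a := 3726) (len := 18) h207 sl_207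
  have h209 : ∀ u < 3762, (fun u => chkSlp tab slp u) u = true := ext_range (a := 3744) (len := 18) h208 sl_208
  have h210 : ∀ u < 3780, (fun u => chkSlp tab slp u) u = true := ext_range (a := 3762) (len := 18) h209 sl_209
  have h211 : ∀ u < 3798, (fun u => chkSlp tab slp u) u = true := ext_range (a := 3780) (len := 18) h210 sl_210
  have h212 : ∀ u < 3816, (fun u => chkSlp tab slp u) u = true := ext_range (a := 3798) (len := 18) h211 sl_211
  have h213 : ∀ u < 3834, (fun u => chkSlp tab slp u) u = true := ext_range (a := 3816) (len := 18) h212 sl_212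
  have h214 : ∀ u < 3852, (fun u => chkSlp tab slp u) u = true := ext_range (a := 3834) (len := 18) h213 sl_213
  have h215 : ∀ u < 3870, (fun u => chkSlp tab slp u) u = true := ext_range (a := 3852) (len := 18) h214 sl_214
  have h216 : ∀ u < 3888, (fun u => chkSlp tab slp u) u = true := ext_range (a := 3870) (len := 18) h215 sl_215
  have h217 : ∀ u < 3906, (fun u => chkSlp tab slp u) u = true := ext_range (a := 3888) (len := 18) h216 sl_216
  have h218 : ∀ u < 3924, (fun u => chkSlp tab slp u) u = true := ext_range (a := 3906) (len := 18) h217 sl_217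
  have h219 : ∀ u < 3942, (fun u => chkSlp tab slp u) u = true := ext_range (a := 3924) (len := 18) h218 sl_218
  have h220 : ∀ u < 3960, (fun u => chkSlp tab slp u) u = true := ext_range (a := 3942) (len := 18) h219 sl_219
  have h221 : ∀ u < 3978, (fun u => chkSlp tab slp u) u = true := ext_range (a := 3960) (len := 18) h220 sl_220
  have h222 : ∀ u < 3996, (fun u => chkSlp tab slp u) u = true := ext_range (a := 3978) (len := 18) h221 sl_221
  have h223 : ∀ u < 4014, (fun u => chkSlp tab slp u) u = true := ext_range (a := 3996) (len := 18) h222 sl_222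
  have h224 : ∀ u < 4032, (fun u => chkSlp tab slp u) u = true := ext_range (a := 4014) (len := 18) h223 sl_223
  have h225 : ∀ u < 4050, (fun u => chkSlp tab slp u) u = true := ext_range (a := 4032) (len := 18) h224 sl_224
  have h226 : ∀ u < 4068, (fun u => chkSlp tab slp u) u = true := ext_range (a := 4050) (len := 18) h225 sl_225
  have h227 : ∀ u < 4086, (fun u => chkSlp tab slp u) u = true := ext_range (a := 4068) (len := 18) h226 sl_226
  have h228 : ∀ u < 4104, (fun u => chkSlp tab slp u) u = true := ext_range (a := 4086) (len := 18) h227 sl_227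
  have h229 : ∀ u < 4122, (fun u => chkSlp tab slp u) u = true := ext_range (a := 4104) (len := 18) h228 sl_228
  have h230 : ∀ u < 4140, (fun u => chkSlp tab slp u) u = true := ext_range (a := 4122) (len := 18) h229 sl_229
  have h231 : ∀ u < 4158, (fun u => chkSlp tab slp u) u = true := ext_range (a := 4140) (len := 18) h230 sl_230
  have h232 : ∀ u < 4176, (fun u => chkSlp tab slp u) u = true := ext_range (a := 4158) (len := 18) h231 sl_231
  have h233 : ∀ u < 4194, (fun u => chkSlp tab slp u) u = true := ext_range (a := 4176) (len := 18) h232 sl_232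
  have h234 : ∀ u < 4212, (fun u => chkSlp tab slp u) u = true := ext_range (a := 4194) (len := 18) h233 sl_233
  have h235 : ∀ u < 4230, (fun u => chkSlp tab slp u) u = true := ext_range (a := 4212) (len := 18) h234 sl_234
  have h236 : ∀ u < 4248, (fun u => chkSlp tab slp u) u = true := ext_range (a := 4230) (len := 18) h235 sl_235
  have h237 : ∀ u < 4266, (fun u => chkSlp tab slp u) u = true := ext_range (a := 4248) (len := 18) h236 sl_236
  have h238 : ∀ u < 4284, (fun u => chkSlp tab slp u) u = true := ext_range (a := 4266) (len := 18) h237 sl_237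
  have h239 : ∀ u < 4302, (fun u => chkSlp tab slp u) u = true := ext_range (a := 4284) (len := 18) h238 sl_238
  have h240 : ∀ u < 4320, (fun u => chkSlp tab slp u) u = true := ext_range (a := 4302) (len := 18) h239 sl_239
  have h241 : ∀ u < 4338, (fun u => chkSlp tab slp u) u = true := ext_range (a := 4320) (len := 18) h240 sl_240
  have h242 : ∀ u < 4356, (fun u => chkSlp tab slp u) u = true := ext_range (a := 4338) (len := 18) h241 sl_241
  have h243 : ∀ u < 4374, (fun u => chkSlp tab slp u) u = true := ext_range (a := 4356) (len := 18) h242 sl_242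
  have h244 : ∀ u < 4392, (fun u => chkSlp tab slp u) u = true := ext_range (a := 4374) (len := 18) h243 sl_243
  have h245 : ∀ u < 4410, (fun u => chkSlp tab slp u) u = true := ext_range (a := 4392) (len := 18) h244 sl_244
  have h246 : ∀ u < 4428, (fun u => chkSlp tab slp u) u = true := ext_range (a := 4410) (len := 18) h245 sl_245
  have h247 : ∀ u < 4446, (fun u => chkSlp tab slp u) u = true := ext_range (a := 4428) (len := 18) h246 sl_246
  have h248 : ∀ u < 4464, (fun u => chkSlp tab slp u) u = true := ext_range (a := 4446) (len := 18) h247 sl_247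
  have h249 : ∀ u < 4482, (fun u => chkSlp tab slp u) u = true := ext_range (a := 4464) (len := 18) h248 sl_248
  have h250 : ∀ u < 4500, (fun u => chkSlp tab slp u) u = true := ext_range (a := 4482) (len := 18) h249 sl_249
  have h251 : ∀ u < 4518, (fun u => chkSlp tab slp u) u = true := ext_range (a := 4500) (len := 18) h250 sl_250
  have h252 : ∀ u < 4536, (fun u => chkSlp tab slp u) u = true := ext_range (a := 4518) (len := 18) h251 sl_251
  have h253 : ∀ u < 4554, (fun u => chkSlp tab slp u) u = true := ext_range (a := 4536) (len := 18) h252 sl_252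
  have h254 : ∀ u < 4572, (fun u => chkSlp tab slp u) u = true := ext_range (a := 4554) (len := 18) h253 sl_253
  have h255 : ∀ u < 4590, (fun u => chkSlp tab slp u) u = true := ext_range (a := 4572) (len := 18) h254 sl_254
  have h256 : ∀ u < 4608, (fun u => chkSlp tab slp u) u = true := ext_range (a := 4590) (len := 18) h255 sl_255
  have h257 : ∀ u < 4626, (fun u => chkSlp tab slp u) u = true := ext_range (a := 4608) (len := 18) h256 sl_256
  have h258 : ∀ u < 4644, (fun u => chkSlp tab slp u) u = true := ext_range (a := 4626) (len := 18) h257 sl_257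
  have h259 : ∀ u < 4662, (fun u => chkSlp tab slp u) u = true := ext_range (a := 4644) (len := 18) h258 sl_258
  have h260 : ∀ u < 4680, (fun u => chkSlp tab slp u) u = true := ext_range (a := 4662) (len := 18) h259 sl_259
  have h261 : ∀ u < 4698, (fun u => chkSlp tab slp u) u = true := ext_range (a := 4680) (len := 18) h260 sl_260
  have h262 : ∀ u < 4716, (fun u => chkSlp tab slp u) u = true := ext_range (a := 4698) (len := 18) h261 sl_261
  have h263 : ∀ u < 4734, (fun u => chkSlp tab slp u) u = true := ext_range (a := 4716) (len := 18) h262 sl_262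
  have h264 : ∀ u < 4752, (fun u => chkSlp tab slp u) u = true := ext_range (a := 4734) (len := 18) h263 sl_263
  have h265 : ∀ u < 4770, (fun u => chkSlp tab slp u) u = true := ext_range (a := 4752) (len := 18) h264 sl_264
  have h266 : ∀ u < 4788, (fun u => chkSlp tab slp u) u = true := ext_range (a := 4770) (len := 18) h265 sl_265
  have h267 : ∀ u < 4806, (fun u => chkSlp tab slp u) u = true := ext_range (a := 4788) (len := 18) h266 sl_266
  have h268 : ∀ u < 4824, (fun u => chkSlp tab slp u) u = true := ext_range (a := 4806) (len := 18) h267 sl_267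
  have h269 : ∀ u < 4842, (fun u => chkSlp tab slp u) u = true := ext_range (a := 4824) (len := 18) h268 sl_268
  have h270 : ∀ u < 4860, (fun u => chkSlp tab slp u) u = true := ext_range (a := 4842) (len := 18) h269 sl_269
  have h271 : ∀ u < 4878, (fun u => chkSlp tab slp u) u = true := ext_range (a := 4860) (len := 18) h270 sl_270
  have h272 : ∀ u < 4896, (fun u => chkSlp tab slp u) u = true := ext_range (a := 4878) (len := 18) h271 sl_271
  have h273 : ∀ u < 4914, (fun u => chkSlp tab slp u) u = true := ext_range (a := 4896) (len := 18) h272 sl_272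
  have h274 : ∀ u < 4932, (fun u => chkSlp tab slp u) u = true := ext_range (a := 4914) (len := 18) h273 sl_273
  have h275 : ∀ u < 4950, (fun u => chkSlp tab slp u) u = true := ext_range (a := 4932) (len := 18) h274 sl_274
  have h276 : ∀ u < 4968, (fun u => chkSlp tab slp u) u = true := ext_range (a := 4950) (len := 18) h275 sl_275
  have h277 : ∀ u < 4986, (fun u => chkSlp tab slp u) u = true := ext_range (a := 4968) (len := 18) h276 sl_276
  have h278 : ∀ u < 5004, (fun u => chkSlp tab slp u) u = true := ext_range (a := 4986) (len := 18) h277 sl_277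
  have h279 : ∀ u < 5022, (fun u => chkSlp tab slp u) u = true := ext_range (a := 5004) (len := 18) h278 sl_278
  have h280 : ∀ u < 5040, (fun u => chkSlp tab slp u) u = true := ext_range (a := 5022) (len := 18) h279 sl_279
  have h281 : ∀ u < 5058, (fun u => chkSlp tab slp u) u = true := ext_range (a := 5040) (len := 18) h280 sl_280
  have h282 : ∀ u < 5076, (fun u => chkSlp tab slp u) u = true := ext_range (a := 5058) (len := 18) h281 sl_281
  have h283 : ∀ u < 5094, (fun u => chkSlp tab slp u) u = true := ext_range (a := 5076) (len := 18) h282 sl_282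
  have h284 : ∀ u < 5112, (fun u => chkSlp tab slp u) u = true := ext_range (a := 5094) (len := 18) h283 sl_283
  have h285 : ∀ u < 5130, (fun u => chkSlp tab slp u) u = true := ext_range (a := 5112) (len := 18) h284 sl_284
  have h286 : ∀ u < 5148, (fun u => chkSlp tab slp u) u = true := ext_range (a := 5130) (len := 18) h285 sl_285
  have h287 : ∀ u < 5166, (fun u => chkSlp tab slp u) u = true := ext_range (a := 5148) (len := 18) h286 sl_286
  have h288 : ∀ u < 5184, (fun u => chkSlp tab slp u) u = true := ext_range (a := 5166) (len := 18) h287 sl_287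
  have h289 : ∀ u < 5202, (fun u => chkSlp tab slp u) u = true := ext_range (a := 5184) (len := 18) h288 sl_288
  have h290 : ∀ u < 5220, (fun u => chkSlp tab slp u) u = true := ext_range (a := 5202) (len := 18) h289 sl_289
  have h291 : ∀ u < 5238, (fun u => chkSlp tab slp u) u = true := ext_range (a := 5220) (len := 18) h290 sl_290
  have h292 : ∀ u < 5256, (fun u => chkSlp tab slp u) u = true := ext_range (a := 5238) (len := 18) h291 sl_291
  have h293 : ∀ u < 5274, (fun u => chkSlp tab slp u) u = true := ext_range (a := 5256) (len := 18) h292 sl_292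
  have h294 : ∀ u < 5292, (fun u => chkSlp tab slp u) u = true := ext_range (a := 5274) (len := 18) h293 sl_293
  have h295 : ∀ u < 5310, (fun u => chkSlp tab slp u) u = true := ext_range (a := 5292) (len := 18) h294 sl_294
  have h296 : ∀ u < 5328, (fun u => chkSlp tab slp u) u = true := ext_range (a := 5310) (len := 18) h295 sl_295
  have h297 : ∀ u < 5346, (fun u => chkSlp tab slp u) u = true := ext_range (a := 5328) (len := 18) h296 sl_296
  have h298 : ∀ u < 5364, (fun u => chkSlp tab slp u) u = true := ext_range (a := 5346) (len := 18) h297 sl_297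
  have h299 : ∀ u < 5382, (fun u => chkSlp tab slp u) u = true := ext_range (a := 5364) (len := 18) h298 sl_298
  have h300 : ∀ u < 5400, (fun u => chkSlp tab slp u) u = true := ext_range (a := 5382) (len := 18) h299 sl_299
  have h301 : ∀ u < 5418, (fun u => chkSlp tab slp u) u = true := ext_range (a := 5400) (len := 18) h300 sl_300
  have h302 : ∀ u < 5436, (fun u => chkSlp tab slp u) u = true := ext_range (a := 5418) (len := 18) h301 sl_301
  have h303 : ∀ u < 5454, (fun u => chkSlp tab slp u) u = true := ext_range (a := 5436) (len := 18) h302 sl_302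
  have h304 : ∀ u < 5472, (fun u => chkSlp tab slp u) u = true := ext_range (a := 5454) (len := 18) h303 sl_303
  have h305 : ∀ u < 5490, (fun u => chkSlp tab slp u) u = true := ext_range (a := 5472) (len := 18) h304 sl_304
  have h306 : ∀ u < 5508, (fun u => chkSlp tab slp u) u = true := ext_range (a := 5490) (len := 18) h305 sl_305
  have h307 : ∀ u < 5526, (fun u => chkSlp tab slp u) u = true := ext_range (a := 5508) (len := 18) h306 sl_306
  have h308 : ∀ u < 5544, (fun u => chkSlp tab slp u) u = true := ext_range (a := 5526) (len := 18) h307 sl_307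
  have h309 : ∀ u < 5562, (fun u => chkSlp tab slp u) u = true := ext_range (a := 5544) (len := 18) h308 sl_308
  have h310 : ∀ u < 5580, (fun u => chkSlp tab slp u) u = true := ext_range (a := 5562) (len := 18) h309 sl_309
  have h311 : ∀ u < 5598, (fun u => chkSlp tab slp u) u = true := ext_range (a := 5580) (len := 18) h310 sl_310
  have h312 : ∀ u < 5616, (fun u => chkSlp tab slp u) u = true := ext_range (a := 5598) (len := 18) h311 sl_311
  have h313 : ∀ u < 5634, (fun u => chkSlp tab slp u) u = true := ext_range (a := 5616) (len := 18) h312 sl_312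
  have h314 : ∀ u < 5652, (fun u => chkSlp tab slp u) u = true := ext_range (a := 5634) (len := 18) h313 sl_313
  have h315 : ∀ u < 5670, (fun u => chkSlp tab slp u) u = true := ext_range (a := 5652) (len := 18) h314 sl_314
  have h316 : ∀ u < 5688, (fun u => chkSlp tab slp u) u = true := ext_range (a := 5670) (len := 18) h315 sl_315
  have h317 : ∀ u < 5706, (fun u => chkSlp tab slp u) u = true := ext_range (a := 5688) (len := 18) h316 sl_316
  have h318 : ∀ u < 5724, (fun u => chkSlp tab slp u) u = true := ext_range (a := 5706) (len := 18) h317 sl_317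
  have h319 : ∀ u < 5742, (fun u => chkSlp tab slp u) u = true := ext_range (a := 5724) (len := 18) h318 sl_318
  have h320 : ∀ u < 5760, (fun u => chkSlp tab slp u) u = true := ext_range (a := 5742) (len := 18) h319 sl_319
  have h321 : ∀ u < 5778, (fun u => chkSlp tab slp u) u = true := ext_range (a := 5760) (len := 18) h320 sl_320
  have h322 : ∀ u < 5796, (fun u => chkSlp tab slp u) u = true := ext_range (a := 5778) (len := 18) h321 sl_321
  have h323 : ∀ u < 5814, (fun u => chkSlp tab slp u) u = true := ext_range (a := 5796) (len := 18) h322 sl_322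
  have h324 : ∀ u < 5832, (fun u => chkSlp tab slp u) u = true := ext_range (a := 5814) (len := 18) h323 sl_323
  have h325 : ∀ u < 5850, (fun u => chkSlp tab slp u) u = true := ext_range (a := 5832) (len := 18) h324 sl_324
  have h326 : ∀ u < 5868, (fun u => chkSlp tab slp u) u = true := ext_range (a := 5850) (len := 18) h325 sl_325
  have h327 : ∀ u < 5886, (fun u => chkSlp tab slp u) u = true := ext_range (a := 5868) (len := 18) h326 sl_326
  have h328 : ∀ u < 5904, (fun u => chkSlp tab slp u) u = true := ext_range (a := 5886) (len := 18) h327 sl_327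
  have h329 : ∀ u < 5922, (fun u => chkSlp tab slp u) u = true := ext_range (a := 5904) (len := 18) h328 sl_328
  have h330 : ∀ u < 5940, (fun u => chkSlp tab slp u) u = true := ext_range (a := 5922) (len := 18) h329 sl_329
  have h331 : ∀ u < 5958, (fun u => chkSlp tab slp u) u = true := ext_range (a := 5940) (len := 18) h330 sl_330
  have h332 : ∀ u < 5976, (fun u => chkSlp tab slp u) u = true := ext_range (a := 5958) (len := 18) h331 sl_331
  have h333 : ∀ u < 5994, (fun u => chkSlp tab slp u) u = true := ext_range (a := 5976) (len := 18) h332 sl_332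
  have h334 : ∀ u < 6012, (fun u => chkSlp tab slp u) u = true := ext_range (a := 5994) (len := 18) h333 sl_333
  have h335 : ∀ u < 6030, (fun u => chkSlp tab slp u) u = true := ext_range (a := 6012) (len := 18) h334 sl_334
  have h336 : ∀ u < 6048, (fun u => chkSlp tab slp u) u = true := ext_range (a := 6030) (len := 18) h335 sl_335
  have h337 : ∀ u < 6066, (fun u => chkSlp tab slp u) u = true := ext_range (a := 6048) (len := 18) h336 sl_336
  have h338 : ∀ u < 6084, (fun u => chkSlp tab slp u) u = true := ext_range (a := 6066) (len := 18) h337 sl_337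
  have h339 : ∀ u < 6102, (fun u => chkSlp tab slp u) u = true := ext_range (a := 6084) (len := 18) h338 sl_338
  have h340 : ∀ u < 6120, (fun u => chkSlp tab slp u) u = true := ext_range (a := 6102) (len := 18) h339 sl_339
  have h341 : ∀ u < 6138, (fun u => chkSlp tab slp u) u = true := ext_range (a := 6120) (len := 18) h340 sl_340
  have h342 : ∀ u < 6156, (fun u => chkSlp tab slp u) u = true := ext_range (a := 6138) (len := 18) h341 sl_341
  have h343 : ∀ u < 6174, (fun u => chkSlp tab slp u) u = true := ext_range (a := 6156) (len := 18) h342 sl_342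
  have h344 : ∀ u < 6192, (fun u => chkSlp tab slp u) u = true := ext_range (a := 6174) (len := 18) h343 sl_343
  have h345 : ∀ u < 6210, (fun u => chkSlp tab slp u) u = true := ext_range (a := 6192) (len := 18) h344 sl_344
  have h346 : ∀ u < 6228, (fun u => chkSlp tab slp u) u = true := ext_range (a := 6210) (len := 18) h345 sl_345
  have h347 : ∀ u < 6246, (fun u => chkSlp tab slp u) u = true := ext_range (a := 6228) (len := 18) h346 sl_346
  have h348 : ∀ u < 6264, (fun u => chkSlp tab slp u) u = true := ext_range (a := 6246) (len := 18) h347 sl_347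
  have h349 : ∀ u < 6282, (fun u => chkSlp tab slp u) u = true := ext_range (a := 6264) (len := 18) h348 sl_348
  have h350 : ∀ u < 6300, (fun u => chkSlp tab slp u) u = true := ext_range (a := 6282) (len := 18) h349 sl_349
  have h351 : ∀ u < 6318, (fun u => chkSlp tab slp u) u = true := ext_range (a := 6300) (len := 18) h350 sl_350
  have h352 : ∀ u < 6336, (fun u => chkSlp tab slp u) u = true := ext_range (a := 6318) (len := 18) h351 sl_351
  have h353 : ∀ u < 6354, (fun u => chkSlp tab slp u) u = true := ext_range (a := 6336) (len := 18) h352 sl_352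
  have h354 : ∀ u < 6372, (fun u => chkSlp tab slp u) u = true := ext_range (a := 6354) (len := 18) h353 sl_353
  have h355 : ∀ u < 6390, (fun u => chkSlp tab slp u) u = true := ext_range (a := 6372) (len := 18) h354 sl_354
  have h356 : ∀ u < 6408, (fun u => chkSlp tab slp u) u = true := ext_range (a := 6390) (len := 18) h355 sl_355
  have h357 : ∀ u < 6426, (fun u => chkSlp tab slp u) u = true := ext_range (a := 6408) (len := 18) h356 sl_356
  have h358 : ∀ u < 6444, (fun u => chkSlp tab slp u) u = true := ext_range (a := 6426) (len := 18) h357 sl_357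
  have h359 : ∀ u < 6462, (fun u => chkSlp tab slp u) u = true := ext_range (a := 6444) (len := 18) h358 sl_358
  have h360 : ∀ u < 6480, (fun u => chkSlp tab slp u) u = true := ext_range (a := 6462) (len := 18) h359 sl_359
  have h361 : ∀ u < 6498, (fun u => chkSlp tab slp u) u = true := ext_range (a := 6480) (len := 18) h360 sl_360
  have h362 : ∀ u < 6516, (fun u => chkSlp tab slp u) u = true := ext_range (a := 6498) (len := 18) h361 sl_361
  have h363 : ∀ u < 6534, (fun u => chkSlp tab slp u) u = true := ext_range (a := 6516) (len := 18) h362 sl_362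
  have h364 : ∀ u < 6552, (fun u => chkSlp tab slp u) u = true := ext_range (a := 6534) (len := 18) h363 sl_363
  have h365 : ∀ u < 6570, (fun u => chkSlp tab slp u) u = true := ext_range (a := 6552) (len := 18) h364 sl_364
  have h366 : ∀ u < 6588, (fun u => chkSlp tab slp u) u = true := ext_range (a := 6570) (len := 18) h365 sl_365
  have h367 : ∀ u < 6606, (fun u => chkSlp tab slp u) u = true := ext_range (a := 6588) (len := 18) h366 sl_366
  have h368 : ∀ u < 6624, (fun u => chkSlp tab slp u) u = true := ext_range (a := 6606) (len := 18) h367 sl_367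
  have h369 : ∀ u < 6642, (fun u => chkSlp tab slp u) u = true := ext_range (a := 6624) (len := 18) h368 sl_368
  have h370 : ∀ u < 6660, (fun u => chkSlp tab slp u) u = true := ext_range (a := 6642) (len := 18) h369 sl_369
  have h371 : ∀ u < 6678, (fun u => chkSlp tab slp u) u = true := ext_range (a := 6660) (len := 18) h370 sl_370
  have h372 : ∀ u < 6696, (fun u => chkSlp tab slp u) u = true := ext_range (a := 6678) (len := 18) h371 sl_371
  have h373 : ∀ u < 6714, (fun u => chkSlp tab slp u) u = true := ext_range (a := 6696) (len := 18) h372 sl_372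
  have h374 : ∀ u < 6732, (fun u => chkSlp tab slp u) u = true := ext_range (a := 6714) (len := 18) h373 sl_373
  have h375 : ∀ u < 6750, (fun u => chkSlp tab slp u) u = true := ext_range (a := 6732) (len := 18) h374 sl_374
  have h376 : ∀ u < 6768, (fun u => chkSlp tab slp u) u = true := ext_range (a := 6750) (len := 18) h375 sl_375
  have h377 : ∀ u < 6786, (fun u => chkSlp tab slp u) u = true := ext_range (a := 6768) (len := 18) h376 sl_376
  have h378 : ∀ u < 6804, (fun u => chkSlp tab slp u) u = true := ext_range (a := 6786) (len := 18) h377 sl_377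
  have h379 : ∀ u < 6822, (fun u => chkSlp tab slp u) u = true := ext_range (a := 6804) (len := 18) h378 sl_378
  have h380 : ∀ u < 6840, (fun u => chkSlp tab slp u) u = true := ext_range (a := 6822) (len := 18) h379 sl_379
  have h381 : ∀ u < 6858, (fun u => chkSlp tab slp u) u = true := ext_range (a := 6840) (len := 18) h380 sl_380
  have h382 : ∀ u < 6876, (fun u => chkSlp tab slp u) u = true := ext_range (a := 6858) (len := 18) h381 sl_381
  have h383 : ∀ u < 6894, (fun u => chkSlp tab slp u) u = true := ext_range (a := 6876) (len := 18) h382 sl_382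
  have h384 : ∀ u < 6912, (fun u => chkSlp tab slp u) u = true := ext_range (a := 6894) (len := 18) h383 sl_383
  have h385 : ∀ u < 6930, (fun u => chkSlp tab slp u) u = true := ext_range (a := 6912) (len := 18) h384 sl_384
  have h386 : ∀ u < 6948, (fun u => chkSlp tab slp u) u = true := ext_range (a := 6930) (len := 18) h385 sl_385
  have h387 : ∀ u < 6966, (fun u => chkSlp tab slp u) u = true := ext_range (a := 6948) (len := 18) h386 sl_386
  have h388 : ∀ u < 6984, (fun u => chkSlp tab slp u) u = true := ext_range (a := 6966) (len := 18) h387 sl_387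
  have h389 : ∀ u < 7002, (fun u => chkSlp tab slp u) u = true := ext_range (a := 6984) (len := 18) h388 sl_388
  have h390 : ∀ u < 7020, (fun u => chkSlp tab slp u) u = true := ext_range (a := 7002) (len := 18) h389 sl_389
  have h391 : ∀ u < 7038, (fun u => chkSlp tab slp u) u = true := ext_range (a := 7020) (len := 18) h390 sl_390
  have h392 : ∀ u < 7056, (fun u => chkSlp tab slp u) u = true := ext_range (a := 7038) (len := 18) h391 sl_391
  have h393 : ∀ u < 7074, (fun u => chkSlp tab slp u) u = true := ext_range (a := 7056) (len := 18) h392 sl_392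
  have h394 : ∀ u < 7092, (fun u => chkSlp tab slp u) u = true := ext_range (a := 7074) (len := 18) h393 sl_393
  have h395 : ∀ u < 7110, (fun u => chkSlp tab slp u) u = true := ext_range (a := 7092) (len := 18) h394 sl_394
  have h396 : ∀ u < 7128, (fun u => chkSlp tab slp u) u = true := ext_range (a := 7110) (len := 18) h395 sl_395
  have h397 : ∀ u < 7146, (fun u => chkSlp tab slp u) u = true := ext_range (a := 7128) (len := 18) h396 sl_396
  have h398 : ∀ u < 7164, (fun u => chkSlp tab slp u) u = true := ext_range (a := 7146) (len := 18) h397 sl_397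
  have h399 : ∀ u < 7182, (fun u => chkSlp tab slp u) u = true := ext_range (a := 7164) (len := 18) h398 sl_398
  have h400 : ∀ u < 7200, (fun u => chkSlp tab slp u) u = true := ext_range (a := 7182) (len := 18) h399 sl_399
  have h401 : ∀ u < 7218, (fun u => chkSlp tab slp u) u = true := ext_range (a := 7200) (len := 18) h400 sl_400
  have h402 : ∀ u < 7236, (fun u => chkSlp tab slp u) u = true := ext_range (a := 7218) (len := 18) h401 sl_401
  have h403 : ∀ u < 7254, (fun u => chkSlp tab slp u) u = true := ext_range (a := 7236) (len := 18) h402 sl_402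
  have h404 : ∀ u < 7272, (fun u => chkSlp tab slp u) u = true := ext_range (a := 7254) (len := 18) h403 sl_403
  have h405 : ∀ u < 7290, (fun u => chkSlp tab slp u) u = true := ext_range (a := 7272) (len := 18) h404 sl_404
  have h406 : ∀ u < 7308, (fun u => chkSlp tab slp u) u = true := ext_range (a := 7290) (len := 18) h405 sl_405
  have h407 : ∀ u < 7326, (fun u => chkSlp tab slp u) u = true := ext_range (a := 7308) (len := 18) h406 sl_406
  have h408 : ∀ u < 7344, (fun u => chkSlp tab slp u) u = true := ext_range (a := 7326) (len := 18) h407 sl_407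
  have h409 : ∀ u < 7362, (fun u => chkSlp tab slp u) u = true := ext_range (a := 7344) (len := 18) h408 sl_408
  have h410 : ∀ u < 7380, (fun u => chkSlp tab slp u) u = true := ext_range (a := 7362) (len := 18) h409 sl_409
  have h411 : ∀ u < 7398, (fun u => chkSlp tab slp u) u = true := ext_range (a := 7380) (len := 18) h410 sl_410
  have h412 : ∀ u < 7416, (fun u => chkSlp tab slp u) u = true := ext_range (a := 7398) (len := 18) h411 sl_411
  have h413 : ∀ u < 7434, (fun u => chkSlp tab slp u) u = true := ext_range (a := 7416) (len := 18) h412 sl_412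
  have h414 : ∀ u < 7452, (fun u => chkSlp tab slp u) u = true := ext_range (a := 7434) (len := 18) h413 sl_413
  have h415 : ∀ u < 7470, (fun u => chkSlp tab slp u) u = true := ext_range (a := 7452) (len := 18) h414 sl_414
  have h416 : ∀ u < 7488, (fun u => chkSlp tab slp u) u = true := ext_range (a := 7470) (len := 18) h415 sl_415
  have h417 : ∀ u < 7506, (fun u => chkSlp tab slp u) u = true := ext_range (a := 7488) (len := 18) h416 sl_416
  have h418 : ∀ u < 7524, (fun u => chkSlp tab slp u) u = true := ext_range (a := 7506) (len := 18) h417 sl_417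
  have h419 : ∀ u < 7542, (fun u => chkSlp tab slp u) u = true := ext_range (a := 7524) (len := 18) h418 sl_418
  have h420 : ∀ u < 7560, (fun u => chkSlp tab slp u) u = true := ext_range (a := 7542) (len := 18) h419 sl_419
  have h421 : ∀ u < 7578, (fun u => chkSlp tab slp u) u = true := ext_range (a := 7560) (len := 18) h420 sl_420
  have h422 : ∀ u < 7596, (fun u => chkSlp tab slp u) u = true := ext_range (a := 7578) (len := 18) h421 sl_421
  have h423 : ∀ u < 7614, (fun u => chkSlp tab slp u) u = true := ext_range (a := 7596) (len := 18) h422 sl_422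
  have h424 : ∀ u < 7632, (fun u => chkSlp tab slp u) u = true := ext_range (a := 7614) (len := 18) h423 sl_423
  have h425 : ∀ u < 7650, (fun u => chkSlp tab slp u) u = true := ext_range (a := 7632) (len := 18) h424 sl_424
  have h426 : ∀ u < 7668, (fun u => chkSlp tab slp u) u = true := ext_range (a := 7650) (len := 18) h425 sl_425
  have h427 : ∀ u < 7686, (fun u => chkSlp tab slp u) u = true := ext_range (a := 7668) (len := 18) h426 sl_426
  have h428 : ∀ u < 7704, (fun u => chkSlp tab slp u) u = true := ext_range (a := 7686) (len := 18) h427 sl_427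
  have h429 : ∀ u < 7722, (fun u => chkSlp tab slp u) u = true := ext_range (a := 7704) (len := 18) h428 sl_428
  have h430 : ∀ u < 7740, (fun u => chkSlp tab slp u) u = true := ext_range (a := 7722) (len := 18) h429 sl_429
  have h431 : ∀ u < 7758, (fun u => chkSlp tab slp u) u = true := ext_range (a := 7740) (len := 18) h430 sl_430
  have h432 : ∀ u < 7776, (fun u => chkSlp tab slp u) u = true := ext_range (a := 7758) (len := 18) h431 sl_431
  have h433 : ∀ u < 7794, (fun u => chkSlp tab slp u) u = true := ext_range (a := 7776) (len := 18) h432 sl_432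
  have h434 : ∀ u < 7812, (fun u => chkSlp tab slp u) u = true := ext_range (a := 7794) (len := 18) h433 sl_433
  have h435 : ∀ u < 7830, (fun u => chkSlp tab slp u) u = true := ext_range (a := 7812) (len := 18) h434 sl_434
  have h436 : ∀ u < 7848, (fun u => chkSlp tab slp u) u = true := ext_range (a := 7830) (len := 18) h435 sl_435
  have h437 : ∀ u < 7866, (fun u => chkSlp tab slp u) u = true := ext_range (a := 7848) (len := 18) h436 sl_436
  have h438 : ∀ u < 7884, (fun u => chkSlp tab slp u) u = true := ext_range (a := 7866) (len := 18) h437 sl_437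
  have h439 : ∀ u < 7902, (fun u => chkSlp tab slp u) u = true := ext_range (a := 7884) (len := 18) h438 sl_438
  have h440 : ∀ u < 7920, (fun u => chkSlp tab slp u) u = true := ext_range (a := 7902) (len := 18) h439 sl_439
  have h441 : ∀ u < 7938, (fun u => chkSlp tab slp u) u = true := ext_range (a := 7920) (len := 18) h440 sl_440
  have h442 : ∀ u < 7956, (fun u => chkSlp tab slp u) u = true := ext_range (a := 7938) (len := 18) h441 sl_441
  have h443 : ∀ u < 7974, (fun u => chkSlp tab slp u) u = true := ext_range (a := 7956) (len := 18) h442 sl_442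
  have h444 : ∀ u < 7992, (fun u => chkSlp tab slp u) u = true := ext_range (a := 7974) (len := 18) h443 sl_443
  have h445 : ∀ u < 8010, (fun u => chkSlp tab slp u) u = true := ext_range (a := 7992) (len := 18) h444 sl_444
  have h446 : ∀ u < 8028, (fun u => chkSlp tab slp u) u = true := ext_range (a := 8010) (len := 18) h445 sl_445
  have h447 : ∀ u < 8046, (fun u => chkSlp tab slp u) u = true := ext_range (a := 8028) (len := 18) h446 sl_446
  have h448 : ∀ u < 8064, (fun u => chkSlp tab slp u) u = true := ext_range (a := 8046) (len := 18) h447 sl_447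
  have h449 : ∀ u < 8082, (fun u => chkSlp tab slp u) u = true := ext_range (a := 8064) (len := 18) h448 sl_448
  have h450 : ∀ u < 8100, (fun u => chkSlp tab slp u) u = true := ext_range (a := 8082) (len := 18) h449 sl_449
  have h451 : ∀ u < 8118, (fun u => chkSlp tab slp u) u = true := ext_range (a := 8100) (len := 18) h450 sl_450
  have h452 : ∀ u < 8136, (fun u => chkSlp tab slp u) u = true := ext_range (a := 8118) (len := 18) h451 sl_451
  have h453 : ∀ u < 8154, (fun u => chkSlp tab slp u) u = true := ext_range (a := 8136) (len := 18) h452 sl_452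
  have h454 : ∀ u < 8172, (fun u => chkSlp tab slp u) u = true := ext_range (a := 8154) (len := 18) h453 sl_453
  have h455 : ∀ u < 8190, (fun u => chkSlp tab slp u) u = true := ext_range (a := 8172) (len := 18) h454 sl_454
  have h456 : ∀ u < 8208, (fun u => chkSlp tab slp u) u = true := ext_range (a := 8190) (len := 18) h455 sl_455
  have h457 : ∀ u < 8226, (fun u => chkSlp tab slp u) u = true := ext_range (a := 8208) (len := 18) h456 sl_456
  have h458 : ∀ u < 8244, (fun u => chkSlp tab slp u) u = true := ext_range (a := 8226) (len := 18) h457 sl_457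
  have h459 : ∀ u < 8262, (fun u => chkSlp tab slp u) u = true := ext_range (a := 8244) (len := 18) h458 sl_458
  have h460 : ∀ u < 8280, (fun u => chkSlp tab slp u) u = true := ext_range (a := 8262) (len := 18) h459 sl_459
  have h461 : ∀ u < 8298, (fun u => chkSlp tab slp u) u = true := ext_range (a := 8280) (len := 18) h460 sl_460
  have h462 : ∀ u < 8316, (fun u => chkSlp tab slp u) u = true := ext_range (a := 8298) (len := 18) h461 sl_461
  have h463 : ∀ u < 8334, (fun u => chkSlp tab slp u) u = true := ext_range (a := 8316) (len := 18) h462 sl_462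
  have h464 : ∀ u < 8352, (fun u => chkSlp tab slp u) u = true := ext_range (a := 8334) (len := 18) h463 sl_463
  have h465 : ∀ u < 8370, (fun u => chkSlp tab slp u) u = true := ext_range (a := 8352) (len := 18) h464 sl_464
  have h466 : ∀ u < 8388, (fun u => chkSlp tab slp u) u = true := ext_range (a := 8370) (len := 18) h465 sl_465
  have h467 : ∀ u < 8406, (fun u => chkSlp tab slp u) u = true := ext_range (a := 8388) (len := 18) h466 sl_466
  have h468 : ∀ u < 8424, (fun u => chkSlp tab slp u) u = true := ext_range (a := 8406) (len := 18) h467 sl_467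
  have h469 : ∀ u < 8442, (fun u => chkSlp tab slp u) u = true := ext_range (a := 8424) (len := 18) h468 sl_468
  have h470 : ∀ u < 8460, (fun u => chkSlp tab slp u) u = true := ext_range (a := 8442) (len := 18) h469 sl_469
  have h471 : ∀ u < 8478, (fun u => chkSlp tab slp u) u = true := ext_range (a := 8460) (len := 18) h470 sl_470
  have h472 : ∀ u < 8496, (fun u => chkSlp tab slp u) u = true := ext_range (a := 8478) (len := 18) h471 sl_471
  have h473 : ∀ u < 8514, (fun u => chkSlp tab slp u) u = true := ext_range (a := 8496) (len := 18) h472 sl_472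
  have h474 : ∀ u < 8532, (fun u => chkSlp tab slp u) u = true := ext_range (a := 8514) (len := 18) h473 sl_473
  have h475 : ∀ u < 8550, (fun u => chkSlp tab slp u) u = true := ext_range (a := 8532) (len := 18) h474 sl_474
  have h476 : ∀ u < 8568, (fun u => chkSlp tab slp u) u = true := ext_range (a := 8550) (len := 18) h475 sl_475
  have h477 : ∀ u < 8586, (fun u => chkSlp tab slp u) u = true := ext_range (a := 8568) (len := 18) h476 sl_476
  have h478 : ∀ u < 8604, (fun u => chkSlp tab slp u) u = true := ext_range (a := 8586) (len := 18) h477 sl_477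
  have h479 : ∀ u < 8622, (fun u => chkSlp tab slp u) u = true := ext_range (a := 8604) (len := 18) h478 sl_478
  have h480 : ∀ u < 8640, (fun u => chkSlp tab slp u) u = true := ext_range (a := 8622) (len := 18) h479 sl_479
  have h481 : ∀ u < 8658, (fun u => chkSlp tab slp u) u = true := ext_range (a := 8640) (len := 18) h480 sl_480
  have h482 : ∀ u < 8676, (fun u => chkSlp tab slp u) u = true := ext_range (a := 8658) (len := 18) h481 sl_481
  have h483 : ∀ u < 8694, (fun u => chkSlp tab slp u) u = true := ext_range (a := 8676) (len := 18) h482 sl_482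
  have h484 : ∀ u < 8712, (fun u => chkSlp tab slp u) u = true := ext_range (a := 8694) (len := 18) h483 sl_483
  have h485 : ∀ u < 8730, (fun u => chkSlp tab slp u) u = true := ext_range (a := 8712) (len := 18) h484 sl_484
  have h486 : ∀ u < 8748, (fun u => chkSlp tab slp u) u = true := ext_range (a := 8730) (len := 18) h485 sl_485
  have h487 : ∀ u < 8766, (fun u => chkSlp tab slp u) u = true := ext_range (a := 8748) (len := 18) h486 sl_486
  have h488 : ∀ u < 8784, (fun u => chkSlp tab slp u) u = true := ext_range (a := 8766) (len := 18) h487 sl_487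
  have h489 : ∀ u < 8802, (fun u => chkSlp tab slp u) u = true := ext_range (a := 8784) (len := 18) h488 sl_488
  have h490 : ∀ u < 8820, (fun u => chkSlp tab slp u) u = true := ext_range (a := 8802) (len := 18) h489 sl_489
  have h491 : ∀ u < 8838, (fun u => chkSlp tab slp u) u = true := ext_range (a := 8820) (len := 18) h490 sl_490
  have h492 : ∀ u < 8856, (fun u => chkSlp tab slp u) u = true := ext_range (a := 8838) (len := 18) h491 sl_491
  have h493 : ∀ u < 8874, (fun u => chkSlp tab slp u) u = true := ext_range (a := 8856) (len := 18) h492 sl_492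
  have h494 : ∀ u < 8892, (fun u => chkSlp tab slp u) u = true := ext_range (a := 8874) (len := 18) h493 sl_493
  have h495 : ∀ u < 8910, (fun u => chkSlp tab slp u) u = true := ext_range (a := 8892) (len := 18) h494 sl_494
  have h496 : ∀ u < 8928, (fun u => chkSlp tab slp u) u = true := ext_range (a := 8910) (len := 18) h495 sl_495
  have h497 : ∀ u < 8946, (fun u => chkSlp tab slp u) u = true := ext_range (a := 8928) (len := 18) h496 sl_496
  have h498 : ∀ u < 8964, (fun u => chkSlp tab slp u) u = true := ext_range (a := 8946) (len := 18) h497 sl_497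
  have h499 : ∀ u < 8982, (fun u => chkSlp tab slp u) u = true := ext_range (a := 8964) (len := 18) h498 sl_498
  have h500 : ∀ u < 9000, (fun u => chkSlp tab slp u) u = true := ext_range (a := 8982) (len := 18) h499 sl_499
  have h501 : ∀ u < 9018, (fun u => chkSlp tab slp u) u = true := ext_range (a := 9000) (len := 18) h500 sl_500
  have h502 : ∀ u < 9036, (fun u => chkSlp tab slp u) u = true := ext_range (a := 9018) (len := 18) h501 sl_501
  have h503 : ∀ u < 9054, (fun u => chkSlp tab slp u) u = true := ext_range (a := 9036) (len := 18) h502 sl_502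
  have h504 : ∀ u < 9072, (fun u => chkSlp tab slp u) u = true := ext_range (a := 9054) (len := 18) h503 sl_503
  have h505 : ∀ u < 9090, (fun u => chkSlp tab slp u) u = true := ext_range (a := 9072) (len := 18) h504 sl_504
  have h506 : ∀ u < 9108, (fun u => chkSlp tab slp u) u = true := ext_range (a := 9090) (len := 18) h505 sl_505
  have h507 : ∀ u < 9126, (fun u => chkSlp tab slp u) u = true := ext_range (a := 9108) (len := 18) h506 sl_506
  have h508 : ∀ u < 9144, (fun u => chkSlp tab slp u) u = true := ext_range (a := 9126) (len := 18) h507 sl_507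
  have h509 : ∀ u < 9162, (fun u => chkSlp tab slp u) u = true := ext_range (a := 9144) (len := 18) h508 sl_508
  have h510 : ∀ u < 9180, (fun u => chkSlp tab slp u) u = true := ext_range (a := 9162) (len := 18) h509 sl_509
  have h511 : ∀ u < 9198, (fun u => chkSlp tab slp u) u = true := ext_range (a := 9180) (len := 18) h510 sl_510
  have h512 : ∀ u < 9216, (fun u => chkSlp tab slp u) u = true := ext_range (a := 9198) (len := 18) h511 sl_511
  have h513 : ∀ u < 9234, (fun u => chkSlp tab slp u) u = true := ext_range (a := 9216) (len := 18) h512 sl_512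
  have h514 : ∀ u < 9252, (fun u => chkSlp tab slp u) u = true := ext_range (a := 9234) (len := 18) h513 sl_513
  have h515 : ∀ u < 9270, (fun u => chkSlp tab slp u) u = true := ext_range (a := 9252) (len := 18) h514 sl_514
  have h516 : ∀ u < 9288, (fun u => chkSlp tab slp u) u = true := ext_range (a := 9270) (len := 18) h515 sl_515
  have h517 : ∀ u < 9306, (fun u => chkSlp tab slp u) u = true := ext_range (a := 9288) (len := 18) h516 sl_516
  have h518 : ∀ u < 9324, (fun u => chkSlp tab slp u) u = true := ext_range (a := 9306) (len := 18) h517 sl_517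
  have h519 : ∀ u < 9342, (fun u => chkSlp tab slp u) u = true := ext_range (a := 9324) (len := 18) h518 sl_518
  have h520 : ∀ u < 9360, (fun u => chkSlp tab slp u) u = true := ext_range (a := 9342) (len := 18) h519 sl_519
  have h521 : ∀ u < 9378, (fun u => chkSlp tab slp u) u = true := ext_range (a := 9360) (len := 18) h520 sl_520
  have h522 : ∀ u < 9396, (fun u => chkSlp tab slp u) u = true := ext_range (a := 9378) (len := 18) h521 sl_521
  have h523 : ∀ u < 9414, (fun u => chkSlp tab slp u) u = true := ext_range (a := 9396) (len := 18) h522 sl_522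
  have h524 : ∀ u < 9432, (fun u => chkSlp tab slp u) u = true := ext_range (a := 9414) (len := 18) h523 sl_523
  have h525 : ∀ u < 9450, (fun u => chkSlp tab slp u) u = true := ext_range (a := 9432) (len := 18) h524 sl_524
  have h526 : ∀ u < 9468, (fun u => chkSlp tab slp u) u = true := ext_range (a := 9450) (len := 18) h525 sl_525
  have h527 : ∀ u < 9486, (fun u => chkSlp tab slp u) u = true := ext_range (a := 9468) (len := 18) h526 sl_526
  have h528 : ∀ u < 9504, (fun u => chkSlp tab slp u) u = true := ext_range (a := 9486) (len := 18) h527 sl_527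
  have h529 : ∀ u < 9522, (fun u => chkSlp tab slp u) u = true := ext_range (a := 9504) (len := 18) h528 sl_528
  have h530 : ∀ u < 9540, (fun u => chkSlp tab slp u) u = true := ext_range (a := 9522) (len := 18) h529 sl_529
  have h531 : ∀ u < 9558, (fun u => chkSlp tab slp u) u = true := ext_range (a := 9540) (len := 18) h530 sl_530
  have h532 : ∀ u < 9576, (fun u => chkSlp tab slp u) u = true := ext_range (a := 9558) (len := 18) h531 sl_531
  have h533 : ∀ u < 9594, (fun u => chkSlp tab slp u) u = true := ext_range (a := 9576) (len := 18) h532 sl_532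
  have h534 : ∀ u < 9612, (fun u => chkSlp tab slp u) u = true := ext_range (a := 9594) (len := 18) h533 sl_533
  have h535 : ∀ u < 9630, (fun u => chkSlp tab slp u) u = true := ext_range (a := 9612) (len := 18) h534 sl_534
  have h536 : ∀ u < 9648, (fun u => chkSlp tab slp u) u = true := ext_range (a := 9630) (len := 18) h535 sl_535
  have h537 : ∀ u < 9666, (fun u => chkSlp tab slp u) u = true := ext_range (a := 9648) (len := 18) h536 sl_536
  have h538 : ∀ u < 9684, (fun u => chkSlp tab slp u) u = true := ext_range (a := 9666) (len := 18) h537 sl_537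
  have h539 : ∀ u < 9702, (fun u => chkSlp tab slp u) u = true := ext_range (a := 9684) (len := 18) h538 sl_538
  have h540 : ∀ u < 9720, (fun u => chkSlp tab slp u) u = true := ext_range (a := 9702) (len := 18) h539 sl_539
  have h541 : ∀ u < 9738, (fun u => chkSlp tab slp u) u = true := ext_range (a := 9720) (len := 18) h540 sl_540
  have h542 : ∀ u < 9756, (fun u => chkSlp tab slp u) u = true := ext_range (a := 9738) (len := 18) h541 sl_541
  have h543 : ∀ u < 9774, (fun u => chkSlp tab slp u) u = true := ext_range (a := 9756) (len := 18) h542 sl_542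
  have h544 : ∀ u < 9792, (fun u => chkSlp tab slp u) u = true := ext_range (a := 9774) (len := 18) h543 sl_543
  have h545 : ∀ u < 9810, (fun u => chkSlp tab slp u) u = true := ext_range (a := 9792) (len := 18) h544 sl_544
  have h546 : ∀ u < 9828, (fun u => chkSlp tab slp u) u = true := ext_range (a := 9810) (len := 18) h545 sl_545
  have h547 : ∀ u < 9846, (fun u => chkSlp tab slp u) u = true := ext_range (a := 9828) (len := 18) h546 sl_546
  have h548 : ∀ u < 9864, (fun u => chkSlp tab slp u) u = true := ext_range (a := 9846) (len := 18) h547 sl_547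
  have h549 : ∀ u < 9882, (fun u => chkSlp tab slp u) u = true := ext_range (a := 9864) (len := 18) h548 sl_548
  have h550 : ∀ u < 9900, (fun u => chkSlp tab slp u) u = true := ext_range (a := 9882) (len := 18) h549 sl_549
  have h551 : ∀ u < 9918, (fun u => chkSlp tab slp u) u = true := ext_range (a := 9900) (len := 18) h550 sl_550
  have h552 : ∀ u < 9936, (fun u => chkSlp tab slp u) u = true := ext_range (a := 9918) (len := 18) h551 sl_551
  have h553 : ∀ u < 9954, (fun u => chkSlp tab slp u) u = true := ext_range (a := 9936) (len := 18) h552 sl_552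
  have h554 : ∀ u < 9972, (fun u => chkSlp tab slp u) u = true := ext_range (a := 9954) (len := 18) h553 sl_553
  have h555 : ∀ u < 9990, (fun u => chkSlp tab slp u) u = true := ext_range (a := 9972) (len := 18) h554 sl_554
  have h556 : ∀ u < 10008, (fun u => chkSlp tab slp u) u = true := ext_range (a := 9990) (len := 18) h555 sl_555
  have h557 : ∀ u < 10026, (fun u => chkSlp tab slp u) u = true := ext_range (a := 10008) (len := 18) h556 sl_556
  have h558 : ∀ u < 10044, (fun u => chkSlp tab slp u) u = true := ext_range (a := 10026) (len := 18) h557 sl_557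
  have h559 : ∀ u < 10062, (fun u => chkSlp tab slp u) u = true := ext_range (a := 10044) (len := 18) h558 sl_558
  have h560 : ∀ u < 10080, (fun u => chkSlp tab slp u) u = true := ext_range (a := 10062) (len := 18) h559 sl_559
  have h561 : ∀ u < 10098, (fun u => chkSlp tab slp u) u = true := ext_range (a := 10080) (len := 18) h560 sl_560
  have h562 : ∀ u < 10116, (fun u => chkSlp tab slp u) u = true := ext_range (a := 10098) (len := 18) h561 sl_561
  have h563 : ∀ u < 10134, (fun u => chkSlp tab slp u) u = true := ext_range (a := 10116) (len := 18) h562 sl_562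
  have h564 : ∀ u < 10152, (fun u => chkSlp tab slp u) u = true := ext_range (a := 10134) (len := 18) h563 sl_563
  have h565 : ∀ u < 10170, (fun u => chkSlp tab slp u) u = true := ext_range (a := 10152) (len := 18) h564 sl_564
  have h566 : ∀ u < 10188, (fun u => chkSlp tab slp u) u = true := ext_range (a := 10170) (len := 18) h565 sl_565
  have h567 : ∀ u < 10206, (fun u => chkSlp tab slp u) u = true := ext_range (a := 10188) (len := 18) h566 sl_566
  have h568 : ∀ u < 10224, (fun u => chkSlp tab slp u) u = true := ext_range (a := 10206) (len := 18) h567 sl_567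
  have h569 : ∀ u < 10242, (fun u => chkSlp tab slp u) u = true := ext_range (a := 10224) (len := 18) h568 sl_568
  have h570 : ∀ u < 10260, (fun u => chkSlp tab slp u) u = true := ext_range (a := 10242) (len := 18) h569 sl_569
  have h571 : ∀ u < 10278, (fun u => chkSlp tab slp u) u = true := ext_range (a := 10260) (len := 18) h570 sl_570
  have h572 : ∀ u < 10296, (fun u => chkSlp tab slp u) u = true := ext_range (a := 10278) (len := 18) h571 sl_571
  have h573 : ∀ u < 10314, (fun u => chkSlp tab slp u) u = true := ext_range (a := 10296) (len := 18) h572 sl_572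
  have h574 : ∀ u < 10332, (fun u => chkSlp tab slp u) u = true := ext_range (a := 10314) (len := 18) h573 sl_573
  have h575 : ∀ u < 10350, (fun u => chkSlp tab slp u) u = true := ext_range (a := 10332) (len := 18) h574 sl_574
  have h576 : ∀ u < 10368, (fun u => chkSlp tab slp u) u = true := ext_range (a := 10350) (len := 18) h575 sl_575
  have h577 : ∀ u < 10386, (fun u => chkSlp tab slp u) u = true := ext_range (a := 10368) (len := 18) h576 sl_576
  have h578 : ∀ u < 10404, (fun u => chkSlp tab slp u) u = true := ext_range (a := 10386) (len := 18) h577 sl_577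
  have h579 : ∀ u < 10422, (fun u => chkSlp tab slp u) u = true := ext_range (a := 10404) (len := 18) h578 sl_578
  have h580 : ∀ u < 10440, (fun u => chkSlp tab slp u) u = true := ext_range (a := 10422) (len := 18) h579 sl_579
  have h581 : ∀ u < 10458, (fun u => chkSlp tab slp u) u = true := ext_range (a := 10440) (len := 18) h580 sl_580
  have h582 : ∀ u < 10476, (fun u => chkSlp tab slp u) u = true := ext_range (a := 10458) (len := 18) h581 sl_581
  have h583 : ∀ u < 10494, (fun u => chkSlp tab slp u) u = true := ext_range (a := 10476) (len := 18) h582 sl_582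
  have h584 : ∀ u < 10512, (fun u => chkSlp tab slp u) u = true := ext_range (a := 10494) (len := 18) h583 sl_583
  have h585 : ∀ u < 10530, (fun u => chkSlp tab slp u) u = true := ext_range (a := 10512) (len := 18) h584 sl_584
  have h586 : ∀ u < 10548, (fun u => chkSlp tab slp u) u = true := ext_range (a := 10530) (len := 18) h585 sl_585
  have h587 : ∀ u < 10566, (fun u => chkSlp tab slp u) u = true := ext_range (a := 10548) (len := 18) h586 sl_586
  have h588 : ∀ u < 10584, (fun u => chkSlp tab slp u) u = true := ext_range (a := 10566) (len := 18) h587 sl_587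
  have h589 : ∀ u < 10602, (fun u => chkSlp tab slp u) u = true := ext_range (a := 10584) (len := 18) h588 sl_588
  have h590 : ∀ u < 10620, (fun u => chkSlp tab slp u) u = true := ext_range (a := 10602) (len := 18) h589 sl_589
  have h591 : ∀ u < 10638, (fun u => chkSlp tab slp u) u = true := ext_range (a := 10620) (len := 18) h590 sl_590
  have h592 : ∀ u < 10656, (fun u => chkSlp tab slp u) u = true := ext_range (a := 10638) (len := 18) h591 sl_591
  have h593 : ∀ u < 10674, (fun u => chkSlp tab slp u) u = true := ext_range (a := 10656) (len := 18) h592 sl_592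
  have h594 : ∀ u < 10692, (fun u => chkSlp tab slp u) u = true := ext_range (a := 10674) (len := 18) h593 sl_593
  have h595 : ∀ u < 10710, (fun u => chkSlp tab slp u) u = true := ext_range (a := 10692) (len := 18) h594 sl_594
  have h596 : ∀ u < 10728, (fun u => chkSlp tab slp u) u = true := ext_range (a := 10710) (len := 18) h595 sl_595
  have h597 : ∀ u < 10746, (fun u => chkSlp tab slp u) u = true := ext_range (a := 10728) (len := 18) h596 sl_596
  have h598 : ∀ u < 10764, (fun u => chkSlp tab slp u) u = true := ext_range (a := 10746) (len := 18) h597 sl_597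
  have h599 : ∀ u < 10782, (fun u => chkSlp tab slp u) u = true := ext_range (a := 10764) (len := 18) h598 sl_598
  have h600 : ∀ u < 10800, (fun u => chkSlp tab slp u) u = true := ext_range (a := 10782) (len := 18) h599 sl_599
  have h601 : ∀ u < 10818, (fun u => chkSlp tab slp u) u = true := ext_range (a := 10800) (len := 18) h600 sl_600
  have h602 : ∀ u < 10836, (fun u => chkSlp tab slp u) u = true := ext_range (a := 10818) (len := 18) h601 sl_601
  have h603 : ∀ u < 10854, (fun u => chkSlp tab slp u) u = true := ext_range (a := 10836) (len := 18) h602 sl_602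
  have h604 : ∀ u < 10872, (fun u => chkSlp tab slp u) u = true := ext_range (a := 10854) (len := 18) h603 sl_603
  have h605 : ∀ u < 10890, (fun u => chkSlp tab slp u) u = true := ext_range (a := 10872) (len := 18) h604 sl_604
  have h606 : ∀ u < 10908, (fun u => chkSlp tab slp u) u = true := ext_range (a := 10890) (len := 18) h605 sl_605
  have h607 : ∀ u < 10926, (fun u => chkSlp tab slp u) u = true := ext_range (a := 10908) (len := 18) h606 sl_606
  have h608 : ∀ u < 10944, (fun u => chkSlp tab slp u) u = true := ext_range (a := 10926) (len := 18) h607 sl_607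
  have h609 : ∀ u < 10962, (fun u => chkSlp tab slp u) u = true := ext_range (a := 10944) (len := 18) h608 sl_608
  have h610 : ∀ u < 10980, (fun u => chkSlp tab slp u) u = true := ext_range (a := 10962) (len := 18) h609 sl_609
  have h611 : ∀ u < 10998, (fun u => chkSlp tab slp u) u = true := ext_range (a := 10980) (len := 18) h610 sl_610
  have h612 : ∀ u < 11016, (fun u => chkSlp tab slp u) u = true := ext_range (a := 10998) (len := 18) h611 sl_611
  have h613 : ∀ u < 11034, (fun u => chkSlp tab slp u) u = true := ext_range (a := 11016) (len := 18) h612 sl_612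
  have h614 : ∀ u < 11052, (fun u => chkSlp tab slp u) u = true := ext_range (a := 11034) (len := 18) h613 sl_613
  have h615 : ∀ u < 11070, (fun u => chkSlp tab slp u) u = true := ext_range (a := 11052) (len := 18) h614 sl_614
  have h616 : ∀ u < 11088, (fun u => chkSlp tab slp u) u = true := ext_range (a := 11070) (len := 18) h615 sl_615
  have h617 : ∀ u < 11106, (fun u => chkSlp tab slp u) u = true := ext_range (a := 11088) (len := 18) h616 sl_616
  have h618 : ∀ u < 11124, (fun u => chkSlp tab slp u) u = true := ext_range (a := 11106) (len := 18) h617 sl_617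
  have h619 : ∀ u < 11142, (fun u => chkSlp tab slp u) u = true := ext_range (a := 11124) (len := 18) h618 sl_618
  have h620 : ∀ u < 11160, (fun u => chkSlp tab slp u) u = true := ext_range (a := 11142) (len := 18) h619 sl_619
  have h621 : ∀ u < 11178, (fun u => chkSlp tab slp u) u = true := ext_range (a := 11160) (len := 18) h620 sl_620
  have h622 : ∀ u < 11196, (fun u => chkSlp tab slp u) u = true := ext_range (a := 11178) (len := 18) h621 sl_621
  have h623 : ∀ u < 11214, (fun u => chkSlp tab slp u) u = true := ext_range (a := 11196) (len := 18) h622 sl_622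
  have h624 : ∀ u < 11232, (fun u => chkSlp tab slp u) u = true := ext_range (a := 11214) (len := 18) h623 sl_623
  have h625 : ∀ u < 11250, (fun u => chkSlp tab slp u) u = true := ext_range (a := 11232) (len := 18) h624 sl_624
  have h626 : ∀ u < 11268, (fun u => chkSlp tab slp u) u = true := ext_range (a := 11250) (len := 18) h625 sl_625
  have h627 : ∀ u < 11286, (fun u => chkSlp tab slp u) u = true := ext_range (a := 11268) (len := 18) h626 sl_626
  have h628 : ∀ u < 11304, (fun u => chkSlp tab slp u) u = true := ext_range (a := 11286) (len := 18) h627 sl_627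
  have h629 : ∀ u < 11322, (fun u => chkSlp tab slp u) u = true := ext_range (a := 11304) (len := 18) h628 sl_628
  have h630 : ∀ u < 11340, (fun u => chkSlp tab slp u) u = true := ext_range (a := 11322) (len := 18) h629 sl_629
  have h631 : ∀ u < 11358, (fun u => chkSlp tab slp u) u = true := ext_range (a := 11340) (len := 18) h630 sl_630
  have h632 : ∀ u < 11376, (fun u => chkSlp tab slp u) u = true := ext_range (a := 11358) (len := 18) h631 sl_631
  have h633 : ∀ u < 11394, (fun u => chkSlp tab slp u) u = true := ext_range (a := 11376) (len := 18) h632 sl_632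
  have h634 : ∀ u < 11412, (fun u => chkSlp tab slp u) u = true := ext_range (a := 11394) (len := 18) h633 sl_633
  have h635 : ∀ u < 11430, (fun u => chkSlp tab slp u) u = true := ext_range (a := 11412) (len := 18) h634 sl_634
  have h636 : ∀ u < 11448, (fun u => chkSlp tab slp u) u = true := ext_range (a := 11430) (len := 18) h635 sl_635
  have h637 : ∀ u < 11466, (fun u => chkSlp tab slp u) u = true := ext_range (a := 11448) (len := 18) h636 sl_636
  have h638 : ∀ u < 11484, (fun u => chkSlp tab slp u) u = true := ext_range (a := 11466) (len := 18) h637 sl_637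
  have h639 : ∀ u < 11502, (fun u => chkSlp tab slp u) u = true := ext_range (a := 11484) (len := 18) h638 sl_638
  have h640 : ∀ u < 11520, (fun u => chkSlp tab slp u) u = true := ext_range (a := 11502) (len := 18) h639 sl_639
  have h641 : ∀ u < 11538, (fun u => chkSlp tab slp u) u = true := ext_range (a := 11520) (len := 18) h640 sl_640
  have h642 : ∀ u < 11556, (fun u => chkSlp tab slp u) u = true := ext_range (a := 11538) (len := 18) h641 sl_641
  have h643 : ∀ u < 11574, (fun u => chkSlp tab slp u) u = true := ext_range (a := 11556) (len := 18) h642 sl_642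
  have h644 : ∀ u < 11592, (fun u => chkSlp tab slp u) u = true := ext_range (a := 11574) (len := 18) h643 sl_643
  have h645 : ∀ u < 11610, (fun u => chkSlp tab slp u) u = true := ext_range (a := 11592) (len := 18) h644 sl_644
  have h646 : ∀ u < 11628, (fun u => chkSlp tab slp u) u = true := ext_range (a := 11610) (len := 18) h645 sl_645
  have h647 : ∀ u < 11646, (fun u => chkSlp tab slp u) u = true := ext_range (a := 11628) (len := 18) h646 sl_646
  have h648 : ∀ u < 11664, (fun u => chkSlp tab slp u) u = true := ext_range (a := 11646) (len := 18) h647 sl_647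
  have h649 : ∀ u < 11682, (fun u => chkSlp tab slp u) u = true := ext_range (a := 11664) (len := 18) h648 sl_648
  have h650 : ∀ u < 11700, (fun u => chkSlp tab slp u) u = true := ext_range (a := 11682) (len := 18) h649 sl_649
  have h651 : ∀ u < 11718, (fun u => chkSlp tab slp u) u = true := ext_range (a := 11700) (len := 18) h650 sl_650
  have h652 : ∀ u < 11736, (fun u => chkSlp tab slp u) u = true := ext_range (a := 11718) (len := 18) h651 sl_651
  have h653 : ∀ u < 11754, (fun u => chkSlp tab slp u) u = true := ext_range (a := 11736) (len := 18) h652 sl_652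
  have h654 : ∀ u < 11772, (fun u => chkSlp tab slp u) u = true := ext_range (a := 11754) (len := 18) h653 sl_653
  have h655 : ∀ u < 11790, (fun u => chkSlp tab slp u) u = true := ext_range (a := 11772) (len := 18) h654 sl_654
  have h656 : ∀ u < 11808, (fun u => chkSlp tab slp u) u = true := ext_range (a := 11790) (len := 18) h655 sl_655
  have h657 : ∀ u < 11826, (fun u => chkSlp tab slp u) u = true := ext_range (a := 11808) (len := 18) h656 sl_656
  have h658 : ∀ u < 11844, (fun u => chkSlp tab slp u) u = true := ext_range (a := 11826) (len := 18) h657 sl_657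
  have h659 : ∀ u < 11862, (fun u => chkSlp tab slp u) u = true := ext_range (a := 11844) (len := 18) h658 sl_658
  have h660 : ∀ u < 11880, (fun u => chkSlp tab slp u) u = true := ext_range (a := 11862) (len := 18) h659 sl_659
  have h661 : ∀ u < 11898, (fun u => chkSlp tab slp u) u = true := ext_range (a := 11880) (len := 18) h660 sl_660
  have h662 : ∀ u < 11916, (fun u => chkSlp tab slp u) u = true := ext_range (a := 11898) (len := 18) h661 sl_661
  have h663 : ∀ u < 11934, (fun u => chkSlp tab slp u) u = true := ext_range (a := 11916) (len := 18) h662 sl_662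
  have h664 : ∀ u < 11952, (fun u => chkSlp tab slp u) u = true := ext_range (a := 11934) (len := 18) h663 sl_663
  have h665 : ∀ u < 11970, (fun u => chkSlp tab slp u) u = true := ext_range (a := 11952) (len := 18) h664 sl_664
  have h666 : ∀ u < 11988, (fun u => chkSlp tab slp u) u = true := ext_range (a := 11970) (len := 18) h665 sl_665
  have h667 : ∀ u < 12006, (fun u => chkSlp tab slp u) u = true := ext_range (a := 11988) (len := 18) h666 sl_666
  have h668 : ∀ u < 12024, (fun u => chkSlp tab slp u) u = true := ext_range (a := 12006) (len := 18) h667 sl_667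
  have h669 : ∀ u < 12042, (fun u => chkSlp tab slp u) u = true := ext_range (a := 12024) (len := 18) h668 sl_668
  have h670 : ∀ u < 12060, (fun u => chkSlp tab slp u) u = true := ext_range (a := 12042) (len := 18) h669 sl_669
  have h671 : ∀ u < 12078, (fun u => chkSlp tab slp u) u = true := ext_range (a := 12060) (len := 18) h670 sl_670
  have h672 : ∀ u < 12096, (fun u => chkSlp tab slp u) u = true := ext_range (a := 12078) (len := 18) h671 sl_671
  have h673 : ∀ u < 12114, (fun u => chkSlp tab slp u) u = true := ext_range (a := 12096) (len := 18) h672 sl_672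
  have h674 : ∀ u < 12132, (fun u => chkSlp tab slp u) u = true := ext_range (a := 12114) (len := 18) h673 sl_673
  have h675 : ∀ u < 12150, (fun u => chkSlp tab slp u) u = true := ext_range (a := 12132) (len := 18) h674 sl_674
  have h676 : ∀ u < 12168, (fun u => chkSlp tab slp u) u = true := ext_range (a := 12150) (len := 18) h675 sl_675
  have h677 : ∀ u < 12186, (fun u => chkSlp tab slp u) u = true := ext_range (a := 12168) (len := 18) h676 sl_676
  have h678 : ∀ u < 12204, (fun u => chkSlp tab slp u) u = true := ext_range (a := 12186) (len := 18) h677 sl_677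
  have h679 : ∀ u < 12222, (fun u => chkSlp tab slp u) u = true := ext_range (a := 12204) (len := 18) h678 sl_678
  have h680 : ∀ u < 12240, (fun u => chkSlp tab slp u) u = true := ext_range (a := 12222) (len := 18) h679 sl_679
  have h681 : ∀ u < 12258, (fun u => chkSlp tab slp u) u = true := ext_range (a := 12240) (len := 18) h680 sl_680
  have h682 : ∀ u < 12276, (fun u => chkSlp tab slp u) u = true := ext_range (a := 12258) (len := 18) h681 sl_681
  have h683 : ∀ u < 12294, (fun u => chkSlp tab slp u) u = true := ext_range (a := 12276) (len := 18) h682 sl_682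
  have h684 : ∀ u < 12312, (fun u => chkSlp tab slp u) u = true := ext_range (a := 12294) (len := 18) h683 sl_683
  have h685 : ∀ u < 12330, (fun u => chkSlp tab slp u) u = true := ext_range (a := 12312) (len := 18) h684 sl_684
  have h686 : ∀ u < 12348, (fun u => chkSlp tab slp u) u = true := ext_range (a := 12330) (len := 18) h685 sl_685
  have h687 : ∀ u < 12366, (fun u => chkSlp tab slp u) u = true := ext_range (a := 12348) (len := 18) h686 sl_686
  have h688 : ∀ u < 12384, (fun u => chkSlp tab slp u) u = true := ext_range (a := 12366) (len := 18) h687 sl_687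
  have h689 : ∀ u < 12402, (fun u => chkSlp tab slp u) u = true := ext_range (a := 12384) (len := 18) h688 sl_688
  have h690 : ∀ u < 12420, (fun u => chkSlp tab slp u) u = true := ext_range (a := 12402) (len := 18) h689 sl_689
  have h691 : ∀ u < 12438, (fun u => chkSlp tab slp u) u = true := ext_range (a := 12420) (len := 18) h690 sl_690
  have h692 : ∀ u < 12456, (fun u => chkSlp tab slp u) u = true := ext_range (a := 12438) (len := 18) h691 sl_691
  have h693 : ∀ u < 12474, (fun u => chkSlp tab slp u) u = true := ext_range (a := 12456) (len := 18) h692 sl_692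
  have h694 : ∀ u < 12492, (fun u => chkSlp tab slp u) u = true := ext_range (a := 12474) (len := 18) h693 sl_693
  have h695 : ∀ u < 12510, (fun u => chkSlp tab slp u) u = true := ext_range (a := 12492) (len := 18) h694 sl_694
  have h696 : ∀ u < 12528, (fun u => chkSlp tab slp u) u = true := ext_range (a := 12510) (len := 18) h695 sl_695
  have h697 : ∀ u < 12546, (fun u => chkSlp tab slp u) u = true := ext_range (a := 12528) (len := 18) h696 sl_696
  have h698 : ∀ u < 12564, (fun u => chkSlp tab slp u) u = true := ext_range (a := 12546) (len := 18) h697 sl_697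
  have h699 : ∀ u < 12582, (fun u => chkSlp tab slp u) u = true := ext_range (a := 12564) (len := 18) h698 sl_698
  have h700 : ∀ u < 12600, (fun u => chkSlp tab slp u) u = true := ext_range (a := 12582) (len := 18) h699 sl_699
  have h701 : ∀ u < 12618, (fun u => chkSlp tab slp u) u = true := ext_range (a := 12600) (len := 18) h700 sl_700
  have h702 : ∀ u < 12636, (fun u => chkSlp tab slp u) u = true := ext_range (a := 12618) (len := 18) h701 sl_701
  have h703 : ∀ u < 12654, (fun u => chkSlp tab slp u) u = true := ext_range (a := 12636) (len := 18) h702 sl_702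
  have h704 : ∀ u < 12672, (fun u => chkSlp tab slp u) u = true := ext_range (a := 12654) (len := 18) h703 sl_703
  have h705 : ∀ u < 12690, (fun u => chkSlp tab slp u) u = true := ext_range (a := 12672) (len := 18) h704 sl_704
  have h706 : ∀ u < 12708, (fun u => chkSlp tab slp u) u = true := ext_range (a := 12690) (len := 18) h705 sl_705
  have h707 : ∀ u < 12726, (fun u => chkSlp tab slp u) u = true := ext_range (a := 12708) (len := 18) h706 sl_706
  have h708 : ∀ u < 12744, (fun u => chkSlp tab slp u) u = true := ext_range (a := 12726) (len := 18) h707 sl_707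
  have h709 : ∀ u < 12762, (fun u => chkSlp tab slp u) u = true := ext_range (a := 12744) (len := 18) h708 sl_708
  have h710 : ∀ u < 12780, (fun u => chkSlp tab slp u) u = true := ext_range (a := 12762) (len := 18) h709 sl_709
  have h711 : ∀ u < 12798, (fun u => chkSlp tab slp u) u = true := ext_range (a := 12780) (len := 18) h710 sl_710
  have h712 : ∀ u < 12816, (fun u => chkSlp tab slp u) u = true := ext_range (a := 12798) (len := 18) h711 sl_711
  have h713 : ∀ u < 12834, (fun u => chkSlp tab slp u) u = true := ext_range (a := 12816) (len := 18) h712 sl_712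
  have h714 : ∀ u < 12852, (fun u => chkSlp tab slp u) u = true := ext_range (a := 12834) (len := 18) h713 sl_713
  have h715 : ∀ u < 12870, (fun u => chkSlp tab slp u) u = true := ext_range (a := 12852) (len := 18) h714 sl_714
  have h716 : ∀ u < 12888, (fun u => chkSlp tab slp u) u = true := ext_range (a := 12870) (len := 18) h715 sl_715
  have h717 : ∀ u < 12906, (fun u => chkSlp tab slp u) u = true := ext_range (a := 12888) (len := 18) h716 sl_716
  have h718 : ∀ u < 12924, (fun u => chkSlp tab slp u) u = true := ext_range (a := 12906) (len := 18) h717 sl_717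
  have h719 : ∀ u < 12942, (fun u => chkSlp tab slp u) u = true := ext_range (a := 12924) (len := 18) h718 sl_718
  have h720 : ∀ u < 12960, (fun u => chkSlp tab slp u) u = true := ext_range (a := 12942) (len := 18) h719 sl_719
  have h721 : ∀ u < 12978, (fun u => chkSlp tab slp u) u = true := ext_range (a := 12960) (len := 18) h720 sl_720
  have h722 : ∀ u < 12996, (fun u => chkSlp tab slp u) u = true := ext_range (a := 12978) (len := 18) h721 sl_721
  have h723 : ∀ u < 13014, (fun u => chkSlp tab slp u) u = true := ext_range (a := 12996) (len := 18) h722 sl_722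
  have h724 : ∀ u < 13032, (fun u => chkSlp tab slp u) u = true := ext_range (a := 13014) (len := 18) h723 sl_723
  have h725 : ∀ u < 13050, (fun u => chkSlp tab slp u) u = true := ext_range (a := 13032) (len := 18) h724 sl_724
  have h726 : ∀ u < 13068, (fun u => chkSlp tab slp u) u = true := ext_range (a := 13050) (len := 18) h725 sl_725
  have h727 : ∀ u < 13086, (fun u => chkSlp tab slp u) u = true := ext_range (a := 13068) (len := 18) h726 sl_726
  have h728 : ∀ u < 13104, (fun u => chkSlp tab slp u) u = true := ext_range (a := 13086) (len := 18) h727 sl_727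
  have h729 : ∀ u < 13122, (fun u => chkSlp tab slp u) u = true := ext_range (a := 13104) (len := 18) h728 sl_728
  have h730 : ∀ u < 13140, (fun u => chkSlp tab slp u) u = true := ext_range (a := 13122) (len := 18) h729 sl_729
  have h731 : ∀ u < 13158, (fun u => chkSlp tab slp u) u = true := ext_range (a := 13140) (len := 18) h730 sl_730
  have h732 : ∀ u < 13176, (fun u => chkSlp tab slp u) u = true := ext_range (a := 13158) (len := 18) h731 sl_731
  have h733 : ∀ u < 13194, (fun u => chkSlp tab slp u) u = true := ext_range (a := 13176) (len := 18) h732 sl_732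
  have h734 : ∀ u < 13212, (fun u => chkSlp tab slp u) u = true := ext_range (a := 13194) (len := 18) h733 sl_733
  have h735 : ∀ u < 13230, (fun u => chkSlp tab slp u) u = true := ext_range (a := 13212) (len := 18) h734 sl_734
  have h736 : ∀ u < 13248, (fun u => chkSlp tab slp u) u = true := ext_range (a := 13230) (len := 18) h735 sl_735
  have h737 : ∀ u < 13266, (fun u => chkSlp tab slp u) u = true := ext_range (a := 13248) (len := 18) h736 sl_736
  have h738 : ∀ u < 13284, (fun u => chkSlp tab slp u) u = true := ext_range (a := 13266) (len := 18) h737 sl_737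
  have h739 : ∀ u < 13302, (fun u => chkSlp tab slp u) u = true := ext_range (a := 13284) (len := 18) h738 sl_738
  have h740 : ∀ u < 13320, (fun u => chkSlp tab slp u) u = true := ext_range (a := 13302) (len := 18) h739 sl_739
  have h741 : ∀ u < 13338, (fun u => chkSlp tab slp u) u = true := ext_range (a := 13320) (len := 18) h740 sl_740
  have h742 : ∀ u < 13356, (fun u => chkSlp tab slp u) u = true := ext_range (a := 13338) (len := 18) h741 sl_741
  have h743 : ∀ u < 13374, (fun u => chkSlp tab slp u) u = true := ext_range (a := 13356) (len := 18) h742 sl_742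
  have h744 : ∀ u < 13392, (fun u => chkSlp tab slp u) u = true := ext_range (a := 13374) (len := 18) h743 sl_743
  have h745 : ∀ u < 13410, (fun u => chkSlp tab slp u) u = true := ext_range (a := 13392) (len := 18) h744 sl_744
  have h746 : ∀ u < 13428, (fun u => chkSlp tab slp u) u = true := ext_range (a := 13410) (len := 18) h745 sl_745
  have h747 : ∀ u < 13446, (fun u => chkSlp tab slp u) u = true := ext_range (a := 13428) (len := 18) h746 sl_746
  have h748 : ∀ u < 13464, (fun u => chkSlp tab slp u) u = true := ext_range (a := 13446) (len := 18) h747 sl_747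
  have h749 : ∀ u < 13482, (fun u => chkSlp tab slp u) u = true := ext_range (a := 13464) (len := 18) h748 sl_748
  have h750 : ∀ u < 13500, (fun u => chkSlp tab slp u) u = true := ext_range (a := 13482) (len := 18) h749 sl_749
  have h751 : ∀ u < 13518, (fun u => chkSlp tab slp u) u = true := ext_range (a := 13500) (len := 18) h750 sl_750
  have h752 : ∀ u < 13536, (fun u => chkSlp tab slp u) u = true := ext_range (a := 13518) (len := 18) h751 sl_751
  have h753 : ∀ u < 13554, (fun u => chkSlp tab slp u) u = true := ext_range (a := 13536) (len := 18) h752 sl_752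
  have h754 : ∀ u < 13572, (fun u => chkSlp tab slp u) u = true := ext_range (a := 13554) (len := 18) h753 sl_753
  have h755 : ∀ u < 13590, (fun u => chkSlp tab slp u) u = true := ext_range (a := 13572) (len := 18) h754 sl_754
  have h756 : ∀ u < 13608, (fun u => chkSlp tab slp u) u = true := ext_range (a := 13590) (len := 18) h755 sl_755
  have h757 : ∀ u < 13626, (fun u => chkSlp tab slp u) u = true := ext_range (a := 13608) (len := 18) h756 sl_756
  have h758 : ∀ u < 13644, (fun u => chkSlp tab slp u) u = true := ext_range (a := 13626) (len := 18) h757 sl_757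
  have h759 : ∀ u < 13662, (fun u => chkSlp tab slp u) u = true := ext_range (a := 13644) (len := 18) h758 sl_758
  have h760 : ∀ u < 13680, (fun u => chkSlp tab slp u) u = true := ext_range (a := 13662) (len := 18) h759 sl_759
  have h761 : ∀ u < 13698, (fun u => chkSlp tab slp u) u = true := ext_range (a := 13680) (len := 18) h760 sl_760
  have h762 : ∀ u < 13716, (fun u => chkSlp tab slp u) u = true := ext_range (a := 13698) (len := 18) h761 sl_761
  have h763 : ∀ u < 13734, (fun u => chkSlp tab slp u) u = true := ext_range (a := 13716) (len := 18) h762 sl_762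
  have h764 : ∀ u < 13752, (fun u => chkSlp tab slp u) u = true := ext_range (a := 13734) (len := 18) h763 sl_763
  have h765 : ∀ u < 13770, (fun u => chkSlp tab slp u) u = true := ext_range (a := 13752) (len := 18) h764 sl_764
  have h766 : ∀ u < 13788, (fun u => chkSlp tab slp u) u = true := ext_range (a := 13770) (len := 18) h765 sl_765
  have h767 : ∀ u < 13806, (fun u => chkSlp tab slp u) u = true := ext_range (a := 13788) (len := 18) h766 sl_766
  have h768 : ∀ u < 13824, (fun u => chkSlp tab slp u) u = true := ext_range (a := 13806) (len := 18) h767 sl_767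
  have h769 : ∀ u < 13842, (fun u => chkSlp tab slp u) u = true := ext_range (a := 13824) (len := 18) h768 sl_768
  have h770 : ∀ u < 13860, (fun u => chkSlp tab slp u) u = true := ext_range (a := 13842) (len := 18) h769 sl_769
  have h771 : ∀ u < 13878, (fun u => chkSlp tab slp u) u = true := ext_range (a := 13860) (len := 18) h770 sl_770
  have h772 : ∀ u < 13896, (fun u => chkSlp tab slp u) u = true := ext_range (a := 13878) (len := 18) h771 sl_771
  have h773 : ∀ u < 13914, (fun u => chkSlp tab slp u) u = true := ext_range (a := 13896) (len := 18) h772 sl_772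
  have h774 : ∀ u < 13932, (fun u => chkSlp tab slp u) u = true := ext_range (a := 13914) (len := 18) h773 sl_773
  have h775 : ∀ u < 13950, (fun u => chkSlp tab slp u) u = true := ext_range (a := 13932) (len := 18) h774 sl_774
  have h776 : ∀ u < 13968, (fun u => chkSlp tab slp u) u = true := ext_range (a := 13950) (len := 18) h775 sl_775
  have h777 : ∀ u < 13986, (fun u => chkSlp tab slp u) u = true := ext_range (a := 13968) (len := 18) h776 sl_776
  have h778 : ∀ u < 14004, (fun u => chkSlp tab slp u) u = true := ext_range (a := 13986) (len := 18) h777 sl_777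
  have h779 : ∀ u < 14022, (fun u => chkSlp tab slp u) u = true := ext_range (a := 14004) (len := 18) h778 sl_778
  have h780 : ∀ u < 14040, (fun u => chkSlp tab slp u) u = true := ext_range (a := 14022) (len := 18) h779 sl_779
  have h781 : ∀ u < 14058, (fun u => chkSlp tab slp u) u = true := ext_range (a := 14040) (len := 18) h780 sl_780
  have h782 : ∀ u < 14076, (fun u => chkSlp tab slp u) u = true := ext_range (a := 14058) (len := 18) h781 sl_781
  have h783 : ∀ u < 14094, (fun u => chkSlp tab slp u) u = true := ext_range (a := 14076) (len := 18) h782 sl_782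
  have h784 : ∀ u < 14112, (fun u => chkSlp tab slp u) u = true := ext_range (a := 14094) (len := 18) h783 sl_783
  have h785 : ∀ u < 14130, (fun u => chkSlp tab slp u) u = true := ext_range (a := 14112) (len := 18) h784 sl_784
  have h786 : ∀ u < 14148, (fun u => chkSlp tab slp u) u = true := ext_range (a := 14130) (len := 18) h785 sl_785
  have h787 : ∀ u < 14166, (fun u => chkSlp tab slp u) u = true := ext_range (a := 14148) (len := 18) h786 sl_786
  have h788 : ∀ u < 14184, (fun u => chkSlp tab slp u) u = true := ext_range (a := 14166) (len := 18) h787 sl_787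
  have h789 : ∀ u < 14202, (fun u => chkSlp tab slp u) u = true := ext_range (a := 14184) (len := 18) h788 sl_788
  have h790 : ∀ u < 14220, (fun u => chkSlp tab slp u) u = true := ext_range (a := 14202) (len := 18) h789 sl_789
  have h791 : ∀ u < 14238, (fun u => chkSlp tab slp u) u = true := ext_range (a := 14220) (len := 18) h790 sl_790
  have h792 : ∀ u < 14256, (fun u => chkSlp tab slp u) u = true := ext_range (a := 14238) (len := 18) h791 sl_791
  have h793 : ∀ u < 14274, (fun u => chkSlp tab slp u) u = true := ext_range (a := 14256) (len := 18) h792 sl_792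
  have h794 : ∀ u < 14292, (fun u => chkSlp tab slp u) u = true := ext_range (a := 14274) (len := 18) h793 sl_793
  have h795 : ∀ u < 14310, (fun u => chkSlp tab slp u) u = true := ext_range (a := 14292) (len := 18) h794 sl_794
  have h796 : ∀ u < 14328, (fun u => chkSlp tab slp u) u = true := ext_range (a := 14310) (len := 18) h795 sl_795
  have h797 : ∀ u < 14346, (fun u => chkSlp tab slp u) u = true := ext_range (a := 14328) (len := 18) h796 sl_796
  have h798 : ∀ u < 14364, (fun u => chkSlp tab slp u) u = true := ext_range (a := 14346) (len := 18) h797 sl_797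
  have h799 : ∀ u < 14382, (fun u => chkSlp tab slp u) u = true := ext_range (a := 14364) (len := 18) h798 sl_798
  have h800 : ∀ u < 14400, (fun u => chkSlp tab slp u) u = true := ext_range (a := 14382) (len := 18) h799 sl_799
  have h801 : ∀ u < 14418, (fun u => chkSlp tab slp u) u = true := ext_range (a := 14400) (len := 18) h800 sl_800
  have h802 : ∀ u < 14436, (fun u => chkSlp tab slp u) u = true := ext_range (a := 14418) (len := 18) h801 sl_801
  have h803 : ∀ u < 14454, (fun u => chkSlp tab slp u) u = true := ext_range (a := 14436) (len := 18) h802 sl_802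
  have h804 : ∀ u < 14472, (fun u => chkSlp tab slp u) u = true := ext_range (a := 14454) (len := 18) h803 sl_803
  have h805 : ∀ u < 14490, (fun u => chkSlp tab slp u) u = true := ext_range (a := 14472) (len := 18) h804 sl_804
  have h806 : ∀ u < 14508, (fun u => chkSlp tab slp u) u = true := ext_range (a := 14490) (len := 18) h805 sl_805
  have h807 : ∀ u < 14526, (fun u => chkSlp tab slp u) u = true := ext_range (a := 14508) (len := 18) h806 sl_806
  have h808 : ∀ u < 14544, (fun u => chkSlp tab slp u) u = true := ext_range (a := 14526) (len := 18) h807 sl_807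
  have h809 : ∀ u < 14562, (fun u => chkSlp tab slp u) u = true := ext_range (a := 14544) (len := 18) h808 sl_808
  have h810 : ∀ u < 14580, (fun u => chkSlp tab slp u) u = true := ext_range (a := 14562) (len := 18) h809 sl_809
  have h811 : ∀ u < 14598, (fun u => chkSlp tab slp u) u = true := ext_range (a := 14580) (len := 18) h810 sl_810
  have h812 : ∀ u < 14616, (fun u => chkSlp tab slp u) u = true := ext_range (a := 14598) (len := 18) h811 sl_811
  have h813 : ∀ u < 14634, (fun u => chkSlp tab slp u) u = true := ext_range (a := 14616) (len := 18) h812 sl_812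
  have h814 : ∀ u < 14652, (fun u => chkSlp tab slp u) u = true := ext_range (a := 14634) (len := 18) h813 sl_813
  have h815 : ∀ u < 14670, (fun u => chkSlp tab slp u) u = true := ext_range (a := 14652) (len := 18) h814 sl_814
  have h816 : ∀ u < 14688, (fun u => chkSlp tab slp u) u = true := ext_range (a := 14670) (len := 18) h815 sl_815
  have h817 : ∀ u < 14706, (fun u => chkSlp tab slp u) u = true := ext_range (a := 14688) (len := 18) h816 sl_816
  have h818 : ∀ u < 14724, (fun u => chkSlp tab slp u) u = true := ext_range (a := 14706) (len := 18) h817 sl_817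
  have h819 : ∀ u < 14742, (fun u => chkSlp tab slp u) u = true := ext_range (a := 14724) (len := 18) h818 sl_818
  have h820 : ∀ u < 14760, (fun u => chkSlp tab slp u) u = true := ext_range (a := 14742) (len := 18) h819 sl_819
  have h821 : ∀ u < 14778, (fun u => chkSlp tab slp u) u = true := ext_range (a := 14760) (len := 18) h820 sl_820
  have h822 : ∀ u < 14796, (fun u => chkSlp tab slp u) u = true := ext_range (a := 14778) (len := 18) h821 sl_821
  have h823 : ∀ u < 14814, (fun u => chkSlp tab slp u) u = true := ext_range (a := 14796) (len := 18) h822 sl_822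
  have h824 : ∀ u < 14832, (fun u => chkSlp tab slp u) u = true := ext_range (a := 14814) (len := 18) h823 sl_823
  have h825 : ∀ u < 14850, (fun u => chkSlp tab slp u) u = true := ext_range (a := 14832) (len := 18) h824 sl_824
  have h826 : ∀ u < 14868, (fun u => chkSlp tab slp u) u = true := ext_range (a := 14850) (len := 18) h825 sl_825
  have h827 : ∀ u < 14886, (fun u => chkSlp tab slp u) u = true := ext_range (a := 14868) (len := 18) h826 sl_826
  have h828 : ∀ u < 14904, (fun u => chkSlp tab slp u) u = true := ext_range (a := 14886) (len := 18) h827 sl_827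
  have h829 : ∀ u < 14922, (fun u => chkSlp tab slp u) u = true := ext_range (a := 14904) (len := 18) h828 sl_828
  have h830 : ∀ u < 14940, (fun u => chkSlp tab slp u) u = true := ext_range (a := 14922) (len := 18) h829 sl_829
  have h831 : ∀ u < 14958, (fun u => chkSlp tab slp u) u = true := ext_range (a := 14940) (len := 18) h830 sl_830
  have h832 : ∀ u < 14976, (fun u => chkSlp tab slp u) u = true := ext_range (a := 14958) (len := 18) h831 sl_831
  have h833 : ∀ u < 14994, (fun u => chkSlp tab slp u) u = true := ext_range (a := 14976) (len := 18) h832 sl_832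
  have h834 : ∀ u < 15012, (fun u => chkSlp tab slp u) u = true := ext_range (a := 14994) (len := 18) h833 sl_833
  have h835 : ∀ u < 15030, (fun u => chkSlp tab slp u) u = true := ext_range (a := 15012) (len := 18) h834 sl_834
  have h836 : ∀ u < 15048, (fun u => chkSlp tab slp u) u = true := ext_range (a := 15030) (len := 18) h835 sl_835
  have h837 : ∀ u < 15066, (fun u => chkSlp tab slp u) u = true := ext_range (a := 15048) (len := 18) h836 sl_836
  have h838 : ∀ u < 15084, (fun u => chkSlp tab slp u) u = true := ext_range (a := 15066) (len := 18) h837 sl_837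
  have h839 : ∀ u < 15102, (fun u => chkSlp tab slp u) u = true := ext_range (a := 15084) (len := 18) h838 sl_838
  have h840 : ∀ u < 15120, (fun u => chkSlp tab slp u) u = true := ext_range (a := 15102) (len := 18) h839 sl_839
  have h841 : ∀ u < 15138, (fun u => chkSlp tab slp u) u = true := ext_range (a := 15120) (len := 18) h840 sl_840
  have h842 : ∀ u < 15156, (fun u => chkSlp tab slp u) u = true := ext_range (a := 15138) (len := 18) h841 sl_841
  have h843 : ∀ u < 15174, (fun u => chkSlp tab slp u) u = true := ext_range (a := 15156) (len := 18) h842 sl_842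
  have h844 : ∀ u < 15192, (fun u => chkSlp tab slp u) u = true := ext_range (a := 15174) (len := 18) h843 sl_843
  have h845 : ∀ u < 15210, (fun u => chkSlp tab slp u) u = true := ext_range (a := 15192) (len := 18) h844 sl_844
  have h846 : ∀ u < 15228, (fun u => chkSlp tab slp u) u = true := ext_range (a := 15210) (len := 18) h845 sl_845
  have h847 : ∀ u < 15246, (fun u => chkSlp tab slp u) u = true := ext_range (a := 15228) (len := 18) h846 sl_846
  have h848 : ∀ u < 15264, (fun u => chkSlp tab slp u) u = true := ext_range (a := 15246) (len := 18) h847 sl_847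
  have h849 : ∀ u < 15282, (fun u => chkSlp tab slp u) u = true := ext_range (a := 15264) (len := 18) h848 sl_848
  have h850 : ∀ u < 15300, (fun u => chkSlp tab slp u) u = true := ext_range (a := 15282) (len := 18) h849 sl_849
  have h851 : ∀ u < 15318, (fun u => chkSlp tab slp u) u = true := ext_range (a := 15300) (len := 18) h850 sl_850
  have h852 : ∀ u < 15336, (fun u => chkSlp tab slp u) u = true := ext_range (a := 15318) (len := 18) h851 sl_851
  have h853 : ∀ u < 15354, (fun u => chkSlp tab slp u) u = true := ext_range (a := 15336) (len := 18) h852 sl_852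
  have h854 : ∀ u < 15372, (fun u => chkSlp tab slp u) u = true := ext_range (a := 15354) (len := 18) h853 sl_853
  have h855 : ∀ u < 15390, (fun u => chkSlp tab slp u) u = true := ext_range (a := 15372) (len := 18) h854 sl_854
  have h856 : ∀ u < 15408, (fun u => chkSlp tab slp u) u = true := ext_range (a := 15390) (len := 18) h855 sl_855
  have h857 : ∀ u < 15426, (fun u => chkSlp tab slp u) u = true := ext_range (a := 15408) (len := 18) h856 sl_856
  have h858 : ∀ u < 15444, (fun u => chkSlp tab slp u) u = true := ext_range (a := 15426) (len := 18) h857 sl_857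
  have h859 : ∀ u < 15462, (fun u => chkSlp tab slp u) u = true := ext_range (a := 15444) (len := 18) h858 sl_858
  have h860 : ∀ u < 15480, (fun u => chkSlp tab slp u) u = true := ext_range (a := 15462) (len := 18) h859 sl_859
  have h861 : ∀ u < 15498, (fun u => chkSlp tab slp u) u = true := ext_range (a := 15480) (len := 18) h860 sl_860
  have h862 : ∀ u < 15516, (fun u => chkSlp tab slp u) u = true := ext_range (a := 15498) (len := 18) h861 sl_861
  have h863 : ∀ u < 15534, (fun u => chkSlp tab slp u) u = true := ext_range (a := 15516) (len := 18) h862 sl_862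
  have h864 : ∀ u < 15552, (fun u => chkSlp tab slp u) u = true := ext_range (a := 15534) (len := 18) h863 sl_863
  have h865 : ∀ u < 15570, (fun u => chkSlp tab slp u) u = true := ext_range (a := 15552) (len := 18) h864 sl_864
  have h866 : ∀ u < 15588, (fun u => chkSlp tab slp u) u = true := ext_range (a := 15570) (len := 18) h865 sl_865
  have h867 : ∀ u < 15606, (fun u => chkSlp tab slp u) u = true := ext_range (a := 15588) (len := 18) h866 sl_866
  have h868 : ∀ u < 15624, (fun u => chkSlp tab slp u) u = true := ext_range (a := 15606) (len := 18) h867 sl_867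
  have h869 : ∀ u < 15642, (fun u => chkSlp tab slp u) u = true := ext_range (a := 15624) (len := 18) h868 sl_868
  have h870 : ∀ u < 15660, (fun u => chkSlp tab slp u) u = true := ext_range (a := 15642) (len := 18) h869 sl_869
  have h871 : ∀ u < 15678, (fun u => chkSlp tab slp u) u = true := ext_range (a := 15660) (len := 18) h870 sl_870
  have h872 : ∀ u < 15696, (fun u => chkSlp tab slp u) u = true := ext_range (a := 15678) (len := 18) h871 sl_871
  have h873 : ∀ u < 15714, (fun u => chkSlp tab slp u) u = true := ext_range (a := 15696) (len := 18) h872 sl_872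
  have h874 : ∀ u < 15732, (fun u => chkSlp tab slp u) u = true := ext_range (a := 15714) (len := 18) h873 sl_873
  have h875 : ∀ u < 15750, (fun u => chkSlp tab slp u) u = true := ext_range (a := 15732) (len := 18) h874 sl_874
  have h876 : ∀ u < 15768, (fun u => chkSlp tab slp u) u = true := ext_range (a := 15750) (len := 18) h875 sl_875
  have h877 : ∀ u < 15786, (fun u => chkSlp tab slp u) u = true := ext_range (a := 15768) (len := 18) h876 sl_876
  have h878 : ∀ u < 15804, (fun u => chkSlp tab slp u) u = true := ext_range (a := 15786) (len := 18) h877 sl_877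
  have h879 : ∀ u < 15822, (fun u => chkSlp tab slp u) u = true := ext_range (a := 15804) (len := 18) h878 sl_878
  have h880 : ∀ u < 15840, (fun u => chkSlp tab slp u) u = true := ext_range (a := 15822) (len := 18) h879 sl_879
  have h881 : ∀ u < 15858, (fun u => chkSlp tab slp u) u = true := ext_range (a := 15840) (len := 18) h880 sl_880
  have h882 : ∀ u < 15876, (fun u => chkSlp tab slp u) u = true := ext_range (a := 15858) (len := 18) h881 sl_881
  have h883 : ∀ u < 15894, (fun u => chkSlp tab slp u) u = true := ext_range (a := 15876) (len := 18) h882 sl_882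
  have h884 : ∀ u < 15912, (fun u => chkSlp tab slp u) u = true := ext_range (a := 15894) (len := 18) h883 sl_883
  have h885 : ∀ u < 15930, (fun u => chkSlp tab slp u) u = true := ext_range (a := 15912) (len := 18) h884 sl_884
  have h886 : ∀ u < 15948, (fun u => chkSlp tab slp u) u = true := ext_range (a := 15930) (len := 18) h885 sl_885
  have h887 : ∀ u < 15966, (fun u => chkSlp tab slp u) u = true := ext_range (a := 15948) (len := 18) h886 sl_886
  have h888 : ∀ u < 15984, (fun u => chkSlp tab slp u) u = true := ext_range (a := 15966) (len := 18) h887 sl_887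
  have h889 : ∀ u < 16002, (fun u => chkSlp tab slp u) u = true := ext_range (a := 15984) (len := 18) h888 sl_888
  have h890 : ∀ u < 16020, (fun u => chkSlp tab slp u) u = true := ext_range (a := 16002) (len := 18) h889 sl_889
  have h891 : ∀ u < 16038, (fun u => chkSlp tab slp u) u = true := ext_range (a := 16020) (len := 18) h890 sl_890
  have h892 : ∀ u < 16056, (fun u => chkSlp tab slp u) u = true := ext_range (a := 16038) (len := 18) h891 sl_891
  have h893 : ∀ u < 16074, (fun u => chkSlp tab slp u) u = true := ext_range (a := 16056) (len := 18) h892 sl_892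
  have h894 : ∀ u < 16092, (fun u => chkSlp tab slp u) u = true := ext_range (a := 16074) (len := 18) h893 sl_893
  have h895 : ∀ u < 16110, (fun u => chkSlp tab slp u) u = true := ext_range (a := 16092) (len := 18) h894 sl_894
  have h896 : ∀ u < 16128, (fun u => chkSlp tab slp u) u = true := ext_range (a := 16110) (len := 18) h895 sl_895
  have h897 : ∀ u < 16146, (fun u => chkSlp tab slp u) u = true := ext_range (a := 16128) (len := 18) h896 sl_896
  have h898 : ∀ u < 16164, (fun u => chkSlp tab slp u) u = true := ext_range (a := 16146) (len := 18) h897 sl_897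
  have h899 : ∀ u < 16182, (fun u => chkSlp tab slp u) u = true := ext_range (a := 16164) (len := 18) h898 sl_898
  have h900 : ∀ u < 16200, (fun u => chkSlp tab slp u) u = true := ext_range (a := 16182) (len := 18) h899 sl_899
  have h901 : ∀ u < 16218, (fun u => chkSlp tab slp u) u = true := ext_range (a := 16200) (len := 18) h900 sl_900
  have h902 : ∀ u < 16236, (fun u => chkSlp tab slp u) u = true := ext_range (a := 16218) (len := 18) h901 sl_901
  have h903 : ∀ u < 16254, (fun u => chkSlp tab slp u) u = true := ext_range (a := 16236) (len := 18) h902 sl_902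
  have h904 : ∀ u < 16272, (fun u => chkSlp tab slp u) u = true := ext_range (a := 16254) (len := 18) h903 sl_903
  have h905 : ∀ u < 16290, (fun u => chkSlp tab slp u) u = true := ext_range (a := 16272) (len := 18) h904 sl_904
  have h906 : ∀ u < 16308, (fun u => chkSlp tab slp u) u = true := ext_range (a := 16290) (len := 18) h905 sl_905
  have h907 : ∀ u < 16326, (fun u => chkSlp tab slp u) u = true := ext_range (a := 16308) (len := 18) h906 sl_906
  have h908 : ∀ u < 16344, (fun u => chkSlp tab slp u) u = true := ext_range (a := 16326) (len := 18) h907 sl_907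
  have h909 : ∀ u < 16362, (fun u => chkSlp tab slp u) u = true := ext_range (a := 16344) (len := 18) h908 sl_908
  have h910 : ∀ u < 16380, (fun u => chkSlp tab slp u) u = true := ext_range (a := 16362) (len := 18) h909 sl_909
  have h911 : ∀ u < 16398, (fun u => chkSlp tab slp u) u = true := ext_range (a := 16380) (len := 18) h910 sl_910
  have h912 : ∀ u < 16416, (fun u => chkSlp tab slp u) u = true := ext_range (a := 16398) (len := 18) h911 sl_911
  have h913 : ∀ u < 16434, (fun u => chkSlp tab slp u) u = true := ext_range (a := 16416) (len := 18) h912 sl_912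
  have h914 : ∀ u < 16452, (fun u => chkSlp tab slp u) u = true := ext_range (a := 16434) (len := 18) h913 sl_913
  have h915 : ∀ u < 16470, (fun u => chkSlp tab slp u) u = true := ext_range (a := 16452) (len := 18) h914 sl_914
  have h916 : ∀ u < 16488, (fun u => chkSlp tab slp u) u = true := ext_range (a := 16470) (len := 18) h915 sl_915
  have h917 : ∀ u < 16506, (fun u => chkSlp tab slp u) u = true := ext_range (a := 16488) (len := 18) h916 sl_916
  have h918 : ∀ u < 16524, (fun u => chkSlp tab slp u) u = true := ext_range (a := 16506) (len := 18) h917 sl_917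
  have h919 : ∀ u < 16542, (fun u => chkSlp tab slp u) u = true := ext_range (a := 16524) (len := 18) h918 sl_918
  have h920 : ∀ u < 16560, (fun u => chkSlp tab slp u) u = true := ext_range (a := 16542) (len := 18) h919 sl_919
  have h921 : ∀ u < 16578, (fun u => chkSlp tab slp u) u = true := ext_range (a := 16560) (len := 18) h920 sl_920
  have h922 : ∀ u < 16596, (fun u => chkSlp tab slp u) u = true := ext_range (a := 16578) (len := 18) h921 sl_921
  have h923 : ∀ u < 16614, (fun u => chkSlp tab slp u) u = true := ext_range (a := 16596) (len := 18) h922 sl_922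
  have h924 : ∀ u < 16632, (fun u => chkSlp tab slp u) u = true := ext_range (a := 16614) (len := 18) h923 sl_923
  have h925 : ∀ u < 16650, (fun u => chkSlp tab slp u) u = true := ext_range (a := 16632) (len := 18) h924 sl_924
  have h926 : ∀ u < 16668, (fun u => chkSlp tab slp u) u = true := ext_range (a := 16650) (len := 18) h925 sl_925
  have h927 : ∀ u < 16686, (fun u => chkSlp tab slp u) u = true := ext_range (a := 16668) (len := 18) h926 sl_926
  have h928 : ∀ u < 16704, (fun u => chkSlp tab slp u) u = true := ext_range (a := 16686) (len := 18) h927 sl_927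
  have h929 : ∀ u < 16722, (fun u => chkSlp tab slp u) u = true := ext_range (a := 16704) (len := 18) h928 sl_928
  have h930 : ∀ u < 16740, (fun u => chkSlp tab slp u) u = true := ext_range (a := 16722) (len := 18) h929 sl_929
  have h931 : ∀ u < 16758, (fun u => chkSlp tab slp u) u = true := ext_range (a := 16740) (len := 18) h930 sl_930
  have h932 : ∀ u < 16776, (fun u => chkSlp tab slp u) u = true := ext_range (a := 16758) (len := 18) h931 sl_931
  have h933 : ∀ u < 16794, (fun u => chkSlp tab slp u) u = true := ext_range (a := 16776) (len := 18) h932 sl_932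
  have h934 : ∀ u < 16812, (fun u => chkSlp tab slp u) u = true := ext_range (a := 16794) (len := 18) h933 sl_933
  have h935 : ∀ u < 16830, (fun u => chkSlp tab slp u) u = true := ext_range (a := 16812) (len := 18) h934 sl_934
  have h936 : ∀ u < 16848, (fun u => chkSlp tab slp u) u = true := ext_range (a := 16830) (len := 18) h935 sl_935
  have h937 : ∀ u < 16866, (fun u => chkSlp tab slp u) u = true := ext_range (a := 16848) (len := 18) h936 sl_936
  have h938 : ∀ u < 16884, (fun u => chkSlp tab slp u) u = true := ext_range (a := 16866) (len := 18) h937 sl_937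
  have h939 : ∀ u < 16902, (fun u => chkSlp tab slp u) u = true := ext_range (a := 16884) (len := 18) h938 sl_938
  have h940 : ∀ u < 16920, (fun u => chkSlp tab slp u) u = true := ext_range (a := 16902) (len := 18) h939 sl_939
  have h941 : ∀ u < 16938, (fun u => chkSlp tab slp u) u = true := ext_range (a := 16920) (len := 18) h940 sl_940
  have h942 : ∀ u < 16956, (fun u => chkSlp tab slp u) u = true := ext_range (a := 16938) (len := 18) h941 sl_941
  have h943 : ∀ u < 16974, (fun u => chkSlp tab slp u) u = true := ext_range (a := 16956) (len := 18) h942 sl_942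
  have h944 : ∀ u < 16992, (fun u => chkSlp tab slp u) u = true := ext_range (a := 16974) (len := 18) h943 sl_943
  have h945 : ∀ u < 17010, (fun u => chkSlp tab slp u) u = true := ext_range (a := 16992) (len := 18) h944 sl_944
  have h946 : ∀ u < 17028, (fun u => chkSlp tab slp u) u = true := ext_range (a := 17010) (len := 18) h945 sl_945
  have h947 : ∀ u < 17046, (fun u => chkSlp tab slp u) u = true := ext_range (a := 17028) (len := 18) h946 sl_946
  have h948 : ∀ u < 17064, (fun u => chkSlp tab slp u) u = true := ext_range (a := 17046) (len := 18) h947 sl_947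
  have h949 : ∀ u < 17082, (fun u => chkSlp tab slp u) u = true := ext_range (a := 17064) (len := 18) h948 sl_948
  have h950 : ∀ u < 17100, (fun u => chkSlp tab slp u) u = true := ext_range (a := 17082) (len := 18) h949 sl_949
  have h951 : ∀ u < 17118, (fun u => chkSlp tab slp u) u = true := ext_range (a := 17100) (len := 18) h950 sl_950
  have h952 : ∀ u < 17136, (fun u => chkSlp tab slp u) u = true := ext_range (a := 17118) (len := 18) h951 sl_951
  have h953 : ∀ u < 17154, (fun u => chkSlp tab slp u) u = true := ext_range (a := 17136) (len := 18) h952 sl_952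
  have h954 : ∀ u < 17172, (fun u => chkSlp tab slp u) u = true := ext_range (a := 17154) (len := 18) h953 sl_953
  have h955 : ∀ u < 17190, (fun u => chkSlp tab slp u) u = true := ext_range (a := 17172) (len := 18) h954 sl_954
  have h956 : ∀ u < 17208, (fun u => chkSlp tab slp u) u = true := ext_range (a := 17190) (len := 18) h955 sl_955
  have h957 : ∀ u < 17226, (fun u => chkSlp tab slp u) u = true := ext_range (a := 17208) (len := 18) h956 sl_956
  have h958 : ∀ u < 17244, (fun u => chkSlp tab slp u) u = true := ext_range (a := 17226) (len := 18) h957 sl_957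
  have h959 : ∀ u < 17262, (fun u => chkSlp tab slp u) u = true := ext_range (a := 17244) (len := 18) h958 sl_958
  have h960 : ∀ u < 17280, (fun u => chkSlp tab slp u) u = true := ext_range (a := 17262) (len := 18) h959 sl_959
  have h961 : ∀ u < 17298, (fun u => chkSlp tab slp u) u = true := ext_range (a := 17280) (len := 18) h960 sl_960
  have h962 : ∀ u < 17316, (fun u => chkSlp tab slp u) u = true := ext_range (a := 17298) (len := 18) h961 sl_961
  have h963 : ∀ u < 17334, (fun u => chkSlp tab slp u) u = true := ext_range (a := 17316) (len := 18) h962 sl_962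
  have h964 : ∀ u < 17352, (fun u => chkSlp tab slp u) u = true := ext_range (a := 17334) (len := 18) h963 sl_963
  have h965 : ∀ u < 17370, (fun u => chkSlp tab slp u) u = true := ext_range (a := 17352) (len := 18) h964 sl_964
  have h966 : ∀ u < 17388, (fun u => chkSlp tab slp u) u = true := ext_range (a := 17370) (len := 18) h965 sl_965
  have h967 : ∀ u < 17406, (fun u => chkSlp tab slp u) u = true := ext_range (a := 17388) (len := 18) h966 sl_966
  have h968 : ∀ u < 17424, (fun u => chkSlp tab slp u) u = true := ext_range (a := 17406) (len := 18) h967 sl_967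
  have h969 : ∀ u < 17442, (fun u => chkSlp tab slp u) u = true := ext_range (a := 17424) (len := 18) h968 sl_968
  have h970 : ∀ u < 17460, (fun u => chkSlp tab slp u) u = true := ext_range (a := 17442) (len := 18) h969 sl_969
  have h971 : ∀ u < 17478, (fun u => chkSlp tab slp u) u = true := ext_range (a := 17460) (len := 18) h970 sl_970
  have h972 : ∀ u < 17496, (fun u => chkSlp tab slp u) u = true := ext_range (a := 17478) (len := 18) h971 sl_971
  have h973 : ∀ u < 17514, (fun u => chkSlp tab slp u) u = true := ext_range (a := 17496) (len := 18) h972 sl_972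
  have h974 : ∀ u < 17532, (fun u => chkSlp tab slp u) u = true := ext_range (a := 17514) (len := 18) h973 sl_973
  have h975 : ∀ u < 17550, (fun u => chkSlp tab slp u) u = true := ext_range (a := 17532) (len := 18) h974 sl_974
  have h976 : ∀ u < 17568, (fun u => chkSlp tab slp u) u = true := ext_range (a := 17550) (len := 18) h975 sl_975
  have h977 : ∀ u < 17586, (fun u => chkSlp tab slp u) u = true := ext_range (a := 17568) (len := 18) h976 sl_976
  have h978 : ∀ u < 17604, (fun u => chkSlp tab slp u) u = true := ext_range (a := 17586) (len := 18) h977 sl_977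
  have h979 : ∀ u < 17622, (fun u => chkSlp tab slp u) u = true := ext_range (a := 17604) (len := 18) h978 sl_978
  have h980 : ∀ u < 17640, (fun u => chkSlp tab slp u) u = true := ext_range (a := 17622) (len := 18) h979 sl_979
  have h981 : ∀ u < 17658, (fun u => chkSlp tab slp u) u = true := ext_range (a := 17640) (len := 18) h980 sl_980
  have h982 : ∀ u < 17676, (fun u => chkSlp tab slp u) u = true := ext_range (a := 17658) (len := 18) h981 sl_981
  have h983 : ∀ u < 17694, (fun u => chkSlp tab slp u) u = true := ext_range (a := 17676) (len := 18) h982 sl_982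
  have h984 : ∀ u < 17712, (fun u => chkSlp tab slp u) u = true := ext_range (a := 17694) (len := 18) h983 sl_983
  have h985 : ∀ u < 17730, (fun u => chkSlp tab slp u) u = true := ext_range (a := 17712) (len := 18) h984 sl_984
  have h986 : ∀ u < 17748, (fun u => chkSlp tab slp u) u = true := ext_range (a := 17730) (len := 18) h985 sl_985
  have h987 : ∀ u < 17766, (fun u => chkSlp tab slp u) u = true := ext_range (a := 17748) (len := 18) h986 sl_986
  have h988 : ∀ u < 17784, (fun u => chkSlp tab slp u) u = true := ext_range (a := 17766) (len := 18) h987 sl_987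
  have h989 : ∀ u < 17802, (fun u => chkSlp tab slp u) u = true := ext_range (a := 17784) (len := 18) h988 sl_988
  have h990 : ∀ u < 17820, (fun u => chkSlp tab slp u) u = true := ext_range (a := 17802) (len := 18) h989 sl_989
  have h991 : ∀ u < 17838, (fun u => chkSlp tab slp u) u = true := ext_range (a := 17820) (len := 18) h990 sl_990
  have h992 : ∀ u < 17856, (fun u => chkSlp tab slp u) u = true := ext_range (a := 17838) (len := 18) h991 sl_991
  have h993 : ∀ u < 17874, (fun u => chkSlp tab slp u) u = true := ext_range (a := 17856) (len := 18) h992 sl_992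
  have h994 : ∀ u < 17892, (fun u => chkSlp tab slp u) u = true := ext_range (a := 17874) (len := 18) h993 sl_993
  have h995 : ∀ u < 17910, (fun u => chkSlp tab slp u) u = true := ext_range (a := 17892) (len := 18) h994 sl_994
  have h996 : ∀ u < 17928, (fun u => chkSlp tab slp u) u = true := ext_range (a := 17910) (len := 18) h995 sl_995
  have h997 : ∀ u < 17946, (fun u => chkSlp tab slp u) u = true := ext_range (a := 17928) (len := 18) h996 sl_996
  have h998 : ∀ u < 17964, (fun u => chkSlp tab slp u) u = true := ext_range (a := 17946) (len := 18) h997 sl_997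
  have h999 : ∀ u < 17982, (fun u => chkSlp tab slp u) u = true := ext_range (a := 17964) (len := 18) h998 sl_998
  have h1000 : ∀ u < 18000, (fun u => chkSlp tab slp u) u = true := ext_range (a := 17982) (len := 18) h999 sl_999
  have h1001 : ∀ u < 18018, (fun u => chkSlp tab slp u) u = true := ext_range (a := 18000) (len := 18) h1000 sl_1000
  have h1002 : ∀ u < 18036, (fun u => chkSlp tab slp u) u = true := ext_range (a := 18018) (len := 18) h1001 sl_1001
  have h1003 : ∀ u < 18054, (fun u => chkSlp tab slp u) u = true := ext_range (a := 18036) (len := 18) h1002 sl_1002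
  have h1004 : ∀ u < 18072, (fun u => chkSlp tab slp u) u = true := ext_range (a := 18054) (len := 18) h1003 sl_1003
  have h1005 : ∀ u < 18090, (fun u => chkSlp tab slp u) u = true := ext_range (a := 18072) (len := 18) h1004 sl_1004
  have h1006 : ∀ u < 18108, (fun u => chkSlp tab slp u) u = true := ext_range (a := 18090) (len := 18) h1005 sl_1005
  have h1007 : ∀ u < 18126, (fun u => chkSlp tab slp u) u = true := ext_range (a := 18108) (len := 18) h1006 sl_1006
  have h1008 : ∀ u < 18144, (fun u => chkSlp tab slp u) u = true := ext_range (a := 18126) (len := 18) h1007 sl_1007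
  have h1009 : ∀ u < 18162, (fun u => chkSlp tab slp u) u = true := ext_range (a := 18144) (len := 18) h1008 sl_1008
  have h1010 : ∀ u < 18180, (fun u => chkSlp tab slp u) u = true := ext_range (a := 18162) (len := 18) h1009 sl_1009
  have h1011 : ∀ u < 18198, (fun u => chkSlp tab slp u) u = true := ext_range (a := 18180) (len := 18) h1010 sl_1010
  have h1012 : ∀ u < 18216, (fun u => chkSlp tab slp u) u = true := ext_range (a := 18198) (len := 18) h1011 sl_1011
  have h1013 : ∀ u < 18234, (fun u => chkSlp tab slp u) u = true := ext_range (a := 18216) (len := 18) h1012 sl_1012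
  have h1014 : ∀ u < 18252, (fun u => chkSlp tab slp u) u = true := ext_range (a := 18234) (len := 18) h1013 sl_1013
  have h1015 : ∀ u < 18270, (fun u => chkSlp tab slp u) u = true := ext_range (a := 18252) (len := 18) h1014 sl_1014
  have h1016 : ∀ u < 18288, (fun u => chkSlp tab slp u) u = true := ext_range (a := 18270) (len := 18) h1015 sl_1015
  have h1017 : ∀ u < 18306, (fun u => chkSlp tab slp u) u = true := ext_range (a := 18288) (len := 18) h1016 sl_1016
  have h1018 : ∀ u < 18324, (fun u => chkSlp tab slp u) u = true := ext_range (a := 18306) (len := 18) h1017 sl_1017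
  have h1019 : ∀ u < 18342, (fun u => chkSlp tab slp u) u = true := ext_range (a := 18324) (len := 18) h1018 sl_1018
  have h1020 : ∀ u < 18360, (fun u => chkSlp tab slp u) u = true := ext_range (a := 18342) (len := 18) h1019 sl_1019
  have h1021 : ∀ u < 18378, (fun u => chkSlp tab slp u) u = true := ext_range (a := 18360) (len := 18) h1020 sl_1020
  have h1022 : ∀ u < 18396, (fun u => chkSlp tab slp u) u = true := ext_range (a := 18378) (len := 18) h1021 sl_1021
  have h1023 : ∀ u < 18414, (fun u => chkSlp tab slp u) u = true := ext_range (a := 18396) (len := 18) h1022 sl_1022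
  have h1024 : ∀ u < 18432, (fun u => chkSlp tab slp u) u = true := ext_range (a := 18414) (len := 18) h1023 sl_1023
  have h1025 : ∀ u < 18450, (fun u => chkSlp tab slp u) u = true := ext_range (a := 18432) (len := 18) h1024 sl_1024
  have h1026 : ∀ u < 18468, (fun u => chkSlp tab slp u) u = true := ext_range (a := 18450) (len := 18) h1025 sl_1025
  have h1027 : ∀ u < 18486, (fun u => chkSlp tab slp u) u = true := ext_range (a := 18468) (len := 18) h1026 sl_1026
  have h1028 : ∀ u < 18504, (fun u => chkSlp tab slp u) u = true := ext_range (a := 18486) (len := 18) h1027 sl_1027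
  have h1029 : ∀ u < 18522, (fun u => chkSlp tab slp u) u = true := ext_range (a := 18504) (len := 18) h1028 sl_1028
  have h1030 : ∀ u < 18540, (fun u => chkSlp tab slp u) u = true := ext_range (a := 18522) (len := 18) h1029 sl_1029
  have h1031 : ∀ u < 18558, (fun u => chkSlp tab slp u) u = true := ext_range (a := 18540) (len := 18) h1030 sl_1030
  have h1032 : ∀ u < 18576, (fun u => chkSlp tab slp u) u = true := ext_range (a := 18558) (len := 18) h1031 sl_1031
  have h1033 : ∀ u < 18594, (fun u => chkSlp tab slp u) u = true := ext_range (a := 18576) (len := 18) h1032 sl_1032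
  have h1034 : ∀ u < 18612, (fun u => chkSlp tab slp u) u = true := ext_range (a := 18594) (len := 18) h1033 sl_1033
  have h1035 : ∀ u < 18630, (fun u => chkSlp tab slp u) u = true := ext_range (a := 18612) (len := 18) h1034 sl_1034
  have h1036 : ∀ u < 18648, (fun u => chkSlp tab slp u) u = true := ext_range (a := 18630) (len := 18) h1035 sl_1035
  have h1037 : ∀ u < 18666, (fun u => chkSlp tab slp u) u = true := ext_range (a := 18648) (len := 18) h1036 sl_1036
  have h1038 : ∀ u < 18684, (fun u => chkSlp tab slp u) u = true := ext_range (a := 18666) (len := 18) h1037 sl_1037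
  have h1039 : ∀ u < 18702, (fun u => chkSlp tab slp u) u = true := ext_range (a := 18684) (len := 18) h1038 sl_1038
  have h1040 : ∀ u < 18720, (fun u => chkSlp tab slp u) u = true := ext_range (a := 18702) (len := 18) h1039 sl_1039
  have h1041 : ∀ u < 18738, (fun u => chkSlp tab slp u) u = true := ext_range (a := 18720) (len := 18) h1040 sl_1040
  have h1042 : ∀ u < 18756, (fun u => chkSlp tab slp u) u = true := ext_range (a := 18738) (len := 18) h1041 sl_1041
  have h1043 : ∀ u < 18774, (fun u => chkSlp tab slp u) u = true := ext_range (a := 18756) (len := 18) h1042 sl_1042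
  have h1044 : ∀ u < 18792, (fun u => chkSlp tab slp u) u = true := ext_range (a := 18774) (len := 18) h1043 sl_1043
  have h1045 : ∀ u < 18810, (fun u => chkSlp tab slp u) u = true := ext_range (a := 18792) (len := 18) h1044 sl_1044
  have h1046 : ∀ u < 18828, (fun u => chkSlp tab slp u) u = true := ext_range (a := 18810) (len := 18) h1045 sl_1045
  have h1047 : ∀ u < 18846, (fun u => chkSlp tab slp u) u = true := ext_range (a := 18828) (len := 18) h1046 sl_1046
  have h1048 : ∀ u < 18864, (fun u => chkSlp tab slp u) u = true := ext_range (a := 18846) (len := 18) h1047 sl_1047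
  have h1049 : ∀ u < 18882, (fun u => chkSlp tab slp u) u = true := ext_range (a := 18864) (len := 18) h1048 sl_1048
  have h1050 : ∀ u < 18900, (fun u => chkSlp tab slp u) u = true := ext_range (a := 18882) (len := 18) h1049 sl_1049
  have h1051 : ∀ u < 18918, (fun u => chkSlp tab slp u) u = true := ext_range (a := 18900) (len := 18) h1050 sl_1050
  have h1052 : ∀ u < 18936, (fun u => chkSlp tab slp u) u = true := ext_range (a := 18918) (len := 18) h1051 sl_1051
  have h1053 : ∀ u < 18954, (fun u => chkSlp tab slp u) u = true := ext_range (a := 18936) (len := 18) h1052 sl_1052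
  have h1054 : ∀ u < 18972, (fun u => chkSlp tab slp u) u = true := ext_range (a := 18954) (len := 18) h1053 sl_1053
  have h1055 : ∀ u < 18990, (fun u => chkSlp tab slp u) u = true := ext_range (a := 18972) (len := 18) h1054 sl_1054
  have h1056 : ∀ u < 19008, (fun u => chkSlp tab slp u) u = true := ext_range (a := 18990) (len := 18) h1055 sl_1055
  have h1057 : ∀ u < 19026, (fun u => chkSlp tab slp u) u = true := ext_range (a := 19008) (len := 18) h1056 sl_1056
  have h1058 : ∀ u < 19044, (fun u => chkSlp tab slp u) u = true := ext_range (a := 19026) (len := 18) h1057 sl_1057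
  have h1059 : ∀ u < 19062, (fun u => chkSlp tab slp u) u = true := ext_range (a := 19044) (len := 18) h1058 sl_1058
  have h1060 : ∀ u < 19080, (fun u => chkSlp tab slp u) u = true := ext_range (a := 19062) (len := 18) h1059 sl_1059
  have h1061 : ∀ u < 19098, (fun u => chkSlp tab slp u) u = true := ext_range (a := 19080) (len := 18) h1060 sl_1060
  have h1062 : ∀ u < 19116, (fun u => chkSlp tab slp u) u = true := ext_range (a := 19098) (len := 18) h1061 sl_1061
  have h1063 : ∀ u < 19134, (fun u => chkSlp tab slp u) u = true := ext_range (a := 19116) (len := 18) h1062 sl_1062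
  have h1064 : ∀ u < 19152, (fun u => chkSlp tab slp u) u = true := ext_range (a := 19134) (len := 18) h1063 sl_1063
  have h1065 : ∀ u < 19170, (fun u => chkSlp tab slp u) u = true := ext_range (a := 19152) (len := 18) h1064 sl_1064
  have h1066 : ∀ u < 19188, (fun u => chkSlp tab slp u) u = true := ext_range (a := 19170) (len := 18) h1065 sl_1065
  have h1067 : ∀ u < 19206, (fun u => chkSlp tab slp u) u = true := ext_range (a := 19188) (len := 18) h1066 sl_1066
  have h1068 : ∀ u < 19224, (fun u => chkSlp tab slp u) u = true := ext_range (a := 19206) (len := 18) h1067 sl_1067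
  have h1069 : ∀ u < 19242, (fun u => chkSlp tab slp u) u = true := ext_range (a := 19224) (len := 18) h1068 sl_1068
  have h1070 : ∀ u < 19260, (fun u => chkSlp tab slp u) u = true := ext_range (a := 19242) (len := 18) h1069 sl_1069
  have h1071 : ∀ u < 19278, (fun u => chkSlp tab slp u) u = true := ext_range (a := 19260) (len := 18) h1070 sl_1070
  have h1072 : ∀ u < 19296, (fun u => chkSlp tab slp u) u = true := ext_range (a := 19278) (len := 18) h1071 sl_1071
  have h1073 : ∀ u < 19314, (fun u => chkSlp tab slp u) u = true := ext_range (a := 19296) (len := 18) h1072 sl_1072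
  have h1074 : ∀ u < 19332, (fun u => chkSlp tab slp u) u = true := ext_range (a := 19314) (len := 18) h1073 sl_1073
  have h1075 : ∀ u < 19350, (fun u => chkSlp tab slp u) u = true := ext_range (a := 19332) (len := 18) h1074 sl_1074
  have h1076 : ∀ u < 19368, (fun u => chkSlp tab slp u) u = true := ext_range (a := 19350) (len := 18) h1075 sl_1075
  have h1077 : ∀ u < 19386, (fun u => chkSlp tab slp u) u = true := ext_range (a := 19368) (len := 18) h1076 sl_1076
  have h1078 : ∀ u < 19404, (fun u => chkSlp tab slp u) u = true := ext_range (a := 19386) (len := 18) h1077 sl_1077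
  have h1079 : ∀ u < 19422, (fun u => chkSlp tab slp u) u = true := ext_range (a := 19404) (len := 18) h1078 sl_1078
  have h1080 : ∀ u < 19440, (fun u => chkSlp tab slp u) u = true := ext_range (a := 19422) (len := 18) h1079 sl_1079
  have h1081 : ∀ u < 19458, (fun u => chkSlp tab slp u) u = true := ext_range (a := 19440) (len := 18) h1080 sl_1080
  have h1082 : ∀ u < 19476, (fun u => chkSlp tab slp u) u = true := ext_range (a := 19458) (len := 18) h1081 sl_1081
  have h1083 : ∀ u < 19494, (fun u => chkSlp tab slp u) u = true := ext_range (a := 19476) (len := 18) h1082 sl_1082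
  have h1084 : ∀ u < 19512, (fun u => chkSlp tab slp u) u = true := ext_range (a := 19494) (len := 18) h1083 sl_1083
  have h1085 : ∀ u < 19530, (fun u => chkSlp tab slp u) u = true := ext_range (a := 19512) (len := 18) h1084 sl_1084
  have h1086 : ∀ u < 19548, (fun u => chkSlp tab slp u) u = true := ext_range (a := 19530) (len := 18) h1085 sl_1085
  have h1087 : ∀ u < 19566, (fun u => chkSlp tab slp u) u = true := ext_range (a := 19548) (len := 18) h1086 sl_1086
  have h1088 : ∀ u < 19584, (fun u => chkSlp tab slp u) u = true := ext_range (a := 19566) (len := 18) h1087 sl_1087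
  have h1089 : ∀ u < 19602, (fun u => chkSlp tab slp u) u = true := ext_range (a := 19584) (len := 18) h1088 sl_1088
  have h1090 : ∀ u < 19620, (fun u => chkSlp tab slp u) u = true := ext_range (a := 19602) (len := 18) h1089 sl_1089
  have h1091 : ∀ u < 19638, (fun u => chkSlp tab slp u) u = true := ext_range (a := 19620) (len := 18) h1090 sl_1090
  have h1092 : ∀ u < 19656, (fun u => chkSlp tab slp u) u = true := ext_range (a := 19638) (len := 18) h1091 sl_1091
  have h1093 : ∀ u < 19674, (fun u => chkSlp tab slp u) u = true := ext_range (a := 19656) (len := 18) h1092 sl_1092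
  have h1094 : ∀ u < 19692, (fun u => chkSlp tab slp u) u = true := ext_range (a := 19674) (len := 18) h1093 sl_1093
  have h1095 : ∀ u < 19710, (fun u => chkSlp tab slp u) u = true := ext_range (a := 19692) (len := 18) h1094 sl_1094
  have h1096 : ∀ u < 19728, (fun u => chkSlp tab slp u) u = true := ext_range (a := 19710) (len := 18) h1095 sl_1095
  have h1097 : ∀ u < 19746, (fun u => chkSlp tab slp u) u = true := ext_range (a := 19728) (len := 18) h1096 sl_1096
  have h1098 : ∀ u < 19764, (fun u => chkSlp tab slp u) u = true := ext_range (a := 19746) (len := 18) h1097 sl_1097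
  have h1099 : ∀ u < 19782, (fun u => chkSlp tab slp u) u = true := ext_range (a := 19764) (len := 18) h1098 sl_1098
  have h1100 : ∀ u < 19800, (fun u => chkSlp tab slp u) u = true := ext_range (a := 19782) (len := 18) h1099 sl_1099
  have h1101 : ∀ u < 19818, (fun u => chkSlp tab slp u) u = true := ext_range (a := 19800) (len := 18) h1100 sl_1100
  have h1102 : ∀ u < 19836, (fun u => chkSlp tab slp u) u = true := ext_range (a := 19818) (len := 18) h1101 sl_1101
  have h1103 : ∀ u < 19854, (fun u => chkSlp tab slp u) u = true := ext_range (a := 19836) (len := 18) h1102 sl_1102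
  have h1104 : ∀ u < 19872, (fun u => chkSlp tab slp u) u = true := ext_range (a := 19854) (len := 18) h1103 sl_1103
  have h1105 : ∀ u < 19890, (fun u => chkSlp tab slp u) u = true := ext_range (a := 19872) (len := 18) h1104 sl_1104
  have h1106 : ∀ u < 19908, (fun u => chkSlp tab slp u) u = true := ext_range (a := 19890) (len := 18) h1105 sl_1105
  have h1107 : ∀ u < 19926, (fun u => chkSlp tab slp u) u = true := ext_range (a := 19908) (len := 18) h1106 sl_1106
  have h1108 : ∀ u < 19944, (fun u => chkSlp tab slp u) u = true := ext_range (a := 19926) (len := 18) h1107 sl_1107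
  have h1109 : ∀ u < 19962, (fun u => chkSlp tab slp u) u = true := ext_range (a := 19944) (len := 18) h1108 sl_1108
  have h1110 : ∀ u < 19980, (fun u => chkSlp tab slp u) u = true := ext_range (a := 19962) (len := 18) h1109 sl_1109
  have h1111 : ∀ u < 19998, (fun u => chkSlp tab slp u) u = true := ext_range (a := 19980) (len := 18) h1110 sl_1110
  have h1112 : ∀ u < 20016, (fun u => chkSlp tab slp u) u = true := ext_range (a := 19998) (len := 18) h1111 sl_1111
  have h1113 : ∀ u < 20034, (fun u => chkSlp tab slp u) u = true := ext_range (a := 20016) (len := 18) h1112 sl_1112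
  have h1114 : ∀ u < 20052, (fun u => chkSlp tab slp u) u = true := ext_range (a := 20034) (len := 18) h1113 sl_1113
  have h1115 : ∀ u < 20070, (fun u => chkSlp tab slp u) u = true := ext_range (a := 20052) (len := 18) h1114 sl_1114
  have h1116 : ∀ u < 20088, (fun u => chkSlp tab slp u) u = true := ext_range (a := 20070) (len := 18) h1115 sl_1115
  have h1117 : ∀ u < 20106, (fun u => chkSlp tab slp u) u = true := ext_range (a := 20088) (len := 18) h1116 sl_1116
  have h1118 : ∀ u < 20124, (fun u => chkSlp tab slp u) u = true := ext_range (a := 20106) (len := 18) h1117 sl_1117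
  have h1119 : ∀ u < 20142, (fun u => chkSlp tab slp u) u = true := ext_range (a := 20124) (len := 18) h1118 sl_1118
  have h1120 : ∀ u < 20160, (fun u => chkSlp tab slp u) u = true := ext_range (a := 20142) (len := 18) h1119 sl_1119
  have h1121 : ∀ u < 20178, (fun u => chkSlp tab slp u) u = true := ext_range (a := 20160) (len := 18) h1120 sl_1120
  have h1122 : ∀ u < 20196, (fun u => chkSlp tab slp u) u = true := ext_range (a := 20178) (len := 18) h1121 sl_1121
  have h1123 : ∀ u < 20214, (fun u => chkSlp tab slp u) u = true := ext_range (a := 20196) (len := 18) h1122 sl_1122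
  have h1124 : ∀ u < 20232, (fun u => chkSlp tab slp u) u = true := ext_range (a := 20214) (len := 18) h1123 sl_1123
  have h1125 : ∀ u < 20250, (fun u => chkSlp tab slp u) u = true := ext_range (a := 20232) (len := 18) h1124 sl_1124
  have h1126 : ∀ u < 20268, (fun u => chkSlp tab slp u) u = true := ext_range (a := 20250) (len := 18) h1125 sl_1125
  have h1127 : ∀ u < 20286, (fun u => chkSlp tab slp u) u = true := ext_range (a := 20268) (len := 18) h1126 sl_1126
  have h1128 : ∀ u < 20304, (fun u => chkSlp tab slp u) u = true := ext_range (a := 20286) (len := 18) h1127 sl_1127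
  have h1129 : ∀ u < 20322, (fun u => chkSlp tab slp u) u = true := ext_range (a := 20304) (len := 18) h1128 sl_1128
  have h1130 : ∀ u < 20340, (fun u => chkSlp tab slp u) u = true := ext_range (a := 20322) (len := 18) h1129 sl_1129
  have h1131 : ∀ u < 20358, (fun u => chkSlp tab slp u) u = true := ext_range (a := 20340) (len := 18) h1130 sl_1130
  have h1132 : ∀ u < 20376, (fun u => chkSlp tab slp u) u = true := ext_range (a := 20358) (len := 18) h1131 sl_1131
  have h1133 : ∀ u < 20394, (fun u => chkSlp tab slp u) u = true := ext_range (a := 20376) (len := 18) h1132 sl_1132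
  have h1134 : ∀ u < 20412, (fun u => chkSlp tab slp u) u = true := ext_range (a := 20394) (len := 18) h1133 sl_1133
  have h1135 : ∀ u < 20430, (fun u => chkSlp tab slp u) u = true := ext_range (a := 20412) (len := 18) h1134 sl_1134
  have h1136 : ∀ u < 20448, (fun u => chkSlp tab slp u) u = true := ext_range (a := 20430) (len := 18) h1135 sl_1135
  have h1137 : ∀ u < 20466, (fun u => chkSlp tab slp u) u = true := ext_range (a := 20448) (len := 18) h1136 sl_1136
  have h1138 : ∀ u < 20484, (fun u => chkSlp tab slp u) u = true := ext_range (a := 20466) (len := 18) h1137 sl_1137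
  have h1139 : ∀ u < 20502, (fun u => chkSlp tab slp u) u = true := ext_range (a := 20484) (len := 18) h1138 sl_1138
  have h1140 : ∀ u < 20520, (fun u => chkSlp tab slp u) u = true := ext_range (a := 20502) (len := 18) h1139 sl_1139
  have h1141 : ∀ u < 20538, (fun u => chkSlp tab slp u) u = true := ext_range (a := 20520) (len := 18) h1140 sl_1140
  have h1142 : ∀ u < 20556, (fun u => chkSlp tab slp u) u = true := ext_range (a := 20538) (len := 18) h1141 sl_1141
  have h1143 : ∀ u < 20574, (fun u => chkSlp tab slp u) u = true := ext_range (a := 20556) (len := 18) h1142 sl_1142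
  have h1144 : ∀ u < 20592, (fun u => chkSlp tab slp u) u = true := ext_range (a := 20574) (len := 18) h1143 sl_1143
  have h1145 : ∀ u < 20610, (fun u => chkSlp tab slp u) u = true := ext_range (a := 20592) (len := 18) h1144 sl_1144
  have h1146 : ∀ u < 20628, (fun u => chkSlp tab slp u) u = true := ext_range (a := 20610) (len := 18) h1145 sl_1145
  have h1147 : ∀ u < 20646, (fun u => chkSlp tab slp u) u = true := ext_range (a := 20628) (len := 18) h1146 sl_1146
  have h1148 : ∀ u < 20664, (fun u => chkSlp tab slp u) u = true := ext_range (a := 20646) (len := 18) h1147 sl_1147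
  have h1149 : ∀ u < 20682, (fun u => chkSlp tab slp u) u = true := ext_range (a := 20664) (len := 18) h1148 sl_1148
  have h1150 : ∀ u < 20700, (fun u => chkSlp tab slp u) u = true := ext_range (a := 20682) (len := 18) h1149 sl_1149
  have h1151 : ∀ u < 20718, (fun u => chkSlp tab slp u) u = true := ext_range (a := 20700) (len := 18) h1150 sl_1150
  have h1152 : ∀ u < 20736, (fun u => chkSlp tab slp u) u = true := ext_range (a := 20718) (len := 18) h1151 sl_1151
  have h1153 : ∀ u < 20754, (fun u => chkSlp tab slp u) u = true := ext_range (a := 20736) (len := 18) h1152 sl_1152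
  have h1154 : ∀ u < 20772, (fun u => chkSlp tab slp u) u = true := ext_range (a := 20754) (len := 18) h1153 sl_1153
  have h1155 : ∀ u < 20790, (fun u => chkSlp tab slp u) u = true := ext_range (a := 20772) (len := 18) h1154 sl_1154
  have h1156 : ∀ u < 20808, (fun u => chkSlp tab slp u) u = true := ext_range (a := 20790) (len := 18) h1155 sl_1155
  have h1157 : ∀ u < 20826, (fun u => chkSlp tab slp u) u = true := ext_range (a := 20808) (len := 18) h1156 sl_1156
  have h1158 : ∀ u < 20844, (fun u => chkSlp tab slp u) u = true := ext_range (a := 20826) (len := 18) h1157 sl_1157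
  have h1159 : ∀ u < 20862, (fun u => chkSlp tab slp u) u = true := ext_range (a := 20844) (len := 18) h1158 sl_1158
  have h1160 : ∀ u < 20880, (fun u => chkSlp tab slp u) u = true := ext_range (a := 20862) (len := 18) h1159 sl_1159
  have h1161 : ∀ u < 20898, (fun u => chkSlp tab slp u) u = true := ext_range (a := 20880) (len := 18) h1160 sl_1160
  have h1162 : ∀ u < 20916, (fun u => chkSlp tab slp u) u = true := ext_range (a := 20898) (len := 18) h1161 sl_1161
  have h1163 : ∀ u < 20934, (fun u => chkSlp tab slp u) u = true := ext_range (a := 20916) (len := 18) h1162 sl_1162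
  have h1164 : ∀ u < 20952, (fun u => chkSlp tab slp u) u = true := ext_range (a := 20934) (len := 18) h1163 sl_1163
  have h1165 : ∀ u < 20970, (fun u => chkSlp tab slp u) u = true := ext_range (a := 20952) (len := 18) h1164 sl_1164
  have h1166 : ∀ u < 20988, (fun u => chkSlp tab slp u) u = true := ext_range (a := 20970) (len := 18) h1165 sl_1165
  have h1167 : ∀ u < 21006, (fun u => chkSlp tab slp u) u = true := ext_range (a := 20988) (len := 18) h1166 sl_1166
  have h1168 : ∀ u < 21024, (fun u => chkSlp tab slp u) u = true := ext_range (a := 21006) (len := 18) h1167 sl_1167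
  have h1169 : ∀ u < 21042, (fun u => chkSlp tab slp u) u = true := ext_range (a := 21024) (len := 18) h1168 sl_1168
  have h1170 : ∀ u < 21060, (fun u => chkSlp tab slp u) u = true := ext_range (a := 21042) (len := 18) h1169 sl_1169
  have h1171 : ∀ u < 21078, (fun u => chkSlp tab slp u) u = true := ext_range (a := 21060) (len := 18) h1170 sl_1170
  have h1172 : ∀ u < 21096, (fun u => chkSlp tab slp u) u = true := ext_range (a := 21078) (len := 18) h1171 sl_1171
  have h1173 : ∀ u < 21114, (fun u => chkSlp tab slp u) u = true := ext_range (a := 21096) (len := 18) h1172 sl_1172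
  have h1174 : ∀ u < 21132, (fun u => chkSlp tab slp u) u = true := ext_range (a := 21114) (len := 18) h1173 sl_1173
  have h1175 : ∀ u < 21150, (fun u => chkSlp tab slp u) u = true := ext_range (a := 21132) (len := 18) h1174 sl_1174
  have h1176 : ∀ u < 21168, (fun u => chkSlp tab slp u) u = true := ext_range (a := 21150) (len := 18) h1175 sl_1175
  have h1177 : ∀ u < 21186, (fun u => chkSlp tab slp u) u = true := ext_range (a := 21168) (len := 18) h1176 sl_1176
  have h1178 : ∀ u < 21204, (fun u => chkSlp tab slp u) u = true := ext_range (a := 21186) (len := 18) h1177 sl_1177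
  have h1179 : ∀ u < 21222, (fun u => chkSlp tab slp u) u = true := ext_range (a := 21204) (len := 18) h1178 sl_1178
  have h1180 : ∀ u < 21240, (fun u => chkSlp tab slp u) u = true := ext_range (a := 21222) (len := 18) h1179 sl_1179
  have h1181 : ∀ u < 21258, (fun u => chkSlp tab slp u) u = true := ext_range (a := 21240) (len := 18) h1180 sl_1180
  have h1182 : ∀ u < 21276, (fun u => chkSlp tab slp u) u = true := ext_range (a := 21258) (len := 18) h1181 sl_1181
  have h1183 : ∀ u < 21294, (fun u => chkSlp tab slp u) u = true := ext_range (a := 21276) (len := 18) h1182 sl_1182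
  have h1184 : ∀ u < 21312, (fun u => chkSlp tab slp u) u = true := ext_range (a := 21294) (len := 18) h1183 sl_1183
  have h1185 : ∀ u < 21330, (fun u => chkSlp tab slp u) u = true := ext_range (a := 21312) (len := 18) h1184 sl_1184
  have h1186 : ∀ u < 21348, (fun u => chkSlp tab slp u) u = true := ext_range (a := 21330) (len := 18) h1185 sl_1185
  have h1187 : ∀ u < 21366, (fun u => chkSlp tab slp u) u = true := ext_range (a := 21348) (len := 18) h1186 sl_1186
  have h1188 : ∀ u < 21384, (fun u => chkSlp tab slp u) u = true := ext_range (a := 21366) (len := 18) h1187 sl_1187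
  have h1189 : ∀ u < 21402, (fun u => chkSlp tab slp u) u = true := ext_range (a := 21384) (len := 18) h1188 sl_1188
  have h1190 : ∀ u < 21420, (fun u => chkSlp tab slp u) u = true := ext_range (a := 21402) (len := 18) h1189 sl_1189
  have h1191 : ∀ u < 21438, (fun u => chkSlp tab slp u) u = true := ext_range (a := 21420) (len := 18) h1190 sl_1190
  have h1192 : ∀ u < 21456, (fun u => chkSlp tab slp u) u = true := ext_range (a := 21438) (len := 18) h1191 sl_1191
  have h1193 : ∀ u < 21474, (fun u => chkSlp tab slp u) u = true := ext_range (a := 21456) (len := 18) h1192 sl_1192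
  have h1194 : ∀ u < 21492, (fun u => chkSlp tab slp u) u = true := ext_range (a := 21474) (len := 18) h1193 sl_1193
  have h1195 : ∀ u < 21510, (fun u => chkSlp tab slp u) u = true := ext_range (a := 21492) (len := 18) h1194 sl_1194
  have h1196 : ∀ u < 21528, (fun u => chkSlp tab slp u) u = true := ext_range (a := 21510) (len := 18) h1195 sl_1195
  have h1197 : ∀ u < 21546, (fun u => chkSlp tab slp u) u = true := ext_range (a := 21528) (len := 18) h1196 sl_1196
  have h1198 : ∀ u < 21564, (fun u => chkSlp tab slp u) u = true := ext_range (a := 21546) (len := 18) h1197 sl_1197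
  have h1199 : ∀ u < 21582, (fun u => chkSlp tab slp u) u = true := ext_range (a := 21564) (len := 18) h1198 sl_1198
  have h1200 : ∀ u < 21600, (fun u => chkSlp tab slp u) u = true := ext_range (a := 21582) (len := 18) h1199 sl_1199
  have h1201 : ∀ u < 21618, (fun u => chkSlp tab slp u) u = true := ext_range (a := 21600) (len := 18) h1200 sl_1200
  have h1202 : ∀ u < 21636, (fun u => chkSlp tab slp u) u = true := ext_range (a := 21618) (len := 18) h1201 sl_1201
  have h1203 : ∀ u < 21654, (fun u => chkSlp tab slp u) u = true := ext_range (a := 21636) (len := 18) h1202 sl_1202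
  have h1204 : ∀ u < 21672, (fun u => chkSlp tab slp u) u = true := ext_range (a := 21654) (len := 18) h1203 sl_1203
  have h1205 : ∀ u < 21690, (fun u => chkSlp tab slp u) u = true := ext_range (a := 21672) (len := 18) h1204 sl_1204
  have h1206 : ∀ u < 21708, (fun u => chkSlp tab slp u) u = true := ext_range (a := 21690) (len := 18) h1205 sl_1205
  have h1207 : ∀ u < 21726, (fun u => chkSlp tab slp u) u = true := ext_range (a := 21708) (len := 18) h1206 sl_1206
  have h1208 : ∀ u < 21744, (fun u => chkSlp tab slp u) u = true := ext_range (a := 21726) (len := 18) h1207 sl_1207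
  have h1209 : ∀ u < 21762, (fun u => chkSlp tab slp u) u = true := ext_range (a := 21744) (len := 18) h1208 sl_1208
  have h1210 : ∀ u < 21780, (fun u => chkSlp tab slp u) u = true := ext_range (a := 21762) (len := 18) h1209 sl_1209
  have h1211 : ∀ u < 21798, (fun u => chkSlp tab slp u) u = true := ext_range (a := 21780) (len := 18) h1210 sl_1210
  have h1212 : ∀ u < 21816, (fun u => chkSlp tab slp u) u = true := ext_range (a := 21798) (len := 18) h1211 sl_1211
  have h1213 : ∀ u < 21834, (fun u => chkSlp tab slp u) u = true := ext_range (a := 21816) (len := 18) h1212 sl_1212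
  have h1214 : ∀ u < 21852, (fun u => chkSlp tab slp u) u = true := ext_range (a := 21834) (len := 18) h1213 sl_1213
  have h1215 : ∀ u < 21870, (fun u => chkSlp tab slp u) u = true := ext_range (a := 21852) (len := 18) h1214 sl_1214
  have h1216 : ∀ u < 21888, (fun u => chkSlp tab slp u) u = true := ext_range (a := 21870) (len := 18) h1215 sl_1215
  have h1217 : ∀ u < 21906, (fun u => chkSlp tab slp u) u = true := ext_range (a := 21888) (len := 18) h1216 sl_1216
  have h1218 : ∀ u < 21924, (fun u => chkSlp tab slp u) u = true := ext_range (a := 21906) (len := 18) h1217 sl_1217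
  have h1219 : ∀ u < 21942, (fun u => chkSlp tab slp u) u = true := ext_range (a := 21924) (len := 18) h1218 sl_1218
  have h1220 : ∀ u < 21960, (fun u => chkSlp tab slp u) u = true := ext_range (a := 21942) (len := 18) h1219 sl_1219
  have h1221 : ∀ u < 21978, (fun u => chkSlp tab slp u) u = true := ext_range (a := 21960) (len := 18) h1220 sl_1220
  have h1222 : ∀ u < 21996, (fun u => chkSlp tab slp u) u = true := ext_range (a := 21978) (len := 18) h1221 sl_1221
  have h1223 : ∀ u < 22014, (fun u => chkSlp tab slp u) u = true := ext_range (a := 21996) (len := 18) h1222 sl_1222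
  have h1224 : ∀ u < 22032, (fun u => chkSlp tab slp u) u = true := ext_range (a := 22014) (len := 18) h1223 sl_1223
  have h1225 : ∀ u < 22050, (fun u => chkSlp tab slp u) u = true := ext_range (a := 22032) (len := 18) h1224 sl_1224
  have h1226 : ∀ u < 22068, (fun u => chkSlp tab slp u) u = true := ext_range (a := 22050) (len := 18) h1225 sl_1225
  have h1227 : ∀ u < 22086, (fun u => chkSlp tab slp u) u = true := ext_range (a := 22068) (len := 18) h1226 sl_1226
  have h1228 : ∀ u < 22104, (fun u => chkSlp tab slp u) u = true := ext_range (a := 22086) (len := 18) h1227 sl_1227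
  have h1229 : ∀ u < 22122, (fun u => chkSlp tab slp u) u = true := ext_range (a := 22104) (len := 18) h1228 sl_1228
  have h1230 : ∀ u < 22140, (fun u => chkSlp tab slp u) u = true := ext_range (a := 22122) (len := 18) h1229 sl_1229
  have h1231 : ∀ u < 22158, (fun u => chkSlp tab slp u) u = true := ext_range (a := 22140) (len := 18) h1230 sl_1230
  have h1232 : ∀ u < 22176, (fun u => chkSlp tab slp u) u = true := ext_range (a := 22158) (len := 18) h1231 sl_1231
  have h1233 : ∀ u < 22194, (fun u => chkSlp tab slp u) u = true := ext_range (a := 22176) (len := 18) h1232 sl_1232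
  have h1234 : ∀ u < 22212, (fun u => chkSlp tab slp u) u = true := ext_range (a := 22194) (len := 18) h1233 sl_1233
  have h1235 : ∀ u < 22230, (fun u => chkSlp tab slp u) u = true := ext_range (a := 22212) (len := 18) h1234 sl_1234
  have h1236 : ∀ u < 22248, (fun u => chkSlp tab slp u) u = true := ext_range (a := 22230) (len := 18) h1235 sl_1235
  have h1237 : ∀ u < 22266, (fun u => chkSlp tab slp u) u = true := ext_range (a := 22248) (len := 18) h1236 sl_1236
  have h1238 : ∀ u < 22284, (fun u => chkSlp tab slp u) u = true := ext_range (a := 22266) (len := 18) h1237 sl_1237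
  have h1239 : ∀ u < 22302, (fun u => chkSlp tab slp u) u = true := ext_range (a := 22284) (len := 18) h1238 sl_1238
  have h1240 : ∀ u < 22320, (fun u => chkSlp tab slp u) u = true := ext_range (a := 22302) (len := 18) h1239 sl_1239
  have h1241 : ∀ u < 22338, (fun u => chkSlp tab slp u) u = true := ext_range (a := 22320) (len := 18) h1240 sl_1240
  have h1242 : ∀ u < 22356, (fun u => chkSlp tab slp u) u = true := ext_range (a := 22338) (len := 18) h1241 sl_1241
  have h1243 : ∀ u < 22374, (fun u => chkSlp tab slp u) u = true := ext_range (a := 22356) (len := 18) h1242 sl_1242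
  have h1244 : ∀ u < 22392, (fun u => chkSlp tab slp u) u = true := ext_range (a := 22374) (len := 18) h1243 sl_1243
  have h1245 : ∀ u < 22410, (fun u => chkSlp tab slp u) u = true := ext_range (a := 22392) (len := 18) h1244 sl_1244
  have h1246 : ∀ u < 22428, (fun u => chkSlp tab slp u) u = true := ext_range (a := 22410) (len := 18) h1245 sl_1245
  have h1247 : ∀ u < 22446, (fun u => chkSlp tab slp u) u = true := ext_range (a := 22428) (len := 18) h1246 sl_1246
  have h1248 : ∀ u < 22464, (fun u => chkSlp tab slp u) u = true := ext_range (a := 22446) (len := 18) h1247 sl_1247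
  have h1249 : ∀ u < 22482, (fun u => chkSlp tab slp u) u = true := ext_range (a := 22464) (len := 18) h1248 sl_1248
  have h1250 : ∀ u < 22500, (fun u => chkSlp tab slp u) u = true := ext_range (a := 22482) (len := 18) h1249 sl_1249
  have h1251 : ∀ u < 22518, (fun u => chkSlp tab slp u) u = true := ext_range (a := 22500) (len := 18) h1250 sl_1250
  have h1252 : ∀ u < 22536, (fun u => chkSlp tab slp u) u = true := ext_range (a := 22518) (len := 18) h1251 sl_1251
  have h1253 : ∀ u < 22554, (fun u => chkSlp tab slp u) u = true := ext_range (a := 22536) (len := 18) h1252 sl_1252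
  have h1254 : ∀ u < 22572, (fun u => chkSlp tab slp u) u = true := ext_range (a := 22554) (len := 18) h1253 sl_1253
  have h1255 : ∀ u < 22590, (fun u => chkSlp tab slp u) u = true := ext_range (a := 22572) (len := 18) h1254 sl_1254
  have h1256 : ∀ u < 22608, (fun u => chkSlp tab slp u) u = true := ext_range (a := 22590) (len := 18) h1255 sl_1255
  have h1257 : ∀ u < 22626, (fun u => chkSlp tab slp u) u = true := ext_range (a := 22608) (len := 18) h1256 sl_1256
  have h1258 : ∀ u < 22644, (fun u => chkSlp tab slp u) u = true := ext_range (a := 22626) (len := 18) h1257 sl_1257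
  have h1259 : ∀ u < 22662, (fun u => chkSlp tab slp u) u = true := ext_range (a := 22644) (len := 18) h1258 sl_1258
  have h1260 : ∀ u < 22680, (fun u => chkSlp tab slp u) u = true := ext_range (a := 22662) (len := 18) h1259 sl_1259
  have h1261 : ∀ u < 22698, (fun u => chkSlp tab slp u) u = true := ext_range (a := 22680) (len := 18) h1260 sl_1260
  have h1262 : ∀ u < 22716, (fun u => chkSlp tab slp u) u = true := ext_range (a := 22698) (len := 18) h1261 sl_1261
  have h1263 : ∀ u < 22734, (fun u => chkSlp tab slp u) u = true := ext_range (a := 22716) (len := 18) h1262 sl_1262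
  have h1264 : ∀ u < 22752, (fun u => chkSlp tab slp u) u = true := ext_range (a := 22734) (len := 18) h1263 sl_1263
  have h1265 : ∀ u < 22770, (fun u => chkSlp tab slp u) u = true := ext_range (a := 22752) (len := 18) h1264 sl_1264
  have h1266 : ∀ u < 22788, (fun u => chkSlp tab slp u) u = true := ext_range (a := 22770) (len := 18) h1265 sl_1265
  have h1267 : ∀ u < 22806, (fun u => chkSlp tab slp u) u = true := ext_range (a := 22788) (len := 18) h1266 sl_1266
  have h1268 : ∀ u < 22824, (fun u => chkSlp tab slp u) u = true := ext_range (a := 22806) (len := 18) h1267 sl_1267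
  have h1269 : ∀ u < 22842, (fun u => chkSlp tab slp u) u = true := ext_range (a := 22824) (len := 18) h1268 sl_1268
  have h1270 : ∀ u < 22860, (fun u => chkSlp tab slp u) u = true := ext_range (a := 22842) (len := 18) h1269 sl_1269
  have h1271 : ∀ u < 22878, (fun u => chkSlp tab slp u) u = true := ext_range (a := 22860) (len := 18) h1270 sl_1270
  have h1272 : ∀ u < 22896, (fun u => chkSlp tab slp u) u = true := ext_range (a := 22878) (len := 18) h1271 sl_1271
  have h1273 : ∀ u < 22914, (fun u => chkSlp tab slp u) u = true := ext_range (a := 22896) (len := 18) h1272 sl_1272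
  have h1274 : ∀ u < 22932, (fun u => chkSlp tab slp u) u = true := ext_range (a := 22914) (len := 18) h1273 sl_1273
  have h1275 : ∀ u < 22950, (fun u => chkSlp tab slp u) u = true := ext_range (a := 22932) (len := 18) h1274 sl_1274
  have h1276 : ∀ u < 22968, (fun u => chkSlp tab slp u) u = true := ext_range (a := 22950) (len := 18) h1275 sl_1275
  have h1277 : ∀ u < 22986, (fun u => chkSlp tab slp u) u = true := ext_range (a := 22968) (len := 18) h1276 sl_1276
  have h1278 : ∀ u < 23004, (fun u => chkSlp tab slp u) u = true := ext_range (a := 22986) (len := 18) h1277 sl_1277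
  have h1279 : ∀ u < 23022, (fun u => chkSlp tab slp u) u = true := ext_range (a := 23004) (len := 18) h1278 sl_1278
  have h1280 : ∀ u < 23040, (fun u => chkSlp tab slp u) u = true := ext_range (a := 23022) (len := 18) h1279 sl_1279
  have h1281 : ∀ u < 23058, (fun u => chkSlp tab slp u) u = true := ext_range (a := 23040) (len := 18) h1280 sl_1280
  have h1282 : ∀ u < 23076, (fun u => chkSlp tab slp u) u = true := ext_range (a := 23058) (len := 18) h1281 sl_1281
  have h1283 : ∀ u < 23094, (fun u => chkSlp tab slp u) u = true := ext_range (a := 23076) (len := 18) h1282 sl_1282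
  have h1284 : ∀ u < 23112, (fun u => chkSlp tab slp u) u = true := ext_range (a := 23094) (len := 18) h1283 sl_1283
  have h1285 : ∀ u < 23130, (fun u => chkSlp tab slp u) u = true := ext_range (a := 23112) (len := 18) h1284 sl_1284
  have h1286 : ∀ u < 23148, (fun u => chkSlp tab slp u) u = true := ext_range (a := 23130) (len := 18) h1285 sl_1285
  have h1287 : ∀ u < 23166, (fun u => chkSlp tab slp u) u = true := ext_range (a := 23148) (len := 18) h1286 sl_1286
  have h1288 : ∀ u < 23184, (fun u => chkSlp tab slp u) u = true := ext_range (a := 23166) (len := 18) h1287 sl_1287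
  have h1289 : ∀ u < 23202, (fun u => chkSlp tab slp u) u = true := ext_range (a := 23184) (len := 18) h1288 sl_1288
  have h1290 : ∀ u < 23220, (fun u => chkSlp tab slp u) u = true := ext_range (a := 23202) (len := 18) h1289 sl_1289
  have h1291 : ∀ u < 23238, (fun u => chkSlp tab slp u) u = true := ext_range (a := 23220) (len := 18) h1290 sl_1290
  have h1292 : ∀ u < 23256, (fun u => chkSlp tab slp u) u = true := ext_range (a := 23238) (len := 18) h1291 sl_1291
  have h1293 : ∀ u < 23274, (fun u => chkSlp tab slp u) u = true := ext_range (a := 23256) (len := 18) h1292 sl_1292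
  have h1294 : ∀ u < 23292, (fun u => chkSlp tab slp u) u = true := ext_range (a := 23274) (len := 18) h1293 sl_1293
  have h1295 : ∀ u < 23310, (fun u => chkSlp tab slp u) u = true := ext_range (a := 23292) (len := 18) h1294 sl_1294
  have h1296 : ∀ u < 23328, (fun u => chkSlp tab slp u) u = true := ext_range (a := 23310) (len := 18) h1295 sl_1295
  have h1297 : ∀ u < 23346, (fun u => chkSlp tab slp u) u = true := ext_range (a := 23328) (len := 18) h1296 sl_1296
  have h1298 : ∀ u < 23364, (fun u => chkSlp tab slp u) u = true := ext_range (a := 23346) (len := 18) h1297 sl_1297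
  have h1299 : ∀ u < 23382, (fun u => chkSlp tab slp u) u = true := ext_range (a := 23364) (len := 18) h1298 sl_1298
  have h1300 : ∀ u < 23400, (fun u => chkSlp tab slp u) u = true := ext_range (a := 23382) (len := 18) h1299 sl_1299
  have h1301 : ∀ u < 23418, (fun u => chkSlp tab slp u) u = true := ext_range (a := 23400) (len := 18) h1300 sl_1300
  have h1302 : ∀ u < 23436, (fun u => chkSlp tab slp u) u = true := ext_range (a := 23418) (len := 18) h1301 sl_1301
  have h1303 : ∀ u < 23454, (fun u => chkSlp tab slp u) u = true := ext_range (a := 23436) (len := 18) h1302 sl_1302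
  have h1304 : ∀ u < 23472, (fun u => chkSlp tab slp u) u = true := ext_range (a := 23454) (len := 18) h1303 sl_1303
  have h1305 : ∀ u < 23490, (fun u => chkSlp tab slp u) u = true := ext_range (a := 23472) (len := 18) h1304 sl_1304
  have h1306 : ∀ u < 23508, (fun u => chkSlp tab slp u) u = true := ext_range (a := 23490) (len := 18) h1305 sl_1305
  have h1307 : ∀ u < 23526, (fun u => chkSlp tab slp u) u = true := ext_range (a := 23508) (len := 18) h1306 sl_1306
  have h1308 : ∀ u < 23544, (fun u => chkSlp tab slp u) u = true := ext_range (a := 23526) (len := 18) h1307 sl_1307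
  have h1309 : ∀ u < 23562, (fun u => chkSlp tab slp u) u = true := ext_range (a := 23544) (len := 18) h1308 sl_1308
  have h1310 : ∀ u < 23580, (fun u => chkSlp tab slp u) u = true := ext_range (a := 23562) (len := 18) h1309 sl_1309
  have h1311 : ∀ u < 23598, (fun u => chkSlp tab slp u) u = true := ext_range (a := 23580) (len := 18) h1310 sl_1310
  have h1312 : ∀ u < 23616, (fun u => chkSlp tab slp u) u = true := ext_range (a := 23598) (len := 18) h1311 sl_1311
  have h1313 : ∀ u < 23634, (fun u => chkSlp tab slp u) u = true := ext_range (a := 23616) (len := 18) h1312 sl_1312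
  have h1314 : ∀ u < 23652, (fun u => chkSlp tab slp u) u = true := ext_range (a := 23634) (len := 18) h1313 sl_1313
  have h1315 : ∀ u < 23670, (fun u => chkSlp tab slp u) u = true := ext_range (a := 23652) (len := 18) h1314 sl_1314
  have h1316 : ∀ u < 23688, (fun u => chkSlp tab slp u) u = true := ext_range (a := 23670) (len := 18) h1315 sl_1315
  have h1317 : ∀ u < 23706, (fun u => chkSlp tab slp u) u = true := ext_range (a := 23688) (len := 18) h1316 sl_1316
  have h1318 : ∀ u < 23724, (fun u => chkSlp tab slp u) u = true := ext_range (a := 23706) (len := 18) h1317 sl_1317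
  have h1319 : ∀ u < 23742, (fun u => chkSlp tab slp u) u = true := ext_range (a := 23724) (len := 18) h1318 sl_1318
  have h1320 : ∀ u < 23760, (fun u => chkSlp tab slp u) u = true := ext_range (a := 23742) (len := 18) h1319 sl_1319
  have h1321 : ∀ u < 23778, (fun u => chkSlp tab slp u) u = true := ext_range (a := 23760) (len := 18) h1320 sl_1320
  have h1322 : ∀ u < 23796, (fun u => chkSlp tab slp u) u = true := ext_range (a := 23778) (len := 18) h1321 sl_1321
  have h1323 : ∀ u < 23814, (fun u => chkSlp tab slp u) u = true := ext_range (a := 23796) (len := 18) h1322 sl_1322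
  have h1324 : ∀ u < 23832, (fun u => chkSlp tab slp u) u = true := ext_range (a := 23814) (len := 18) h1323 sl_1323
  have h1325 : ∀ u < 23850, (fun u => chkSlp tab slp u) u = true := ext_range (a := 23832) (len := 18) h1324 sl_1324
  have h1326 : ∀ u < 23868, (fun u => chkSlp tab slp u) u = true := ext_range (a := 23850) (len := 18) h1325 sl_1325
  have h1327 : ∀ u < 23886, (fun u => chkSlp tab slp u) u = true := ext_range (a := 23868) (len := 18) h1326 sl_1326
  have h1328 : ∀ u < 23904, (fun u => chkSlp tab slp u) u = true := ext_range (a := 23886) (len := 18) h1327 sl_1327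
  have h1329 : ∀ u < 23922, (fun u => chkSlp tab slp u) u = true := ext_range (a := 23904) (len := 18) h1328 sl_1328
  have h1330 : ∀ u < 23940, (fun u => chkSlp tab slp u) u = true := ext_range (a := 23922) (len := 18) h1329 sl_1329
  have h1331 : ∀ u < 23958, (fun u => chkSlp tab slp u) u = true := ext_range (a := 23940) (len := 18) h1330 sl_1330
  have h1332 : ∀ u < 23976, (fun u => chkSlp tab slp u) u = true := ext_range (a := 23958) (len := 18) h1331 sl_1331
  have h1333 : ∀ u < 23994, (fun u => chkSlp tab slp u) u = true := ext_range (a := 23976) (len := 18) h1332 sl_1332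
  have h1334 : ∀ u < 24012, (fun u => chkSlp tab slp u) u = true := ext_range (a := 23994) (len := 18) h1333 sl_1333
  have h1335 : ∀ u < 24030, (fun u => chkSlp tab slp u) u = true := ext_range (a := 24012) (len := 18) h1334 sl_1334
  have h1336 : ∀ u < 24048, (fun u => chkSlp tab slp u) u = true := ext_range (a := 24030) (len := 18) h1335 sl_1335
  have h1337 : ∀ u < 24066, (fun u => chkSlp tab slp u) u = true := ext_range (a := 24048) (len := 18) h1336 sl_1336
  have h1338 : ∀ u < 24084, (fun u => chkSlp tab slp u) u = true := ext_range (a := 24066) (len := 18) h1337 sl_1337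
  have h1339 : ∀ u < 24102, (fun u => chkSlp tab slp u) u = true := ext_range (a := 24084) (len := 18) h1338 sl_1338
  have h1340 : ∀ u < 24120, (fun u => chkSlp tab slp u) u = true := ext_range (a := 24102) (len := 18) h1339 sl_1339
  have h1341 : ∀ u < 24138, (fun u => chkSlp tab slp u) u = true := ext_range (a := 24120) (len := 18) h1340 sl_1340
  have h1342 : ∀ u < 24156, (fun u => chkSlp tab slp u) u = true := ext_range (a := 24138) (len := 18) h1341 sl_1341
  have h1343 : ∀ u < 24174, (fun u => chkSlp tab slp u) u = true := ext_range (a := 24156) (len := 18) h1342 sl_1342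
  have h1344 : ∀ u < 24192, (fun u => chkSlp tab slp u) u = true := ext_range (a := 24174) (len := 18) h1343 sl_1343
  have h1345 : ∀ u < 24210, (fun u => chkSlp tab slp u) u = true := ext_range (a := 24192) (len := 18) h1344 sl_1344
  have h1346 : ∀ u < 24228, (fun u => chkSlp tab slp u) u = true := ext_range (a := 24210) (len := 18) h1345 sl_1345
  have h1347 : ∀ u < 24246, (fun u => chkSlp tab slp u) u = true := ext_range (a := 24228) (len := 18) h1346 sl_1346
  have h1348 : ∀ u < 24264, (fun u => chkSlp tab slp u) u = true := ext_range (a := 24246) (len := 18) h1347 sl_1347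
  have h1349 : ∀ u < 24282, (fun u => chkSlp tab slp u) u = true := ext_range (a := 24264) (len := 18) h1348 sl_1348
  have h1350 : ∀ u < 24300, (fun u => chkSlp tab slp u) u = true := ext_range (a := 24282) (len := 18) h1349 sl_1349
  have h1351 : ∀ u < 24318, (fun u => chkSlp tab slp u) u = true := ext_range (a := 24300) (len := 18) h1350 sl_1350
  have h1352 : ∀ u < 24336, (fun u => chkSlp tab slp u) u = true := ext_range (a := 24318) (len := 18) h1351 sl_1351
  have h1353 : ∀ u < 24354, (fun u => chkSlp tab slp u) u = true := ext_range (a := 24336) (len := 18) h1352 sl_1352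
  have h1354 : ∀ u < 24372, (fun u => chkSlp tab slp u) u = true := ext_range (a := 24354) (len := 18) h1353 sl_1353
  have h1355 : ∀ u < 24390, (fun u => chkSlp tab slp u) u = true := ext_range (a := 24372) (len := 18) h1354 sl_1354
  have h1356 : ∀ u < 24408, (fun u => chkSlp tab slp u) u = true := ext_range (a := 24390) (len := 18) h1355 sl_1355
  have h1357 : ∀ u < 24426, (fun u => chkSlp tab slp u) u = true := ext_range (a := 24408) (len := 18) h1356 sl_1356
  have h1358 : ∀ u < 24444, (fun u => chkSlp tab slp u) u = true := ext_range (a := 24426) (len := 18) h1357 sl_1357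
  have h1359 : ∀ u < 24462, (fun u => chkSlp tab slp u) u = true := ext_range (a := 24444) (len := 18) h1358 sl_1358
  have h1360 : ∀ u < 24480, (fun u => chkSlp tab slp u) u = true := ext_range (a := 24462) (len := 18) h1359 sl_1359
  have h1361 : ∀ u < 24498, (fun u => chkSlp tab slp u) u = true := ext_range (a := 24480) (len := 18) h1360 sl_1360
  have h1362 : ∀ u < 24516, (fun u => chkSlp tab slp u) u = true := ext_range (a := 24498) (len := 18) h1361 sl_1361
  have h1363 : ∀ u < 24534, (fun u => chkSlp tab slp u) u = true := ext_range (a := 24516) (len := 18) h1362 sl_1362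
  have h1364 : ∀ u < 24552, (fun u => chkSlp tab slp u) u = true := ext_range (a := 24534) (len := 18) h1363 sl_1363
  have h1365 : ∀ u < 24570, (fun u => chkSlp tab slp u) u = true := ext_range (a := 24552) (len := 18) h1364 sl_1364
  have h1366 : ∀ u < 24588, (fun u => chkSlp tab slp u) u = true := ext_range (a := 24570) (len := 18) h1365 sl_1365
  have h1367 : ∀ u < 24606, (fun u => chkSlp tab slp u) u = true := ext_range (a := 24588) (len := 18) h1366 sl_1366
  have h1368 : ∀ u < 24624, (fun u => chkSlp tab slp u) u = true := ext_range (a := 24606) (len := 18) h1367 sl_1367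
  have h1369 : ∀ u < 24642, (fun u => chkSlp tab slp u) u = true := ext_range (a := 24624) (len := 18) h1368 sl_1368
  have h1370 : ∀ u < 24660, (fun u => chkSlp tab slp u) u = true := ext_range (a := 24642) (len := 18) h1369 sl_1369
  have h1371 : ∀ u < 24678, (fun u => chkSlp tab slp u) u = true := ext_range (a := 24660) (len := 18) h1370 sl_1370
  have h1372 : ∀ u < 24696, (fun u => chkSlp tab slp u) u = true := ext_range (a := 24678) (len := 18) h1371 sl_1371
  have h1373 : ∀ u < 24714, (fun u => chkSlp tab slp u) u = true := ext_range (a := 24696) (len := 18) h1372 sl_1372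
  have h1374 : ∀ u < 24732, (fun u => chkSlp tab slp u) u = true := ext_range (a := 24714) (len := 18) h1373 sl_1373
  have h1375 : ∀ u < 24750, (fun u => chkSlp tab slp u) u = true := ext_range (a := 24732) (len := 18) h1374 sl_1374
  have h1376 : ∀ u < 24768, (fun u => chkSlp tab slp u) u = true := ext_range (a := 24750) (len := 18) h1375 sl_1375
  have h1377 : ∀ u < 24786, (fun u => chkSlp tab slp u) u = true := ext_range (a := 24768) (len := 18) h1376 sl_1376
  have h1378 : ∀ u < 24804, (fun u => chkSlp tab slp u) u = true := ext_range (a := 24786) (len := 18) h1377 sl_1377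
  have h1379 : ∀ u < 24822, (fun u => chkSlp tab slp u) u = true := ext_range (a := 24804) (len := 18) h1378 sl_1378
  have h1380 : ∀ u < 24840, (fun u => chkSlp tab slp u) u = true := ext_range (a := 24822) (len := 18) h1379 sl_1379
  have h1381 : ∀ u < 24858, (fun u => chkSlp tab slp u) u = true := ext_range (a := 24840) (len := 18) h1380 sl_1380
  have h1382 : ∀ u < 24876, (fun u => chkSlp tab slp u) u = true := ext_range (a := 24858) (len := 18) h1381 sl_1381
  have h1383 : ∀ u < 24894, (fun u => chkSlp tab slp u) u = true := ext_range (a := 24876) (len := 18) h1382 sl_1382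
  have h1384 : ∀ u < 24912, (fun u => chkSlp tab slp u) u = true := ext_range (a := 24894) (len := 18) h1383 sl_1383
  have h1385 : ∀ u < 24930, (fun u => chkSlp tab slp u) u = true := ext_range (a := 24912) (len := 18) h1384 sl_1384
  have h1386 : ∀ u < 24948, (fun u => chkSlp tab slp u) u = true := ext_range (a := 24930) (len := 18) h1385 sl_1385
  have h1387 : ∀ u < 24966, (fun u => chkSlp tab slp u) u = true := ext_range (a := 24948) (len := 18) h1386 sl_1386
  have h1388 : ∀ u < 24984, (fun u => chkSlp tab slp u) u = true := ext_range (a := 24966) (len := 18) h1387 sl_1387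
  have h1389 : ∀ u < 25002, (fun u => chkSlp tab slp u) u = true := ext_range (a := 24984) (len := 18) h1388 sl_1388
  have h1390 : ∀ u < 25020, (fun u => chkSlp tab slp u) u = true := ext_range (a := 25002) (len := 18) h1389 sl_1389
  have h1391 : ∀ u < 25038, (fun u => chkSlp tab slp u) u = true := ext_range (a := 25020) (len := 18) h1390 sl_1390
  have h1392 : ∀ u < 25056, (fun u => chkSlp tab slp u) u = true := ext_range (a := 25038) (len := 18) h1391 sl_1391
  have h1393 : ∀ u < 25074, (fun u => chkSlp tab slp u) u = true := ext_range (a := 25056) (len := 18) h1392 sl_1392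
  have h1394 : ∀ u < 25092, (fun u => chkSlp tab slp u) u = true := ext_range (a := 25074) (len := 18) h1393 sl_1393
  have h1395 : ∀ u < 25110, (fun u => chkSlp tab slp u) u = true := ext_range (a := 25092) (len := 18) h1394 sl_1394
  have h1396 : ∀ u < 25128, (fun u => chkSlp tab slp u) u = true := ext_range (a := 25110) (len := 18) h1395 sl_1395
  have h1397 : ∀ u < 25146, (fun u => chkSlp tab slp u) u = true := ext_range (a := 25128) (len := 18) h1396 sl_1396
  have h1398 : ∀ u < 25164, (fun u => chkSlp tab slp u) u = true := ext_range (a := 25146) (len := 18) h1397 sl_1397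
  have h1399 : ∀ u < 25182, (fun u => chkSlp tab slp u) u = true := ext_range (a := 25164) (len := 18) h1398 sl_1398
  have h1400 : ∀ u < 25200, (fun u => chkSlp tab slp u) u = true := ext_range (a := 25182) (len := 18) h1399 sl_1399
  have h1401 : ∀ u < 25218, (fun u => chkSlp tab slp u) u = true := ext_range (a := 25200) (len := 18) h1400 sl_1400
  have h1402 : ∀ u < 25236, (fun u => chkSlp tab slp u) u = true := ext_range (a := 25218) (len := 18) h1401 sl_1401
  have h1403 : ∀ u < 25254, (fun u => chkSlp tab slp u) u = true := ext_range (a := 25236) (len := 18) h1402 sl_1402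
  have h1404 : ∀ u < 25272, (fun u => chkSlp tab slp u) u = true := ext_range (a := 25254) (len := 18) h1403 sl_1403
  have h1405 : ∀ u < 25290, (fun u => chkSlp tab slp u) u = true := ext_range (a := 25272) (len := 18) h1404 sl_1404
  have h1406 : ∀ u < 25308, (fun u => chkSlp tab slp u) u = true := ext_range (a := 25290) (len := 18) h1405 sl_1405
  have h1407 : ∀ u < 25326, (fun u => chkSlp tab slp u) u = true := ext_range (a := 25308) (len := 18) h1406 sl_1406
  have h1408 : ∀ u < 25344, (fun u => chkSlp tab slp u) u = true := ext_range (a := 25326) (len := 18) h1407 sl_1407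
  have h1409 : ∀ u < 25362, (fun u => chkSlp tab slp u) u = true := ext_range (a := 25344) (len := 18) h1408 sl_1408
  have h1410 : ∀ u < 25380, (fun u => chkSlp tab slp u) u = true := ext_range (a := 25362) (len := 18) h1409 sl_1409
  have h1411 : ∀ u < 25398, (fun u => chkSlp tab slp u) u = true := ext_range (a := 25380) (len := 18) h1410 sl_1410
  have h1412 : ∀ u < 25416, (fun u => chkSlp tab slp u) u = true := ext_range (a := 25398) (len := 18) h1411 sl_1411
  have h1413 : ∀ u < 25434, (fun u => chkSlp tab slp u) u = true := ext_range (a := 25416) (len := 18) h1412 sl_1412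
  have h1414 : ∀ u < 25452, (fun u => chkSlp tab slp u) u = true := ext_range (a := 25434) (len := 18) h1413 sl_1413
  have h1415 : ∀ u < 25470, (fun u => chkSlp tab slp u) u = true := ext_range (a := 25452) (len := 18) h1414 sl_1414
  have h1416 : ∀ u < 25488, (fun u => chkSlp tab slp u) u = true := ext_range (a := 25470) (len := 18) h1415 sl_1415
  have h1417 : ∀ u < 25506, (fun u => chkSlp tab slp u) u = true := ext_range (a := 25488) (len := 18) h1416 sl_1416
  have h1418 : ∀ u < 25524, (fun u => chkSlp tab slp u) u = true := ext_range (a := 25506) (len := 18) h1417 sl_1417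
  have h1419 : ∀ u < 25542, (fun u => chkSlp tab slp u) u = true := ext_range (a := 25524) (len := 18) h1418 sl_1418
  have h1420 : ∀ u < 25560, (fun u => chkSlp tab slp u) u = true := ext_range (a := 25542) (len := 18) h1419 sl_1419
  have h1421 : ∀ u < 25578, (fun u => chkSlp tab slp u) u = true := ext_range (a := 25560) (len := 18) h1420 sl_1420
  have h1422 : ∀ u < 25596, (fun u => chkSlp tab slp u) u = true := ext_range (a := 25578) (len := 18) h1421 sl_1421
  have h1423 : ∀ u < 25614, (fun u => chkSlp tab slp u) u = true := ext_range (a := 25596) (len := 18) h1422 sl_1422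
  have h1424 : ∀ u < 25632, (fun u => chkSlp tab slp u) u = true := ext_range (a := 25614) (len := 18) h1423 sl_1423
  have h1425 : ∀ u < 25650, (fun u => chkSlp tab slp u) u = true := ext_range (a := 25632) (len := 18) h1424 sl_1424
  have h1426 : ∀ u < 25668, (fun u => chkSlp tab slp u) u = true := ext_range (a := 25650) (len := 18) h1425 sl_1425
  have h1427 : ∀ u < 25686, (fun u => chkSlp tab slp u) u = true := ext_range (a := 25668) (len := 18) h1426 sl_1426
  have h1428 : ∀ u < 25704, (fun u => chkSlp tab slp u) u = true := ext_range (a := 25686) (len := 18) h1427 sl_1427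
  have h1429 : ∀ u < 25722, (fun u => chkSlp tab slp u) u = true := ext_range (a := 25704) (len := 18) h1428 sl_1428
  have h1430 : ∀ u < 25740, (fun u => chkSlp tab slp u) u = true := ext_range (a := 25722) (len := 18) h1429 sl_1429
  have h1431 : ∀ u < 25758, (fun u => chkSlp tab slp u) u = true := ext_range (a := 25740) (len := 18) h1430 sl_1430
  have h1432 : ∀ u < 25776, (fun u => chkSlp tab slp u) u = true := ext_range (a := 25758) (len := 18) h1431 sl_1431
  have h1433 : ∀ u < 25794, (fun u => chkSlp tab slp u) u = true := ext_range (a := 25776) (len := 18) h1432 sl_1432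
  have h1434 : ∀ u < 25812, (fun u => chkSlp tab slp u) u = true := ext_range (a := 25794) (len := 18) h1433 sl_1433
  have h1435 : ∀ u < 25830, (fun u => chkSlp tab slp u) u = true := ext_range (a := 25812) (len := 18) h1434 sl_1434
  have h1436 : ∀ u < 25848, (fun u => chkSlp tab slp u) u = true := ext_range (a := 25830) (len := 18) h1435 sl_1435
  have h1437 : ∀ u < 25866, (fun u => chkSlp tab slp u) u = true := ext_range (a := 25848) (len := 18) h1436 sl_1436
  have h1438 : ∀ u < 25884, (fun u => chkSlp tab slp u) u = true := ext_range (a := 25866) (len := 18) h1437 sl_1437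
  have h1439 : ∀ u < 25902, (fun u => chkSlp tab slp u) u = true := ext_range (a := 25884) (len := 18) h1438 sl_1438
  have h1440 : ∀ u < 25920, (fun u => chkSlp tab slp u) u = true := ext_range (a := 25902) (len := 18) h1439 sl_1439
  have h1441 : ∀ u < 25938, (fun u => chkSlp tab slp u) u = true := ext_range (a := 25920) (len := 18) h1440 sl_1440
  have h1442 : ∀ u < 25956, (fun u => chkSlp tab slp u) u = true := ext_range (a := 25938) (len := 18) h1441 sl_1441
  have h1443 : ∀ u < 25974, (fun u => chkSlp tab slp u) u = true := ext_range (a := 25956) (len := 18) h1442 sl_1442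
  have h1444 : ∀ u < 25992, (fun u => chkSlp tab slp u) u = true := ext_range (a := 25974) (len := 18) h1443 sl_1443
  have h1445 : ∀ u < 26010, (fun u => chkSlp tab slp u) u = true := ext_range (a := 25992) (len := 18) h1444 sl_1444
  have h1446 : ∀ u < 26028, (fun u => chkSlp tab slp u) u = true := ext_range (a := 26010) (len := 18) h1445 sl_1445
  have h1447 : ∀ u < 26046, (fun u => chkSlp tab slp u) u = true := ext_range (a := 26028) (len := 18) h1446 sl_1446
  have h1448 : ∀ u < 26064, (fun u => chkSlp tab slp u) u = true := ext_range (a := 26046) (len := 18) h1447 sl_1447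
  have h1449 : ∀ u < 26082, (fun u => chkSlp tab slp u) u = true := ext_range (a := 26064) (len := 18) h1448 sl_1448
  have h1450 : ∀ u < 26100, (fun u => chkSlp tab slp u) u = true := ext_range (a := 26082) (len := 18) h1449 sl_1449
  have h1451 : ∀ u < 26118, (fun u => chkSlp tab slp u) u = true := ext_range (a := 26100) (len := 18) h1450 sl_1450
  have h1452 : ∀ u < 26136, (fun u => chkSlp tab slp u) u = true := ext_range (a := 26118) (len := 18) h1451 sl_1451
  have h1453 : ∀ u < 26154, (fun u => chkSlp tab slp u) u = true := ext_range (a := 26136) (len := 18) h1452 sl_1452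
  have h1454 : ∀ u < 26172, (fun u => chkSlp tab slp u) u = true := ext_range (a := 26154) (len := 18) h1453 sl_1453
  have h1455 : ∀ u < 26190, (fun u => chkSlp tab slp u) u = true := ext_range (a := 26172) (len := 18) h1454 sl_1454
  have h1456 : ∀ u < 26208, (fun u => chkSlp tab slp u) u = true := ext_range (a := 26190) (len := 18) h1455 sl_1455
  have h1457 : ∀ u < 26226, (fun u => chkSlp tab slp u) u = true := ext_range (a := 26208) (len := 18) h1456 sl_1456
  have h1458 : ∀ u < 26244, (fun u => chkSlp tab slp u) u = true := ext_range (a := 26226) (len := 18) h1457 sl_1457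
  have h1459 : ∀ u < 26262, (fun u => chkSlp tab slp u) u = true := ext_range (a := 26244) (len := 18) h1458 sl_1458
  have h1460 : ∀ u < 26280, (fun u => chkSlp tab slp u) u = true := ext_range (a := 26262) (len := 18) h1459 sl_1459
  have h1461 : ∀ u < 26298, (fun u => chkSlp tab slp u) u = true := ext_range (a := 26280) (len := 18) h1460 sl_1460
  have h1462 : ∀ u < 26316, (fun u => chkSlp tab slp u) u = true := ext_range (a := 26298) (len := 18) h1461 sl_1461
  have h1463 : ∀ u < 26334, (fun u => chkSlp tab slp u) u = true := ext_range (a := 26316) (len := 18) h1462 sl_1462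
  have h1464 : ∀ u < 26352, (fun u => chkSlp tab slp u) u = true := ext_range (a := 26334) (len := 18) h1463 sl_1463
  have h1465 : ∀ u < 26370, (fun u => chkSlp tab slp u) u = true := ext_range (a := 26352) (len := 18) h1464 sl_1464
  have h1466 : ∀ u < 26388, (fun u => chkSlp tab slp u) u = true := ext_range (a := 26370) (len := 18) h1465 sl_1465
  have h1467 : ∀ u < 26406, (fun u => chkSlp tab slp u) u = true := ext_range (a := 26388) (len := 18) h1466 sl_1466
  have h1468 : ∀ u < 26424, (fun u => chkSlp tab slp u) u = true := ext_range (a := 26406) (len := 18) h1467 sl_1467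
  have h1469 : ∀ u < 26442, (fun u => chkSlp tab slp u) u = true := ext_range (a := 26424) (len := 18) h1468 sl_1468
  have h1470 : ∀ u < 26460, (fun u => chkSlp tab slp u) u = true := ext_range (a := 26442) (len := 18) h1469 sl_1469
  have h1471 : ∀ u < 26478, (fun u => chkSlp tab slp u) u = true := ext_range (a := 26460) (len := 18) h1470 sl_1470
  have h1472 : ∀ u < 26496, (fun u => chkSlp tab slp u) u = true := ext_range (a := 26478) (len := 18) h1471 sl_1471
  have h1473 : ∀ u < 26514, (fun u => chkSlp tab slp u) u = true := ext_range (a := 26496) (len := 18) h1472 sl_1472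
  have h1474 : ∀ u < 26532, (fun u => chkSlp tab slp u) u = true := ext_range (a := 26514) (len := 18) h1473 sl_1473
  have h1475 : ∀ u < 26550, (fun u => chkSlp tab slp u) u = true := ext_range (a := 26532) (len := 18) h1474 sl_1474
  have h1476 : ∀ u < 26568, (fun u => chkSlp tab slp u) u = true := ext_range (a := 26550) (len := 18) h1475 sl_1475
  have h1477 : ∀ u < 26586, (fun u => chkSlp tab slp u) u = true := ext_range (a := 26568) (len := 18) h1476 sl_1476
  have h1478 : ∀ u < 26604, (fun u => chkSlp tab slp u) u = true := ext_range (a := 26586) (len := 18) h1477 sl_1477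
  have h1479 : ∀ u < 26622, (fun u => chkSlp tab slp u) u = true := ext_range (a := 26604) (len := 18) h1478 sl_1478
  have h1480 : ∀ u < 26640, (fun u => chkSlp tab slp u) u = true := ext_range (a := 26622) (len := 18) h1479 sl_1479
  have h1481 : ∀ u < 26658, (fun u => chkSlp tab slp u) u = true := ext_range (a := 26640) (len := 18) h1480 sl_1480
  have h1482 : ∀ u < 26676, (fun u => chkSlp tab slp u) u = true := ext_range (a := 26658) (len := 18) h1481 sl_1481
  have h1483 : ∀ u < 26694, (fun u => chkSlp tab slp u) u = true := ext_range (a := 26676) (len := 18) h1482 sl_1482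
  have h1484 : ∀ u < 26712, (fun u => chkSlp tab slp u) u = true := ext_range (a := 26694) (len := 18) h1483 sl_1483
  have h1485 : ∀ u < 26730, (fun u => chkSlp tab slp u) u = true := ext_range (a := 26712) (len := 18) h1484 sl_1484
  have h1486 : ∀ u < 26748, (fun u => chkSlp tab slp u) u = true := ext_range (a := 26730) (len := 18) h1485 sl_1485
  have h1487 : ∀ u < 26766, (fun u => chkSlp tab slp u) u = true := ext_range (a := 26748) (len := 18) h1486 sl_1486
  have h1488 : ∀ u < 26784, (fun u => chkSlp tab slp u) u = true := ext_range (a := 26766) (len := 18) h1487 sl_1487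
  have h1489 : ∀ u < 26802, (fun u => chkSlp tab slp u) u = true := ext_range (a := 26784) (len := 18) h1488 sl_1488
  have h1490 : ∀ u < 26820, (fun u => chkSlp tab slp u) u = true := ext_range (a := 26802) (len := 18) h1489 sl_1489
  have h1491 : ∀ u < 26838, (fun u => chkSlp tab slp u) u = true := ext_range (a := 26820) (len := 18) h1490 sl_1490
  have h1492 : ∀ u < 26856, (fun u => chkSlp tab slp u) u = true := ext_range (a := 26838) (len := 18) h1491 sl_1491
  have h1493 : ∀ u < 26874, (fun u => chkSlp tab slp u) u = true := ext_range (a := 26856) (len := 18) h1492 sl_1492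
  have h1494 : ∀ u < 26892, (fun u => chkSlp tab slp u) u = true := ext_range (a := 26874) (len := 18) h1493 sl_1493
  have h1495 : ∀ u < 26910, (fun u => chkSlp tab slp u) u = true := ext_range (a := 26892) (len := 18) h1494 sl_1494
  have h1496 : ∀ u < 26928, (fun u => chkSlp tab slp u) u = true := ext_range (a := 26910) (len := 18) h1495 sl_1495
  have h1497 : ∀ u < 26946, (fun u => chkSlp tab slp u) u = true := ext_range (a := 26928) (len := 18) h1496 sl_1496
  have h1498 : ∀ u < 26964, (fun u => chkSlp tab slp u) u = true := ext_range (a := 26946) (len := 18) h1497 sl_1497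
  have h1499 : ∀ u < 26982, (fun u => chkSlp tab slp u) u = true := ext_range (a := 26964) (len := 18) h1498 sl_1498
  have h1500 : ∀ u < 27000, (fun u => chkSlp tab slp u) u = true := ext_range (a := 26982) (len := 18) h1499 sl_1499
  have h1501 : ∀ u < 27018, (fun u => chkSlp tab slp u) u = true := ext_range (a := 27000) (len := 18) h1500 sl_1500
  have h1502 : ∀ u < 27036, (fun u => chkSlp tab slp u) u = true := ext_range (a := 27018) (len := 18) h1501 sl_1501
  have h1503 : ∀ u < 27054, (fun u => chkSlp tab slp u) u = true := ext_range (a := 27036) (len := 18) h1502 sl_1502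
  have h1504 : ∀ u < 27072, (fun u => chkSlp tab slp u) u = true := ext_range (a := 27054) (len := 18) h1503 sl_1503
  have h1505 : ∀ u < 27090, (fun u => chkSlp tab slp u) u = true := ext_range (a := 27072) (len := 18) h1504 sl_1504
  have h1506 : ∀ u < 27108, (fun u => chkSlp tab slp u) u = true := ext_range (a := 27090) (len := 18) h1505 sl_1505
  have h1507 : ∀ u < 27126, (fun u => chkSlp tab slp u) u = true := ext_range (a := 27108) (len := 18) h1506 sl_1506
  have h1508 : ∀ u < 27144, (fun u => chkSlp tab slp u) u = true := ext_range (a := 27126) (len := 18) h1507 sl_1507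
  have h1509 : ∀ u < 27162, (fun u => chkSlp tab slp u) u = true := ext_range (a := 27144) (len := 18) h1508 sl_1508
  have h1510 : ∀ u < 27180, (fun u => chkSlp tab slp u) u = true := ext_range (a := 27162) (len := 18) h1509 sl_1509
  have h1511 : ∀ u < 27198, (fun u => chkSlp tab slp u) u = true := ext_range (a := 27180) (len := 18) h1510 sl_1510
  have h1512 : ∀ u < 27216, (fun u => chkSlp tab slp u) u = true := ext_range (a := 27198) (len := 18) h1511 sl_1511
  have h1513 : ∀ u < 27234, (fun u => chkSlp tab slp u) u = true := ext_range (a := 27216) (len := 18) h1512 sl_1512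
  have h1514 : ∀ u < 27252, (fun u => chkSlp tab slp u) u = true := ext_range (a := 27234) (len := 18) h1513 sl_1513
  have h1515 : ∀ u < 27270, (fun u => chkSlp tab slp u) u = true := ext_range (a := 27252) (len := 18) h1514 sl_1514
  have h1516 : ∀ u < 27288, (fun u => chkSlp tab slp u) u = true := ext_range (a := 27270) (len := 18) h1515 sl_1515
  have h1517 : ∀ u < 27306, (fun u => chkSlp tab slp u) u = true := ext_range (a := 27288) (len := 18) h1516 sl_1516
  have h1518 : ∀ u < 27324, (fun u => chkSlp tab slp u) u = true := ext_range (a := 27306) (len := 18) h1517 sl_1517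
  have h1519 : ∀ u < 27342, (fun u => chkSlp tab slp u) u = true := ext_range (a := 27324) (len := 18) h1518 sl_1518
  have h1520 : ∀ u < 27360, (fun u => chkSlp tab slp u) u = true := ext_range (a := 27342) (len := 18) h1519 sl_1519
  have h1521 : ∀ u < 27378, (fun u => chkSlp tab slp u) u = true := ext_range (a := 27360) (len := 18) h1520 sl_1520
  have h1522 : ∀ u < 27396, (fun u => chkSlp tab slp u) u = true := ext_range (a := 27378) (len := 18) h1521 sl_1521
  have h1523 : ∀ u < 27414, (fun u => chkSlp tab slp u) u = true := ext_range (a := 27396) (len := 18) h1522 sl_1522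
  have h1524 : ∀ u < 27432, (fun u => chkSlp tab slp u) u = true := ext_range (a := 27414) (len := 18) h1523 sl_1523
  have h1525 : ∀ u < 27450, (fun u => chkSlp tab slp u) u = true := ext_range (a := 27432) (len := 18) h1524 sl_1524
  have h1526 : ∀ u < 27468, (fun u => chkSlp tab slp u) u = true := ext_range (a := 27450) (len := 18) h1525 sl_1525
  have h1527 : ∀ u < 27486, (fun u => chkSlp tab slp u) u = true := ext_range (a := 27468) (len := 18) h1526 sl_1526
  have h1528 : ∀ u < 27504, (fun u => chkSlp tab slp u) u = true := ext_range (a := 27486) (len := 18) h1527 sl_1527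
  have h1529 : ∀ u < 27522, (fun u => chkSlp tab slp u) u = true := ext_range (a := 27504) (len := 18) h1528 sl_1528
  have h1530 : ∀ u < 27540, (fun u => chkSlp tab slp u) u = true := ext_range (a := 27522) (len := 18) h1529 sl_1529
  have h1531 : ∀ u < 27558, (fun u => chkSlp tab slp u) u = true := ext_range (a := 27540) (len := 18) h1530 sl_1530
  have h1532 : ∀ u < 27576, (fun u => chkSlp tab slp u) u = true := ext_range (a := 27558) (len := 18) h1531 sl_1531
  have h1533 : ∀ u < 27594, (fun u => chkSlp tab slp u) u = true := ext_range (a := 27576) (len := 18) h1532 sl_1532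
  have h1534 : ∀ u < 27612, (fun u => chkSlp tab slp u) u = true := ext_range (a := 27594) (len := 18) h1533 sl_1533
  have h1535 : ∀ u < 27630, (fun u => chkSlp tab slp u) u = true := ext_range (a := 27612) (len := 18) h1534 sl_1534
  have h1536 : ∀ u < 27648, (fun u => chkSlp tab slp u) u = true := ext_range (a := 27630) (len := 18) h1535 sl_1535
  have h1537 : ∀ u < 27666, (fun u => chkSlp tab slp u) u = true := ext_range (a := 27648) (len := 18) h1536 sl_1536
  have h1538 : ∀ u < 27684, (fun u => chkSlp tab slp u) u = true := ext_range (a := 27666) (len := 18) h1537 sl_1537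
  have h1539 : ∀ u < 27702, (fun u => chkSlp tab slp u) u = true := ext_range (a := 27684) (len := 18) h1538 sl_1538
  have h1540 : ∀ u < 27720, (fun u => chkSlp tab slp u) u = true := ext_range (a := 27702) (len := 18) h1539 sl_1539
  have h1541 : ∀ u < 27738, (fun u => chkSlp tab slp u) u = true := ext_range (a := 27720) (len := 18) h1540 sl_1540
  have h1542 : ∀ u < 27756, (fun u => chkSlp tab slp u) u = true := ext_range (a := 27738) (len := 18) h1541 sl_1541
  have h1543 : ∀ u < 27774, (fun u => chkSlp tab slp u) u = true := ext_range (a := 27756) (len := 18) h1542 sl_1542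
  have h1544 : ∀ u < 27792, (fun u => chkSlp tab slp u) u = true := ext_range (a := 27774) (len := 18) h1543 sl_1543
  have h1545 : ∀ u < 27810, (fun u => chkSlp tab slp u) u = true := ext_range (a := 27792) (len := 18) h1544 sl_1544
  have h1546 : ∀ u < 27828, (fun u => chkSlp tab slp u) u = true := ext_range (a := 27810) (len := 18) h1545 sl_1545
  have h1547 : ∀ u < 27846, (fun u => chkSlp tab slp u) u = true := ext_range (a := 27828) (len := 18) h1546 sl_1546
  have h1548 : ∀ u < 27864, (fun u => chkSlp tab slp u) u = true := ext_range (a := 27846) (len := 18) h1547 sl_1547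
  have h1549 : ∀ u < 27882, (fun u => chkSlp tab slp u) u = true := ext_range (a := 27864) (len := 18) h1548 sl_1548
  have h1550 : ∀ u < 27900, (fun u => chkSlp tab slp u) u = true := ext_range (a := 27882) (len := 18) h1549 sl_1549
  have h1551 : ∀ u < 27918, (fun u => chkSlp tab slp u) u = true := ext_range (a := 27900) (len := 18) h1550 sl_1550
  have h1552 : ∀ u < 27936, (fun u => chkSlp tab slp u) u = true := ext_range (a := 27918) (len := 18) h1551 sl_1551
  have h1553 : ∀ u < 27954, (fun u => chkSlp tab slp u) u = true := ext_range (a := 27936) (len := 18) h1552 sl_1552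
  have h1554 : ∀ u < 27972, (fun u => chkSlp tab slp u) u = true := ext_range (a := 27954) (len := 18) h1553 sl_1553
  have h1555 : ∀ u < 27990, (fun u => chkSlp tab slp u) u = true := ext_range (a := 27972) (len := 18) h1554 sl_1554
  have h1556 : ∀ u < 28008, (fun u => chkSlp tab slp u) u = true := ext_range (a := 27990) (len := 18) h1555 sl_1555
  have h1557 : ∀ u < 28026, (fun u => chkSlp tab slp u) u = true := ext_range (a := 28008) (len := 18) h1556 sl_1556
  have h1558 : ∀ u < 28044, (fun u => chkSlp tab slp u) u = true := ext_range (a := 28026) (len := 18) h1557 sl_1557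
  have h1559 : ∀ u < 28062, (fun u => chkSlp tab slp u) u = true := ext_range (a := 28044) (len := 18) h1558 sl_1558
  have h1560 : ∀ u < 28080, (fun u => chkSlp tab slp u) u = true := ext_range (a := 28062) (len := 18) h1559 sl_1559
  have h1561 : ∀ u < 28098, (fun u => chkSlp tab slp u) u = true := ext_range (a := 28080) (len := 18) h1560 sl_1560
  have h1562 : ∀ u < 28116, (fun u => chkSlp tab slp u) u = true := ext_range (a := 28098) (len := 18) h1561 sl_1561
  have h1563 : ∀ u < 28134, (fun u => chkSlp tab slp u) u = true := ext_range (a := 28116) (len := 18) h1562 sl_1562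
  have h1564 : ∀ u < 28152, (fun u => chkSlp tab slp u) u = true := ext_range (a := 28134) (len := 18) h1563 sl_1563
  have h1565 : ∀ u < 28170, (fun u => chkSlp tab slp u) u = true := ext_range (a := 28152) (len := 18) h1564 sl_1564
  have h1566 : ∀ u < 28188, (fun u => chkSlp tab slp u) u = true := ext_range (a := 28170) (len := 18) h1565 sl_1565
  have h1567 : ∀ u < 28206, (fun u => chkSlp tab slp u) u = true := ext_range (a := 28188) (len := 18) h1566 sl_1566
  have h1568 : ∀ u < 28224, (fun u => chkSlp tab slp u) u = true := ext_range (a := 28206) (len := 18) h1567 sl_1567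
  have h1569 : ∀ u < 28242, (fun u => chkSlp tab slp u) u = true := ext_range (a := 28224) (len := 18) h1568 sl_1568
  have h1570 : ∀ u < 28260, (fun u => chkSlp tab slp u) u = true := ext_range (a := 28242) (len := 18) h1569 sl_1569
  have h1571 : ∀ u < 28278, (fun u => chkSlp tab slp u) u = true := ext_range (a := 28260) (len := 18) h1570 sl_1570
  have h1572 : ∀ u < 28296, (fun u => chkSlp tab slp u) u = true := ext_range (a := 28278) (len := 18) h1571 sl_1571
  have h1573 : ∀ u < 28314, (fun u => chkSlp tab slp u) u = true := ext_range (a := 28296) (len := 18) h1572 sl_1572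
  have h1574 : ∀ u < 28332, (fun u => chkSlp tab slp u) u = true := ext_range (a := 28314) (len := 18) h1573 sl_1573
  have h1575 : ∀ u < 28350, (fun u => chkSlp tab slp u) u = true := ext_range (a := 28332) (len := 18) h1574 sl_1574
  have h1576 : ∀ u < 28368, (fun u => chkSlp tab slp u) u = true := ext_range (a := 28350) (len := 18) h1575 sl_1575
  have h1577 : ∀ u < 28386, (fun u => chkSlp tab slp u) u = true := ext_range (a := 28368) (len := 18) h1576 sl_1576
  have h1578 : ∀ u < 28404, (fun u => chkSlp tab slp u) u = true := ext_range (a := 28386) (len := 18) h1577 sl_1577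
  have h1579 : ∀ u < 28422, (fun u => chkSlp tab slp u) u = true := ext_range (a := 28404) (len := 18) h1578 sl_1578
  have h1580 : ∀ u < 28440, (fun u => chkSlp tab slp u) u = true := ext_range (a := 28422) (len := 18) h1579 sl_1579
  have h1581 : ∀ u < 28458, (fun u => chkSlp tab slp u) u = true := ext_range (a := 28440) (len := 18) h1580 sl_1580
  have h1582 : ∀ u < 28476, (fun u => chkSlp tab slp u) u = true := ext_range (a := 28458) (len := 18) h1581 sl_1581
  have h1583 : ∀ u < 28494, (fun u => chkSlp tab slp u) u = true := ext_range (a := 28476) (len := 18) h1582 sl_1582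
  have h1584 : ∀ u < 28512, (fun u => chkSlp tab slp u) u = true := ext_range (a := 28494) (len := 18) h1583 sl_1583
  have h1585 : ∀ u < 28530, (fun u => chkSlp tab slp u) u = true := ext_range (a := 28512) (len := 18) h1584 sl_1584
  have h1586 : ∀ u < 28548, (fun u => chkSlp tab slp u) u = true := ext_range (a := 28530) (len := 18) h1585 sl_1585
  have h1587 : ∀ u < 28566, (fun u => chkSlp tab slp u) u = true := ext_range (a := 28548) (len := 18) h1586 sl_1586
  have h1588 : ∀ u < 28584, (fun u => chkSlp tab slp u) u = true := ext_range (a := 28566) (len := 18) h1587 sl_1587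
  have h1589 : ∀ u < 28602, (fun u => chkSlp tab slp u) u = true := ext_range (a := 28584) (len := 18) h1588 sl_1588
  have h1590 : ∀ u < 28620, (fun u => chkSlp tab slp u) u = true := ext_range (a := 28602) (len := 18) h1589 sl_1589
  have h1591 : ∀ u < 28638, (fun u => chkSlp tab slp u) u = true := ext_range (a := 28620) (len := 18) h1590 sl_1590
  have h1592 : ∀ u < 28656, (fun u => chkSlp tab slp u) u = true := ext_range (a := 28638) (len := 18) h1591 sl_1591
  have h1593 : ∀ u < 28674, (fun u => chkSlp tab slp u) u = true := ext_range (a := 28656) (len := 18) h1592 sl_1592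
  have h1594 : ∀ u < 28692, (fun u => chkSlp tab slp u) u = true := ext_range (a := 28674) (len := 18) h1593 sl_1593
  have h1595 : ∀ u < 28710, (fun u => chkSlp tab slp u) u = true := ext_range (a := 28692) (len := 18) h1594 sl_1594
  have h1596 : ∀ u < 28728, (fun u => chkSlp tab slp u) u = true := ext_range (a := 28710) (len := 18) h1595 sl_1595
  have h1597 : ∀ u < 28746, (fun u => chkSlp tab slp u) u = true := ext_range (a := 28728) (len := 18) h1596 sl_1596
  have h1598 : ∀ u < 28764, (fun u => chkSlp tab slp u) u = true := ext_range (a := 28746) (len := 18) h1597 sl_1597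
  have h1599 : ∀ u < 28782, (fun u => chkSlp tab slp u) u = true := ext_range (a := 28764) (len := 18) h1598 sl_1598
  have h1600 : ∀ u < 28800, (fun u => chkSlp tab slp u) u = true := ext_range (a := 28782) (len := 18) h1599 sl_1599
  have h1601 : ∀ u < 28818, (fun u => chkSlp tab slp u) u = true := ext_range (a := 28800) (len := 18) h1600 sl_1600
  have h1602 : ∀ u < 28836, (fun u => chkSlp tab slp u) u = true := ext_range (a := 28818) (len := 18) h1601 sl_1601
  have h1603 : ∀ u < 28854, (fun u => chkSlp tab slp u) u = true := ext_range (a := 28836) (len := 18) h1602 sl_1602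
  have h1604 : ∀ u < 28872, (fun u => chkSlp tab slp u) u = true := ext_range (a := 28854) (len := 18) h1603 sl_1603
  have h1605 : ∀ u < 28890, (fun u => chkSlp tab slp u) u = true := ext_range (a := 28872) (len := 18) h1604 sl_1604
  have h1606 : ∀ u < 28908, (fun u => chkSlp tab slp u) u = true := ext_range (a := 28890) (len := 18) h1605 sl_1605
  have h1607 : ∀ u < 28926, (fun u => chkSlp tab slp u) u = true := ext_range (a := 28908) (len := 18) h1606 sl_1606
  have h1608 : ∀ u < 28944, (fun u => chkSlp tab slp u) u = true := ext_range (a := 28926) (len := 18) h1607 sl_1607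
  have h1609 : ∀ u < 28962, (fun u => chkSlp tab slp u) u = true := ext_range (a := 28944) (len := 18) h1608 sl_1608
  have h1610 : ∀ u < 28980, (fun u => chkSlp tab slp u) u = true := ext_range (a := 28962) (len := 18) h1609 sl_1609
  have h1611 : ∀ u < 28998, (fun u => chkSlp tab slp u) u = true := ext_range (a := 28980) (len := 18) h1610 sl_1610
  have h1612 : ∀ u < 29016, (fun u => chkSlp tab slp u) u = true := ext_range (a := 28998) (len := 18) h1611 sl_1611
  have h1613 : ∀ u < 29034, (fun u => chkSlp tab slp u) u = true := ext_range (a := 29016) (len := 18) h1612 sl_1612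
  have h1614 : ∀ u < 29052, (fun u => chkSlp tab slp u) u = true := ext_range (a := 29034) (len := 18) h1613 sl_1613
  have h1615 : ∀ u < 29070, (fun u => chkSlp tab slp u) u = true := ext_range (a := 29052) (len := 18) h1614 sl_1614
  have h1616 : ∀ u < 29088, (fun u => chkSlp tab slp u) u = true := ext_range (a := 29070) (len := 18) h1615 sl_1615
  have h1617 : ∀ u < 29106, (fun u => chkSlp tab slp u) u = true := ext_range (a := 29088) (len := 18) h1616 sl_1616
  have h1618 : ∀ u < 29124, (fun u => chkSlp tab slp u) u = true := ext_range (a := 29106) (len := 18) h1617 sl_1617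
  have h1619 : ∀ u < 29142, (fun u => chkSlp tab slp u) u = true := ext_range (a := 29124) (len := 18) h1618 sl_1618
  have h1620 : ∀ u < 29160, (fun u => chkSlp tab slp u) u = true := ext_range (a := 29142) (len := 18) h1619 sl_1619
  have h1621 : ∀ u < 29178, (fun u => chkSlp tab slp u) u = true := ext_range (a := 29160) (len := 18) h1620 sl_1620
  have h1622 : ∀ u < 29196, (fun u => chkSlp tab slp u) u = true := ext_range (a := 29178) (len := 18) h1621 sl_1621
  have h1623 : ∀ u < 29214, (fun u => chkSlp tab slp u) u = true := ext_range (a := 29196) (len := 18) h1622 sl_1622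
  have h1624 : ∀ u < 29232, (fun u => chkSlp tab slp u) u = true := ext_range (a := 29214) (len := 18) h1623 sl_1623
  have h1625 : ∀ u < 29250, (fun u => chkSlp tab slp u) u = true := ext_range (a := 29232) (len := 18) h1624 sl_1624
  have h1626 : ∀ u < 29268, (fun u => chkSlp tab slp u) u = true := ext_range (a := 29250) (len := 18) h1625 sl_1625
  have h1627 : ∀ u < 29286, (fun u => chkSlp tab slp u) u = true := ext_range (a := 29268) (len := 18) h1626 sl_1626
  have h1628 : ∀ u < 29304, (fun u => chkSlp tab slp u) u = true := ext_range (a := 29286) (len := 18) h1627 sl_1627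
  have h1629 : ∀ u < 29322, (fun u => chkSlp tab slp u) u = true := ext_range (a := 29304) (len := 18) h1628 sl_1628
  have h1630 : ∀ u < 29340, (fun u => chkSlp tab slp u) u = true := ext_range (a := 29322) (len := 18) h1629 sl_1629
  have h1631 : ∀ u < 29358, (fun u => chkSlp tab slp u) u = true := ext_range (a := 29340) (len := 18) h1630 sl_1630
  have h1632 : ∀ u < 29376, (fun u => chkSlp tab slp u) u = true := ext_range (a := 29358) (len := 18) h1631 sl_1631
  have h1633 : ∀ u < 29394, (fun u => chkSlp tab slp u) u = true := ext_range (a := 29376) (len := 18) h1632 sl_1632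
  have h1634 : ∀ u < 29412, (fun u => chkSlp tab slp u) u = true := ext_range (a := 29394) (len := 18) h1633 sl_1633
  have h1635 : ∀ u < 29430, (fun u => chkSlp tab slp u) u = true := ext_range (a := 29412) (len := 18) h1634 sl_1634
  have h1636 : ∀ u < 29448, (fun u => chkSlp tab slp u) u = true := ext_range (a := 29430) (len := 18) h1635 sl_1635
  have h1637 : ∀ u < 29466, (fun u => chkSlp tab slp u) u = true := ext_range (a := 29448) (len := 18) h1636 sl_1636
  have h1638 : ∀ u < 29484, (fun u => chkSlp tab slp u) u = true := ext_range (a := 29466) (len := 18) h1637 sl_1637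
  have h1639 : ∀ u < 29502, (fun u => chkSlp tab slp u) u = true := ext_range (a := 29484) (len := 18) h1638 sl_1638
  have h1640 : ∀ u < 29520, (fun u => chkSlp tab slp u) u = true := ext_range (a := 29502) (len := 18) h1639 sl_1639
  have h1641 : ∀ u < 29538, (fun u => chkSlp tab slp u) u = true := ext_range (a := 29520) (len := 18) h1640 sl_1640
  have h1642 : ∀ u < 29556, (fun u => chkSlp tab slp u) u = true := ext_range (a := 29538) (len := 18) h1641 sl_1641
  have h1643 : ∀ u < 29574, (fun u => chkSlp tab slp u) u = true := ext_range (a := 29556) (len := 18) h1642 sl_1642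
  have h1644 : ∀ u < 29592, (fun u => chkSlp tab slp u) u = true := ext_range (a := 29574) (len := 18) h1643 sl_1643
  have h1645 : ∀ u < 29610, (fun u => chkSlp tab slp u) u = true := ext_range (a := 29592) (len := 18) h1644 sl_1644
  have h1646 : ∀ u < 29628, (fun u => chkSlp tab slp u) u = true := ext_range (a := 29610) (len := 18) h1645 sl_1645
  have h1647 : ∀ u < 29646, (fun u => chkSlp tab slp u) u = true := ext_range (a := 29628) (len := 18) h1646 sl_1646
  have h1648 : ∀ u < 29664, (fun u => chkSlp tab slp u) u = true := ext_range (a := 29646) (len := 18) h1647 sl_1647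
  have h1649 : ∀ u < 29682, (fun u => chkSlp tab slp u) u = true := ext_range (a := 29664) (len := 18) h1648 sl_1648
  have h1650 : ∀ u < 29700, (fun u => chkSlp tab slp u) u = true := ext_range (a := 29682) (len := 18) h1649 sl_1649
  have h1651 : ∀ u < 29718, (fun u => chkSlp tab slp u) u = true := ext_range (a := 29700) (len := 18) h1650 sl_1650
  have h1652 : ∀ u < 29736, (fun u => chkSlp tab slp u) u = true := ext_range (a := 29718) (len := 18) h1651 sl_1651
  have h1653 : ∀ u < 29754, (fun u => chkSlp tab slp u) u = true := ext_range (a := 29736) (len := 18) h1652 sl_1652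
  have h1654 : ∀ u < 29772, (fun u => chkSlp tab slp u) u = true := ext_range (a := 29754) (len := 18) h1653 sl_1653
  have h1655 : ∀ u < 29790, (fun u => chkSlp tab slp u) u = true := ext_range (a := 29772) (len := 18) h1654 sl_1654
  have h1656 : ∀ u < 29808, (fun u => chkSlp tab slp u) u = true := ext_range (a := 29790) (len := 18) h1655 sl_1655
  have h1657 : ∀ u < 29826, (fun u => chkSlp tab slp u) u = true := ext_range (a := 29808) (len := 18) h1656 sl_1656
  have h1658 : ∀ u < 29844, (fun u => chkSlp tab slp u) u = true := ext_range (a := 29826) (len := 18) h1657 sl_1657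
  have h1659 : ∀ u < 29862, (fun u => chkSlp tab slp u) u = true := ext_range (a := 29844) (len := 18) h1658 sl_1658
  have h1660 : ∀ u < 29880, (fun u => chkSlp tab slp u) u = true := ext_range (a := 29862) (len := 18) h1659 sl_1659
  have h1661 : ∀ u < 29898, (fun u => chkSlp tab slp u) u = true := ext_range (a := 29880) (len := 18) h1660 sl_1660
  have h1662 : ∀ u < 29916, (fun u => chkSlp tab slp u) u = true := ext_range (a := 29898) (len := 18) h1661 sl_1661
  have h1663 : ∀ u < 29934, (fun u => chkSlp tab slp u) u = true := ext_range (a := 29916) (len := 18) h1662 sl_1662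
  have h1664 : ∀ u < 29952, (fun u => chkSlp tab slp u) u = true := ext_range (a := 29934) (len := 18) h1663 sl_1663
  have h1665 : ∀ u < 29970, (fun u => chkSlp tab slp u) u = true := ext_range (a := 29952) (len := 18) h1664 sl_1664
  have h1666 : ∀ u < 29988, (fun u => chkSlp tab slp u) u = true := ext_range (a := 29970) (len := 18) h1665 sl_1665
  have h1667 : ∀ u < 30006, (fun u => chkSlp tab slp u) u = true := ext_range (a := 29988) (len := 18) h1666 sl_1666
  have h1668 : ∀ u < 30024, (fun u => chkSlp tab slp u) u = true := ext_range (a := 30006) (len := 18) h1667 sl_1667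
  have h1669 : ∀ u < 30042, (fun u => chkSlp tab slp u) u = true := ext_range (a := 30024) (len := 18) h1668 sl_1668
  have h1670 : ∀ u < 30060, (fun u => chkSlp tab slp u) u = true := ext_range (a := 30042) (len := 18) h1669 sl_1669
  have h1671 : ∀ u < 30078, (fun u => chkSlp tab slp u) u = true := ext_range (a := 30060) (len := 18) h1670 sl_1670
  have h1672 : ∀ u < 30096, (fun u => chkSlp tab slp u) u = true := ext_range (a := 30078) (len := 18) h1671 sl_1671
  have h1673 : ∀ u < 30114, (fun u => chkSlp tab slp u) u = true := ext_range (a := 30096) (len := 18) h1672 sl_1672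
  have h1674 : ∀ u < 30132, (fun u => chkSlp tab slp u) u = true := ext_range (a := 30114) (len := 18) h1673 sl_1673
  have h1675 : ∀ u < 30150, (fun u => chkSlp tab slp u) u = true := ext_range (a := 30132) (len := 18) h1674 sl_1674
  have h1676 : ∀ u < 30168, (fun u => chkSlp tab slp u) u = true := ext_range (a := 30150) (len := 18) h1675 sl_1675
  have h1677 : ∀ u < 30186, (fun u => chkSlp tab slp u) u = true := ext_range (a := 30168) (len := 18) h1676 sl_1676
  have h1678 : ∀ u < 30204, (fun u => chkSlp tab slp u) u = true := ext_range (a := 30186) (len := 18) h1677 sl_1677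
  have h1679 : ∀ u < 30222, (fun u => chkSlp tab slp u) u = true := ext_range (a := 30204) (len := 18) h1678 sl_1678
  have h1680 : ∀ u < 30240, (fun u => chkSlp tab slp u) u = true := ext_range (a := 30222) (len := 18) h1679 sl_1679
  have h1681 : ∀ u < 30258, (fun u => chkSlp tab slp u) u = true := ext_range (a := 30240) (len := 18) h1680 sl_1680
  have h1682 : ∀ u < 30276, (fun u => chkSlp tab slp u) u = true := ext_range (a := 30258) (len := 18) h1681 sl_1681
  have h1683 : ∀ u < 30294, (fun u => chkSlp tab slp u) u = true := ext_range (a := 30276) (len := 18) h1682 sl_1682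
  have h1684 : ∀ u < 30312, (fun u => chkSlp tab slp u) u = true := ext_range (a := 30294) (len := 18) h1683 sl_1683
  have h1685 : ∀ u < 30330, (fun u => chkSlp tab slp u) u = true := ext_range (a := 30312) (len := 18) h1684 sl_1684
  have h1686 : ∀ u < 30348, (fun u => chkSlp tab slp u) u = true := ext_range (a := 30330) (len := 18) h1685 sl_1685
  have h1687 : ∀ u < 30366, (fun u => chkSlp tab slp u) u = true := ext_range (a := 30348) (len := 18) h1686 sl_1686
  have h1688 : ∀ u < 30384, (fun u => chkSlp tab slp u) u = true := ext_range (a := 30366) (len := 18) h1687 sl_1687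
  have h1689 : ∀ u < 30402, (fun u => chkSlp tab slp u) u = true := ext_range (a := 30384) (len := 18) h1688 sl_1688
  have h1690 : ∀ u < 30420, (fun u => chkSlp tab slp u) u = true := ext_range (a := 30402) (len := 18) h1689 sl_1689
  have h1691 : ∀ u < 30438, (fun u => chkSlp tab slp u) u = true := ext_range (a := 30420) (len := 18) h1690 sl_1690
  have h1692 : ∀ u < 30456, (fun u => chkSlp tab slp u) u = true := ext_range (a := 30438) (len := 18) h1691 sl_1691
  have h1693 : ∀ u < 30474, (fun u => chkSlp tab slp u) u = true := ext_range (a := 30456) (len := 18) h1692 sl_1692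
  have h1694 : ∀ u < 30492, (fun u => chkSlp tab slp u) u = true := ext_range (a := 30474) (len := 18) h1693 sl_1693
  have h1695 : ∀ u < 30510, (fun u => chkSlp tab slp u) u = true := ext_range (a := 30492) (len := 18) h1694 sl_1694
  have h1696 : ∀ u < 30528, (fun u => chkSlp tab slp u) u = true := ext_range (a := 30510) (len := 18) h1695 sl_1695
  have h1697 : ∀ u < 30546, (fun u => chkSlp tab slp u) u = true := ext_range (a := 30528) (len := 18) h1696 sl_1696
  have h1698 : ∀ u < 30564, (fun u => chkSlp tab slp u) u = true := ext_range (a := 30546) (len := 18) h1697 sl_1697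
  have h1699 : ∀ u < 30582, (fun u => chkSlp tab slp u) u = true := ext_range (a := 30564) (len := 18) h1698 sl_1698
  have h1700 : ∀ u < 30600, (fun u => chkSlp tab slp u) u = true := ext_range (a := 30582) (len := 18) h1699 sl_1699
  have h1701 : ∀ u < 30618, (fun u => chkSlp tab slp u) u = true := ext_range (a := 30600) (len := 18) h1700 sl_1700
  have h1702 : ∀ u < 30636, (fun u => chkSlp tab slp u) u = true := ext_range (a := 30618) (len := 18) h1701 sl_1701
  have h1703 : ∀ u < 30654, (fun u => chkSlp tab slp u) u = true := ext_range (a := 30636) (len := 18) h1702 sl_1702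
  have h1704 : ∀ u < 30672, (fun u => chkSlp tab slp u) u = true := ext_range (a := 30654) (len := 18) h1703 sl_1703
  have h1705 : ∀ u < 30690, (fun u => chkSlp tab slp u) u = true := ext_range (a := 30672) (len := 18) h1704 sl_1704
  have h1706 : ∀ u < 30708, (fun u => chkSlp tab slp u) u = true := ext_range (a := 30690) (len := 18) h1705 sl_1705
  have h1707 : ∀ u < 30726, (fun u => chkSlp tab slp u) u = true := ext_range (a := 30708) (len := 18) h1706 sl_1706
  have h1708 : ∀ u < 30744, (fun u => chkSlp tab slp u) u = true := ext_range (a := 30726) (len := 18) h1707 sl_1707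
  have h1709 : ∀ u < 30762, (fun u => chkSlp tab slp u) u = true := ext_range (a := 30744) (len := 18) h1708 sl_1708
  have h1710 : ∀ u < 30780, (fun u => chkSlp tab slp u) u = true := ext_range (a := 30762) (len := 18) h1709 sl_1709
  have h1711 : ∀ u < 30798, (fun u => chkSlp tab slp u) u = true := ext_range (a := 30780) (len := 18) h1710 sl_1710
  have h1712 : ∀ u < 30816, (fun u => chkSlp tab slp u) u = true := ext_range (a := 30798) (len := 18) h1711 sl_1711
  have h1713 : ∀ u < 30834, (fun u => chkSlp tab slp u) u = true := ext_range (a := 30816) (len := 18) h1712 sl_1712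
  have h1714 : ∀ u < 30852, (fun u => chkSlp tab slp u) u = true := ext_range (a := 30834) (len := 18) h1713 sl_1713
  have h1715 : ∀ u < 30870, (fun u => chkSlp tab slp u) u = true := ext_range (a := 30852) (len := 18) h1714 sl_1714
  have h1716 : ∀ u < 30888, (fun u => chkSlp tab slp u) u = true := ext_range (a := 30870) (len := 18) h1715 sl_1715
  have h1717 : ∀ u < 30906, (fun u => chkSlp tab slp u) u = true := ext_range (a := 30888) (len := 18) h1716 sl_1716
  have h1718 : ∀ u < 30924, (fun u => chkSlp tab slp u) u = true := ext_range (a := 30906) (len := 18) h1717 sl_1717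
  have h1719 : ∀ u < 30942, (fun u => chkSlp tab slp u) u = true := ext_range (a := 30924) (len := 18) h1718 sl_1718
  have h1720 : ∀ u < 30960, (fun u => chkSlp tab slp u) u = true := ext_range (a := 30942) (len := 18) h1719 sl_1719
  have h1721 : ∀ u < 30978, (fun u => chkSlp tab slp u) u = true := ext_range (a := 30960) (len := 18) h1720 sl_1720
  have h1722 : ∀ u < 30996, (fun u => chkSlp tab slp u) u = true := ext_range (a := 30978) (len := 18) h1721 sl_1721
  have h1723 : ∀ u < 31014, (fun u => chkSlp tab slp u) u = true := ext_range (a := 30996) (len := 18) h1722 sl_1722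
  have h1724 : ∀ u < 31032, (fun u => chkSlp tab slp u) u = true := ext_range (a := 31014) (len := 18) h1723 sl_1723
  have h1725 : ∀ u < 31050, (fun u => chkSlp tab slp u) u = true := ext_range (a := 31032) (len := 18) h1724 sl_1724
  have h1726 : ∀ u < 31068, (fun u => chkSlp tab slp u) u = true := ext_range (a := 31050) (len := 18) h1725 sl_1725
  have h1727 : ∀ u < 31086, (fun u => chkSlp tab slp u) u = true := ext_range (a := 31068) (len := 18) h1726 sl_1726
  have h1728 : ∀ u < 31104, (fun u => chkSlp tab slp u) u = true := ext_range (a := 31086) (len := 18) h1727 sl_1727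
  have h1729 : ∀ u < 31122, (fun u => chkSlp tab slp u) u = true := ext_range (a := 31104) (len := 18) h1728 sl_1728
  have h1730 : ∀ u < 31140, (fun u => chkSlp tab slp u) u = true := ext_range (a := 31122) (len := 18) h1729 sl_1729
  have h1731 : ∀ u < 31158, (fun u => chkSlp tab slp u) u = true := ext_range (a := 31140) (len := 18) h1730 sl_1730
  have h1732 : ∀ u < 31176, (fun u => chkSlp tab slp u) u = true := ext_range (a := 31158) (len := 18) h1731 sl_1731
  have h1733 : ∀ u < 31194, (fun u => chkSlp tab slp u) u = true := ext_range (a := 31176) (len := 18) h1732 sl_1732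
  have h1734 : ∀ u < 31212, (fun u => chkSlp tab slp u) u = true := ext_range (a := 31194) (len := 18) h1733 sl_1733
  have h1735 : ∀ u < 31230, (fun u => chkSlp tab slp u) u = true := ext_range (a := 31212) (len := 18) h1734 sl_1734
  have h1736 : ∀ u < 31248, (fun u => chkSlp tab slp u) u = true := ext_range (a := 31230) (len := 18) h1735 sl_1735
  have h1737 : ∀ u < 31266, (fun u => chkSlp tab slp u) u = true := ext_range (a := 31248) (len := 18) h1736 sl_1736
  have h1738 : ∀ u < 31284, (fun u => chkSlp tab slp u) u = true := ext_range (a := 31266) (len := 18) h1737 sl_1737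
  have h1739 : ∀ u < 31302, (fun u => chkSlp tab slp u) u = true := ext_range (a := 31284) (len := 18) h1738 sl_1738
  have h1740 : ∀ u < 31320, (fun u => chkSlp tab slp u) u = true := ext_range (a := 31302) (len := 18) h1739 sl_1739
  have h1741 : ∀ u < 31338, (fun u => chkSlp tab slp u) u = true := ext_range (a := 31320) (len := 18) h1740 sl_1740
  have h1742 : ∀ u < 31356, (fun u => chkSlp tab slp u) u = true := ext_range (a := 31338) (len := 18) h1741 sl_1741
  have h1743 : ∀ u < 31374, (fun u => chkSlp tab slp u) u = true := ext_range (a := 31356) (len := 18) h1742 sl_1742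
  have h1744 : ∀ u < 31392, (fun u => chkSlp tab slp u) u = true := ext_range (a := 31374) (len := 18) h1743 sl_1743
  have h1745 : ∀ u < 31410, (fun u => chkSlp tab slp u) u = true := ext_range (a := 31392) (len := 18) h1744 sl_1744
  have h1746 : ∀ u < 31428, (fun u => chkSlp tab slp u) u = true := ext_range (a := 31410) (len := 18) h1745 sl_1745
  have h1747 : ∀ u < 31446, (fun u => chkSlp tab slp u) u = true := ext_range (a := 31428) (len := 18) h1746 sl_1746
  have h1748 : ∀ u < 31464, (fun u => chkSlp tab slp u) u = true := ext_range (a := 31446) (len := 18) h1747 sl_1747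
  have h1749 : ∀ u < 31482, (fun u => chkSlp tab slp u) u = true := ext_range (a := 31464) (len := 18) h1748 sl_1748
  have h1750 : ∀ u < 31500, (fun u => chkSlp tab slp u) u = true := ext_range (a := 31482) (len := 18) h1749 sl_1749
  have h1751 : ∀ u < 31518, (fun u => chkSlp tab slp u) u = true := ext_range (a := 31500) (len := 18) h1750 sl_1750
  have h1752 : ∀ u < 31536, (fun u => chkSlp tab slp u) u = true := ext_range (a := 31518) (len := 18) h1751 sl_1751
  have h1753 : ∀ u < 31554, (fun u => chkSlp tab slp u) u = true := ext_range (a := 31536) (len := 18) h1752 sl_1752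
  have h1754 : ∀ u < 31572, (fun u => chkSlp tab slp u) u = true := ext_range (a := 31554) (len := 18) h1753 sl_1753
  have h1755 : ∀ u < 31590, (fun u => chkSlp tab slp u) u = true := ext_range (a := 31572) (len := 18) h1754 sl_1754
  have h1756 : ∀ u < 31608, (fun u => chkSlp tab slp u) u = true := ext_range (a := 31590) (len := 18) h1755 sl_1755
  have h1757 : ∀ u < 31626, (fun u => chkSlp tab slp u) u = true := ext_range (a := 31608) (len := 18) h1756 sl_1756
  have h1758 : ∀ u < 31644, (fun u => chkSlp tab slp u) u = true := ext_range (a := 31626) (len := 18) h1757 sl_1757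
  have h1759 : ∀ u < 31662, (fun u => chkSlp tab slp u) u = true := ext_range (a := 31644) (len := 18) h1758 sl_1758
  have h1760 : ∀ u < 31680, (fun u => chkSlp tab slp u) u = true := ext_range (a := 31662) (len := 18) h1759 sl_1759
  have h1761 : ∀ u < 31698, (fun u => chkSlp tab slp u) u = true := ext_range (a := 31680) (len := 18) h1760 sl_1760
  have h1762 : ∀ u < 31716, (fun u => chkSlp tab slp u) u = true := ext_range (a := 31698) (len := 18) h1761 sl_1761
  have h1763 : ∀ u < 31734, (fun u => chkSlp tab slp u) u = true := ext_range (a := 31716) (len := 18) h1762 sl_1762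
  have h1764 : ∀ u < 31752, (fun u => chkSlp tab slp u) u = true := ext_range (a := 31734) (len := 18) h1763 sl_1763
  have h1765 : ∀ u < 31770, (fun u => chkSlp tab slp u) u = true := ext_range (a := 31752) (len := 18) h1764 sl_1764
  have h1766 : ∀ u < 31788, (fun u => chkSlp tab slp u) u = true := ext_range (a := 31770) (len := 18) h1765 sl_1765
  have h1767 : ∀ u < 31806, (fun u => chkSlp tab slp u) u = true := ext_range (a := 31788) (len := 18) h1766 sl_1766
  have h1768 : ∀ u < 31824, (fun u => chkSlp tab slp u) u = true := ext_range (a := 31806) (len := 18) h1767 sl_1767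
  have h1769 : ∀ u < 31842, (fun u => chkSlp tab slp u) u = true := ext_range (a := 31824) (len := 18) h1768 sl_1768
  have h1770 : ∀ u < 31860, (fun u => chkSlp tab slp u) u = true := ext_range (a := 31842) (len := 18) h1769 sl_1769
  have h1771 : ∀ u < 31878, (fun u => chkSlp tab slp u) u = true := ext_range (a := 31860) (len := 18) h1770 sl_1770
  have h1772 : ∀ u < 31896, (fun u => chkSlp tab slp u) u = true := ext_range (a := 31878) (len := 18) h1771 sl_1771
  have h1773 : ∀ u < 31914, (fun u => chkSlp tab slp u) u = true := ext_range (a := 31896) (len := 18) h1772 sl_1772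
  have h1774 : ∀ u < 31932, (fun u => chkSlp tab slp u) u = true := ext_range (a := 31914) (len := 18) h1773 sl_1773
  have h1775 : ∀ u < 31950, (fun u => chkSlp tab slp u) u = true := ext_range (a := 31932) (len := 18) h1774 sl_1774
  have h1776 : ∀ u < 31968, (fun u => chkSlp tab slp u) u = true := ext_range (a := 31950) (len := 18) h1775 sl_1775
  have h1777 : ∀ u < 31986, (fun u => chkSlp tab slp u) u = true := ext_range (a := 31968) (len := 18) h1776 sl_1776
  have h1778 : ∀ u < 32004, (fun u => chkSlp tab slp u) u = true := ext_range (a := 31986) (len := 18) h1777 sl_1777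
  have h1779 : ∀ u < 32022, (fun u => chkSlp tab slp u) u = true := ext_range (a := 32004) (len := 18) h1778 sl_1778
  have h1780 : ∀ u < 32040, (fun u => chkSlp tab slp u) u = true := ext_range (a := 32022) (len := 18) h1779 sl_1779
  have h1781 : ∀ u < 32058, (fun u => chkSlp tab slp u) u = true := ext_range (a := 32040) (len := 18) h1780 sl_1780
  have h1782 : ∀ u < 32076, (fun u => chkSlp tab slp u) u = true := ext_range (a := 32058) (len := 18) h1781 sl_1781
  have h1783 : ∀ u < 32094, (fun u => chkSlp tab slp u) u = true := ext_range (a := 32076) (len := 18) h1782 sl_1782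
  have h1784 : ∀ u < 32112, (fun u => chkSlp tab slp u) u = true := ext_range (a := 32094) (len := 18) h1783 sl_1783
  have h1785 : ∀ u < 32130, (fun u => chkSlp tab slp u) u = true := ext_range (a := 32112) (len := 18) h1784 sl_1784
  have h1786 : ∀ u < 32148, (fun u => chkSlp tab slp u) u = true := ext_range (a := 32130) (len := 18) h1785 sl_1785
  have h1787 : ∀ u < 32166, (fun u => chkSlp tab slp u) u = true := ext_range (a := 32148) (len := 18) h1786 sl_1786
  have h1788 : ∀ u < 32184, (fun u => chkSlp tab slp u) u = true := ext_range (a := 32166) (len := 18) h1787 sl_1787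
  have h1789 : ∀ u < 32202, (fun u => chkSlp tab slp u) u = true := ext_range (a := 32184) (len := 18) h1788 sl_1788
  have h1790 : ∀ u < 32220, (fun u => chkSlp tab slp u) u = true := ext_range (a := 32202) (len := 18) h1789 sl_1789
  have h1791 : ∀ u < 32238, (fun u => chkSlp tab slp u) u = true := ext_range (a := 32220) (len := 18) h1790 sl_1790
  have h1792 : ∀ u < 32256, (fun u => chkSlp tab slp u) u = true := ext_range (a := 32238) (len := 18) h1791 sl_1791
  have h1793 : ∀ u < 32274, (fun u => chkSlp tab slp u) u = true := ext_range (a := 32256) (len := 18) h1792 sl_1792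
  have h1794 : ∀ u < 32292, (fun u => chkSlp tab slp u) u = true := ext_range (a := 32274) (len := 18) h1793 sl_1793
  have h1795 : ∀ u < 32310, (fun u => chkSlp tab slp u) u = true := ext_range (a := 32292) (len := 18) h1794 sl_1794
  have h1796 : ∀ u < 32328, (fun u => chkSlp tab slp u) u = true := ext_range (a := 32310) (len := 18) h1795 sl_1795
  have h1797 : ∀ u < 32346, (fun u => chkSlp tab slp u) u = true := ext_range (a := 32328) (len := 18) h1796 sl_1796
  have h1798 : ∀ u < 32364, (fun u => chkSlp tab slp u) u = true := ext_range (a := 32346) (len := 18) h1797 sl_1797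
  have h1799 : ∀ u < 32382, (fun u => chkSlp tab slp u) u = true := ext_range (a := 32364) (len := 18) h1798 sl_1798
  have h1800 : ∀ u < 32400, (fun u => chkSlp tab slp u) u = true := ext_range (a := 32382) (len := 18) h1799 sl_1799
  have h1801 : ∀ u < 32418, (fun u => chkSlp tab slp u) u = true := ext_range (a := 32400) (len := 18) h1800 sl_1800
  have h1802 : ∀ u < 32436, (fun u => chkSlp tab slp u) u = true := ext_range (a := 32418) (len := 18) h1801 sl_1801
  have h1803 : ∀ u < 32454, (fun u => chkSlp tab slp u) u = true := ext_range (a := 32436) (len := 18) h1802 sl_1802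
  have h1804 : ∀ u < 32472, (fun u => chkSlp tab slp u) u = true := ext_range (a := 32454) (len := 18) h1803 sl_1803
  have h1805 : ∀ u < 32490, (fun u => chkSlp tab slp u) u = true := ext_range (a := 32472) (len := 18) h1804 sl_1804
  have h1806 : ∀ u < 32508, (fun u => chkSlp tab slp u) u = true := ext_range (a := 32490) (len := 18) h1805 sl_1805
  have h1807 : ∀ u < 32526, (fun u => chkSlp tab slp u) u = true := ext_range (a := 32508) (len := 18) h1806 sl_1806
  have h1808 : ∀ u < 32544, (fun u => chkSlp tab slp u) u = true := ext_range (a := 32526) (len := 18) h1807 sl_1807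
  have h1809 : ∀ u < 32562, (fun u => chkSlp tab slp u) u = true := ext_range (a := 32544) (len := 18) h1808 sl_1808
  have h1810 : ∀ u < 32580, (fun u => chkSlp tab slp u) u = true := ext_range (a := 32562) (len := 18) h1809 sl_1809
  have h1811 : ∀ u < 32598, (fun u => chkSlp tab slp u) u = true := ext_range (a := 32580) (len := 18) h1810 sl_1810
  have h1812 : ∀ u < 32616, (fun u => chkSlp tab slp u) u = true := ext_range (a := 32598) (len := 18) h1811 sl_1811
  have h1813 : ∀ u < 32634, (fun u => chkSlp tab slp u) u = true := ext_range (a := 32616) (len := 18) h1812 sl_1812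
  have h1814 : ∀ u < 32652, (fun u => chkSlp tab slp u) u = true := ext_range (a := 32634) (len := 18) h1813 sl_1813
  have h1815 : ∀ u < 32670, (fun u => chkSlp tab slp u) u = true := ext_range (a := 32652) (len := 18) h1814 sl_1814
  have h1816 : ∀ u < 32688, (fun u => chkSlp tab slp u) u = true := ext_range (a := 32670) (len := 18) h1815 sl_1815
  have h1817 : ∀ u < 32706, (fun u => chkSlp tab slp u) u = true := ext_range (a := 32688) (len := 18) h1816 sl_1816
  have h1818 : ∀ u < 32724, (fun u => chkSlp tab slp u) u = true := ext_range (a := 32706) (len := 18) h1817 sl_1817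
  have h1819 : ∀ u < 32742, (fun u => chkSlp tab slp u) u = true := ext_range (a := 32724) (len := 18) h1818 sl_1818
  have h1820 : ∀ u < 32760, (fun u => chkSlp tab slp u) u = true := ext_range (a := 32742) (len := 18) h1819 sl_1819
  have h1821 : ∀ u < 32778, (fun u => chkSlp tab slp u) u = true := ext_range (a := 32760) (len := 18) h1820 sl_1820
  have h1822 : ∀ u < 32796, (fun u => chkSlp tab slp u) u = true := ext_range (a := 32778) (len := 18) h1821 sl_1821
  have h1823 : ∀ u < 32814, (fun u => chkSlp tab slp u) u = true := ext_range (a := 32796) (len := 18) h1822 sl_1822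
  have h1824 : ∀ u < 32832, (fun u => chkSlp tab slp u) u = true := ext_range (a := 32814) (len := 18) h1823 sl_1823
  have h1825 : ∀ u < 32850, (fun u => chkSlp tab slp u) u = true := ext_range (a := 32832) (len := 18) h1824 sl_1824
  have h1826 : ∀ u < 32868, (fun u => chkSlp tab slp u) u = true := ext_range (a := 32850) (len := 18) h1825 sl_1825
  have h1827 : ∀ u < 32886, (fun u => chkSlp tab slp u) u = true := ext_range (a := 32868) (len := 18) h1826 sl_1826
  have h1828 : ∀ u < 32904, (fun u => chkSlp tab slp u) u = true := ext_range (a := 32886) (len := 18) h1827 sl_1827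
  have h1829 : ∀ u < 32922, (fun u => chkSlp tab slp u) u = true := ext_range (a := 32904) (len := 18) h1828 sl_1828
  have h1830 : ∀ u < 32940, (fun u => chkSlp tab slp u) u = true := ext_range (a := 32922) (len := 18) h1829 sl_1829
  have h1831 : ∀ u < 32958, (fun u => chkSlp tab slp u) u = true := ext_range (a := 32940) (len := 18) h1830 sl_1830
  have h1832 : ∀ u < 32976, (fun u => chkSlp tab slp u) u = true := ext_range (a := 32958) (len := 18) h1831 sl_1831
  have h1833 : ∀ u < 32994, (fun u => chkSlp tab slp u) u = true := ext_range (a := 32976) (len := 18) h1832 sl_1832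
  have h1834 : ∀ u < 33012, (fun u => chkSlp tab slp u) u = true := ext_range (a := 32994) (len := 18) h1833 sl_1833
  have h1835 : ∀ u < 33030, (fun u => chkSlp tab slp u) u = true := ext_range (a := 33012) (len := 18) h1834 sl_1834
  have h1836 : ∀ u < 33048, (fun u => chkSlp tab slp u) u = true := ext_range (a := 33030) (len := 18) h1835 sl_1835
  have h1837 : ∀ u < 33066, (fun u => chkSlp tab slp u) u = true := ext_range (a := 33048) (len := 18) h1836 sl_1836
  have h1838 : ∀ u < 33084, (fun u => chkSlp tab slp u) u = true := ext_range (a := 33066) (len := 18) h1837 sl_1837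
  have h1839 : ∀ u < 33102, (fun u => chkSlp tab slp u) u = true := ext_range (a := 33084) (len := 18) h1838 sl_1838
  have h1840 : ∀ u < 33120, (fun u => chkSlp tab slp u) u = true := ext_range (a := 33102) (len := 18) h1839 sl_1839
  have h1841 : ∀ u < 33138, (fun u => chkSlp tab slp u) u = true := ext_range (a := 33120) (len := 18) h1840 sl_1840
  have h1842 : ∀ u < 33156, (fun u => chkSlp tab slp u) u = true := ext_range (a := 33138) (len := 18) h1841 sl_1841
  have h1843 : ∀ u < 33174, (fun u => chkSlp tab slp u) u = true := ext_range (a := 33156) (len := 18) h1842 sl_1842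
  have h1844 : ∀ u < 33192, (fun u => chkSlp tab slp u) u = true := ext_range (a := 33174) (len := 18) h1843 sl_1843
  have h1845 : ∀ u < 33210, (fun u => chkSlp tab slp u) u = true := ext_range (a := 33192) (len := 18) h1844 sl_1844
  have h1846 : ∀ u < 33228, (fun u => chkSlp tab slp u) u = true := ext_range (a := 33210) (len := 18) h1845 sl_1845
  have h1847 : ∀ u < 33246, (fun u => chkSlp tab slp u) u = true := ext_range (a := 33228) (len := 18) h1846 sl_1846
  have h1848 : ∀ u < 33264, (fun u => chkSlp tab slp u) u = true := ext_range (a := 33246) (len := 18) h1847 sl_1847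
  have h1849 : ∀ u < 33282, (fun u => chkSlp tab slp u) u = true := ext_range (a := 33264) (len := 18) h1848 sl_1848
  have h1850 : ∀ u < 33300, (fun u => chkSlp tab slp u) u = true := ext_range (a := 33282) (len := 18) h1849 sl_1849
  have h1851 : ∀ u < 33318, (fun u => chkSlp tab slp u) u = true := ext_range (a := 33300) (len := 18) h1850 sl_1850
  have h1852 : ∀ u < 33336, (fun u => chkSlp tab slp u) u = true := ext_range (a := 33318) (len := 18) h1851 sl_1851
  have h1853 : ∀ u < 33354, (fun u => chkSlp tab slp u) u = true := ext_range (a := 33336) (len := 18) h1852 sl_1852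
  have h1854 : ∀ u < 33372, (fun u => chkSlp tab slp u) u = true := ext_range (a := 33354) (len := 18) h1853 sl_1853
  have h1855 : ∀ u < 33390, (fun u => chkSlp tab slp u) u = true := ext_range (a := 33372) (len := 18) h1854 sl_1854
  have h1856 : ∀ u < 33408, (fun u => chkSlp tab slp u) u = true := ext_range (a := 33390) (len := 18) h1855 sl_1855
  have h1857 : ∀ u < 33426, (fun u => chkSlp tab slp u) u = true := ext_range (a := 33408) (len := 18) h1856 sl_1856
  have h1858 : ∀ u < 33444, (fun u => chkSlp tab slp u) u = true := ext_range (a := 33426) (len := 18) h1857 sl_1857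
  have h1859 : ∀ u < 33462, (fun u => chkSlp tab slp u) u = true := ext_range (a := 33444) (len := 18) h1858 sl_1858
  have h1860 : ∀ u < 33480, (fun u => chkSlp tab slp u) u = true := ext_range (a := 33462) (len := 18) h1859 sl_1859
  have h1861 : ∀ u < 33498, (fun u => chkSlp tab slp u) u = true := ext_range (a := 33480) (len := 18) h1860 sl_1860
  have h1862 : ∀ u < 33516, (fun u => chkSlp tab slp u) u = true := ext_range (a := 33498) (len := 18) h1861 sl_1861
  have h1863 : ∀ u < 33534, (fun u => chkSlp tab slp u) u = true := ext_range (a := 33516) (len := 18) h1862 sl_1862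
  have h1864 : ∀ u < 33552, (fun u => chkSlp tab slp u) u = true := ext_range (a := 33534) (len := 18) h1863 sl_1863
  have h1865 : ∀ u < 33570, (fun u => chkSlp tab slp u) u = true := ext_range (a := 33552) (len := 18) h1864 sl_1864
  have h1866 : ∀ u < 33588, (fun u => chkSlp tab slp u) u = true := ext_range (a := 33570) (len := 18) h1865 sl_1865
  have h1867 : ∀ u < 33606, (fun u => chkSlp tab slp u) u = true := ext_range (a := 33588) (len := 18) h1866 sl_1866
  have h1868 : ∀ u < 33624, (fun u => chkSlp tab slp u) u = true := ext_range (a := 33606) (len := 18) h1867 sl_1867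
  have h1869 : ∀ u < 33642, (fun u => chkSlp tab slp u) u = true := ext_range (a := 33624) (len := 18) h1868 sl_1868
  have h1870 : ∀ u < 33660, (fun u => chkSlp tab slp u) u = true := ext_range (a := 33642) (len := 18) h1869 sl_1869
  have h1871 : ∀ u < 33678, (fun u => chkSlp tab slp u) u = true := ext_range (a := 33660) (len := 18) h1870 sl_1870
  have h1872 : ∀ u < 33696, (fun u => chkSlp tab slp u) u = true := ext_range (a := 33678) (len := 18) h1871 sl_1871
  have h1873 : ∀ u < 33714, (fun u => chkSlp tab slp u) u = true := ext_range (a := 33696) (len := 18) h1872 sl_1872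
  have h1874 : ∀ u < 33732, (fun u => chkSlp tab slp u) u = true := ext_range (a := 33714) (len := 18) h1873 sl_1873
  have h1875 : ∀ u < 33750, (fun u => chkSlp tab slp u) u = true := ext_range (a := 33732) (len := 18) h1874 sl_1874
  have h1876 : ∀ u < 33768, (fun u => chkSlp tab slp u) u = true := ext_range (a := 33750) (len := 18) h1875 sl_1875
  have h1877 : ∀ u < 33786, (fun u => chkSlp tab slp u) u = true := ext_range (a := 33768) (len := 18) h1876 sl_1876
  have h1878 : ∀ u < 33804, (fun u => chkSlp tab slp u) u = true := ext_range (a := 33786) (len := 18) h1877 sl_1877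
  have h1879 : ∀ u < 33822, (fun u => chkSlp tab slp u) u = true := ext_range (a := 33804) (len := 18) h1878 sl_1878
  have h1880 : ∀ u < 33840, (fun u => chkSlp tab slp u) u = true := ext_range (a := 33822) (len := 18) h1879 sl_1879
  have h1881 : ∀ u < 33858, (fun u => chkSlp tab slp u) u = true := ext_range (a := 33840) (len := 18) h1880 sl_1880
  have h1882 : ∀ u < 33876, (fun u => chkSlp tab slp u) u = true := ext_range (a := 33858) (len := 18) h1881 sl_1881
  have h1883 : ∀ u < 33894, (fun u => chkSlp tab slp u) u = true := ext_range (a := 33876) (len := 18) h1882 sl_1882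
  have h1884 : ∀ u < 33912, (fun u => chkSlp tab slp u) u = true := ext_range (a := 33894) (len := 18) h1883 sl_1883
  have h1885 : ∀ u < 33930, (fun u => chkSlp tab slp u) u = true := ext_range (a := 33912) (len := 18) h1884 sl_1884
  have h1886 : ∀ u < 33948, (fun u => chkSlp tab slp u) u = true := ext_range (a := 33930) (len := 18) h1885 sl_1885
  have h1887 : ∀ u < 33966, (fun u => chkSlp tab slp u) u = true := ext_range (a := 33948) (len := 18) h1886 sl_1886
  have h1888 : ∀ u < 33984, (fun u => chkSlp tab slp u) u = true := ext_range (a := 33966) (len := 18) h1887 sl_1887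
  have h1889 : ∀ u < 34002, (fun u => chkSlp tab slp u) u = true := ext_range (a := 33984) (len := 18) h1888 sl_1888
  have h1890 : ∀ u < 34020, (fun u => chkSlp tab slp u) u = true := ext_range (a := 34002) (len := 18) h1889 sl_1889
  have h1891 : ∀ u < 34038, (fun u => chkSlp tab slp u) u = true := ext_range (a := 34020) (len := 18) h1890 sl_1890
  have h1892 : ∀ u < 34056, (fun u => chkSlp tab slp u) u = true := ext_range (a := 34038) (len := 18) h1891 sl_1891
  have h1893 : ∀ u < 34074, (fun u => chkSlp tab slp u) u = true := ext_range (a := 34056) (len := 18) h1892 sl_1892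
  have h1894 : ∀ u < 34092, (fun u => chkSlp tab slp u) u = true := ext_range (a := 34074) (len := 18) h1893 sl_1893
  have h1895 : ∀ u < 34110, (fun u => chkSlp tab slp u) u = true := ext_range (a := 34092) (len := 18) h1894 sl_1894
  have h1896 : ∀ u < 34128, (fun u => chkSlp tab slp u) u = true := ext_range (a := 34110) (len := 18) h1895 sl_1895
  have h1897 : ∀ u < 34146, (fun u => chkSlp tab slp u) u = true := ext_range (a := 34128) (len := 18) h1896 sl_1896
  have h1898 : ∀ u < 34164, (fun u => chkSlp tab slp u) u = true := ext_range (a := 34146) (len := 18) h1897 sl_1897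
  have h1899 : ∀ u < 34182, (fun u => chkSlp tab slp u) u = true := ext_range (a := 34164) (len := 18) h1898 sl_1898
  have h1900 : ∀ u < 34200, (fun u => chkSlp tab slp u) u = true := ext_range (a := 34182) (len := 18) h1899 sl_1899
  have h1901 : ∀ u < 34218, (fun u => chkSlp tab slp u) u = true := ext_range (a := 34200) (len := 18) h1900 sl_1900
  have h1902 : ∀ u < 34236, (fun u => chkSlp tab slp u) u = true := ext_range (a := 34218) (len := 18) h1901 sl_1901
  have h1903 : ∀ u < 34254, (fun u => chkSlp tab slp u) u = true := ext_range (a := 34236) (len := 18) h1902 sl_1902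
  have h1904 : ∀ u < 34272, (fun u => chkSlp tab slp u) u = true := ext_range (a := 34254) (len := 18) h1903 sl_1903
  have h1905 : ∀ u < 34290, (fun u => chkSlp tab slp u) u = true := ext_range (a := 34272) (len := 18) h1904 sl_1904
  have h1906 : ∀ u < 34308, (fun u => chkSlp tab slp u) u = true := ext_range (a := 34290) (len := 18) h1905 sl_1905
  have h1907 : ∀ u < 34326, (fun u => chkSlp tab slp u) u = true := ext_range (a := 34308) (len := 18) h1906 sl_1906
  have h1908 : ∀ u < 34344, (fun u => chkSlp tab slp u) u = true := ext_range (a := 34326) (len := 18) h1907 sl_1907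
  have h1909 : ∀ u < 34362, (fun u => chkSlp tab slp u) u = true := ext_range (a := 34344) (len := 18) h1908 sl_1908
  have h1910 : ∀ u < 34380, (fun u => chkSlp tab slp u) u = true := ext_range (a := 34362) (len := 18) h1909 sl_1909
  have h1911 : ∀ u < 34398, (fun u => chkSlp tab slp u) u = true := ext_range (a := 34380) (len := 18) h1910 sl_1910
  have h1912 : ∀ u < 34416, (fun u => chkSlp tab slp u) u = true := ext_range (a := 34398) (len := 18) h1911 sl_1911
  have h1913 : ∀ u < 34434, (fun u => chkSlp tab slp u) u = true := ext_range (a := 34416) (len := 18) h1912 sl_1912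
  have h1914 : ∀ u < 34452, (fun u => chkSlp tab slp u) u = true := ext_range (a := 34434) (len := 18) h1913 sl_1913
  have h1915 : ∀ u < 34470, (fun u => chkSlp tab slp u) u = true := ext_range (a := 34452) (len := 18) h1914 sl_1914
  have h1916 : ∀ u < 34488, (fun u => chkSlp tab slp u) u = true := ext_range (a := 34470) (len := 18) h1915 sl_1915
  have h1917 : ∀ u < 34506, (fun u => chkSlp tab slp u) u = true := ext_range (a := 34488) (len := 18) h1916 sl_1916
  have h1918 : ∀ u < 34524, (fun u => chkSlp tab slp u) u = true := ext_range (a := 34506) (len := 18) h1917 sl_1917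
  have h1919 : ∀ u < 34542, (fun u => chkSlp tab slp u) u = true := ext_range (a := 34524) (len := 18) h1918 sl_1918
  have h1920 : ∀ u < 34560, (fun u => chkSlp tab slp u) u = true := ext_range (a := 34542) (len := 18) h1919 sl_1919
  have h1921 : ∀ u < 34578, (fun u => chkSlp tab slp u) u = true := ext_range (a := 34560) (len := 18) h1920 sl_1920
  have h1922 : ∀ u < 34596, (fun u => chkSlp tab slp u) u = true := ext_range (a := 34578) (len := 18) h1921 sl_1921
  have h1923 : ∀ u < 34614, (fun u => chkSlp tab slp u) u = true := ext_range (a := 34596) (len := 18) h1922 sl_1922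
  have h1924 : ∀ u < 34632, (fun u => chkSlp tab slp u) u = true := ext_range (a := 34614) (len := 18) h1923 sl_1923
  have h1925 : ∀ u < 34650, (fun u => chkSlp tab slp u) u = true := ext_range (a := 34632) (len := 18) h1924 sl_1924
  have h1926 : ∀ u < 34668, (fun u => chkSlp tab slp u) u = true := ext_range (a := 34650) (len := 18) h1925 sl_1925
  have h1927 : ∀ u < 34686, (fun u => chkSlp tab slp u) u = true := ext_range (a := 34668) (len := 18) h1926 sl_1926
  have h1928 : ∀ u < 34704, (fun u => chkSlp tab slp u) u = true := ext_range (a := 34686) (len := 18) h1927 sl_1927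
  have h1929 : ∀ u < 34722, (fun u => chkSlp tab slp u) u = true := ext_range (a := 34704) (len := 18) h1928 sl_1928
  have h1930 : ∀ u < 34740, (fun u => chkSlp tab slp u) u = true := ext_range (a := 34722) (len := 18) h1929 sl_1929
  have h1931 : ∀ u < 34758, (fun u => chkSlp tab slp u) u = true := ext_range (a := 34740) (len := 18) h1930 sl_1930
  have h1932 : ∀ u < 34776, (fun u => chkSlp tab slp u) u = true := ext_range (a := 34758) (len := 18) h1931 sl_1931
  have h1933 : ∀ u < 34794, (fun u => chkSlp tab slp u) u = true := ext_range (a := 34776) (len := 18) h1932 sl_1932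
  have h1934 : ∀ u < 34812, (fun u => chkSlp tab slp u) u = true := ext_range (a := 34794) (len := 18) h1933 sl_1933
  have h1935 : ∀ u < 34830, (fun u => chkSlp tab slp u) u = true := ext_range (a := 34812) (len := 18) h1934 sl_1934
  have h1936 : ∀ u < 34848, (fun u => chkSlp tab slp u) u = true := ext_range (a := 34830) (len := 18) h1935 sl_1935
  have h1937 : ∀ u < 34866, (fun u => chkSlp tab slp u) u = true := ext_range (a := 34848) (len := 18) h1936 sl_1936
  have h1938 : ∀ u < 34884, (fun u => chkSlp tab slp u) u = true := ext_range (a := 34866) (len := 18) h1937 sl_1937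
  have h1939 : ∀ u < 34902, (fun u => chkSlp tab slp u) u = true := ext_range (a := 34884) (len := 18) h1938 sl_1938
  have h1940 : ∀ u < 34920, (fun u => chkSlp tab slp u) u = true := ext_range (a := 34902) (len := 18) h1939 sl_1939
  have h1941 : ∀ u < 34938, (fun u => chkSlp tab slp u) u = true := ext_range (a := 34920) (len := 18) h1940 sl_1940
  have h1942 : ∀ u < 34956, (fun u => chkSlp tab slp u) u = true := ext_range (a := 34938) (len := 18) h1941 sl_1941
  have h1943 : ∀ u < 34974, (fun u => chkSlp tab slp u) u = true := ext_range (a := 34956) (len := 18) h1942 sl_1942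
  have h1944 : ∀ u < 34992, (fun u => chkSlp tab slp u) u = true := ext_range (a := 34974) (len := 18) h1943 sl_1943
  have h1945 : ∀ u < 35010, (fun u => chkSlp tab slp u) u = true := ext_range (a := 34992) (len := 18) h1944 sl_1944
  have h1946 : ∀ u < 35028, (fun u => chkSlp tab slp u) u = true := ext_range (a := 35010) (len := 18) h1945 sl_1945
  have h1947 : ∀ u < 35046, (fun u => chkSlp tab slp u) u = true := ext_range (a := 35028) (len := 18) h1946 sl_1946
  have h1948 : ∀ u < 35064, (fun u => chkSlp tab slp u) u = true := ext_range (a := 35046) (len := 18) h1947 sl_1947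
  have h1949 : ∀ u < 35082, (fun u => chkSlp tab slp u) u = true := ext_range (a := 35064) (len := 18) h1948 sl_1948
  have h1950 : ∀ u < 35100, (fun u => chkSlp tab slp u) u = true := ext_range (a := 35082) (len := 18) h1949 sl_1949
  have h1951 : ∀ u < 35118, (fun u => chkSlp tab slp u) u = true := ext_range (a := 35100) (len := 18) h1950 sl_1950
  have h1952 : ∀ u < 35136, (fun u => chkSlp tab slp u) u = true := ext_range (a := 35118) (len := 18) h1951 sl_1951
  have h1953 : ∀ u < 35154, (fun u => chkSlp tab slp u) u = true := ext_range (a := 35136) (len := 18) h1952 sl_1952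
  have h1954 : ∀ u < 35172, (fun u => chkSlp tab slp u) u = true := ext_range (a := 35154) (len := 18) h1953 sl_1953
  have h1955 : ∀ u < 35190, (fun u => chkSlp tab slp u) u = true := ext_range (a := 35172) (len := 18) h1954 sl_1954
  have h1956 : ∀ u < 35208, (fun u => chkSlp tab slp u) u = true := ext_range (a := 35190) (len := 18) h1955 sl_1955
  have h1957 : ∀ u < 35226, (fun u => chkSlp tab slp u) u = true := ext_range (a := 35208) (len := 18) h1956 sl_1956
  have h1958 : ∀ u < 35244, (fun u => chkSlp tab slp u) u = true := ext_range (a := 35226) (len := 18) h1957 sl_1957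
  have h1959 : ∀ u < 35262, (fun u => chkSlp tab slp u) u = true := ext_range (a := 35244) (len := 18) h1958 sl_1958
  have h1960 : ∀ u < 35280, (fun u => chkSlp tab slp u) u = true := ext_range (a := 35262) (len := 18) h1959 sl_1959
  have h1961 : ∀ u < 35298, (fun u => chkSlp tab slp u) u = true := ext_range (a := 35280) (len := 18) h1960 sl_1960
  have h1962 : ∀ u < 35316, (fun u => chkSlp tab slp u) u = true := ext_range (a := 35298) (len := 18) h1961 sl_1961
  have h1963 : ∀ u < 35334, (fun u => chkSlp tab slp u) u = true := ext_range (a := 35316) (len := 18) h1962 sl_1962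
  have h1964 : ∀ u < 35352, (fun u => chkSlp tab slp u) u = true := ext_range (a := 35334) (len := 18) h1963 sl_1963
  have h1965 : ∀ u < 35370, (fun u => chkSlp tab slp u) u = true := ext_range (a := 35352) (len := 18) h1964 sl_1964
  have h1966 : ∀ u < 35388, (fun u => chkSlp tab slp u) u = true := ext_range (a := 35370) (len := 18) h1965 sl_1965
  have h1967 : ∀ u < 35406, (fun u => chkSlp tab slp u) u = true := ext_range (a := 35388) (len := 18) h1966 sl_1966
  have h1968 : ∀ u < 35424, (fun u => chkSlp tab slp u) u = true := ext_range (a := 35406) (len := 18) h1967 sl_1967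
  have h1969 : ∀ u < 35442, (fun u => chkSlp tab slp u) u = true := ext_range (a := 35424) (len := 18) h1968 sl_1968
  have h1970 : ∀ u < 35460, (fun u => chkSlp tab slp u) u = true := ext_range (a := 35442) (len := 18) h1969 sl_1969
  have h1971 : ∀ u < 35478, (fun u => chkSlp tab slp u) u = true := ext_range (a := 35460) (len := 18) h1970 sl_1970
  have h1972 : ∀ u < 35496, (fun u => chkSlp tab slp u) u = true := ext_range (a := 35478) (len := 18) h1971 sl_1971
  have h1973 : ∀ u < 35514, (fun u => chkSlp tab slp u) u = true := ext_range (a := 35496) (len := 18) h1972 sl_1972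
  have h1974 : ∀ u < 35532, (fun u => chkSlp tab slp u) u = true := ext_range (a := 35514) (len := 18) h1973 sl_1973
  have h1975 : ∀ u < 35550, (fun u => chkSlp tab slp u) u = true := ext_range (a := 35532) (len := 18) h1974 sl_1974
  have h1976 : ∀ u < 35568, (fun u => chkSlp tab slp u) u = true := ext_range (a := 35550) (len := 18) h1975 sl_1975
  have h1977 : ∀ u < 35586, (fun u => chkSlp tab slp u) u = true := ext_range (a := 35568) (len := 18) h1976 sl_1976
  have h1978 : ∀ u < 35604, (fun u => chkSlp tab slp u) u = true := ext_range (a := 35586) (len := 18) h1977 sl_1977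
  have h1979 : ∀ u < 35622, (fun u => chkSlp tab slp u) u = true := ext_range (a := 35604) (len := 18) h1978 sl_1978
  have h1980 : ∀ u < 35640, (fun u => chkSlp tab slp u) u = true := ext_range (a := 35622) (len := 18) h1979 sl_1979
  have h1981 : ∀ u < 35658, (fun u => chkSlp tab slp u) u = true := ext_range (a := 35640) (len := 18) h1980 sl_1980
  have h1982 : ∀ u < 35676, (fun u => chkSlp tab slp u) u = true := ext_range (a := 35658) (len := 18) h1981 sl_1981
  have h1983 : ∀ u < 35694, (fun u => chkSlp tab slp u) u = true := ext_range (a := 35676) (len := 18) h1982 sl_1982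
  have h1984 : ∀ u < 35712, (fun u => chkSlp tab slp u) u = true := ext_range (a := 35694) (len := 18) h1983 sl_1983
  have h1985 : ∀ u < 35730, (fun u => chkSlp tab slp u) u = true := ext_range (a := 35712) (len := 18) h1984 sl_1984
  have h1986 : ∀ u < 35748, (fun u => chkSlp tab slp u) u = true := ext_range (a := 35730) (len := 18) h1985 sl_1985
  have h1987 : ∀ u < 35766, (fun u => chkSlp tab slp u) u = true := ext_range (a := 35748) (len := 18) h1986 sl_1986
  have h1988 : ∀ u < 35784, (fun u => chkSlp tab slp u) u = true := ext_range (a := 35766) (len := 18) h1987 sl_1987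
  have h1989 : ∀ u < 35802, (fun u => chkSlp tab slp u) u = true := ext_range (a := 35784) (len := 18) h1988 sl_1988
  have h1990 : ∀ u < 35820, (fun u => chkSlp tab slp u) u = true := ext_range (a := 35802) (len := 18) h1989 sl_1989
  have h1991 : ∀ u < 35838, (fun u => chkSlp tab slp u) u = true := ext_range (a := 35820) (len := 18) h1990 sl_1990
  have h1992 : ∀ u < 35856, (fun u => chkSlp tab slp u) u = true := ext_range (a := 35838) (len := 18) h1991 sl_1991
  have h1993 : ∀ u < 35874, (fun u => chkSlp tab slp u) u = true := ext_range (a := 35856) (len := 18) h1992 sl_1992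
  have h1994 : ∀ u < 35892, (fun u => chkSlp tab slp u) u = true := ext_range (a := 35874) (len := 18) h1993 sl_1993
  have h1995 : ∀ u < 35910, (fun u => chkSlp tab slp u) u = true := ext_range (a := 35892) (len := 18) h1994 sl_1994
  have h1996 : ∀ u < 35928, (fun u => chkSlp tab slp u) u = true := ext_range (a := 35910) (len := 18) h1995 sl_1995
  have h1997 : ∀ u < 35946, (fun u => chkSlp tab slp u) u = true := ext_range (a := 35928) (len := 18) h1996 sl_1996
  have h1998 : ∀ u < 35964, (fun u => chkSlp tab slp u) u = true := ext_range (a := 35946) (len := 18) h1997 sl_1997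
  have h1999 : ∀ u < 35982, (fun u => chkSlp tab slp u) u = true := ext_range (a := 35964) (len := 18) h1998 sl_1998
  have h2000 : ∀ u < 36000, (fun u => chkSlp tab slp u) u = true := ext_range (a := 35982) (len := 18) h1999 sl_1999
  have h2001 : ∀ u < 36018, (fun u => chkSlp tab slp u) u = true := ext_range (a := 36000) (len := 18) h2000 sl_2000
  have h2002 : ∀ u < 36036, (fun u => chkSlp tab slp u) u = true := ext_range (a := 36018) (len := 18) h2001 sl_2001
  have h2003 : ∀ u < 36054, (fun u => chkSlp tab slp u) u = true := ext_range (a := 36036) (len := 18) h2002 sl_2002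
  have h2004 : ∀ u < 36072, (fun u => chkSlp tab slp u) u = true := ext_range (a := 36054) (len := 18) h2003 sl_2003
  have h2005 : ∀ u < 36090, (fun u => chkSlp tab slp u) u = true := ext_range (a := 36072) (len := 18) h2004 sl_2004
  have h2006 : ∀ u < 36108, (fun u => chkSlp tab slp u) u = true := ext_range (a := 36090) (len := 18) h2005 sl_2005
  have h2007 : ∀ u < 36126, (fun u => chkSlp tab slp u) u = true := ext_range (a := 36108) (len := 18) h2006 sl_2006
  have h2008 : ∀ u < 36144, (fun u => chkSlp tab slp u) u = true := ext_range (a := 36126) (len := 18) h2007 sl_2007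
  have h2009 : ∀ u < 36162, (fun u => chkSlp tab slp u) u = true := ext_range (a := 36144) (len := 18) h2008 sl_2008
  have h2010 : ∀ u < 36180, (fun u => chkSlp tab slp u) u = true := ext_range (a := 36162) (len := 18) h2009 sl_2009
  have h2011 : ∀ u < 36198, (fun u => chkSlp tab slp u) u = true := ext_range (a := 36180) (len := 18) h2010 sl_2010
  have h2012 : ∀ u < 36216, (fun u => chkSlp tab slp u) u = true := ext_range (a := 36198) (len := 18) h2011 sl_2011
  have h2013 : ∀ u < 36234, (fun u => chkSlp tab slp u) u = true := ext_range (a := 36216) (len := 18) h2012 sl_2012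
  have h2014 : ∀ u < 36252, (fun u => chkSlp tab slp u) u = true := ext_range (a := 36234) (len := 18) h2013 sl_2013
  have h2015 : ∀ u < 36270, (fun u => chkSlp tab slp u) u = true := ext_range (a := 36252) (len := 18) h2014 sl_2014
  have h2016 : ∀ u < 36288, (fun u => chkSlp tab slp u) u = true := ext_range (a := 36270) (len := 18) h2015 sl_2015
  have h2017 : ∀ u < 36306, (fun u => chkSlp tab slp u) u = true := ext_range (a := 36288) (len := 18) h2016 sl_2016
  have h2018 : ∀ u < 36324, (fun u => chkSlp tab slp u) u = true := ext_range (a := 36306) (len := 18) h2017 sl_2017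
  have h2019 : ∀ u < 36342, (fun u => chkSlp tab slp u) u = true := ext_range (a := 36324) (len := 18) h2018 sl_2018
  have h2020 : ∀ u < 36360, (fun u => chkSlp tab slp u) u = true := ext_range (a := 36342) (len := 18) h2019 sl_2019
  have h2021 : ∀ u < 36378, (fun u => chkSlp tab slp u) u = true := ext_range (a := 36360) (len := 18) h2020 sl_2020
  have h2022 : ∀ u < 36396, (fun u => chkSlp tab slp u) u = true := ext_range (a := 36378) (len := 18) h2021 sl_2021
  have h2023 : ∀ u < 36414, (fun u => chkSlp tab slp u) u = true := ext_range (a := 36396) (len := 18) h2022 sl_2022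
  have h2024 : ∀ u < 36432, (fun u => chkSlp tab slp u) u = true := ext_range (a := 36414) (len := 18) h2023 sl_2023
  have h2025 : ∀ u < 36450, (fun u => chkSlp tab slp u) u = true := ext_range (a := 36432) (len := 18) h2024 sl_2024
  have h2026 : ∀ u < 36468, (fun u => chkSlp tab slp u) u = true := ext_range (a := 36450) (len := 18) h2025 sl_2025
  have h2027 : ∀ u < 36486, (fun u => chkSlp tab slp u) u = true := ext_range (a := 36468) (len := 18) h2026 sl_2026
  have h2028 : ∀ u < 36504, (fun u => chkSlp tab slp u) u = true := ext_range (a := 36486) (len := 18) h2027 sl_2027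
  have h2029 : ∀ u < 36522, (fun u => chkSlp tab slp u) u = true := ext_range (a := 36504) (len := 18) h2028 sl_2028
  have h2030 : ∀ u < 36540, (fun u => chkSlp tab slp u) u = true := ext_range (a := 36522) (len := 18) h2029 sl_2029
  have h2031 : ∀ u < 36558, (fun u => chkSlp tab slp u) u = true := ext_range (a := 36540) (len := 18) h2030 sl_2030
  have h2032 : ∀ u < 36576, (fun u => chkSlp tab slp u) u = true := ext_range (a := 36558) (len := 18) h2031 sl_2031
  have h2033 : ∀ u < 36594, (fun u => chkSlp tab slp u) u = true := ext_range (a := 36576) (len := 18) h2032 sl_2032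
  have h2034 : ∀ u < 36612, (fun u => chkSlp tab slp u) u = true := ext_range (a := 36594) (len := 18) h2033 sl_2033
  have h2035 : ∀ u < 36630, (fun u => chkSlp tab slp u) u = true := ext_range (a := 36612) (len := 18) h2034 sl_2034
  have h2036 : ∀ u < 36648, (fun u => chkSlp tab slp u) u = true := ext_range (a := 36630) (len := 18) h2035 sl_2035
  have h2037 : ∀ u < 36666, (fun u => chkSlp tab slp u) u = true := ext_range (a := 36648) (len := 18) h2036 sl_2036
  have h2038 : ∀ u < 36684, (fun u => chkSlp tab slp u) u = true := ext_range (a := 36666) (len := 18) h2037 sl_2037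
  have h2039 : ∀ u < 36702, (fun u => chkSlp tab slp u) u = true := ext_range (a := 36684) (len := 18) h2038 sl_2038
  have h2040 : ∀ u < 36720, (fun u => chkSlp tab slp u) u = true := ext_range (a := 36702) (len := 18) h2039 sl_2039
  have h2041 : ∀ u < 36738, (fun u => chkSlp tab slp u) u = true := ext_range (a := 36720) (len := 18) h2040 sl_2040
  have h2042 : ∀ u < 36756, (fun u => chkSlp tab slp u) u = true := ext_range (a := 36738) (len := 18) h2041 sl_2041
  have h2043 : ∀ u < 36774, (fun u => chkSlp tab slp u) u = true := ext_range (a := 36756) (len := 18) h2042 sl_2042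
  have h2044 : ∀ u < 36792, (fun u => chkSlp tab slp u) u = true := ext_range (a := 36774) (len := 18) h2043 sl_2043
  have h2045 : ∀ u < 36810, (fun u => chkSlp tab slp u) u = true := ext_range (a := 36792) (len := 18) h2044 sl_2044
  have h2046 : ∀ u < 36828, (fun u => chkSlp tab slp u) u = true := ext_range (a := 36810) (len := 18) h2045 sl_2045
  have h2047 : ∀ u < 36846, (fun u => chkSlp tab slp u) u = true := ext_range (a := 36828) (len := 18) h2046 sl_2046
  have h2048 : ∀ u < 36864, (fun u => chkSlp tab slp u) u = true := ext_range (a := 36846) (len := 18) h2047 sl_2047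
  have h2049 : ∀ u < 36882, (fun u => chkSlp tab slp u) u = true := ext_range (a := 36864) (len := 18) h2048 sl_2048
  have h2050 : ∀ u < 36900, (fun u => chkSlp tab slp u) u = true := ext_range (a := 36882) (len := 18) h2049 sl_2049
  have h2051 : ∀ u < 36918, (fun u => chkSlp tab slp u) u = true := ext_range (a := 36900) (len := 18) h2050 sl_2050
  have h2052 : ∀ u < 36936, (fun u => chkSlp tab slp u) u = true := ext_range (a := 36918) (len := 18) h2051 sl_2051
  have h2053 : ∀ u < 36954, (fun u => chkSlp tab slp u) u = true := ext_range (a := 36936) (len := 18) h2052 sl_2052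
  have h2054 : ∀ u < 36972, (fun u => chkSlp tab slp u) u = true := ext_range (a := 36954) (len := 18) h2053 sl_2053
  have h2055 : ∀ u < 36990, (fun u => chkSlp tab slp u) u = true := ext_range (a := 36972) (len := 18) h2054 sl_2054
  have h2056 : ∀ u < 37008, (fun u => chkSlp tab slp u) u = true := ext_range (a := 36990) (len := 18) h2055 sl_2055
  have h2057 : ∀ u < 37026, (fun u => chkSlp tab slp u) u = true := ext_range (a := 37008) (len := 18) h2056 sl_2056
  have h2058 : ∀ u < 37044, (fun u => chkSlp tab slp u) u = true := ext_range (a := 37026) (len := 18) h2057 sl_2057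
  have h2059 : ∀ u < 37062, (fun u => chkSlp tab slp u) u = true := ext_range (a := 37044) (len := 18) h2058 sl_2058
  have h2060 : ∀ u < 37080, (fun u => chkSlp tab slp u) u = true := ext_range (a := 37062) (len := 18) h2059 sl_2059
  have h2061 : ∀ u < 37098, (fun u => chkSlp tab slp u) u = true := ext_range (a := 37080) (len := 18) h2060 sl_2060
  have h2062 : ∀ u < 37116, (fun u => chkSlp tab slp u) u = true := ext_range (a := 37098) (len := 18) h2061 sl_2061
  have h2063 : ∀ u < 37134, (fun u => chkSlp tab slp u) u = true := ext_range (a := 37116) (len := 18) h2062 sl_2062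
  have h2064 : ∀ u < 37152, (fun u => chkSlp tab slp u) u = true := ext_range (a := 37134) (len := 18) h2063 sl_2063
  have h2065 : ∀ u < 37170, (fun u => chkSlp tab slp u) u = true := ext_range (a := 37152) (len := 18) h2064 sl_2064
  have h2066 : ∀ u < 37188, (fun u => chkSlp tab slp u) u = true := ext_range (a := 37170) (len := 18) h2065 sl_2065
  have h2067 : ∀ u < 37206, (fun u => chkSlp tab slp u) u = true := ext_range (a := 37188) (len := 18) h2066 sl_2066
  have h2068 : ∀ u < 37224, (fun u => chkSlp tab slp u) u = true := ext_range (a := 37206) (len := 18) h2067 sl_2067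
  have h2069 : ∀ u < 37242, (fun u => chkSlp tab slp u) u = true := ext_range (a := 37224) (len := 18) h2068 sl_2068
  have h2070 : ∀ u < 37260, (fun u => chkSlp tab slp u) u = true := ext_range (a := 37242) (len := 18) h2069 sl_2069
  have h2071 : ∀ u < 37278, (fun u => chkSlp tab slp u) u = true := ext_range (a := 37260) (len := 18) h2070 sl_2070
  have h2072 : ∀ u < 37296, (fun u => chkSlp tab slp u) u = true := ext_range (a := 37278) (len := 18) h2071 sl_2071
  have h2073 : ∀ u < 37314, (fun u => chkSlp tab slp u) u = true := ext_range (a := 37296) (len := 18) h2072 sl_2072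
  have h2074 : ∀ u < 37332, (fun u => chkSlp tab slp u) u = true := ext_range (a := 37314) (len := 18) h2073 sl_2073
  have h2075 : ∀ u < 37350, (fun u => chkSlp tab slp u) u = true := ext_range (a := 37332) (len := 18) h2074 sl_2074
  have h2076 : ∀ u < 37368, (fun u => chkSlp tab slp u) u = true := ext_range (a := 37350) (len := 18) h2075 sl_2075
  have h2077 : ∀ u < 37386, (fun u => chkSlp tab slp u) u = true := ext_range (a := 37368) (len := 18) h2076 sl_2076
  have h2078 : ∀ u < 37404, (fun u => chkSlp tab slp u) u = true := ext_range (a := 37386) (len := 18) h2077 sl_2077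
  have h2079 : ∀ u < 37422, (fun u => chkSlp tab slp u) u = true := ext_range (a := 37404) (len := 18) h2078 sl_2078
  have h2080 : ∀ u < 37440, (fun u => chkSlp tab slp u) u = true := ext_range (a := 37422) (len := 18) h2079 sl_2079
  have h2081 : ∀ u < 37458, (fun u => chkSlp tab slp u) u = true := ext_range (a := 37440) (len := 18) h2080 sl_2080
  have h2082 : ∀ u < 37476, (fun u => chkSlp tab slp u) u = true := ext_range (a := 37458) (len := 18) h2081 sl_2081
  have h2083 : ∀ u < 37494, (fun u => chkSlp tab slp u) u = true := ext_range (a := 37476) (len := 18) h2082 sl_2082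
  have h2084 : ∀ u < 37512, (fun u => chkSlp tab slp u) u = true := ext_range (a := 37494) (len := 18) h2083 sl_2083
  have h2085 : ∀ u < 37530, (fun u => chkSlp tab slp u) u = true := ext_range (a := 37512) (len := 18) h2084 sl_2084
  have h2086 : ∀ u < 37548, (fun u => chkSlp tab slp u) u = true := ext_range (a := 37530) (len := 18) h2085 sl_2085
  have h2087 : ∀ u < 37566, (fun u => chkSlp tab slp u) u = true := ext_range (a := 37548) (len := 18) h2086 sl_2086
  have h2088 : ∀ u < 37584, (fun u => chkSlp tab slp u) u = true := ext_range (a := 37566) (len := 18) h2087 sl_2087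
  have h2089 : ∀ u < 37602, (fun u => chkSlp tab slp u) u = true := ext_range (a := 37584) (len := 18) h2088 sl_2088
  have h2090 : ∀ u < 37620, (fun u => chkSlp tab slp u) u = true := ext_range (a := 37602) (len := 18) h2089 sl_2089
  have h2091 : ∀ u < 37638, (fun u => chkSlp tab slp u) u = true := ext_range (a := 37620) (len := 18) h2090 sl_2090
  have h2092 : ∀ u < 37656, (fun u => chkSlp tab slp u) u = true := ext_range (a := 37638) (len := 18) h2091 sl_2091
  have h2093 : ∀ u < 37674, (fun u => chkSlp tab slp u) u = true := ext_range (a := 37656) (len := 18) h2092 sl_2092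
  have h2094 : ∀ u < 37692, (fun u => chkSlp tab slp u) u = true := ext_range (a := 37674) (len := 18) h2093 sl_2093
  have h2095 : ∀ u < 37710, (fun u => chkSlp tab slp u) u = true := ext_range (a := 37692) (len := 18) h2094 sl_2094
  have h2096 : ∀ u < 37728, (fun u => chkSlp tab slp u) u = true := ext_range (a := 37710) (len := 18) h2095 sl_2095
  have h2097 : ∀ u < 37746, (fun u => chkSlp tab slp u) u = true := ext_range (a := 37728) (len := 18) h2096 sl_2096
  have h2098 : ∀ u < 37764, (fun u => chkSlp tab slp u) u = true := ext_range (a := 37746) (len := 18) h2097 sl_2097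
  have h2099 : ∀ u < 37782, (fun u => chkSlp tab slp u) u = true := ext_range (a := 37764) (len := 18) h2098 sl_2098
  have h2100 : ∀ u < 37800, (fun u => chkSlp tab slp u) u = true := ext_range (a := 37782) (len := 18) h2099 sl_2099
  have h2101 : ∀ u < 37818, (fun u => chkSlp tab slp u) u = true := ext_range (a := 37800) (len := 18) h2100 sl_2100
  have h2102 : ∀ u < 37836, (fun u => chkSlp tab slp u) u = true := ext_range (a := 37818) (len := 18) h2101 sl_2101
  have h2103 : ∀ u < 37854, (fun u => chkSlp tab slp u) u = true := ext_range (a := 37836) (len := 18) h2102 sl_2102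
  have h2104 : ∀ u < 37872, (fun u => chkSlp tab slp u) u = true := ext_range (a := 37854) (len := 18) h2103 sl_2103
  have h2105 : ∀ u < 37890, (fun u => chkSlp tab slp u) u = true := ext_range (a := 37872) (len := 18) h2104 sl_2104
  have h2106 : ∀ u < 37908, (fun u => chkSlp tab slp u) u = true := ext_range (a := 37890) (len := 18) h2105 sl_2105
  have h2107 : ∀ u < 37926, (fun u => chkSlp tab slp u) u = true := ext_range (a := 37908) (len := 18) h2106 sl_2106
  have h2108 : ∀ u < 37944, (fun u => chkSlp tab slp u) u = true := ext_range (a := 37926) (len := 18) h2107 sl_2107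
  have h2109 : ∀ u < 37962, (fun u => chkSlp tab slp u) u = true := ext_range (a := 37944) (len := 18) h2108 sl_2108
  have h2110 : ∀ u < 37980, (fun u => chkSlp tab slp u) u = true := ext_range (a := 37962) (len := 18) h2109 sl_2109
  have h2111 : ∀ u < 37998, (fun u => chkSlp tab slp u) u = true := ext_range (a := 37980) (len := 18) h2110 sl_2110
  have h2112 : ∀ u < 38016, (fun u => chkSlp tab slp u) u = true := ext_range (a := 37998) (len := 18) h2111 sl_2111
  have h2113 : ∀ u < 38034, (fun u => chkSlp tab slp u) u = true := ext_range (a := 38016) (len := 18) h2112 sl_2112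
  have h2114 : ∀ u < 38052, (fun u => chkSlp tab slp u) u = true := ext_range (a := 38034) (len := 18) h2113 sl_2113
  have h2115 : ∀ u < 38070, (fun u => chkSlp tab slp u) u = true := ext_range (a := 38052) (len := 18) h2114 sl_2114
  have h2116 : ∀ u < 38088, (fun u => chkSlp tab slp u) u = true := ext_range (a := 38070) (len := 18) h2115 sl_2115
  have h2117 : ∀ u < 38106, (fun u => chkSlp tab slp u) u = true := ext_range (a := 38088) (len := 18) h2116 sl_2116
  have h2118 : ∀ u < 38124, (fun u => chkSlp tab slp u) u = true := ext_range (a := 38106) (len := 18) h2117 sl_2117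
  have h2119 : ∀ u < 38142, (fun u => chkSlp tab slp u) u = true := ext_range (a := 38124) (len := 18) h2118 sl_2118
  have h2120 : ∀ u < 38160, (fun u => chkSlp tab slp u) u = true := ext_range (a := 38142) (len := 18) h2119 sl_2119
  have h2121 : ∀ u < 38178, (fun u => chkSlp tab slp u) u = true := ext_range (a := 38160) (len := 18) h2120 sl_2120
  have h2122 : ∀ u < 38196, (fun u => chkSlp tab slp u) u = true := ext_range (a := 38178) (len := 18) h2121 sl_2121
  have h2123 : ∀ u < 38214, (fun u => chkSlp tab slp u) u = true := ext_range (a := 38196) (len := 18) h2122 sl_2122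
  have h2124 : ∀ u < 38232, (fun u => chkSlp tab slp u) u = true := ext_range (a := 38214) (len := 18) h2123 sl_2123
  have h2125 : ∀ u < 38250, (fun u => chkSlp tab slp u) u = true := ext_range (a := 38232) (len := 18) h2124 sl_2124
  have h2126 : ∀ u < 38268, (fun u => chkSlp tab slp u) u = true := ext_range (a := 38250) (len := 18) h2125 sl_2125
  have h2127 : ∀ u < 38286, (fun u => chkSlp tab slp u) u = true := ext_range (a := 38268) (len := 18) h2126 sl_2126
  have h2128 : ∀ u < 38304, (fun u => chkSlp tab slp u) u = true := ext_range (a := 38286) (len := 18) h2127 sl_2127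
  have h2129 : ∀ u < 38322, (fun u => chkSlp tab slp u) u = true := ext_range (a := 38304) (len := 18) h2128 sl_2128
  have h2130 : ∀ u < 38340, (fun u => chkSlp tab slp u) u = true := ext_range (a := 38322) (len := 18) h2129 sl_2129
  have h2131 : ∀ u < 38358, (fun u => chkSlp tab slp u) u = true := ext_range (a := 38340) (len := 18) h2130 sl_2130
  have h2132 : ∀ u < 38376, (fun u => chkSlp tab slp u) u = true := ext_range (a := 38358) (len := 18) h2131 sl_2131
  have h2133 : ∀ u < 38394, (fun u => chkSlp tab slp u) u = true := ext_range (a := 38376) (len := 18) h2132 sl_2132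
  have h2134 : ∀ u < 38412, (fun u => chkSlp tab slp u) u = true := ext_range (a := 38394) (len := 18) h2133 sl_2133
  have h2135 : ∀ u < 38430, (fun u => chkSlp tab slp u) u = true := ext_range (a := 38412) (len := 18) h2134 sl_2134
  have h2136 : ∀ u < 38448, (fun u => chkSlp tab slp u) u = true := ext_range (a := 38430) (len := 18) h2135 sl_2135
  have h2137 : ∀ u < 38466, (fun u => chkSlp tab slp u) u = true := ext_range (a := 38448) (len := 18) h2136 sl_2136
  have h2138 : ∀ u < 38484, (fun u => chkSlp tab slp u) u = true := ext_range (a := 38466) (len := 18) h2137 sl_2137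
  have h2139 : ∀ u < 38502, (fun u => chkSlp tab slp u) u = true := ext_range (a := 38484) (len := 18) h2138 sl_2138
  have h2140 : ∀ u < 38520, (fun u => chkSlp tab slp u) u = true := ext_range (a := 38502) (len := 18) h2139 sl_2139
  have h2141 : ∀ u < 38538, (fun u => chkSlp tab slp u) u = true := ext_range (a := 38520) (len := 18) h2140 sl_2140
  have h2142 : ∀ u < 38556, (fun u => chkSlp tab slp u) u = true := ext_range (a := 38538) (len := 18) h2141 sl_2141
  have h2143 : ∀ u < 38574, (fun u => chkSlp tab slp u) u = true := ext_range (a := 38556) (len := 18) h2142 sl_2142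
  have h2144 : ∀ u < 38592, (fun u => chkSlp tab slp u) u = true := ext_range (a := 38574) (len := 18) h2143 sl_2143
  have h2145 : ∀ u < 38610, (fun u => chkSlp tab slp u) u = true := ext_range (a := 38592) (len := 18) h2144 sl_2144
  have h2146 : ∀ u < 38628, (fun u => chkSlp tab slp u) u = true := ext_range (a := 38610) (len := 18) h2145 sl_2145
  have h2147 : ∀ u < 38646, (fun u => chkSlp tab slp u) u = true := ext_range (a := 38628) (len := 18) h2146 sl_2146
  have h2148 : ∀ u < 38664, (fun u => chkSlp tab slp u) u = true := ext_range (a := 38646) (len := 18) h2147 sl_2147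
  have h2149 : ∀ u < 38682, (fun u => chkSlp tab slp u) u = true := ext_range (a := 38664) (len := 18) h2148 sl_2148
  have h2150 : ∀ u < 38700, (fun u => chkSlp tab slp u) u = true := ext_range (a := 38682) (len := 18) h2149 sl_2149
  have h2151 : ∀ u < 38718, (fun u => chkSlp tab slp u) u = true := ext_range (a := 38700) (len := 18) h2150 sl_2150
  have h2152 : ∀ u < 38736, (fun u => chkSlp tab slp u) u = true := ext_range (a := 38718) (len := 18) h2151 sl_2151
  have h2153 : ∀ u < 38754, (fun u => chkSlp tab slp u) u = true := ext_range (a := 38736) (len := 18) h2152 sl_2152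
  have h2154 : ∀ u < 38772, (fun u => chkSlp tab slp u) u = true := ext_range (a := 38754) (len := 18) h2153 sl_2153
  have h2155 : ∀ u < 38790, (fun u => chkSlp tab slp u) u = true := ext_range (a := 38772) (len := 18) h2154 sl_2154
  have h2156 : ∀ u < 38808, (fun u => chkSlp tab slp u) u = true := ext_range (a := 38790) (len := 18) h2155 sl_2155
  have h2157 : ∀ u < 38826, (fun u => chkSlp tab slp u) u = true := ext_range (a := 38808) (len := 18) h2156 sl_2156
  have h2158 : ∀ u < 38844, (fun u => chkSlp tab slp u) u = true := ext_range (a := 38826) (len := 18) h2157 sl_2157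
  have h2159 : ∀ u < 38862, (fun u => chkSlp tab slp u) u = true := ext_range (a := 38844) (len := 18) h2158 sl_2158
  have h2160 : ∀ u < 38880, (fun u => chkSlp tab slp u) u = true := ext_range (a := 38862) (len := 18) h2159 sl_2159
  have h2161 : ∀ u < 38898, (fun u => chkSlp tab slp u) u = true := ext_range (a := 38880) (len := 18) h2160 sl_2160
  have h2162 : ∀ u < 38916, (fun u => chkSlp tab slp u) u = true := ext_range (a := 38898) (len := 18) h2161 sl_2161
  have h2163 : ∀ u < 38934, (fun u => chkSlp tab slp u) u = true := ext_range (a := 38916) (len := 18) h2162 sl_2162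
  have h2164 : ∀ u < 38952, (fun u => chkSlp tab slp u) u = true := ext_range (a := 38934) (len := 18) h2163 sl_2163
  have h2165 : ∀ u < 38970, (fun u => chkSlp tab slp u) u = true := ext_range (a := 38952) (len := 18) h2164 sl_2164
  have h2166 : ∀ u < 38988, (fun u => chkSlp tab slp u) u = true := ext_range (a := 38970) (len := 18) h2165 sl_2165
  have h2167 : ∀ u < 39006, (fun u => chkSlp tab slp u) u = true := ext_range (a := 38988) (len := 18) h2166 sl_2166
  have h2168 : ∀ u < 39024, (fun u => chkSlp tab slp u) u = true := ext_range (a := 39006) (len := 18) h2167 sl_2167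
  have h2169 : ∀ u < 39042, (fun u => chkSlp tab slp u) u = true := ext_range (a := 39024) (len := 18) h2168 sl_2168
  have h2170 : ∀ u < 39060, (fun u => chkSlp tab slp u) u = true := ext_range (a := 39042) (len := 18) h2169 sl_2169
  have h2171 : ∀ u < 39078, (fun u => chkSlp tab slp u) u = true := ext_range (a := 39060) (len := 18) h2170 sl_2170
  have h2172 : ∀ u < 39096, (fun u => chkSlp tab slp u) u = true := ext_range (a := 39078) (len := 18) h2171 sl_2171
  have h2173 : ∀ u < 39114, (fun u => chkSlp tab slp u) u = true := ext_range (a := 39096) (len := 18) h2172 sl_2172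
  have h2174 : ∀ u < 39132, (fun u => chkSlp tab slp u) u = true := ext_range (a := 39114) (len := 18) h2173 sl_2173
  have h2175 : ∀ u < 39150, (fun u => chkSlp tab slp u) u = true := ext_range (a := 39132) (len := 18) h2174 sl_2174
  have h2176 : ∀ u < 39168, (fun u => chkSlp tab slp u) u = true := ext_range (a := 39150) (len := 18) h2175 sl_2175
  have h2177 : ∀ u < 39186, (fun u => chkSlp tab slp u) u = true := ext_range (a := 39168) (len := 18) h2176 sl_2176
  have h2178 : ∀ u < 39204, (fun u => chkSlp tab slp u) u = true := ext_range (a := 39186) (len := 18) h2177 sl_2177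
  have h2179 : ∀ u < 39222, (fun u => chkSlp tab slp u) u = true := ext_range (a := 39204) (len := 18) h2178 sl_2178
  have h2180 : ∀ u < 39240, (fun u => chkSlp tab slp u) u = true := ext_range (a := 39222) (len := 18) h2179 sl_2179
  have h2181 : ∀ u < 39258, (fun u => chkSlp tab slp u) u = true := ext_range (a := 39240) (len := 18) h2180 sl_2180
  have h2182 : ∀ u < 39276, (fun u => chkSlp tab slp u) u = true := ext_range (a := 39258) (len := 18) h2181 sl_2181
  have h2183 : ∀ u < 39294, (fun u => chkSlp tab slp u) u = true := ext_range (a := 39276) (len := 18) h2182 sl_2182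
  have h2184 : ∀ u < 39312, (fun u => chkSlp tab slp u) u = true := ext_range (a := 39294) (len := 18) h2183 sl_2183
  have h2185 : ∀ u < 39330, (fun u => chkSlp tab slp u) u = true := ext_range (a := 39312) (len := 18) h2184 sl_2184
  have h2186 : ∀ u < 39348, (fun u => chkSlp tab slp u) u = true := ext_range (a := 39330) (len := 18) h2185 sl_2185
  have h2187 : ∀ u < 39366, (fun u => chkSlp tab slp u) u = true := ext_range (a := 39348) (len := 18) h2186 sl_2186
  have h2188 : ∀ u < 39384, (fun u => chkSlp tab slp u) u = true := ext_range (a := 39366) (len := 18) h2187 sl_2187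
  have h2189 : ∀ u < 39402, (fun u => chkSlp tab slp u) u = true := ext_range (a := 39384) (len := 18) h2188 sl_2188
  have h2190 : ∀ u < 39420, (fun u => chkSlp tab slp u) u = true := ext_range (a := 39402) (len := 18) h2189 sl_2189
  have h2191 : ∀ u < 39438, (fun u => chkSlp tab slp u) u = true := ext_range (a := 39420) (len := 18) h2190 sl_2190
  have h2192 : ∀ u < 39456, (fun u => chkSlp tab slp u) u = true := ext_range (a := 39438) (len := 18) h2191 sl_2191
  have h2193 : ∀ u < 39474, (fun u => chkSlp tab slp u) u = true := ext_range (a := 39456) (len := 18) h2192 sl_2192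
  have h2194 : ∀ u < 39492, (fun u => chkSlp tab slp u) u = true := ext_range (a := 39474) (len := 18) h2193 sl_2193
  have h2195 : ∀ u < 39510, (fun u => chkSlp tab slp u) u = true := ext_range (a := 39492) (len := 18) h2194 sl_2194
  have h2196 : ∀ u < 39528, (fun u => chkSlp tab slp u) u = true := ext_range (a := 39510) (len := 18) h2195 sl_2195
  have h2197 : ∀ u < 39546, (fun u => chkSlp tab slp u) u = true := ext_range (a := 39528) (len := 18) h2196 sl_2196
  have h2198 : ∀ u < 39564, (fun u => chkSlp tab slp u) u = true := ext_range (a := 39546) (len := 18) h2197 sl_2197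
  have h2199 : ∀ u < 39582, (fun u => chkSlp tab slp u) u = true := ext_range (a := 39564) (len := 18) h2198 sl_2198
  have h2200 : ∀ u < 39600, (fun u => chkSlp tab slp u) u = true := ext_range (a := 39582) (len := 18) h2199 sl_2199
  have h2201 : ∀ u < 39618, (fun u => chkSlp tab slp u) u = true := ext_range (a := 39600) (len := 18) h2200 sl_2200
  have h2202 : ∀ u < 39636, (fun u => chkSlp tab slp u) u = true := ext_range (a := 39618) (len := 18) h2201 sl_2201
  have h2203 : ∀ u < 39654, (fun u => chkSlp tab slp u) u = true := ext_range (a := 39636) (len := 18) h2202 sl_2202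
  have h2204 : ∀ u < 39672, (fun u => chkSlp tab slp u) u = true := ext_range (a := 39654) (len := 18) h2203 sl_2203
  have h2205 : ∀ u < 39690, (fun u => chkSlp tab slp u) u = true := ext_range (a := 39672) (len := 18) h2204 sl_2204
  have h2206 : ∀ u < 39708, (fun u => chkSlp tab slp u) u = true := ext_range (a := 39690) (len := 18) h2205 sl_2205
  have h2207 : ∀ u < 39726, (fun u => chkSlp tab slp u) u = true := ext_range (a := 39708) (len := 18) h2206 sl_2206
  have h2208 : ∀ u < 39744, (fun u => chkSlp tab slp u) u = true := ext_range (a := 39726) (len := 18) h2207 sl_2207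
  have h2209 : ∀ u < 39762, (fun u => chkSlp tab slp u) u = true := ext_range (a := 39744) (len := 18) h2208 sl_2208
  have h2210 : ∀ u < 39780, (fun u => chkSlp tab slp u) u = true := ext_range (a := 39762) (len := 18) h2209 sl_2209
  have h2211 : ∀ u < 39798, (fun u => chkSlp tab slp u) u = true := ext_range (a := 39780) (len := 18) h2210 sl_2210
  have h2212 : ∀ u < 39816, (fun u => chkSlp tab slp u) u = true := ext_range (a := 39798) (len := 18) h2211 sl_2211
  have h2213 : ∀ u < 39834, (fun u => chkSlp tab slp u) u = true := ext_range (a := 39816) (len := 18) h2212 sl_2212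
  have h2214 : ∀ u < 39852, (fun u => chkSlp tab slp u) u = true := ext_range (a := 39834) (len := 18) h2213 sl_2213
  have h2215 : ∀ u < 39870, (fun u => chkSlp tab slp u) u = true := ext_range (a := 39852) (len := 18) h2214 sl_2214
  have h2216 : ∀ u < 39888, (fun u => chkSlp tab slp u) u = true := ext_range (a := 39870) (len := 18) h2215 sl_2215
  have h2217 : ∀ u < 39906, (fun u => chkSlp tab slp u) u = true := ext_range (a := 39888) (len := 18) h2216 sl_2216
  have h2218 : ∀ u < 39924, (fun u => chkSlp tab slp u) u = true := ext_range (a := 39906) (len := 18) h2217 sl_2217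
  have h2219 : ∀ u < 39942, (fun u => chkSlp tab slp u) u = true := ext_range (a := 39924) (len := 18) h2218 sl_2218
  have h2220 : ∀ u < 39960, (fun u => chkSlp tab slp u) u = true := ext_range (a := 39942) (len := 18) h2219 sl_2219
  have h2221 : ∀ u < 39978, (fun u => chkSlp tab slp u) u = true := ext_range (a := 39960) (len := 18) h2220 sl_2220
  have h2222 : ∀ u < 39996, (fun u => chkSlp tab slp u) u = true := ext_range (a := 39978) (len := 18) h2221 sl_2221
  have h2223 : ∀ u < 40014, (fun u => chkSlp tab slp u) u = true := ext_range (a := 39996) (len := 18) h2222 sl_2222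
  have h2224 : ∀ u < 40032, (fun u => chkSlp tab slp u) u = true := ext_range (a := 40014) (len := 18) h2223 sl_2223
  have h2225 : ∀ u < 40050, (fun u => chkSlp tab slp u) u = true := ext_range (a := 40032) (len := 18) h2224 sl_2224
  have h2226 : ∀ u < 40068, (fun u => chkSlp tab slp u) u = true := ext_range (a := 40050) (len := 18) h2225 sl_2225
  have h2227 : ∀ u < 40086, (fun u => chkSlp tab slp u) u = true := ext_range (a := 40068) (len := 18) h2226 sl_2226
  have h2228 : ∀ u < 40104, (fun u => chkSlp tab slp u) u = true := ext_range (a := 40086) (len := 18) h2227 sl_2227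
  have h2229 : ∀ u < 40122, (fun u => chkSlp tab slp u) u = true := ext_range (a := 40104) (len := 18) h2228 sl_2228
  have h2230 : ∀ u < 40140, (fun u => chkSlp tab slp u) u = true := ext_range (a := 40122) (len := 18) h2229 sl_2229
  have h2231 : ∀ u < 40158, (fun u => chkSlp tab slp u) u = true := ext_range (a := 40140) (len := 18) h2230 sl_2230
  have h2232 : ∀ u < 40176, (fun u => chkSlp tab slp u) u = true := ext_range (a := 40158) (len := 18) h2231 sl_2231
  have h2233 : ∀ u < 40194, (fun u => chkSlp tab slp u) u = true := ext_range (a := 40176) (len := 18) h2232 sl_2232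
  have h2234 : ∀ u < 40212, (fun u => chkSlp tab slp u) u = true := ext_range (a := 40194) (len := 18) h2233 sl_2233
  have h2235 : ∀ u < 40230, (fun u => chkSlp tab slp u) u = true := ext_range (a := 40212) (len := 18) h2234 sl_2234
  have h2236 : ∀ u < 40248, (fun u => chkSlp tab slp u) u = true := ext_range (a := 40230) (len := 18) h2235 sl_2235
  have h2237 : ∀ u < 40266, (fun u => chkSlp tab slp u) u = true := ext_range (a := 40248) (len := 18) h2236 sl_2236
  have h2238 : ∀ u < 40284, (fun u => chkSlp tab slp u) u = true := ext_range (a := 40266) (len := 18) h2237 sl_2237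
  have h2239 : ∀ u < 40302, (fun u => chkSlp tab slp u) u = true := ext_range (a := 40284) (len := 18) h2238 sl_2238
  have h2240 : ∀ u < 40320, (fun u => chkSlp tab slp u) u = true := ext_range (a := 40302) (len := 18) h2239 sl_2239
  have h2241 : ∀ u < 40338, (fun u => chkSlp tab slp u) u = true := ext_range (a := 40320) (len := 18) h2240 sl_2240
  have h2242 : ∀ u < 40356, (fun u => chkSlp tab slp u) u = true := ext_range (a := 40338) (len := 18) h2241 sl_2241
  have h2243 : ∀ u < 40374, (fun u => chkSlp tab slp u) u = true := ext_range (a := 40356) (len := 18) h2242 sl_2242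
  have h2244 : ∀ u < 40392, (fun u => chkSlp tab slp u) u = true := ext_range (a := 40374) (len := 18) h2243 sl_2243
  have h2245 : ∀ u < 40410, (fun u => chkSlp tab slp u) u = true := ext_range (a := 40392) (len := 18) h2244 sl_2244
  have h2246 : ∀ u < 40428, (fun u => chkSlp tab slp u) u = true := ext_range (a := 40410) (len := 18) h2245 sl_2245
  have h2247 : ∀ u < 40446, (fun u => chkSlp tab slp u) u = true := ext_range (a := 40428) (len := 18) h2246 sl_2246
  have h2248 : ∀ u < 40464, (fun u => chkSlp tab slp u) u = true := ext_range (a := 40446) (len := 18) h2247 sl_2247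
  have h2249 : ∀ u < 40482, (fun u => chkSlp tab slp u) u = true := ext_range (a := 40464) (len := 18) h2248 sl_2248
  have h2250 : ∀ u < 40500, (fun u => chkSlp tab slp u) u = true := ext_range (a := 40482) (len := 18) h2249 sl_2249
  have h2251 : ∀ u < 40518, (fun u => chkSlp tab slp u) u = true := ext_range (a := 40500) (len := 18) h2250 sl_2250
  have h2252 : ∀ u < 40536, (fun u => chkSlp tab slp u) u = true := ext_range (a := 40518) (len := 18) h2251 sl_2251
  have h2253 : ∀ u < 40554, (fun u => chkSlp tab slp u) u = true := ext_range (a := 40536) (len := 18) h2252 sl_2252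
  have h2254 : ∀ u < 40572, (fun u => chkSlp tab slp u) u = true := ext_range (a := 40554) (len := 18) h2253 sl_2253
  have h2255 : ∀ u < 40590, (fun u => chkSlp tab slp u) u = true := ext_range (a := 40572) (len := 18) h2254 sl_2254
  have h2256 : ∀ u < 40608, (fun u => chkSlp tab slp u) u = true := ext_range (a := 40590) (len := 18) h2255 sl_2255
  have h2257 : ∀ u < 40626, (fun u => chkSlp tab slp u) u = true := ext_range (a := 40608) (len := 18) h2256 sl_2256
  have h2258 : ∀ u < 40644, (fun u => chkSlp tab slp u) u = true := ext_range (a := 40626) (len := 18) h2257 sl_2257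
  have h2259 : ∀ u < 40662, (fun u => chkSlp tab slp u) u = true := ext_range (a := 40644) (len := 18) h2258 sl_2258
  have h2260 : ∀ u < 40680, (fun u => chkSlp tab slp u) u = true := ext_range (a := 40662) (len := 18) h2259 sl_2259
  have h2261 : ∀ u < 40698, (fun u => chkSlp tab slp u) u = true := ext_range (a := 40680) (len := 18) h2260 sl_2260
  have h2262 : ∀ u < 40716, (fun u => chkSlp tab slp u) u = true := ext_range (a := 40698) (len := 18) h2261 sl_2261
  have h2263 : ∀ u < 40734, (fun u => chkSlp tab slp u) u = true := ext_range (a := 40716) (len := 18) h2262 sl_2262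
  have h2264 : ∀ u < 40752, (fun u => chkSlp tab slp u) u = true := ext_range (a := 40734) (len := 18) h2263 sl_2263
  have h2265 : ∀ u < 40770, (fun u => chkSlp tab slp u) u = true := ext_range (a := 40752) (len := 18) h2264 sl_2264
  have h2266 : ∀ u < 40788, (fun u => chkSlp tab slp u) u = true := ext_range (a := 40770) (len := 18) h2265 sl_2265
  have h2267 : ∀ u < 40806, (fun u => chkSlp tab slp u) u = true := ext_range (a := 40788) (len := 18) h2266 sl_2266
  have h2268 : ∀ u < 40824, (fun u => chkSlp tab slp u) u = true := ext_range (a := 40806) (len := 18) h2267 sl_2267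
  have h2269 : ∀ u < 40842, (fun u => chkSlp tab slp u) u = true := ext_range (a := 40824) (len := 18) h2268 sl_2268
  have h2270 : ∀ u < 40860, (fun u => chkSlp tab slp u) u = true := ext_range (a := 40842) (len := 18) h2269 sl_2269
  have h2271 : ∀ u < 40878, (fun u => chkSlp tab slp u) u = true := ext_range (a := 40860) (len := 18) h2270 sl_2270
  have h2272 : ∀ u < 40896, (fun u => chkSlp tab slp u) u = true := ext_range (a := 40878) (len := 18) h2271 sl_2271
  have h2273 : ∀ u < 40914, (fun u => chkSlp tab slp u) u = true := ext_range (a := 40896) (len := 18) h2272 sl_2272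
  have h2274 : ∀ u < 40932, (fun u => chkSlp tab slp u) u = true := ext_range (a := 40914) (len := 18) h2273 sl_2273
  have h2275 : ∀ u < 40950, (fun u => chkSlp tab slp u) u = true := ext_range (a := 40932) (len := 18) h2274 sl_2274
  have h2276 : ∀ u < 40968, (fun u => chkSlp tab slp u) u = true := ext_range (a := 40950) (len := 18) h2275 sl_2275
  have h2277 : ∀ u < 40986, (fun u => chkSlp tab slp u) u = true := ext_range (a := 40968) (len := 18) h2276 sl_2276
  have h2278 : ∀ u < 41004, (fun u => chkSlp tab slp u) u = true := ext_range (a := 40986) (len := 18) h2277 sl_2277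
  have h2279 : ∀ u < 41022, (fun u => chkSlp tab slp u) u = true := ext_range (a := 41004) (len := 18) h2278 sl_2278
  have h2280 : ∀ u < 41040, (fun u => chkSlp tab slp u) u = true := ext_range (a := 41022) (len := 18) h2279 sl_2279
  have h2281 : ∀ u < 41058, (fun u => chkSlp tab slp u) u = true := ext_range (a := 41040) (len := 18) h2280 sl_2280
  have h2282 : ∀ u < 41076, (fun u => chkSlp tab slp u) u = true := ext_range (a := 41058) (len := 18) h2281 sl_2281
  have h2283 : ∀ u < 41094, (fun u => chkSlp tab slp u) u = true := ext_range (a := 41076) (len := 18) h2282 sl_2282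
  have h2284 : ∀ u < 41112, (fun u => chkSlp tab slp u) u = true := ext_range (a := 41094) (len := 18) h2283 sl_2283
  have h2285 : ∀ u < 41130, (fun u => chkSlp tab slp u) u = true := ext_range (a := 41112) (len := 18) h2284 sl_2284
  have h2286 : ∀ u < 41148, (fun u => chkSlp tab slp u) u = true := ext_range (a := 41130) (len := 18) h2285 sl_2285
  have h2287 : ∀ u < 41166, (fun u => chkSlp tab slp u) u = true := ext_range (a := 41148) (len := 18) h2286 sl_2286
  have h2288 : ∀ u < 41184, (fun u => chkSlp tab slp u) u = true := ext_range (a := 41166) (len := 18) h2287 sl_2287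
  have h2289 : ∀ u < 41202, (fun u => chkSlp tab slp u) u = true := ext_range (a := 41184) (len := 18) h2288 sl_2288
  have h2290 : ∀ u < 41220, (fun u => chkSlp tab slp u) u = true := ext_range (a := 41202) (len := 18) h2289 sl_2289
  have h2291 : ∀ u < 41238, (fun u => chkSlp tab slp u) u = true := ext_range (a := 41220) (len := 18) h2290 sl_2290
  have h2292 : ∀ u < 41256, (fun u => chkSlp tab slp u) u = true := ext_range (a := 41238) (len := 18) h2291 sl_2291
  have h2293 : ∀ u < 41274, (fun u => chkSlp tab slp u) u = true := ext_range (a := 41256) (len := 18) h2292 sl_2292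
  have h2294 : ∀ u < 41292, (fun u => chkSlp tab slp u) u = true := ext_range (a := 41274) (len := 18) h2293 sl_2293
  have h2295 : ∀ u < 41310, (fun u => chkSlp tab slp u) u = true := ext_range (a := 41292) (len := 18) h2294 sl_2294
  have h2296 : ∀ u < 41328, (fun u => chkSlp tab slp u) u = true := ext_range (a := 41310) (len := 18) h2295 sl_2295
  have h2297 : ∀ u < 41346, (fun u => chkSlp tab slp u) u = true := ext_range (a := 41328) (len := 18) h2296 sl_2296
  have h2298 : ∀ u < 41364, (fun u => chkSlp tab slp u) u = true := ext_range (a := 41346) (len := 18) h2297 sl_2297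
  have h2299 : ∀ u < 41382, (fun u => chkSlp tab slp u) u = true := ext_range (a := 41364) (len := 18) h2298 sl_2298
  have h2300 : ∀ u < 41400, (fun u => chkSlp tab slp u) u = true := ext_range (a := 41382) (len := 18) h2299 sl_2299
  have h2301 : ∀ u < 41418, (fun u => chkSlp tab slp u) u = true := ext_range (a := 41400) (len := 18) h2300 sl_2300
  have h2302 : ∀ u < 41436, (fun u => chkSlp tab slp u) u = true := ext_range (a := 41418) (len := 18) h2301 sl_2301
  have h2303 : ∀ u < 41454, (fun u => chkSlp tab slp u) u = true := ext_range (a := 41436) (len := 18) h2302 sl_2302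
  have h2304 : ∀ u < 41472, (fun u => chkSlp tab slp u) u = true := ext_range (a := 41454) (len := 18) h2303 sl_2303
  have h2305 : ∀ u < 41490, (fun u => chkSlp tab slp u) u = true := ext_range (a := 41472) (len := 18) h2304 sl_2304
  have h2306 : ∀ u < 41508, (fun u => chkSlp tab slp u) u = true := ext_range (a := 41490) (len := 18) h2305 sl_2305
  have h2307 : ∀ u < 41526, (fun u => chkSlp tab slp u) u = true := ext_range (a := 41508) (len := 18) h2306 sl_2306
  have h2308 : ∀ u < 41544, (fun u => chkSlp tab slp u) u = true := ext_range (a := 41526) (len := 18) h2307 sl_2307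
  have h2309 : ∀ u < 41562, (fun u => chkSlp tab slp u) u = true := ext_range (a := 41544) (len := 18) h2308 sl_2308
  have h2310 : ∀ u < 41580, (fun u => chkSlp tab slp u) u = true := ext_range (a := 41562) (len := 18) h2309 sl_2309
  have h2311 : ∀ u < 41598, (fun u => chkSlp tab slp u) u = true := ext_range (a := 41580) (len := 18) h2310 sl_2310
  have h2312 : ∀ u < 41616, (fun u => chkSlp tab slp u) u = true := ext_range (a := 41598) (len := 18) h2311 sl_2311
  have h2313 : ∀ u < 41634, (fun u => chkSlp tab slp u) u = true := ext_range (a := 41616) (len := 18) h2312 sl_2312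
  have h2314 : ∀ u < 41652, (fun u => chkSlp tab slp u) u = true := ext_range (a := 41634) (len := 18) h2313 sl_2313
  have h2315 : ∀ u < 41670, (fun u => chkSlp tab slp u) u = true := ext_range (a := 41652) (len := 18) h2314 sl_2314
  have h2316 : ∀ u < 41688, (fun u => chkSlp tab slp u) u = true := ext_range (a := 41670) (len := 18) h2315 sl_2315
  have h2317 : ∀ u < 41706, (fun u => chkSlp tab slp u) u = true := ext_range (a := 41688) (len := 18) h2316 sl_2316
  have h2318 : ∀ u < 41724, (fun u => chkSlp tab slp u) u = true := ext_range (a := 41706) (len := 18) h2317 sl_2317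
  have h2319 : ∀ u < 41742, (fun u => chkSlp tab slp u) u = true := ext_range (a := 41724) (len := 18) h2318 sl_2318
  have h2320 : ∀ u < 41760, (fun u => chkSlp tab slp u) u = true := ext_range (a := 41742) (len := 18) h2319 sl_2319
  have h2321 : ∀ u < 41778, (fun u => chkSlp tab slp u) u = true := ext_range (a := 41760) (len := 18) h2320 sl_2320
  have h2322 : ∀ u < 41796, (fun u => chkSlp tab slp u) u = true := ext_range (a := 41778) (len := 18) h2321 sl_2321
  have h2323 : ∀ u < 41814, (fun u => chkSlp tab slp u) u = true := ext_range (a := 41796) (len := 18) h2322 sl_2322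
  have h2324 : ∀ u < 41832, (fun u => chkSlp tab slp u) u = true := ext_range (a := 41814) (len := 18) h2323 sl_2323
  have h2325 : ∀ u < 41850, (fun u => chkSlp tab slp u) u = true := ext_range (a := 41832) (len := 18) h2324 sl_2324
  have h2326 : ∀ u < 41868, (fun u => chkSlp tab slp u) u = true := ext_range (a := 41850) (len := 18) h2325 sl_2325
  have h2327 : ∀ u < 41886, (fun u => chkSlp tab slp u) u = true := ext_range (a := 41868) (len := 18) h2326 sl_2326
  have h2328 : ∀ u < 41904, (fun u => chkSlp tab slp u) u = true := ext_range (a := 41886) (len := 18) h2327 sl_2327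
  have h2329 : ∀ u < 41922, (fun u => chkSlp tab slp u) u = true := ext_range (a := 41904) (len := 18) h2328 sl_2328
  have h2330 : ∀ u < 41940, (fun u => chkSlp tab slp u) u = true := ext_range (a := 41922) (len := 18) h2329 sl_2329
  have h2331 : ∀ u < 41958, (fun u => chkSlp tab slp u) u = true := ext_range (a := 41940) (len := 18) h2330 sl_2330
  have h2332 : ∀ u < 41976, (fun u => chkSlp tab slp u) u = true := ext_range (a := 41958) (len := 18) h2331 sl_2331
  have h2333 : ∀ u < 41994, (fun u => chkSlp tab slp u) u = true := ext_range (a := 41976) (len := 18) h2332 sl_2332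
  have h2334 : ∀ u < 42012, (fun u => chkSlp tab slp u) u = true := ext_range (a := 41994) (len := 18) h2333 sl_2333
  have h2335 : ∀ u < 42030, (fun u => chkSlp tab slp u) u = true := ext_range (a := 42012) (len := 18) h2334 sl_2334
  have h2336 : ∀ u < 42048, (fun u => chkSlp tab slp u) u = true := ext_range (a := 42030) (len := 18) h2335 sl_2335
  have h2337 : ∀ u < 42066, (fun u => chkSlp tab slp u) u = true := ext_range (a := 42048) (len := 18) h2336 sl_2336
  have h2338 : ∀ u < 42084, (fun u => chkSlp tab slp u) u = true := ext_range (a := 42066) (len := 18) h2337 sl_2337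
  have h2339 : ∀ u < 42102, (fun u => chkSlp tab slp u) u = true := ext_range (a := 42084) (len := 18) h2338 sl_2338
  have h2340 : ∀ u < 42120, (fun u => chkSlp tab slp u) u = true := ext_range (a := 42102) (len := 18) h2339 sl_2339
  have h2341 : ∀ u < 42138, (fun u => chkSlp tab slp u) u = true := ext_range (a := 42120) (len := 18) h2340 sl_2340
  have h2342 : ∀ u < 42156, (fun u => chkSlp tab slp u) u = true := ext_range (a := 42138) (len := 18) h2341 sl_2341
  have h2343 : ∀ u < 42174, (fun u => chkSlp tab slp u) u = true := ext_range (a := 42156) (len := 18) h2342 sl_2342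
  have h2344 : ∀ u < 42192, (fun u => chkSlp tab slp u) u = true := ext_range (a := 42174) (len := 18) h2343 sl_2343
  have h2345 : ∀ u < 42210, (fun u => chkSlp tab slp u) u = true := ext_range (a := 42192) (len := 18) h2344 sl_2344
  have h2346 : ∀ u < 42228, (fun u => chkSlp tab slp u) u = true := ext_range (a := 42210) (len := 18) h2345 sl_2345
  have h2347 : ∀ u < 42246, (fun u => chkSlp tab slp u) u = true := ext_range (a := 42228) (len := 18) h2346 sl_2346
  have h2348 : ∀ u < 42264, (fun u => chkSlp tab slp u) u = true := ext_range (a := 42246) (len := 18) h2347 sl_2347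
  have h2349 : ∀ u < 42282, (fun u => chkSlp tab slp u) u = true := ext_range (a := 42264) (len := 18) h2348 sl_2348
  have h2350 : ∀ u < 42300, (fun u => chkSlp tab slp u) u = true := ext_range (a := 42282) (len := 18) h2349 sl_2349
  have h2351 : ∀ u < 42318, (fun u => chkSlp tab slp u) u = true := ext_range (a := 42300) (len := 18) h2350 sl_2350
  have h2352 : ∀ u < 42336, (fun u => chkSlp tab slp u) u = true := ext_range (a := 42318) (len := 18) h2351 sl_2351
  have h2353 : ∀ u < 42354, (fun u => chkSlp tab slp u) u = true := ext_range (a := 42336) (len := 18) h2352 sl_2352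
  have h2354 : ∀ u < 42372, (fun u => chkSlp tab slp u) u = true := ext_range (a := 42354) (len := 18) h2353 sl_2353
  have h2355 : ∀ u < 42390, (fun u => chkSlp tab slp u) u = true := ext_range (a := 42372) (len := 18) h2354 sl_2354
  have h2356 : ∀ u < 42408, (fun u => chkSlp tab slp u) u = true := ext_range (a := 42390) (len := 18) h2355 sl_2355
  have h2357 : ∀ u < 42426, (fun u => chkSlp tab slp u) u = true := ext_range (a := 42408) (len := 18) h2356 sl_2356
  have h2358 : ∀ u < 42444, (fun u => chkSlp tab slp u) u = true := ext_range (a := 42426) (len := 18) h2357 sl_2357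
  have h2359 : ∀ u < 42462, (fun u => chkSlp tab slp u) u = true := ext_range (a := 42444) (len := 18) h2358 sl_2358
  have h2360 : ∀ u < 42480, (fun u => chkSlp tab slp u) u = true := ext_range (a := 42462) (len := 18) h2359 sl_2359
  have h2361 : ∀ u < 42498, (fun u => chkSlp tab slp u) u = true := ext_range (a := 42480) (len := 18) h2360 sl_2360
  have h2362 : ∀ u < 42516, (fun u => chkSlp tab slp u) u = true := ext_range (a := 42498) (len := 18) h2361 sl_2361
  have h2363 : ∀ u < 42534, (fun u => chkSlp tab slp u) u = true := ext_range (a := 42516) (len := 18) h2362 sl_2362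
  have h2364 : ∀ u < 42552, (fun u => chkSlp tab slp u) u = true := ext_range (a := 42534) (len := 18) h2363 sl_2363
  have h2365 : ∀ u < 42570, (fun u => chkSlp tab slp u) u = true := ext_range (a := 42552) (len := 18) h2364 sl_2364
  have h2366 : ∀ u < 42588, (fun u => chkSlp tab slp u) u = true := ext_range (a := 42570) (len := 18) h2365 sl_2365
  have h2367 : ∀ u < 42606, (fun u => chkSlp tab slp u) u = true := ext_range (a := 42588) (len := 18) h2366 sl_2366
  have h2368 : ∀ u < 42624, (fun u => chkSlp tab slp u) u = true := ext_range (a := 42606) (len := 18) h2367 sl_2367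
  have h2369 : ∀ u < 42642, (fun u => chkSlp tab slp u) u = true := ext_range (a := 42624) (len := 18) h2368 sl_2368
  have h2370 : ∀ u < 42660, (fun u => chkSlp tab slp u) u = true := ext_range (a := 42642) (len := 18) h2369 sl_2369
  have h2371 : ∀ u < 42678, (fun u => chkSlp tab slp u) u = true := ext_range (a := 42660) (len := 18) h2370 sl_2370
  have h2372 : ∀ u < 42696, (fun u => chkSlp tab slp u) u = true := ext_range (a := 42678) (len := 18) h2371 sl_2371
  have h2373 : ∀ u < 42714, (fun u => chkSlp tab slp u) u = true := ext_range (a := 42696) (len := 18) h2372 sl_2372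
  have h2374 : ∀ u < 42732, (fun u => chkSlp tab slp u) u = true := ext_range (a := 42714) (len := 18) h2373 sl_2373
  have h2375 : ∀ u < 42750, (fun u => chkSlp tab slp u) u = true := ext_range (a := 42732) (len := 18) h2374 sl_2374
  have h2376 : ∀ u < 42768, (fun u => chkSlp tab slp u) u = true := ext_range (a := 42750) (len := 18) h2375 sl_2375
  have h2377 : ∀ u < 42786, (fun u => chkSlp tab slp u) u = true := ext_range (a := 42768) (len := 18) h2376 sl_2376
  have h2378 : ∀ u < 42804, (fun u => chkSlp tab slp u) u = true := ext_range (a := 42786) (len := 18) h2377 sl_2377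
  have h2379 : ∀ u < 42822, (fun u => chkSlp tab slp u) u = true := ext_range (a := 42804) (len := 18) h2378 sl_2378
  have h2380 : ∀ u < 42840, (fun u => chkSlp tab slp u) u = true := ext_range (a := 42822) (len := 18) h2379 sl_2379
  have h2381 : ∀ u < 42858, (fun u => chkSlp tab slp u) u = true := ext_range (a := 42840) (len := 18) h2380 sl_2380
  have h2382 : ∀ u < 42876, (fun u => chkSlp tab slp u) u = true := ext_range (a := 42858) (len := 18) h2381 sl_2381
  have h2383 : ∀ u < 42894, (fun u => chkSlp tab slp u) u = true := ext_range (a := 42876) (len := 18) h2382 sl_2382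
  have h2384 : ∀ u < 42912, (fun u => chkSlp tab slp u) u = true := ext_range (a := 42894) (len := 18) h2383 sl_2383
  have h2385 : ∀ u < 42930, (fun u => chkSlp tab slp u) u = true := ext_range (a := 42912) (len := 18) h2384 sl_2384
  have h2386 : ∀ u < 42948, (fun u => chkSlp tab slp u) u = true := ext_range (a := 42930) (len := 18) h2385 sl_2385
  have h2387 : ∀ u < 42966, (fun u => chkSlp tab slp u) u = true := ext_range (a := 42948) (len := 18) h2386 sl_2386
  have h2388 : ∀ u < 42984, (fun u => chkSlp tab slp u) u = true := ext_range (a := 42966) (len := 18) h2387 sl_2387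
  have h2389 : ∀ u < 43002, (fun u => chkSlp tab slp u) u = true := ext_range (a := 42984) (len := 18) h2388 sl_2388
  have h2390 : ∀ u < 43020, (fun u => chkSlp tab slp u) u = true := ext_range (a := 43002) (len := 18) h2389 sl_2389
  have h2391 : ∀ u < 43038, (fun u => chkSlp tab slp u) u = true := ext_range (a := 43020) (len := 18) h2390 sl_2390
  have h2392 : ∀ u < 43056, (fun u => chkSlp tab slp u) u = true := ext_range (a := 43038) (len := 18) h2391 sl_2391
  have h2393 : ∀ u < 43074, (fun u => chkSlp tab slp u) u = true := ext_range (a := 43056) (len := 18) h2392 sl_2392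
  have h2394 : ∀ u < 43092, (fun u => chkSlp tab slp u) u = true := ext_range (a := 43074) (len := 18) h2393 sl_2393
  have h2395 : ∀ u < 43110, (fun u => chkSlp tab slp u) u = true := ext_range (a := 43092) (len := 18) h2394 sl_2394
  have h2396 : ∀ u < 43128, (fun u => chkSlp tab slp u) u = true := ext_range (a := 43110) (len := 18) h2395 sl_2395
  have h2397 : ∀ u < 43146, (fun u => chkSlp tab slp u) u = true := ext_range (a := 43128) (len := 18) h2396 sl_2396
  have h2398 : ∀ u < 43164, (fun u => chkSlp tab slp u) u = true := ext_range (a := 43146) (len := 18) h2397 sl_2397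
  have h2399 : ∀ u < 43182, (fun u => chkSlp tab slp u) u = true := ext_range (a := 43164) (len := 18) h2398 sl_2398
  have h2400 : ∀ u < 43200, (fun u => chkSlp tab slp u) u = true := ext_range (a := 43182) (len := 18) h2399 sl_2399
  have h2401 : ∀ u < 43218, (fun u => chkSlp tab slp u) u = true := ext_range (a := 43200) (len := 18) h2400 sl_2400
  have h2402 : ∀ u < 43236, (fun u => chkSlp tab slp u) u = true := ext_range (a := 43218) (len := 18) h2401 sl_2401
  have h2403 : ∀ u < 43254, (fun u => chkSlp tab slp u) u = true := ext_range (a := 43236) (len := 18) h2402 sl_2402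
  have h2404 : ∀ u < 43272, (fun u => chkSlp tab slp u) u = true := ext_range (a := 43254) (len := 18) h2403 sl_2403
  have h2405 : ∀ u < 43290, (fun u => chkSlp tab slp u) u = true := ext_range (a := 43272) (len := 18) h2404 sl_2404
  have h2406 : ∀ u < 43308, (fun u => chkSlp tab slp u) u = true := ext_range (a := 43290) (len := 18) h2405 sl_2405
  have h2407 : ∀ u < 43326, (fun u => chkSlp tab slp u) u = true := ext_range (a := 43308) (len := 18) h2406 sl_2406
  have h2408 : ∀ u < 43344, (fun u => chkSlp tab slp u) u = true := ext_range (a := 43326) (len := 18) h2407 sl_2407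
  have h2409 : ∀ u < 43362, (fun u => chkSlp tab slp u) u = true := ext_range (a := 43344) (len := 18) h2408 sl_2408
  have h2410 : ∀ u < 43380, (fun u => chkSlp tab slp u) u = true := ext_range (a := 43362) (len := 18) h2409 sl_2409
  have h2411 : ∀ u < 43398, (fun u => chkSlp tab slp u) u = true := ext_range (a := 43380) (len := 18) h2410 sl_2410
  have h2412 : ∀ u < 43416, (fun u => chkSlp tab slp u) u = true := ext_range (a := 43398) (len := 18) h2411 sl_2411
  have h2413 : ∀ u < 43434, (fun u => chkSlp tab slp u) u = true := ext_range (a := 43416) (len := 18) h2412 sl_2412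
  have h2414 : ∀ u < 43452, (fun u => chkSlp tab slp u) u = true := ext_range (a := 43434) (len := 18) h2413 sl_2413
  have h2415 : ∀ u < 43470, (fun u => chkSlp tab slp u) u = true := ext_range (a := 43452) (len := 18) h2414 sl_2414
  have h2416 : ∀ u < 43488, (fun u => chkSlp tab slp u) u = true := ext_range (a := 43470) (len := 18) h2415 sl_2415
  have h2417 : ∀ u < 43506, (fun u => chkSlp tab slp u) u = true := ext_range (a := 43488) (len := 18) h2416 sl_2416
  have h2418 : ∀ u < 43524, (fun u => chkSlp tab slp u) u = true := ext_range (a := 43506) (len := 18) h2417 sl_2417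
  have h2419 : ∀ u < 43542, (fun u => chkSlp tab slp u) u = true := ext_range (a := 43524) (len := 18) h2418 sl_2418
  have h2420 : ∀ u < 43560, (fun u => chkSlp tab slp u) u = true := ext_range (a := 43542) (len := 18) h2419 sl_2419
  have h2421 : ∀ u < 43578, (fun u => chkSlp tab slp u) u = true := ext_range (a := 43560) (len := 18) h2420 sl_2420
  have h2422 : ∀ u < 43596, (fun u => chkSlp tab slp u) u = true := ext_range (a := 43578) (len := 18) h2421 sl_2421
  have h2423 : ∀ u < 43614, (fun u => chkSlp tab slp u) u = true := ext_range (a := 43596) (len := 18) h2422 sl_2422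
  have h2424 : ∀ u < 43632, (fun u => chkSlp tab slp u) u = true := ext_range (a := 43614) (len := 18) h2423 sl_2423
  have h2425 : ∀ u < 43650, (fun u => chkSlp tab slp u) u = true := ext_range (a := 43632) (len := 18) h2424 sl_2424
  have h2426 : ∀ u < 43668, (fun u => chkSlp tab slp u) u = true := ext_range (a := 43650) (len := 18) h2425 sl_2425
  have h2427 : ∀ u < 43686, (fun u => chkSlp tab slp u) u = true := ext_range (a := 43668) (len := 18) h2426 sl_2426
  have h2428 : ∀ u < 43704, (fun u => chkSlp tab slp u) u = true := ext_range (a := 43686) (len := 18) h2427 sl_2427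
  have h2429 : ∀ u < 43722, (fun u => chkSlp tab slp u) u = true := ext_range (a := 43704) (len := 18) h2428 sl_2428
  have h2430 : ∀ u < 43740, (fun u => chkSlp tab slp u) u = true := ext_range (a := 43722) (len := 18) h2429 sl_2429
  have h2431 : ∀ u < 43758, (fun u => chkSlp tab slp u) u = true := ext_range (a := 43740) (len := 18) h2430 sl_2430
  have h2432 : ∀ u < 43776, (fun u => chkSlp tab slp u) u = true := ext_range (a := 43758) (len := 18) h2431 sl_2431
  have h2433 : ∀ u < 43794, (fun u => chkSlp tab slp u) u = true := ext_range (a := 43776) (len := 18) h2432 sl_2432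
  have h2434 : ∀ u < 43812, (fun u => chkSlp tab slp u) u = true := ext_range (a := 43794) (len := 18) h2433 sl_2433
  have h2435 : ∀ u < 43830, (fun u => chkSlp tab slp u) u = true := ext_range (a := 43812) (len := 18) h2434 sl_2434
  have h2436 : ∀ u < 43848, (fun u => chkSlp tab slp u) u = true := ext_range (a := 43830) (len := 18) h2435 sl_2435
  have h2437 : ∀ u < 43866, (fun u => chkSlp tab slp u) u = true := ext_range (a := 43848) (len := 18) h2436 sl_2436
  have h2438 : ∀ u < 43884, (fun u => chkSlp tab slp u) u = true := ext_range (a := 43866) (len := 18) h2437 sl_2437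
  have h2439 : ∀ u < 43902, (fun u => chkSlp tab slp u) u = true := ext_range (a := 43884) (len := 18) h2438 sl_2438
  have h2440 : ∀ u < 43920, (fun u => chkSlp tab slp u) u = true := ext_range (a := 43902) (len := 18) h2439 sl_2439
  have h2441 : ∀ u < 43938, (fun u => chkSlp tab slp u) u = true := ext_range (a := 43920) (len := 18) h2440 sl_2440
  have h2442 : ∀ u < 43956, (fun u => chkSlp tab slp u) u = true := ext_range (a := 43938) (len := 18) h2441 sl_2441
  have h2443 : ∀ u < 43974, (fun u => chkSlp tab slp u) u = true := ext_range (a := 43956) (len := 18) h2442 sl_2442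
  have h2444 : ∀ u < 43992, (fun u => chkSlp tab slp u) u = true := ext_range (a := 43974) (len := 18) h2443 sl_2443
  have h2445 : ∀ u < 44010, (fun u => chkSlp tab slp u) u = true := ext_range (a := 43992) (len := 18) h2444 sl_2444
  have h2446 : ∀ u < 44028, (fun u => chkSlp tab slp u) u = true := ext_range (a := 44010) (len := 18) h2445 sl_2445
  have h2447 : ∀ u < 44046, (fun u => chkSlp tab slp u) u = true := ext_range (a := 44028) (len := 18) h2446 sl_2446
  have h2448 : ∀ u < 44064, (fun u => chkSlp tab slp u) u = true := ext_range (a := 44046) (len := 18) h2447 sl_2447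
  have h2449 : ∀ u < 44082, (fun u => chkSlp tab slp u) u = true := ext_range (a := 44064) (len := 18) h2448 sl_2448
  have h2450 : ∀ u < 44100, (fun u => chkSlp tab slp u) u = true := ext_range (a := 44082) (len := 18) h2449 sl_2449
  have h2451 : ∀ u < 44118, (fun u => chkSlp tab slp u) u = true := ext_range (a := 44100) (len := 18) h2450 sl_2450
  have h2452 : ∀ u < 44136, (fun u => chkSlp tab slp u) u = true := ext_range (a := 44118) (len := 18) h2451 sl_2451
  have h2453 : ∀ u < 44154, (fun u => chkSlp tab slp u) u = true := ext_range (a := 44136) (len := 18) h2452 sl_2452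
  have h2454 : ∀ u < 44172, (fun u => chkSlp tab slp u) u = true := ext_range (a := 44154) (len := 18) h2453 sl_2453
  have h2455 : ∀ u < 44190, (fun u => chkSlp tab slp u) u = true := ext_range (a := 44172) (len := 18) h2454 sl_2454
  have h2456 : ∀ u < 44208, (fun u => chkSlp tab slp u) u = true := ext_range (a := 44190) (len := 18) h2455 sl_2455
  have h2457 : ∀ u < 44226, (fun u => chkSlp tab slp u) u = true := ext_range (a := 44208) (len := 18) h2456 sl_2456
  have h2458 : ∀ u < 44244, (fun u => chkSlp tab slp u) u = true := ext_range (a := 44226) (len := 18) h2457 sl_2457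
  have h2459 : ∀ u < 44262, (fun u => chkSlp tab slp u) u = true := ext_range (a := 44244) (len := 18) h2458 sl_2458
  have h2460 : ∀ u < 44280, (fun u => chkSlp tab slp u) u = true := ext_range (a := 44262) (len := 18) h2459 sl_2459
  have h2461 : ∀ u < 44298, (fun u => chkSlp tab slp u) u = true := ext_range (a := 44280) (len := 18) h2460 sl_2460
  have h2462 : ∀ u < 44316, (fun u => chkSlp tab slp u) u = true := ext_range (a := 44298) (len := 18) h2461 sl_2461
  have h2463 : ∀ u < 44334, (fun u => chkSlp tab slp u) u = true := ext_range (a := 44316) (len := 18) h2462 sl_2462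
  have h2464 : ∀ u < 44352, (fun u => chkSlp tab slp u) u = true := ext_range (a := 44334) (len := 18) h2463 sl_2463
  have h2465 : ∀ u < 44370, (fun u => chkSlp tab slp u) u = true := ext_range (a := 44352) (len := 18) h2464 sl_2464
  have h2466 : ∀ u < 44388, (fun u => chkSlp tab slp u) u = true := ext_range (a := 44370) (len := 18) h2465 sl_2465
  have h2467 : ∀ u < 44406, (fun u => chkSlp tab slp u) u = true := ext_range (a := 44388) (len := 18) h2466 sl_2466
  have h2468 : ∀ u < 44424, (fun u => chkSlp tab slp u) u = true := ext_range (a := 44406) (len := 18) h2467 sl_2467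
  have h2469 : ∀ u < 44442, (fun u => chkSlp tab slp u) u = true := ext_range (a := 44424) (len := 18) h2468 sl_2468
  have h2470 : ∀ u < 44460, (fun u => chkSlp tab slp u) u = true := ext_range (a := 44442) (len := 18) h2469 sl_2469
  have h2471 : ∀ u < 44478, (fun u => chkSlp tab slp u) u = true := ext_range (a := 44460) (len := 18) h2470 sl_2470
  have h2472 : ∀ u < 44496, (fun u => chkSlp tab slp u) u = true := ext_range (a := 44478) (len := 18) h2471 sl_2471
  have h2473 : ∀ u < 44514, (fun u => chkSlp tab slp u) u = true := ext_range (a := 44496) (len := 18) h2472 sl_2472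
  have h2474 : ∀ u < 44532, (fun u => chkSlp tab slp u) u = true := ext_range (a := 44514) (len := 18) h2473 sl_2473
  have h2475 : ∀ u < 44550, (fun u => chkSlp tab slp u) u = true := ext_range (a := 44532) (len := 18) h2474 sl_2474
  have h2476 : ∀ u < 44568, (fun u => chkSlp tab slp u) u = true := ext_range (a := 44550) (len := 18) h2475 sl_2475
  have h2477 : ∀ u < 44586, (fun u => chkSlp tab slp u) u = true := ext_range (a := 44568) (len := 18) h2476 sl_2476
  have h2478 : ∀ u < 44604, (fun u => chkSlp tab slp u) u = true := ext_range (a := 44586) (len := 18) h2477 sl_2477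
  have h2479 : ∀ u < 44622, (fun u => chkSlp tab slp u) u = true := ext_range (a := 44604) (len := 18) h2478 sl_2478
  have h2480 : ∀ u < 44640, (fun u => chkSlp tab slp u) u = true := ext_range (a := 44622) (len := 18) h2479 sl_2479
  have h2481 : ∀ u < 44658, (fun u => chkSlp tab slp u) u = true := ext_range (a := 44640) (len := 18) h2480 sl_2480
  have h2482 : ∀ u < 44676, (fun u => chkSlp tab slp u) u = true := ext_range (a := 44658) (len := 18) h2481 sl_2481
  have h2483 : ∀ u < 44694, (fun u => chkSlp tab slp u) u = true := ext_range (a := 44676) (len := 18) h2482 sl_2482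
  have h2484 : ∀ u < 44712, (fun u => chkSlp tab slp u) u = true := ext_range (a := 44694) (len := 18) h2483 sl_2483
  have h2485 : ∀ u < 44730, (fun u => chkSlp tab slp u) u = true := ext_range (a := 44712) (len := 18) h2484 sl_2484
  have h2486 : ∀ u < 44748, (fun u => chkSlp tab slp u) u = true := ext_range (a := 44730) (len := 18) h2485 sl_2485
  have h2487 : ∀ u < 44766, (fun u => chkSlp tab slp u) u = true := ext_range (a := 44748) (len := 18) h2486 sl_2486
  have h2488 : ∀ u < 44784, (fun u => chkSlp tab slp u) u = true := ext_range (a := 44766) (len := 18) h2487 sl_2487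
  have h2489 : ∀ u < 44802, (fun u => chkSlp tab slp u) u = true := ext_range (a := 44784) (len := 18) h2488 sl_2488
  have h2490 : ∀ u < 44820, (fun u => chkSlp tab slp u) u = true := ext_range (a := 44802) (len := 18) h2489 sl_2489
  have h2491 : ∀ u < 44838, (fun u => chkSlp tab slp u) u = true := ext_range (a := 44820) (len := 18) h2490 sl_2490
  have h2492 : ∀ u < 44856, (fun u => chkSlp tab slp u) u = true := ext_range (a := 44838) (len := 18) h2491 sl_2491
  have h2493 : ∀ u < 44874, (fun u => chkSlp tab slp u) u = true := ext_range (a := 44856) (len := 18) h2492 sl_2492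
  have h2494 : ∀ u < 44892, (fun u => chkSlp tab slp u) u = true := ext_range (a := 44874) (len := 18) h2493 sl_2493
  have h2495 : ∀ u < 44910, (fun u => chkSlp tab slp u) u = true := ext_range (a := 44892) (len := 18) h2494 sl_2494
  have h2496 : ∀ u < 44928, (fun u => chkSlp tab slp u) u = true := ext_range (a := 44910) (len := 18) h2495 sl_2495
  have h2497 : ∀ u < 44946, (fun u => chkSlp tab slp u) u = true := ext_range (a := 44928) (len := 18) h2496 sl_2496
  have h2498 : ∀ u < 44964, (fun u => chkSlp tab slp u) u = true := ext_range (a := 44946) (len := 18) h2497 sl_2497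
  have h2499 : ∀ u < 44982, (fun u => chkSlp tab slp u) u = true := ext_range (a := 44964) (len := 18) h2498 sl_2498
  have h2500 : ∀ u < 45000, (fun u => chkSlp tab slp u) u = true := ext_range (a := 44982) (len := 18) h2499 sl_2499
  have h2501 : ∀ u < 45018, (fun u => chkSlp tab slp u) u = true := ext_range (a := 45000) (len := 18) h2500 sl_2500
  have h2502 : ∀ u < 45036, (fun u => chkSlp tab slp u) u = true := ext_range (a := 45018) (len := 18) h2501 sl_2501
  have h2503 : ∀ u < 45054, (fun u => chkSlp tab slp u) u = true := ext_range (a := 45036) (len := 18) h2502 sl_2502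
  have h2504 : ∀ u < 45072, (fun u => chkSlp tab slp u) u = true := ext_range (a := 45054) (len := 18) h2503 sl_2503
  have h2505 : ∀ u < 45090, (fun u => chkSlp tab slp u) u = true := ext_range (a := 45072) (len := 18) h2504 sl_2504
  have h2506 : ∀ u < 45108, (fun u => chkSlp tab slp u) u = true := ext_range (a := 45090) (len := 18) h2505 sl_2505
  have h2507 : ∀ u < 45126, (fun u => chkSlp tab slp u) u = true := ext_range (a := 45108) (len := 18) h2506 sl_2506
  have h2508 : ∀ u < 45144, (fun u => chkSlp tab slp u) u = true := ext_range (a := 45126) (len := 18) h2507 sl_2507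
  have h2509 : ∀ u < 45162, (fun u => chkSlp tab slp u) u = true := ext_range (a := 45144) (len := 18) h2508 sl_2508
  have h2510 : ∀ u < 45180, (fun u => chkSlp tab slp u) u = true := ext_range (a := 45162) (len := 18) h2509 sl_2509
  have h2511 : ∀ u < 45198, (fun u => chkSlp tab slp u) u = true := ext_range (a := 45180) (len := 18) h2510 sl_2510
  have h2512 : ∀ u < 45216, (fun u => chkSlp tab slp u) u = true := ext_range (a := 45198) (len := 18) h2511 sl_2511
  have h2513 : ∀ u < 45234, (fun u => chkSlp tab slp u) u = true := ext_range (a := 45216) (len := 18) h2512 sl_2512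
  have h2514 : ∀ u < 45252, (fun u => chkSlp tab slp u) u = true := ext_range (a := 45234) (len := 18) h2513 sl_2513
  have h2515 : ∀ u < 45270, (fun u => chkSlp tab slp u) u = true := ext_range (a := 45252) (len := 18) h2514 sl_2514
  have h2516 : ∀ u < 45288, (fun u => chkSlp tab slp u) u = true := ext_range (a := 45270) (len := 18) h2515 sl_2515
  have h2517 : ∀ u < 45306, (fun u => chkSlp tab slp u) u = true := ext_range (a := 45288) (len := 18) h2516 sl_2516
  have h2518 : ∀ u < 45324, (fun u => chkSlp tab slp u) u = true := ext_range (a := 45306) (len := 18) h2517 sl_2517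
  have h2519 : ∀ u < 45342, (fun u => chkSlp tab slp u) u = true := ext_range (a := 45324) (len := 18) h2518 sl_2518
  have h2520 : ∀ u < 45360, (fun u => chkSlp tab slp u) u = true := ext_range (a := 45342) (len := 18) h2519 sl_2519
  have h2521 : ∀ u < 45378, (fun u => chkSlp tab slp u) u = true := ext_range (a := 45360) (len := 18) h2520 sl_2520
  have h2522 : ∀ u < 45396, (fun u => chkSlp tab slp u) u = true := ext_range (a := 45378) (len := 18) h2521 sl_2521
  have h2523 : ∀ u < 45414, (fun u => chkSlp tab slp u) u = true := ext_range (a := 45396) (len := 18) h2522 sl_2522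
  have h2524 : ∀ u < 45432, (fun u => chkSlp tab slp u) u = true := ext_range (a := 45414) (len := 18) h2523 sl_2523
  have h2525 : ∀ u < 45450, (fun u => chkSlp tab slp u) u = true := ext_range (a := 45432) (len := 18) h2524 sl_2524
  have h2526 : ∀ u < 45468, (fun u => chkSlp tab slp u) u = true := ext_range (a := 45450) (len := 18) h2525 sl_2525
  have h2527 : ∀ u < 45486, (fun u => chkSlp tab slp u) u = true := ext_range (a := 45468) (len := 18) h2526 sl_2526
  have h2528 : ∀ u < 45504, (fun u => chkSlp tab slp u) u = true := ext_range (a := 45486) (len := 18) h2527 sl_2527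
  have h2529 : ∀ u < 45522, (fun u => chkSlp tab slp u) u = true := ext_range (a := 45504) (len := 18) h2528 sl_2528
  have h2530 : ∀ u < 45540, (fun u => chkSlp tab slp u) u = true := ext_range (a := 45522) (len := 18) h2529 sl_2529
  have h2531 : ∀ u < 45558, (fun u => chkSlp tab slp u) u = true := ext_range (a := 45540) (len := 18) h2530 sl_2530
  have h2532 : ∀ u < 45576, (fun u => chkSlp tab slp u) u = true := ext_range (a := 45558) (len := 18) h2531 sl_2531
  have h2533 : ∀ u < 45594, (fun u => chkSlp tab slp u) u = true := ext_range (a := 45576) (len := 18) h2532 sl_2532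
  have h2534 : ∀ u < 45612, (fun u => chkSlp tab slp u) u = true := ext_range (a := 45594) (len := 18) h2533 sl_2533
  have h2535 : ∀ u < 45630, (fun u => chkSlp tab slp u) u = true := ext_range (a := 45612) (len := 18) h2534 sl_2534
  have h2536 : ∀ u < 45648, (fun u => chkSlp tab slp u) u = true := ext_range (a := 45630) (len := 18) h2535 sl_2535
  have h2537 : ∀ u < 45666, (fun u => chkSlp tab slp u) u = true := ext_range (a := 45648) (len := 18) h2536 sl_2536
  have h2538 : ∀ u < 45684, (fun u => chkSlp tab slp u) u = true := ext_range (a := 45666) (len := 18) h2537 sl_2537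
  have h2539 : ∀ u < 45702, (fun u => chkSlp tab slp u) u = true := ext_range (a := 45684) (len := 18) h2538 sl_2538
  have h2540 : ∀ u < 45720, (fun u => chkSlp tab slp u) u = true := ext_range (a := 45702) (len := 18) h2539 sl_2539
  have h2541 : ∀ u < 45738, (fun u => chkSlp tab slp u) u = true := ext_range (a := 45720) (len := 18) h2540 sl_2540
  have h2542 : ∀ u < 45756, (fun u => chkSlp tab slp u) u = true := ext_range (a := 45738) (len := 18) h2541 sl_2541
  have h2543 : ∀ u < 45774, (fun u => chkSlp tab slp u) u = true := ext_range (a := 45756) (len := 18) h2542 sl_2542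
  have h2544 : ∀ u < 45792, (fun u => chkSlp tab slp u) u = true := ext_range (a := 45774) (len := 18) h2543 sl_2543
  have h2545 : ∀ u < 45810, (fun u => chkSlp tab slp u) u = true := ext_range (a := 45792) (len := 18) h2544 sl_2544
  have h2546 : ∀ u < 45828, (fun u => chkSlp tab slp u) u = true := ext_range (a := 45810) (len := 18) h2545 sl_2545
  have h2547 : ∀ u < 45846, (fun u => chkSlp tab slp u) u = true := ext_range (a := 45828) (len := 18) h2546 sl_2546
  have h2548 : ∀ u < 45864, (fun u => chkSlp tab slp u) u = true := ext_range (a := 45846) (len := 18) h2547 sl_2547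
  have h2549 : ∀ u < 45882, (fun u => chkSlp tab slp u) u = true := ext_range (a := 45864) (len := 18) h2548 sl_2548
  have h2550 : ∀ u < 45900, (fun u => chkSlp tab slp u) u = true := ext_range (a := 45882) (len := 18) h2549 sl_2549
  have h2551 : ∀ u < 45918, (fun u => chkSlp tab slp u) u = true := ext_range (a := 45900) (len := 18) h2550 sl_2550
  have h2552 : ∀ u < 45936, (fun u => chkSlp tab slp u) u = true := ext_range (a := 45918) (len := 18) h2551 sl_2551
  have h2553 : ∀ u < 45954, (fun u => chkSlp tab slp u) u = true := ext_range (a := 45936) (len := 18) h2552 sl_2552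
  have h2554 : ∀ u < 45972, (fun u => chkSlp tab slp u) u = true := ext_range (a := 45954) (len := 18) h2553 sl_2553
  have h2555 : ∀ u < 45990, (fun u => chkSlp tab slp u) u = true := ext_range (a := 45972) (len := 18) h2554 sl_2554
  have h2556 : ∀ u < 46008, (fun u => chkSlp tab slp u) u = true := ext_range (a := 45990) (len := 18) h2555 sl_2555
  have h2557 : ∀ u < 46026, (fun u => chkSlp tab slp u) u = true := ext_range (a := 46008) (len := 18) h2556 sl_2556
  have h2558 : ∀ u < 46044, (fun u => chkSlp tab slp u) u = true := ext_range (a := 46026) (len := 18) h2557 sl_2557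
  have h2559 : ∀ u < 46062, (fun u => chkSlp tab slp u) u = true := ext_range (a := 46044) (len := 18) h2558 sl_2558
  have h2560 : ∀ u < 46080, (fun u => chkSlp tab slp u) u = true := ext_range (a := 46062) (len := 18) h2559 sl_2559
  have h2561 : ∀ u < 46098, (fun u => chkSlp tab slp u) u = true := ext_range (a := 46080) (len := 18) h2560 sl_2560
  have h2562 : ∀ u < 46116, (fun u => chkSlp tab slp u) u = true := ext_range (a := 46098) (len := 18) h2561 sl_2561
  have h2563 : ∀ u < 46134, (fun u => chkSlp tab slp u) u = true := ext_range (a := 46116) (len := 18) h2562 sl_2562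
  have h2564 : ∀ u < 46152, (fun u => chkSlp tab slp u) u = true := ext_range (a := 46134) (len := 18) h2563 sl_2563
  have h2565 : ∀ u < 46170, (fun u => chkSlp tab slp u) u = true := ext_range (a := 46152) (len := 18) h2564 sl_2564
  have h2566 : ∀ u < 46188, (fun u => chkSlp tab slp u) u = true := ext_range (a := 46170) (len := 18) h2565 sl_2565
  have h2567 : ∀ u < 46206, (fun u => chkSlp tab slp u) u = true := ext_range (a := 46188) (len := 18) h2566 sl_2566
  have h2568 : ∀ u < 46224, (fun u => chkSlp tab slp u) u = true := ext_range (a := 46206) (len := 18) h2567 sl_2567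
  have h2569 : ∀ u < 46242, (fun u => chkSlp tab slp u) u = true := ext_range (a := 46224) (len := 18) h2568 sl_2568
  have h2570 : ∀ u < 46260, (fun u => chkSlp tab slp u) u = true := ext_range (a := 46242) (len := 18) h2569 sl_2569
  have h2571 : ∀ u < 46278, (fun u => chkSlp tab slp u) u = true := ext_range (a := 46260) (len := 18) h2570 sl_2570
  have h2572 : ∀ u < 46296, (fun u => chkSlp tab slp u) u = true := ext_range (a := 46278) (len := 18) h2571 sl_2571
  have h2573 : ∀ u < 46314, (fun u => chkSlp tab slp u) u = true := ext_range (a := 46296) (len := 18) h2572 sl_2572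
  have h2574 : ∀ u < 46332, (fun u => chkSlp tab slp u) u = true := ext_range (a := 46314) (len := 18) h2573 sl_2573
  have h2575 : ∀ u < 46350, (fun u => chkSlp tab slp u) u = true := ext_range (a := 46332) (len := 18) h2574 sl_2574
  have h2576 : ∀ u < 46368, (fun u => chkSlp tab slp u) u = true := ext_range (a := 46350) (len := 18) h2575 sl_2575
  have h2577 : ∀ u < 46386, (fun u => chkSlp tab slp u) u = true := ext_range (a := 46368) (len := 18) h2576 sl_2576
  have h2578 : ∀ u < 46404, (fun u => chkSlp tab slp u) u = true := ext_range (a := 46386) (len := 18) h2577 sl_2577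
  have h2579 : ∀ u < 46422, (fun u => chkSlp tab slp u) u = true := ext_range (a := 46404) (len := 18) h2578 sl_2578
  have h2580 : ∀ u < 46440, (fun u => chkSlp tab slp u) u = true := ext_range (a := 46422) (len := 18) h2579 sl_2579
  have h2581 : ∀ u < 46458, (fun u => chkSlp tab slp u) u = true := ext_range (a := 46440) (len := 18) h2580 sl_2580
  have h2582 : ∀ u < 46476, (fun u => chkSlp tab slp u) u = true := ext_range (a := 46458) (len := 18) h2581 sl_2581
  have h2583 : ∀ u < 46494, (fun u => chkSlp tab slp u) u = true := ext_range (a := 46476) (len := 18) h2582 sl_2582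
  have h2584 : ∀ u < 46512, (fun u => chkSlp tab slp u) u = true := ext_range (a := 46494) (len := 18) h2583 sl_2583
  have h2585 : ∀ u < 46530, (fun u => chkSlp tab slp u) u = true := ext_range (a := 46512) (len := 18) h2584 sl_2584
  have h2586 : ∀ u < 46548, (fun u => chkSlp tab slp u) u = true := ext_range (a := 46530) (len := 18) h2585 sl_2585
  have h2587 : ∀ u < 46566, (fun u => chkSlp tab slp u) u = true := ext_range (a := 46548) (len := 18) h2586 sl_2586
  have h2588 : ∀ u < 46584, (fun u => chkSlp tab slp u) u = true := ext_range (a := 46566) (len := 18) h2587 sl_2587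
  have h2589 : ∀ u < 46602, (fun u => chkSlp tab slp u) u = true := ext_range (a := 46584) (len := 18) h2588 sl_2588
  have h2590 : ∀ u < 46620, (fun u => chkSlp tab slp u) u = true := ext_range (a := 46602) (len := 18) h2589 sl_2589
  have h2591 : ∀ u < 46638, (fun u => chkSlp tab slp u) u = true := ext_range (a := 46620) (len := 18) h2590 sl_2590
  have h2592 : ∀ u < 46656, (fun u => chkSlp tab slp u) u = true := ext_range (a := 46638) (len := 18) h2591 sl_2591
  have h2593 : ∀ u < 46674, (fun u => chkSlp tab slp u) u = true := ext_range (a := 46656) (len := 18) h2592 sl_2592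
  have h2594 : ∀ u < 46692, (fun u => chkSlp tab slp u) u = true := ext_range (a := 46674) (len := 18) h2593 sl_2593
  have h2595 : ∀ u < 46710, (fun u => chkSlp tab slp u) u = true := ext_range (a := 46692) (len := 18) h2594 sl_2594
  have h2596 : ∀ u < 46728, (fun u => chkSlp tab slp u) u = true := ext_range (a := 46710) (len := 18) h2595 sl_2595
  have h2597 : ∀ u < 46746, (fun u => chkSlp tab slp u) u = true := ext_range (a := 46728) (len := 18) h2596 sl_2596
  have h2598 : ∀ u < 46764, (fun u => chkSlp tab slp u) u = true := ext_range (a := 46746) (len := 18) h2597 sl_2597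
  have h2599 : ∀ u < 46782, (fun u => chkSlp tab slp u) u = true := ext_range (a := 46764) (len := 18) h2598 sl_2598
  have h2600 : ∀ u < 46800, (fun u => chkSlp tab slp u) u = true := ext_range (a := 46782) (len := 18) h2599 sl_2599
  have h2601 : ∀ u < 46818, (fun u => chkSlp tab slp u) u = true := ext_range (a := 46800) (len := 18) h2600 sl_2600
  have h2602 : ∀ u < 46836, (fun u => chkSlp tab slp u) u = true := ext_range (a := 46818) (len := 18) h2601 sl_2601
  have h2603 : ∀ u < 46854, (fun u => chkSlp tab slp u) u = true := ext_range (a := 46836) (len := 18) h2602 sl_2602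
  have h2604 : ∀ u < 46872, (fun u => chkSlp tab slp u) u = true := ext_range (a := 46854) (len := 18) h2603 sl_2603
  have h2605 : ∀ u < 46890, (fun u => chkSlp tab slp u) u = true := ext_range (a := 46872) (len := 18) h2604 sl_2604
  have h2606 : ∀ u < 46908, (fun u => chkSlp tab slp u) u = true := ext_range (a := 46890) (len := 18) h2605 sl_2605
  have h2607 : ∀ u < 46926, (fun u => chkSlp tab slp u) u = true := ext_range (a := 46908) (len := 18) h2606 sl_2606
  have h2608 : ∀ u < 46944, (fun u => chkSlp tab slp u) u = true := ext_range (a := 46926) (len := 18) h2607 sl_2607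
  have h2609 : ∀ u < 46962, (fun u => chkSlp tab slp u) u = true := ext_range (a := 46944) (len := 18) h2608 sl_2608
  have h2610 : ∀ u < 46980, (fun u => chkSlp tab slp u) u = true := ext_range (a := 46962) (len := 18) h2609 sl_2609
  have h2611 : ∀ u < 46998, (fun u => chkSlp tab slp u) u = true := ext_range (a := 46980) (len := 18) h2610 sl_2610
  have h2612 : ∀ u < 47016, (fun u => chkSlp tab slp u) u = true := ext_range (a := 46998) (len := 18) h2611 sl_2611
  have h2613 : ∀ u < 47034, (fun u => chkSlp tab slp u) u = true := ext_range (a := 47016) (len := 18) h2612 sl_2612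
  have h2614 : ∀ u < 47052, (fun u => chkSlp tab slp u) u = true := ext_range (a := 47034) (len := 18) h2613 sl_2613
  have h2615 : ∀ u < 47070, (fun u => chkSlp tab slp u) u = true := ext_range (a := 47052) (len := 18) h2614 sl_2614
  have h2616 : ∀ u < 47088, (fun u => chkSlp tab slp u) u = true := ext_range (a := 47070) (len := 18) h2615 sl_2615
  have h2617 : ∀ u < 47106, (fun u => chkSlp tab slp u) u = true := ext_range (a := 47088) (len := 18) h2616 sl_2616
  have h2618 : ∀ u < 47124, (fun u => chkSlp tab slp u) u = true := ext_range (a := 47106) (len := 18) h2617 sl_2617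
  have h2619 : ∀ u < 47142, (fun u => chkSlp tab slp u) u = true := ext_range (a := 47124) (len := 18) h2618 sl_2618
  have h2620 : ∀ u < 47160, (fun u => chkSlp tab slp u) u = true := ext_range (a := 47142) (len := 18) h2619 sl_2619
  have h2621 : ∀ u < 47178, (fun u => chkSlp tab slp u) u = true := ext_range (a := 47160) (len := 18) h2620 sl_2620
  have h2622 : ∀ u < 47196, (fun u => chkSlp tab slp u) u = true := ext_range (a := 47178) (len := 18) h2621 sl_2621
  have h2623 : ∀ u < 47214, (fun u => chkSlp tab slp u) u = true := ext_range (a := 47196) (len := 18) h2622 sl_2622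
  have h2624 : ∀ u < 47232, (fun u => chkSlp tab slp u) u = true := ext_range (a := 47214) (len := 18) h2623 sl_2623
  have h2625 : ∀ u < 47250, (fun u => chkSlp tab slp u) u = true := ext_range (a := 47232) (len := 18) h2624 sl_2624
  have h2626 : ∀ u < 47268, (fun u => chkSlp tab slp u) u = true := ext_range (a := 47250) (len := 18) h2625 sl_2625
  have h2627 : ∀ u < 47286, (fun u => chkSlp tab slp u) u = true := ext_range (a := 47268) (len := 18) h2626 sl_2626
  have h2628 : ∀ u < 47304, (fun u => chkSlp tab slp u) u = true := ext_range (a := 47286) (len := 18) h2627 sl_2627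
  have h2629 : ∀ u < 47322, (fun u => chkSlp tab slp u) u = true := ext_range (a := 47304) (len := 18) h2628 sl_2628
  have h2630 : ∀ u < 47340, (fun u => chkSlp tab slp u) u = true := ext_range (a := 47322) (len := 18) h2629 sl_2629
  have h2631 : ∀ u < 47358, (fun u => chkSlp tab slp u) u = true := ext_range (a := 47340) (len := 18) h2630 sl_2630
  have h2632 : ∀ u < 47376, (fun u => chkSlp tab slp u) u = true := ext_range (a := 47358) (len := 18) h2631 sl_2631
  have h2633 : ∀ u < 47394, (fun u => chkSlp tab slp u) u = true := ext_range (a := 47376) (len := 18) h2632 sl_2632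
  have h2634 : ∀ u < 47412, (fun u => chkSlp tab slp u) u = true := ext_range (a := 47394) (len := 18) h2633 sl_2633
  have h2635 : ∀ u < 47430, (fun u => chkSlp tab slp u) u = true := ext_range (a := 47412) (len := 18) h2634 sl_2634
  have h2636 : ∀ u < 47448, (fun u => chkSlp tab slp u) u = true := ext_range (a := 47430) (len := 18) h2635 sl_2635
  have h2637 : ∀ u < 47466, (fun u => chkSlp tab slp u) u = true := ext_range (a := 47448) (len := 18) h2636 sl_2636
  have h2638 : ∀ u < 47484, (fun u => chkSlp tab slp u) u = true := ext_range (a := 47466) (len := 18) h2637 sl_2637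
  have h2639 : ∀ u < 47502, (fun u => chkSlp tab slp u) u = true := ext_range (a := 47484) (len := 18) h2638 sl_2638
  have h2640 : ∀ u < 47520, (fun u => chkSlp tab slp u) u = true := ext_range (a := 47502) (len := 18) h2639 sl_2639
  have h2641 : ∀ u < 47538, (fun u => chkSlp tab slp u) u = true := ext_range (a := 47520) (len := 18) h2640 sl_2640
  have h2642 : ∀ u < 47556, (fun u => chkSlp tab slp u) u = true := ext_range (a := 47538) (len := 18) h2641 sl_2641
  have h2643 : ∀ u < 47574, (fun u => chkSlp tab slp u) u = true := ext_range (a := 47556) (len := 18) h2642 sl_2642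
  have h2644 : ∀ u < 47592, (fun u => chkSlp tab slp u) u = true := ext_range (a := 47574) (len := 18) h2643 sl_2643
  have h2645 : ∀ u < 47610, (fun u => chkSlp tab slp u) u = true := ext_range (a := 47592) (len := 18) h2644 sl_2644
  have h2646 : ∀ u < 47628, (fun u => chkSlp tab slp u) u = true := ext_range (a := 47610) (len := 18) h2645 sl_2645
  have h2647 : ∀ u < 47646, (fun u => chkSlp tab slp u) u = true := ext_range (a := 47628) (len := 18) h2646 sl_2646
  have h2648 : ∀ u < 47664, (fun u => chkSlp tab slp u) u = true := ext_range (a := 47646) (len := 18) h2647 sl_2647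
  have h2649 : ∀ u < 47682, (fun u => chkSlp tab slp u) u = true := ext_range (a := 47664) (len := 18) h2648 sl_2648
  have h2650 : ∀ u < 47700, (fun u => chkSlp tab slp u) u = true := ext_range (a := 47682) (len := 18) h2649 sl_2649
  have h2651 : ∀ u < 47718, (fun u => chkSlp tab slp u) u = true := ext_range (a := 47700) (len := 18) h2650 sl_2650
  have h2652 : ∀ u < 47736, (fun u => chkSlp tab slp u) u = true := ext_range (a := 47718) (len := 18) h2651 sl_2651
  have h2653 : ∀ u < 47754, (fun u => chkSlp tab slp u) u = true := ext_range (a := 47736) (len := 18) h2652 sl_2652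
  have h2654 : ∀ u < 47772, (fun u => chkSlp tab slp u) u = true := ext_range (a := 47754) (len := 18) h2653 sl_2653
  have h2655 : ∀ u < 47790, (fun u => chkSlp tab slp u) u = true := ext_range (a := 47772) (len := 18) h2654 sl_2654
  have h2656 : ∀ u < 47808, (fun u => chkSlp tab slp u) u = true := ext_range (a := 47790) (len := 18) h2655 sl_2655
  have h2657 : ∀ u < 47826, (fun u => chkSlp tab slp u) u = true := ext_range (a := 47808) (len := 18) h2656 sl_2656
  have h2658 : ∀ u < 47844, (fun u => chkSlp tab slp u) u = true := ext_range (a := 47826) (len := 18) h2657 sl_2657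
  have h2659 : ∀ u < 47862, (fun u => chkSlp tab slp u) u = true := ext_range (a := 47844) (len := 18) h2658 sl_2658
  have h2660 : ∀ u < 47880, (fun u => chkSlp tab slp u) u = true := ext_range (a := 47862) (len := 18) h2659 sl_2659
  have h2661 : ∀ u < 47898, (fun u => chkSlp tab slp u) u = true := ext_range (a := 47880) (len := 18) h2660 sl_2660
  have h2662 : ∀ u < 47916, (fun u => chkSlp tab slp u) u = true := ext_range (a := 47898) (len := 18) h2661 sl_2661
  have h2663 : ∀ u < 47934, (fun u => chkSlp tab slp u) u = true := ext_range (a := 47916) (len := 18) h2662 sl_2662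
  have h2664 : ∀ u < 47952, (fun u => chkSlp tab slp u) u = true := ext_range (a := 47934) (len := 18) h2663 sl_2663
  have h2665 : ∀ u < 47970, (fun u => chkSlp tab slp u) u = true := ext_range (a := 47952) (len := 18) h2664 sl_2664
  have h2666 : ∀ u < 47988, (fun u => chkSlp tab slp u) u = true := ext_range (a := 47970) (len := 18) h2665 sl_2665
  have h2667 : ∀ u < 48006, (fun u => chkSlp tab slp u) u = true := ext_range (a := 47988) (len := 18) h2666 sl_2666
  have h2668 : ∀ u < 48024, (fun u => chkSlp tab slp u) u = true := ext_range (a := 48006) (len := 18) h2667 sl_2667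
  have h2669 : ∀ u < 48042, (fun u => chkSlp tab slp u) u = true := ext_range (a := 48024) (len := 18) h2668 sl_2668
  have h2670 : ∀ u < 48060, (fun u => chkSlp tab slp u) u = true := ext_range (a := 48042) (len := 18) h2669 sl_2669
  have h2671 : ∀ u < 48078, (fun u => chkSlp tab slp u) u = true := ext_range (a := 48060) (len := 18) h2670 sl_2670
  have h2672 : ∀ u < 48096, (fun u => chkSlp tab slp u) u = true := ext_range (a := 48078) (len := 18) h2671 sl_2671
  have h2673 : ∀ u < 48114, (fun u => chkSlp tab slp u) u = true := ext_range (a := 48096) (len := 18) h2672 sl_2672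
  have h2674 : ∀ u < 48132, (fun u => chkSlp tab slp u) u = true := ext_range (a := 48114) (len := 18) h2673 sl_2673
  have h2675 : ∀ u < 48150, (fun u => chkSlp tab slp u) u = true := ext_range (a := 48132) (len := 18) h2674 sl_2674
  have h2676 : ∀ u < 48168, (fun u => chkSlp tab slp u) u = true := ext_range (a := 48150) (len := 18) h2675 sl_2675
  have h2677 : ∀ u < 48186, (fun u => chkSlp tab slp u) u = true := ext_range (a := 48168) (len := 18) h2676 sl_2676
  have h2678 : ∀ u < 48204, (fun u => chkSlp tab slp u) u = true := ext_range (a := 48186) (len := 18) h2677 sl_2677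
  have h2679 : ∀ u < 48222, (fun u => chkSlp tab slp u) u = true := ext_range (a := 48204) (len := 18) h2678 sl_2678
  have h2680 : ∀ u < 48240, (fun u => chkSlp tab slp u) u = true := ext_range (a := 48222) (len := 18) h2679 sl_2679
  have h2681 : ∀ u < 48258, (fun u => chkSlp tab slp u) u = true := ext_range (a := 48240) (len := 18) h2680 sl_2680
  have h2682 : ∀ u < 48276, (fun u => chkSlp tab slp u) u = true := ext_range (a := 48258) (len := 18) h2681 sl_2681
  have h2683 : ∀ u < 48294, (fun u => chkSlp tab slp u) u = true := ext_range (a := 48276) (len := 18) h2682 sl_2682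
  have h2684 : ∀ u < 48312, (fun u => chkSlp tab slp u) u = true := ext_range (a := 48294) (len := 18) h2683 sl_2683
  have h2685 : ∀ u < 48330, (fun u => chkSlp tab slp u) u = true := ext_range (a := 48312) (len := 18) h2684 sl_2684
  have h2686 : ∀ u < 48348, (fun u => chkSlp tab slp u) u = true := ext_range (a := 48330) (len := 18) h2685 sl_2685
  have h2687 : ∀ u < 48366, (fun u => chkSlp tab slp u) u = true := ext_range (a := 48348) (len := 18) h2686 sl_2686
  have h2688 : ∀ u < 48384, (fun u => chkSlp tab slp u) u = true := ext_range (a := 48366) (len := 18) h2687 sl_2687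
  have h2689 : ∀ u < 48402, (fun u => chkSlp tab slp u) u = true := ext_range (a := 48384) (len := 18) h2688 sl_2688
  have h2690 : ∀ u < 48420, (fun u => chkSlp tab slp u) u = true := ext_range (a := 48402) (len := 18) h2689 sl_2689
  have h2691 : ∀ u < 48438, (fun u => chkSlp tab slp u) u = true := ext_range (a := 48420) (len := 18) h2690 sl_2690
  have h2692 : ∀ u < 48456, (fun u => chkSlp tab slp u) u = true := ext_range (a := 48438) (len := 18) h2691 sl_2691
  have h2693 : ∀ u < 48474, (fun u => chkSlp tab slp u) u = true := ext_range (a := 48456) (len := 18) h2692 sl_2692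
  have h2694 : ∀ u < 48492, (fun u => chkSlp tab slp u) u = true := ext_range (a := 48474) (len := 18) h2693 sl_2693
  have h2695 : ∀ u < 48510, (fun u => chkSlp tab slp u) u = true := ext_range (a := 48492) (len := 18) h2694 sl_2694
  have h2696 : ∀ u < 48528, (fun u => chkSlp tab slp u) u = true := ext_range (a := 48510) (len := 18) h2695 sl_2695
  have h2697 : ∀ u < 48546, (fun u => chkSlp tab slp u) u = true := ext_range (a := 48528) (len := 18) h2696 sl_2696
  have h2698 : ∀ u < 48564, (fun u => chkSlp tab slp u) u = true := ext_range (a := 48546) (len := 18) h2697 sl_2697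
  have h2699 : ∀ u < 48582, (fun u => chkSlp tab slp u) u = true := ext_range (a := 48564) (len := 18) h2698 sl_2698
  have h2700 : ∀ u < 48600, (fun u => chkSlp tab slp u) u = true := ext_range (a := 48582) (len := 18) h2699 sl_2699
  have h2701 : ∀ u < 48618, (fun u => chkSlp tab slp u) u = true := ext_range (a := 48600) (len := 18) h2700 sl_2700
  have h2702 : ∀ u < 48636, (fun u => chkSlp tab slp u) u = true := ext_range (a := 48618) (len := 18) h2701 sl_2701
  have h2703 : ∀ u < 48654, (fun u => chkSlp tab slp u) u = true := ext_range (a := 48636) (len := 18) h2702 sl_2702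
  have h2704 : ∀ u < 48672, (fun u => chkSlp tab slp u) u = true := ext_range (a := 48654) (len := 18) h2703 sl_2703
  have h2705 : ∀ u < 48690, (fun u => chkSlp tab slp u) u = true := ext_range (a := 48672) (len := 18) h2704 sl_2704
  have h2706 : ∀ u < 48708, (fun u => chkSlp tab slp u) u = true := ext_range (a := 48690) (len := 18) h2705 sl_2705
  have h2707 : ∀ u < 48726, (fun u => chkSlp tab slp u) u = true := ext_range (a := 48708) (len := 18) h2706 sl_2706
  have h2708 : ∀ u < 48744, (fun u => chkSlp tab slp u) u = true := ext_range (a := 48726) (len := 18) h2707 sl_2707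
  have h2709 : ∀ u < 48762, (fun u => chkSlp tab slp u) u = true := ext_range (a := 48744) (len := 18) h2708 sl_2708
  have h2710 : ∀ u < 48780, (fun u => chkSlp tab slp u) u = true := ext_range (a := 48762) (len := 18) h2709 sl_2709
  have h2711 : ∀ u < 48798, (fun u => chkSlp tab slp u) u = true := ext_range (a := 48780) (len := 18) h2710 sl_2710
  have h2712 : ∀ u < 48816, (fun u => chkSlp tab slp u) u = true := ext_range (a := 48798) (len := 18) h2711 sl_2711
  have h2713 : ∀ u < 48834, (fun u => chkSlp tab slp u) u = true := ext_range (a := 48816) (len := 18) h2712 sl_2712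
  have h2714 : ∀ u < 48852, (fun u => chkSlp tab slp u) u = true := ext_range (a := 48834) (len := 18) h2713 sl_2713
  have h2715 : ∀ u < 48870, (fun u => chkSlp tab slp u) u = true := ext_range (a := 48852) (len := 18) h2714 sl_2714
  have h2716 : ∀ u < 48888, (fun u => chkSlp tab slp u) u = true := ext_range (a := 48870) (len := 18) h2715 sl_2715
  have h2717 : ∀ u < 48906, (fun u => chkSlp tab slp u) u = true := ext_range (a := 48888) (len := 18) h2716 sl_2716
  have h2718 : ∀ u < 48924, (fun u => chkSlp tab slp u) u = true := ext_range (a := 48906) (len := 18) h2717 sl_2717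
  have h2719 : ∀ u < 48942, (fun u => chkSlp tab slp u) u = true := ext_range (a := 48924) (len := 18) h2718 sl_2718
  have h2720 : ∀ u < 48960, (fun u => chkSlp tab slp u) u = true := ext_range (a := 48942) (len := 18) h2719 sl_2719
  have h2721 : ∀ u < 48978, (fun u => chkSlp tab slp u) u = true := ext_range (a := 48960) (len := 18) h2720 sl_2720
  have h2722 : ∀ u < 48996, (fun u => chkSlp tab slp u) u = true := ext_range (a := 48978) (len := 18) h2721 sl_2721
  have h2723 : ∀ u < 49014, (fun u => chkSlp tab slp u) u = true := ext_range (a := 48996) (len := 18) h2722 sl_2722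
  have h2724 : ∀ u < 49032, (fun u => chkSlp tab slp u) u = true := ext_range (a := 49014) (len := 18) h2723 sl_2723
  have h2725 : ∀ u < 49050, (fun u => chkSlp tab slp u) u = true := ext_range (a := 49032) (len := 18) h2724 sl_2724
  have h2726 : ∀ u < 49068, (fun u => chkSlp tab slp u) u = true := ext_range (a := 49050) (len := 18) h2725 sl_2725
  have h2727 : ∀ u < 49086, (fun u => chkSlp tab slp u) u = true := ext_range (a := 49068) (len := 18) h2726 sl_2726
  have h2728 : ∀ u < 49104, (fun u => chkSlp tab slp u) u = true := ext_range (a := 49086) (len := 18) h2727 sl_2727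
  have h2729 : ∀ u < 49122, (fun u => chkSlp tab slp u) u = true := ext_range (a := 49104) (len := 18) h2728 sl_2728
  have h2730 : ∀ u < 49140, (fun u => chkSlp tab slp u) u = true := ext_range (a := 49122) (len := 18) h2729 sl_2729
  have h2731 : ∀ u < 49158, (fun u => chkSlp tab slp u) u = true := ext_range (a := 49140) (len := 18) h2730 sl_2730
  have h2732 : ∀ u < 49176, (fun u => chkSlp tab slp u) u = true := ext_range (a := 49158) (len := 18) h2731 sl_2731
  have h2733 : ∀ u < 49194, (fun u => chkSlp tab slp u) u = true := ext_range (a := 49176) (len := 18) h2732 sl_2732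
  have h2734 : ∀ u < 49212, (fun u => chkSlp tab slp u) u = true := ext_range (a := 49194) (len := 18) h2733 sl_2733
  have h2735 : ∀ u < 49230, (fun u => chkSlp tab slp u) u = true := ext_range (a := 49212) (len := 18) h2734 sl_2734
  have h2736 : ∀ u < 49248, (fun u => chkSlp tab slp u) u = true := ext_range (a := 49230) (len := 18) h2735 sl_2735
  have h2737 : ∀ u < 49266, (fun u => chkSlp tab slp u) u = true := ext_range (a := 49248) (len := 18) h2736 sl_2736
  have h2738 : ∀ u < 49284, (fun u => chkSlp tab slp u) u = true := ext_range (a := 49266) (len := 18) h2737 sl_2737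
  have h2739 : ∀ u < 49302, (fun u => chkSlp tab slp u) u = true := ext_range (a := 49284) (len := 18) h2738 sl_2738
  have h2740 : ∀ u < 49320, (fun u => chkSlp tab slp u) u = true := ext_range (a := 49302) (len := 18) h2739 sl_2739
  have h2741 : ∀ u < 49338, (fun u => chkSlp tab slp u) u = true := ext_range (a := 49320) (len := 18) h2740 sl_2740
  have h2742 : ∀ u < 49356, (fun u => chkSlp tab slp u) u = true := ext_range (a := 49338) (len := 18) h2741 sl_2741
  have h2743 : ∀ u < 49374, (fun u => chkSlp tab slp u) u = true := ext_range (a := 49356) (len := 18) h2742 sl_2742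
  have h2744 : ∀ u < 49392, (fun u => chkSlp tab slp u) u = true := ext_range (a := 49374) (len := 18) h2743 sl_2743
  have h2745 : ∀ u < 49410, (fun u => chkSlp tab slp u) u = true := ext_range (a := 49392) (len := 18) h2744 sl_2744
  have h2746 : ∀ u < 49428, (fun u => chkSlp tab slp u) u = true := ext_range (a := 49410) (len := 18) h2745 sl_2745
  have h2747 : ∀ u < 49446, (fun u => chkSlp tab slp u) u = true := ext_range (a := 49428) (len := 18) h2746 sl_2746
  have h2748 : ∀ u < 49464, (fun u => chkSlp tab slp u) u = true := ext_range (a := 49446) (len := 18) h2747 sl_2747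
  have h2749 : ∀ u < 49482, (fun u => chkSlp tab slp u) u = true := ext_range (a := 49464) (len := 18) h2748 sl_2748
  have h2750 : ∀ u < 49500, (fun u => chkSlp tab slp u) u = true := ext_range (a := 49482) (len := 18) h2749 sl_2749
  have h2751 : ∀ u < 49518, (fun u => chkSlp tab slp u) u = true := ext_range (a := 49500) (len := 18) h2750 sl_2750
  have h2752 : ∀ u < 49536, (fun u => chkSlp tab slp u) u = true := ext_range (a := 49518) (len := 18) h2751 sl_2751
  have h2753 : ∀ u < 49554, (fun u => chkSlp tab slp u) u = true := ext_range (a := 49536) (len := 18) h2752 sl_2752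
  have h2754 : ∀ u < 49572, (fun u => chkSlp tab slp u) u = true := ext_range (a := 49554) (len := 18) h2753 sl_2753
  have h2755 : ∀ u < 49590, (fun u => chkSlp tab slp u) u = true := ext_range (a := 49572) (len := 18) h2754 sl_2754
  have h2756 : ∀ u < 49608, (fun u => chkSlp tab slp u) u = true := ext_range (a := 49590) (len := 18) h2755 sl_2755
  have h2757 : ∀ u < 49626, (fun u => chkSlp tab slp u) u = true := ext_range (a := 49608) (len := 18) h2756 sl_2756
  have h2758 : ∀ u < 49644, (fun u => chkSlp tab slp u) u = true := ext_range (a := 49626) (len := 18) h2757 sl_2757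
  have h2759 : ∀ u < 49662, (fun u => chkSlp tab slp u) u = true := ext_range (a := 49644) (len := 18) h2758 sl_2758
  have h2760 : ∀ u < 49680, (fun u => chkSlp tab slp u) u = true := ext_range (a := 49662) (len := 18) h2759 sl_2759
  have h2761 : ∀ u < 49698, (fun u => chkSlp tab slp u) u = true := ext_range (a := 49680) (len := 18) h2760 sl_2760
  have h2762 : ∀ u < 49716, (fun u => chkSlp tab slp u) u = true := ext_range (a := 49698) (len := 18) h2761 sl_2761
  have h2763 : ∀ u < 49734, (fun u => chkSlp tab slp u) u = true := ext_range (a := 49716) (len := 18) h2762 sl_2762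
  have h2764 : ∀ u < 49752, (fun u => chkSlp tab slp u) u = true := ext_range (a := 49734) (len := 18) h2763 sl_2763
  have h2765 : ∀ u < 49770, (fun u => chkSlp tab slp u) u = true := ext_range (a := 49752) (len := 18) h2764 sl_2764
  have h2766 : ∀ u < 49788, (fun u => chkSlp tab slp u) u = true := ext_range (a := 49770) (len := 18) h2765 sl_2765
  have h2767 : ∀ u < 49806, (fun u => chkSlp tab slp u) u = true := ext_range (a := 49788) (len := 18) h2766 sl_2766
  have h2768 : ∀ u < 49824, (fun u => chkSlp tab slp u) u = true := ext_range (a := 49806) (len := 18) h2767 sl_2767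
  have h2769 : ∀ u < 49842, (fun u => chkSlp tab slp u) u = true := ext_range (a := 49824) (len := 18) h2768 sl_2768
  have h2770 : ∀ u < 49860, (fun u => chkSlp tab slp u) u = true := ext_range (a := 49842) (len := 18) h2769 sl_2769
  have h2771 : ∀ u < 49878, (fun u => chkSlp tab slp u) u = true := ext_range (a := 49860) (len := 18) h2770 sl_2770
  have h2772 : ∀ u < 49896, (fun u => chkSlp tab slp u) u = true := ext_range (a := 49878) (len := 18) h2771 sl_2771
  have h2773 : ∀ u < 49914, (fun u => chkSlp tab slp u) u = true := ext_range (a := 49896) (len := 18) h2772 sl_2772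
  have h2774 : ∀ u < 49932, (fun u => chkSlp tab slp u) u = true := ext_range (a := 49914) (len := 18) h2773 sl_2773
  have h2775 : ∀ u < 49950, (fun u => chkSlp tab slp u) u = true := ext_range (a := 49932) (len := 18) h2774 sl_2774
  have h2776 : ∀ u < 49968, (fun u => chkSlp tab slp u) u = true := ext_range (a := 49950) (len := 18) h2775 sl_2775
  have h2777 : ∀ u < 49986, (fun u => chkSlp tab slp u) u = true := ext_range (a := 49968) (len := 18) h2776 sl_2776
  have h2778 : ∀ u < 50004, (fun u => chkSlp tab slp u) u = true := ext_range (a := 49986) (len := 18) h2777 sl_2777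
  have h2779 : ∀ u < 50022, (fun u => chkSlp tab slp u) u = true := ext_range (a := 50004) (len := 18) h2778 sl_2778
  have h2780 : ∀ u < 50040, (fun u => chkSlp tab slp u) u = true := ext_range (a := 50022) (len := 18) h2779 sl_2779
  have h2781 : ∀ u < 50058, (fun u => chkSlp tab slp u) u = true := ext_range (a := 50040) (len := 18) h2780 sl_2780
  have h2782 : ∀ u < 50076, (fun u => chkSlp tab slp u) u = true := ext_range (a := 50058) (len := 18) h2781 sl_2781
  have h2783 : ∀ u < 50094, (fun u => chkSlp tab slp u) u = true := ext_range (a := 50076) (len := 18) h2782 sl_2782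
  have h2784 : ∀ u < 50112, (fun u => chkSlp tab slp u) u = true := ext_range (a := 50094) (len := 18) h2783 sl_2783
  have h2785 : ∀ u < 50130, (fun u => chkSlp tab slp u) u = true := ext_range (a := 50112) (len := 18) h2784 sl_2784
  have h2786 : ∀ u < 50148, (fun u => chkSlp tab slp u) u = true := ext_range (a := 50130) (len := 18) h2785 sl_2785
  have h2787 : ∀ u < 50166, (fun u => chkSlp tab slp u) u = true := ext_range (a := 50148) (len := 18) h2786 sl_2786
  have h2788 : ∀ u < 50184, (fun u => chkSlp tab slp u) u = true := ext_range (a := 50166) (len := 18) h2787 sl_2787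
  have h2789 : ∀ u < 50202, (fun u => chkSlp tab slp u) u = true := ext_range (a := 50184) (len := 18) h2788 sl_2788
  have h2790 : ∀ u < 50220, (fun u => chkSlp tab slp u) u = true := ext_range (a := 50202) (len := 18) h2789 sl_2789
  have h2791 : ∀ u < 50238, (fun u => chkSlp tab slp u) u = true := ext_range (a := 50220) (len := 18) h2790 sl_2790
  have h2792 : ∀ u < 50256, (fun u => chkSlp tab slp u) u = true := ext_range (a := 50238) (len := 18) h2791 sl_2791
  have h2793 : ∀ u < 50274, (fun u => chkSlp tab slp u) u = true := ext_range (a := 50256) (len := 18) h2792 sl_2792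
  have h2794 : ∀ u < 50292, (fun u => chkSlp tab slp u) u = true := ext_range (a := 50274) (len := 18) h2793 sl_2793
  have h2795 : ∀ u < 50310, (fun u => chkSlp tab slp u) u = true := ext_range (a := 50292) (len := 18) h2794 sl_2794
  have h2796 : ∀ u < 50328, (fun u => chkSlp tab slp u) u = true := ext_range (a := 50310) (len := 18) h2795 sl_2795
  have h2797 : ∀ u < 50346, (fun u => chkSlp tab slp u) u = true := ext_range (a := 50328) (len := 18) h2796 sl_2796
  have h2798 : ∀ u < 50364, (fun u => chkSlp tab slp u) u = true := ext_range (a := 50346) (len := 18) h2797 sl_2797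
  have h2799 : ∀ u < 50382, (fun u => chkSlp tab slp u) u = true := ext_range (a := 50364) (len := 18) h2798 sl_2798
  have h2800 : ∀ u < 50400, (fun u => chkSlp tab slp u) u = true := ext_range (a := 50382) (len := 18) h2799 sl_2799
  have h2801 : ∀ u < 50418, (fun u => chkSlp tab slp u) u = true := ext_range (a := 50400) (len := 18) h2800 sl_2800
  have h2802 : ∀ u < 50436, (fun u => chkSlp tab slp u) u = true := ext_range (a := 50418) (len := 18) h2801 sl_2801
  have h2803 : ∀ u < 50454, (fun u => chkSlp tab slp u) u = true := ext_range (a := 50436) (len := 18) h2802 sl_2802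
  have h2804 : ∀ u < 50472, (fun u => chkSlp tab slp u) u = true := ext_range (a := 50454) (len := 18) h2803 sl_2803
  have h2805 : ∀ u < 50490, (fun u => chkSlp tab slp u) u = true := ext_range (a := 50472) (len := 18) h2804 sl_2804
  have h2806 : ∀ u < 50508, (fun u => chkSlp tab slp u) u = true := ext_range (a := 50490) (len := 18) h2805 sl_2805
  have h2807 : ∀ u < 50526, (fun u => chkSlp tab slp u) u = true := ext_range (a := 50508) (len := 18) h2806 sl_2806
  have h2808 : ∀ u < 50544, (fun u => chkSlp tab slp u) u = true := ext_range (a := 50526) (len := 18) h2807 sl_2807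
  have h2809 : ∀ u < 50562, (fun u => chkSlp tab slp u) u = true := ext_range (a := 50544) (len := 18) h2808 sl_2808
  have h2810 : ∀ u < 50580, (fun u => chkSlp tab slp u) u = true := ext_range (a := 50562) (len := 18) h2809 sl_2809
  have h2811 : ∀ u < 50598, (fun u => chkSlp tab slp u) u = true := ext_range (a := 50580) (len := 18) h2810 sl_2810
  have h2812 : ∀ u < 50616, (fun u => chkSlp tab slp u) u = true := ext_range (a := 50598) (len := 18) h2811 sl_2811
  have h2813 : ∀ u < 50634, (fun u => chkSlp tab slp u) u = true := ext_range (a := 50616) (len := 18) h2812 sl_2812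
  have h2814 : ∀ u < 50652, (fun u => chkSlp tab slp u) u = true := ext_range (a := 50634) (len := 18) h2813 sl_2813
  have h2815 : ∀ u < 50670, (fun u => chkSlp tab slp u) u = true := ext_range (a := 50652) (len := 18) h2814 sl_2814
  have h2816 : ∀ u < 50688, (fun u => chkSlp tab slp u) u = true := ext_range (a := 50670) (len := 18) h2815 sl_2815
  have h2817 : ∀ u < 50706, (fun u => chkSlp tab slp u) u = true := ext_range (a := 50688) (len := 18) h2816 sl_2816
  have h2818 : ∀ u < 50724, (fun u => chkSlp tab slp u) u = true := ext_range (a := 50706) (len := 18) h2817 sl_2817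
  have h2819 : ∀ u < 50742, (fun u => chkSlp tab slp u) u = true := ext_range (a := 50724) (len := 18) h2818 sl_2818
  have h2820 : ∀ u < 50760, (fun u => chkSlp tab slp u) u = true := ext_range (a := 50742) (len := 18) h2819 sl_2819
  have h2821 : ∀ u < 50778, (fun u => chkSlp tab slp u) u = true := ext_range (a := 50760) (len := 18) h2820 sl_2820
  have h2822 : ∀ u < 50796, (fun u => chkSlp tab slp u) u = true := ext_range (a := 50778) (len := 18) h2821 sl_2821
  have h2823 : ∀ u < 50814, (fun u => chkSlp tab slp u) u = true := ext_range (a := 50796) (len := 18) h2822 sl_2822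
  have h2824 : ∀ u < 50832, (fun u => chkSlp tab slp u) u = true := ext_range (a := 50814) (len := 18) h2823 sl_2823
  have h2825 : ∀ u < 50850, (fun u => chkSlp tab slp u) u = true := ext_range (a := 50832) (len := 18) h2824 sl_2824
  have h2826 : ∀ u < 50868, (fun u => chkSlp tab slp u) u = true := ext_range (a := 50850) (len := 18) h2825 sl_2825
  have h2827 : ∀ u < 50886, (fun u => chkSlp tab slp u) u = true := ext_range (a := 50868) (len := 18) h2826 sl_2826
  have h2828 : ∀ u < 50904, (fun u => chkSlp tab slp u) u = true := ext_range (a := 50886) (len := 18) h2827 sl_2827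
  have h2829 : ∀ u < 50922, (fun u => chkSlp tab slp u) u = true := ext_range (a := 50904) (len := 18) h2828 sl_2828
  have h2830 : ∀ u < 50940, (fun u => chkSlp tab slp u) u = true := ext_range (a := 50922) (len := 18) h2829 sl_2829
  have h2831 : ∀ u < 50958, (fun u => chkSlp tab slp u) u = true := ext_range (a := 50940) (len := 18) h2830 sl_2830
  have h2832 : ∀ u < 50976, (fun u => chkSlp tab slp u) u = true := ext_range (a := 50958) (len := 18) h2831 sl_2831
  have h2833 : ∀ u < 50994, (fun u => chkSlp tab slp u) u = true := ext_range (a := 50976) (len := 18) h2832 sl_2832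
  have h2834 : ∀ u < 51012, (fun u => chkSlp tab slp u) u = true := ext_range (a := 50994) (len := 18) h2833 sl_2833
  have h2835 : ∀ u < 51030, (fun u => chkSlp tab slp u) u = true := ext_range (a := 51012) (len := 18) h2834 sl_2834
  have h2836 : ∀ u < 51048, (fun u => chkSlp tab slp u) u = true := ext_range (a := 51030) (len := 18) h2835 sl_2835
  have h2837 : ∀ u < 51066, (fun u => chkSlp tab slp u) u = true := ext_range (a := 51048) (len := 18) h2836 sl_2836
  have h2838 : ∀ u < 51084, (fun u => chkSlp tab slp u) u = true := ext_range (a := 51066) (len := 18) h2837 sl_2837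
  have h2839 : ∀ u < 51102, (fun u => chkSlp tab slp u) u = true := ext_range (a := 51084) (len := 18) h2838 sl_2838
  have h2840 : ∀ u < 51120, (fun u => chkSlp tab slp u) u = true := ext_range (a := 51102) (len := 18) h2839 sl_2839
  have h2841 : ∀ u < 51138, (fun u => chkSlp tab slp u) u = true := ext_range (a := 51120) (len := 18) h2840 sl_2840
  have h2842 : ∀ u < 51156, (fun u => chkSlp tab slp u) u = true := ext_range (a := 51138) (len := 18) h2841 sl_2841
  have h2843 : ∀ u < 51174, (fun u => chkSlp tab slp u) u = true := ext_range (a := 51156) (len := 18) h2842 sl_2842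
  have h2844 : ∀ u < 51192, (fun u => chkSlp tab slp u) u = true := ext_range (a := 51174) (len := 18) h2843 sl_2843
  have h2845 : ∀ u < 51210, (fun u => chkSlp tab slp u) u = true := ext_range (a := 51192) (len := 18) h2844 sl_2844
  have h2846 : ∀ u < 51228, (fun u => chkSlp tab slp u) u = true := ext_range (a := 51210) (len := 18) h2845 sl_2845
  have h2847 : ∀ u < 51246, (fun u => chkSlp tab slp u) u = true := ext_range (a := 51228) (len := 18) h2846 sl_2846
  have h2848 : ∀ u < 51264, (fun u => chkSlp tab slp u) u = true := ext_range (a := 51246) (len := 18) h2847 sl_2847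
  have h2849 : ∀ u < 51282, (fun u => chkSlp tab slp u) u = true := ext_range (a := 51264) (len := 18) h2848 sl_2848
  have h2850 : ∀ u < 51300, (fun u => chkSlp tab slp u) u = true := ext_range (a := 51282) (len := 18) h2849 sl_2849
  have h2851 : ∀ u < 51318, (fun u => chkSlp tab slp u) u = true := ext_range (a := 51300) (len := 18) h2850 sl_2850
  have h2852 : ∀ u < 51336, (fun u => chkSlp tab slp u) u = true := ext_range (a := 51318) (len := 18) h2851 sl_2851
  have h2853 : ∀ u < 51354, (fun u => chkSlp tab slp u) u = true := ext_range (a := 51336) (len := 18) h2852 sl_2852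
  have h2854 : ∀ u < 51372, (fun u => chkSlp tab slp u) u = true := ext_range (a := 51354) (len := 18) h2853 sl_2853
  have h2855 : ∀ u < 51390, (fun u => chkSlp tab slp u) u = true := ext_range (a := 51372) (len := 18) h2854 sl_2854
  have h2856 : ∀ u < 51408, (fun u => chkSlp tab slp u) u = true := ext_range (a := 51390) (len := 18) h2855 sl_2855
  have h2857 : ∀ u < 51426, (fun u => chkSlp tab slp u) u = true := ext_range (a := 51408) (len := 18) h2856 sl_2856
  have h2858 : ∀ u < 51444, (fun u => chkSlp tab slp u) u = true := ext_range (a := 51426) (len := 18) h2857 sl_2857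
  have h2859 : ∀ u < 51462, (fun u => chkSlp tab slp u) u = true := ext_range (a := 51444) (len := 18) h2858 sl_2858
  have h2860 : ∀ u < 51480, (fun u => chkSlp tab slp u) u = true := ext_range (a := 51462) (len := 18) h2859 sl_2859
  have h2861 : ∀ u < 51498, (fun u => chkSlp tab slp u) u = true := ext_range (a := 51480) (len := 18) h2860 sl_2860
  have h2862 : ∀ u < 51516, (fun u => chkSlp tab slp u) u = true := ext_range (a := 51498) (len := 18) h2861 sl_2861
  have h2863 : ∀ u < 51534, (fun u => chkSlp tab slp u) u = true := ext_range (a := 51516) (len := 18) h2862 sl_2862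
  have h2864 : ∀ u < 51552, (fun u => chkSlp tab slp u) u = true := ext_range (a := 51534) (len := 18) h2863 sl_2863
  have h2865 : ∀ u < 51570, (fun u => chkSlp tab slp u) u = true := ext_range (a := 51552) (len := 18) h2864 sl_2864
  have h2866 : ∀ u < 51588, (fun u => chkSlp tab slp u) u = true := ext_range (a := 51570) (len := 18) h2865 sl_2865
  have h2867 : ∀ u < 51606, (fun u => chkSlp tab slp u) u = true := ext_range (a := 51588) (len := 18) h2866 sl_2866
  have h2868 : ∀ u < 51624, (fun u => chkSlp tab slp u) u = true := ext_range (a := 51606) (len := 18) h2867 sl_2867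
  have h2869 : ∀ u < 51642, (fun u => chkSlp tab slp u) u = true := ext_range (a := 51624) (len := 18) h2868 sl_2868
  have h2870 : ∀ u < 51660, (fun u => chkSlp tab slp u) u = true := ext_range (a := 51642) (len := 18) h2869 sl_2869
  have h2871 : ∀ u < 51678, (fun u => chkSlp tab slp u) u = true := ext_range (a := 51660) (len := 18) h2870 sl_2870
  have h2872 : ∀ u < 51696, (fun u => chkSlp tab slp u) u = true := ext_range (a := 51678) (len := 18) h2871 sl_2871
  have h2873 : ∀ u < 51714, (fun u => chkSlp tab slp u) u = true := ext_range (a := 51696) (len := 18) h2872 sl_2872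
  have h2874 : ∀ u < 51732, (fun u => chkSlp tab slp u) u = true := ext_range (a := 51714) (len := 18) h2873 sl_2873
  have h2875 : ∀ u < 51750, (fun u => chkSlp tab slp u) u = true := ext_range (a := 51732) (len := 18) h2874 sl_2874
  have h2876 : ∀ u < 51768, (fun u => chkSlp tab slp u) u = true := ext_range (a := 51750) (len := 18) h2875 sl_2875
  have h2877 : ∀ u < 51786, (fun u => chkSlp tab slp u) u = true := ext_range (a := 51768) (len := 18) h2876 sl_2876
  have h2878 : ∀ u < 51804, (fun u => chkSlp tab slp u) u = true := ext_range (a := 51786) (len := 18) h2877 sl_2877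
  have h2879 : ∀ u < 51822, (fun u => chkSlp tab slp u) u = true := ext_range (a := 51804) (len := 18) h2878 sl_2878
  have h2880 : ∀ u < 51840, (fun u => chkSlp tab slp u) u = true := ext_range (a := 51822) (len := 18) h2879 sl_2879
  have h2881 : ∀ u < 51858, (fun u => chkSlp tab slp u) u = true := ext_range (a := 51840) (len := 18) h2880 sl_2880
  have h2882 : ∀ u < 51876, (fun u => chkSlp tab slp u) u = true := ext_range (a := 51858) (len := 18) h2881 sl_2881
  have h2883 : ∀ u < 51894, (fun u => chkSlp tab slp u) u = true := ext_range (a := 51876) (len := 18) h2882 sl_2882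
  have h2884 : ∀ u < 51912, (fun u => chkSlp tab slp u) u = true := ext_range (a := 51894) (len := 18) h2883 sl_2883
  have h2885 : ∀ u < 51930, (fun u => chkSlp tab slp u) u = true := ext_range (a := 51912) (len := 18) h2884 sl_2884
  have h2886 : ∀ u < 51948, (fun u => chkSlp tab slp u) u = true := ext_range (a := 51930) (len := 18) h2885 sl_2885
  have h2887 : ∀ u < 51966, (fun u => chkSlp tab slp u) u = true := ext_range (a := 51948) (len := 18) h2886 sl_2886
  have h2888 : ∀ u < 51984, (fun u => chkSlp tab slp u) u = true := ext_range (a := 51966) (len := 18) h2887 sl_2887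
  have h2889 : ∀ u < 52002, (fun u => chkSlp tab slp u) u = true := ext_range (a := 51984) (len := 18) h2888 sl_2888
  have h2890 : ∀ u < 52020, (fun u => chkSlp tab slp u) u = true := ext_range (a := 52002) (len := 18) h2889 sl_2889
  have h2891 : ∀ u < 52038, (fun u => chkSlp tab slp u) u = true := ext_range (a := 52020) (len := 18) h2890 sl_2890
  have h2892 : ∀ u < 52056, (fun u => chkSlp tab slp u) u = true := ext_range (a := 52038) (len := 18) h2891 sl_2891
  have h2893 : ∀ u < 52074, (fun u => chkSlp tab slp u) u = true := ext_range (a := 52056) (len := 18) h2892 sl_2892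
  have h2894 : ∀ u < 52092, (fun u => chkSlp tab slp u) u = true := ext_range (a := 52074) (len := 18) h2893 sl_2893
  have h2895 : ∀ u < 52110, (fun u => chkSlp tab slp u) u = true := ext_range (a := 52092) (len := 18) h2894 sl_2894
  have h2896 : ∀ u < 52128, (fun u => chkSlp tab slp u) u = true := ext_range (a := 52110) (len := 18) h2895 sl_2895
  have h2897 : ∀ u < 52146, (fun u => chkSlp tab slp u) u = true := ext_range (a := 52128) (len := 18) h2896 sl_2896
  have h2898 : ∀ u < 52164, (fun u => chkSlp tab slp u) u = true := ext_range (a := 52146) (len := 18) h2897 sl_2897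
  have h2899 : ∀ u < 52182, (fun u => chkSlp tab slp u) u = true := ext_range (a := 52164) (len := 18) h2898 sl_2898
  have h2900 : ∀ u < 52200, (fun u => chkSlp tab slp u) u = true := ext_range (a := 52182) (len := 18) h2899 sl_2899
  have h2901 : ∀ u < 52218, (fun u => chkSlp tab slp u) u = true := ext_range (a := 52200) (len := 18) h2900 sl_2900
  have h2902 : ∀ u < 52236, (fun u => chkSlp tab slp u) u = true := ext_range (a := 52218) (len := 18) h2901 sl_2901
  have h2903 : ∀ u < 52254, (fun u => chkSlp tab slp u) u = true := ext_range (a := 52236) (len := 18) h2902 sl_2902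
  have h2904 : ∀ u < 52272, (fun u => chkSlp tab slp u) u = true := ext_range (a := 52254) (len := 18) h2903 sl_2903
  have h2905 : ∀ u < 52290, (fun u => chkSlp tab slp u) u = true := ext_range (a := 52272) (len := 18) h2904 sl_2904
  have h2906 : ∀ u < 52308, (fun u => chkSlp tab slp u) u = true := ext_range (a := 52290) (len := 18) h2905 sl_2905
  have h2907 : ∀ u < 52326, (fun u => chkSlp tab slp u) u = true := ext_range (a := 52308) (len := 18) h2906 sl_2906
  have h2908 : ∀ u < 52344, (fun u => chkSlp tab slp u) u = true := ext_range (a := 52326) (len := 18) h2907 sl_2907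
  have h2909 : ∀ u < 52362, (fun u => chkSlp tab slp u) u = true := ext_range (a := 52344) (len := 18) h2908 sl_2908
  have h2910 : ∀ u < 52380, (fun u => chkSlp tab slp u) u = true := ext_range (a := 52362) (len := 18) h2909 sl_2909
  have h2911 : ∀ u < 52398, (fun u => chkSlp tab slp u) u = true := ext_range (a := 52380) (len := 18) h2910 sl_2910
  have h2912 : ∀ u < 52416, (fun u => chkSlp tab slp u) u = true := ext_range (a := 52398) (len := 18) h2911 sl_2911
  have h2913 : ∀ u < 52434, (fun u => chkSlp tab slp u) u = true := ext_range (a := 52416) (len := 18) h2912 sl_2912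
  have h2914 : ∀ u < 52452, (fun u => chkSlp tab slp u) u = true := ext_range (a := 52434) (len := 18) h2913 sl_2913
  have h2915 : ∀ u < 52470, (fun u => chkSlp tab slp u) u = true := ext_range (a := 52452) (len := 18) h2914 sl_2914
  have h2916 : ∀ u < 52488, (fun u => chkSlp tab slp u) u = true := ext_range (a := 52470) (len := 18) h2915 sl_2915
  have h2917 : ∀ u < 52506, (fun u => chkSlp tab slp u) u = true := ext_range (a := 52488) (len := 18) h2916 sl_2916
  have h2918 : ∀ u < 52524, (fun u => chkSlp tab slp u) u = true := ext_range (a := 52506) (len := 18) h2917 sl_2917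
  have h2919 : ∀ u < 52542, (fun u => chkSlp tab slp u) u = true := ext_range (a := 52524) (len := 18) h2918 sl_2918
  have h2920 : ∀ u < 52560, (fun u => chkSlp tab slp u) u = true := ext_range (a := 52542) (len := 18) h2919 sl_2919
  have h2921 : ∀ u < 52578, (fun u => chkSlp tab slp u) u = true := ext_range (a := 52560) (len := 18) h2920 sl_2920
  have h2922 : ∀ u < 52596, (fun u => chkSlp tab slp u) u = true := ext_range (a := 52578) (len := 18) h2921 sl_2921
  have h2923 : ∀ u < 52614, (fun u => chkSlp tab slp u) u = true := ext_range (a := 52596) (len := 18) h2922 sl_2922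
  have h2924 : ∀ u < 52632, (fun u => chkSlp tab slp u) u = true := ext_range (a := 52614) (len := 18) h2923 sl_2923
  have h2925 : ∀ u < 52650, (fun u => chkSlp tab slp u) u = true := ext_range (a := 52632) (len := 18) h2924 sl_2924
  have h2926 : ∀ u < 52668, (fun u => chkSlp tab slp u) u = true := ext_range (a := 52650) (len := 18) h2925 sl_2925
  have h2927 : ∀ u < 52686, (fun u => chkSlp tab slp u) u = true := ext_range (a := 52668) (len := 18) h2926 sl_2926
  have h2928 : ∀ u < 52704, (fun u => chkSlp tab slp u) u = true := ext_range (a := 52686) (len := 18) h2927 sl_2927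
  have h2929 : ∀ u < 52722, (fun u => chkSlp tab slp u) u = true := ext_range (a := 52704) (len := 18) h2928 sl_2928
  have h2930 : ∀ u < 52740, (fun u => chkSlp tab slp u) u = true := ext_range (a := 52722) (len := 18) h2929 sl_2929
  have h2931 : ∀ u < 52758, (fun u => chkSlp tab slp u) u = true := ext_range (a := 52740) (len := 18) h2930 sl_2930
  have h2932 : ∀ u < 52776, (fun u => chkSlp tab slp u) u = true := ext_range (a := 52758) (len := 18) h2931 sl_2931
  have h2933 : ∀ u < 52794, (fun u => chkSlp tab slp u) u = true := ext_range (a := 52776) (len := 18) h2932 sl_2932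
  have h2934 : ∀ u < 52812, (fun u => chkSlp tab slp u) u = true := ext_range (a := 52794) (len := 18) h2933 sl_2933
  have h2935 : ∀ u < 52830, (fun u => chkSlp tab slp u) u = true := ext_range (a := 52812) (len := 18) h2934 sl_2934
  have h2936 : ∀ u < 52848, (fun u => chkSlp tab slp u) u = true := ext_range (a := 52830) (len := 18) h2935 sl_2935
  have h2937 : ∀ u < 52866, (fun u => chkSlp tab slp u) u = true := ext_range (a := 52848) (len := 18) h2936 sl_2936
  have h2938 : ∀ u < 52884, (fun u => chkSlp tab slp u) u = true := ext_range (a := 52866) (len := 18) h2937 sl_2937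
  have h2939 : ∀ u < 52902, (fun u => chkSlp tab slp u) u = true := ext_range (a := 52884) (len := 18) h2938 sl_2938
  have h2940 : ∀ u < 52920, (fun u => chkSlp tab slp u) u = true := ext_range (a := 52902) (len := 18) h2939 sl_2939
  have h2941 : ∀ u < 52938, (fun u => chkSlp tab slp u) u = true := ext_range (a := 52920) (len := 18) h2940 sl_2940
  have h2942 : ∀ u < 52956, (fun u => chkSlp tab slp u) u = true := ext_range (a := 52938) (len := 18) h2941 sl_2941
  have h2943 : ∀ u < 52974, (fun u => chkSlp tab slp u) u = true := ext_range (a := 52956) (len := 18) h2942 sl_2942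
  have h2944 : ∀ u < 52992, (fun u => chkSlp tab slp u) u = true := ext_range (a := 52974) (len := 18) h2943 sl_2943
  have h2945 : ∀ u < 53010, (fun u => chkSlp tab slp u) u = true := ext_range (a := 52992) (len := 18) h2944 sl_2944
  have h2946 : ∀ u < 53028, (fun u => chkSlp tab slp u) u = true := ext_range (a := 53010) (len := 18) h2945 sl_2945
  have h2947 : ∀ u < 53046, (fun u => chkSlp tab slp u) u = true := ext_range (a := 53028) (len := 18) h2946 sl_2946
  have h2948 : ∀ u < 53064, (fun u => chkSlp tab slp u) u = true := ext_range (a := 53046) (len := 18) h2947 sl_2947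
  have h2949 : ∀ u < 53082, (fun u => chkSlp tab slp u) u = true := ext_range (a := 53064) (len := 18) h2948 sl_2948
  have h2950 : ∀ u < 53100, (fun u => chkSlp tab slp u) u = true := ext_range (a := 53082) (len := 18) h2949 sl_2949
  have h2951 : ∀ u < 53118, (fun u => chkSlp tab slp u) u = true := ext_range (a := 53100) (len := 18) h2950 sl_2950
  have h2952 : ∀ u < 53136, (fun u => chkSlp tab slp u) u = true := ext_range (a := 53118) (len := 18) h2951 sl_2951
  have h2953 : ∀ u < 53154, (fun u => chkSlp tab slp u) u = true := ext_range (a := 53136) (len := 18) h2952 sl_2952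
  have h2954 : ∀ u < 53172, (fun u => chkSlp tab slp u) u = true := ext_range (a := 53154) (len := 18) h2953 sl_2953
  have h2955 : ∀ u < 53190, (fun u => chkSlp tab slp u) u = true := ext_range (a := 53172) (len := 18) h2954 sl_2954
  have h2956 : ∀ u < 53208, (fun u => chkSlp tab slp u) u = true := ext_range (a := 53190) (len := 18) h2955 sl_2955
  have h2957 : ∀ u < 53226, (fun u => chkSlp tab slp u) u = true := ext_range (a := 53208) (len := 18) h2956 sl_2956
  have h2958 : ∀ u < 53244, (fun u => chkSlp tab slp u) u = true := ext_range (a := 53226) (len := 18) h2957 sl_2957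
  have h2959 : ∀ u < 53262, (fun u => chkSlp tab slp u) u = true := ext_range (a := 53244) (len := 18) h2958 sl_2958
  have h2960 : ∀ u < 53280, (fun u => chkSlp tab slp u) u = true := ext_range (a := 53262) (len := 18) h2959 sl_2959
  have h2961 : ∀ u < 53298, (fun u => chkSlp tab slp u) u = true := ext_range (a := 53280) (len := 18) h2960 sl_2960
  have h2962 : ∀ u < 53316, (fun u => chkSlp tab slp u) u = true := ext_range (a := 53298) (len := 18) h2961 sl_2961
  have h2963 : ∀ u < 53334, (fun u => chkSlp tab slp u) u = true := ext_range (a := 53316) (len := 18) h2962 sl_2962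
  have h2964 : ∀ u < 53352, (fun u => chkSlp tab slp u) u = true := ext_range (a := 53334) (len := 18) h2963 sl_2963
  have h2965 : ∀ u < 53370, (fun u => chkSlp tab slp u) u = true := ext_range (a := 53352) (len := 18) h2964 sl_2964
  have h2966 : ∀ u < 53388, (fun u => chkSlp tab slp u) u = true := ext_range (a := 53370) (len := 18) h2965 sl_2965
  have h2967 : ∀ u < 53406, (fun u => chkSlp tab slp u) u = true := ext_range (a := 53388) (len := 18) h2966 sl_2966
  have h2968 : ∀ u < 53424, (fun u => chkSlp tab slp u) u = true := ext_range (a := 53406) (len := 18) h2967 sl_2967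
  have h2969 : ∀ u < 53442, (fun u => chkSlp tab slp u) u = true := ext_range (a := 53424) (len := 18) h2968 sl_2968
  have h2970 : ∀ u < 53460, (fun u => chkSlp tab slp u) u = true := ext_range (a := 53442) (len := 18) h2969 sl_2969
  have h2971 : ∀ u < 53478, (fun u => chkSlp tab slp u) u = true := ext_range (a := 53460) (len := 18) h2970 sl_2970
  have h2972 : ∀ u < 53496, (fun u => chkSlp tab slp u) u = true := ext_range (a := 53478) (len := 18) h2971 sl_2971
  have h2973 : ∀ u < 53514, (fun u => chkSlp tab slp u) u = true := ext_range (a := 53496) (len := 18) h2972 sl_2972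
  have h2974 : ∀ u < 53532, (fun u => chkSlp tab slp u) u = true := ext_range (a := 53514) (len := 18) h2973 sl_2973
  have h2975 : ∀ u < 53550, (fun u => chkSlp tab slp u) u = true := ext_range (a := 53532) (len := 18) h2974 sl_2974
  have h2976 : ∀ u < 53568, (fun u => chkSlp tab slp u) u = true := ext_range (a := 53550) (len := 18) h2975 sl_2975
  have h2977 : ∀ u < 53586, (fun u => chkSlp tab slp u) u = true := ext_range (a := 53568) (len := 18) h2976 sl_2976
  have h2978 : ∀ u < 53604, (fun u => chkSlp tab slp u) u = true := ext_range (a := 53586) (len := 18) h2977 sl_2977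
  have h2979 : ∀ u < 53622, (fun u => chkSlp tab slp u) u = true := ext_range (a := 53604) (len := 18) h2978 sl_2978
  have h2980 : ∀ u < 53640, (fun u => chkSlp tab slp u) u = true := ext_range (a := 53622) (len := 18) h2979 sl_2979
  have h2981 : ∀ u < 53658, (fun u => chkSlp tab slp u) u = true := ext_range (a := 53640) (len := 18) h2980 sl_2980
  have h2982 : ∀ u < 53676, (fun u => chkSlp tab slp u) u = true := ext_range (a := 53658) (len := 18) h2981 sl_2981
  have h2983 : ∀ u < 53694, (fun u => chkSlp tab slp u) u = true := ext_range (a := 53676) (len := 18) h2982 sl_2982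
  have h2984 : ∀ u < 53712, (fun u => chkSlp tab slp u) u = true := ext_range (a := 53694) (len := 18) h2983 sl_2983
  have h2985 : ∀ u < 53730, (fun u => chkSlp tab slp u) u = true := ext_range (a := 53712) (len := 18) h2984 sl_2984
  have h2986 : ∀ u < 53748, (fun u => chkSlp tab slp u) u = true := ext_range (a := 53730) (len := 18) h2985 sl_2985
  have h2987 : ∀ u < 53766, (fun u => chkSlp tab slp u) u = true := ext_range (a := 53748) (len := 18) h2986 sl_2986
  have h2988 : ∀ u < 53784, (fun u => chkSlp tab slp u) u = true := ext_range (a := 53766) (len := 18) h2987 sl_2987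
  have h2989 : ∀ u < 53802, (fun u => chkSlp tab slp u) u = true := ext_range (a := 53784) (len := 18) h2988 sl_2988
  have h2990 : ∀ u < 53820, (fun u => chkSlp tab slp u) u = true := ext_range (a := 53802) (len := 18) h2989 sl_2989
  have h2991 : ∀ u < 53838, (fun u => chkSlp tab slp u) u = true := ext_range (a := 53820) (len := 18) h2990 sl_2990
  have h2992 : ∀ u < 53856, (fun u => chkSlp tab slp u) u = true := ext_range (a := 53838) (len := 18) h2991 sl_2991
  have h2993 : ∀ u < 53874, (fun u => chkSlp tab slp u) u = true := ext_range (a := 53856) (len := 18) h2992 sl_2992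
  have h2994 : ∀ u < 53892, (fun u => chkSlp tab slp u) u = true := ext_range (a := 53874) (len := 18) h2993 sl_2993
  have h2995 : ∀ u < 53910, (fun u => chkSlp tab slp u) u = true := ext_range (a := 53892) (len := 18) h2994 sl_2994
  have h2996 : ∀ u < 53928, (fun u => chkSlp tab slp u) u = true := ext_range (a := 53910) (len := 18) h2995 sl_2995
  have h2997 : ∀ u < 53946, (fun u => chkSlp tab slp u) u = true := ext_range (a := 53928) (len := 18) h2996 sl_2996
  have h2998 : ∀ u < 53964, (fun u => chkSlp tab slp u) u = true := ext_range (a := 53946) (len := 18) h2997 sl_2997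
  have h2999 : ∀ u < 53982, (fun u => chkSlp tab slp u) u = true := ext_range (a := 53964) (len := 18) h2998 sl_2998
  have h3000 : ∀ u < 54000, (fun u => chkSlp tab slp u) u = true := ext_range (a := 53982) (len := 18) h2999 sl_2999
  have h3001 : ∀ u < 54018, (fun u => chkSlp tab slp u) u = true := ext_range (a := 54000) (len := 18) h3000 sl_3000
  have h3002 : ∀ u < 54036, (fun u => chkSlp tab slp u) u = true := ext_range (a := 54018) (len := 18) h3001 sl_3001
  have h3003 : ∀ u < 54054, (fun u => chkSlp tab slp u) u = true := ext_range (a := 54036) (len := 18) h3002 sl_3002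
  have h3004 : ∀ u < 54072, (fun u => chkSlp tab slp u) u = true := ext_range (a := 54054) (len := 18) h3003 sl_3003
  have h3005 : ∀ u < 54090, (fun u => chkSlp tab slp u) u = true := ext_range (a := 54072) (len := 18) h3004 sl_3004
  have h3006 : ∀ u < 54108, (fun u => chkSlp tab slp u) u = true := ext_range (a := 54090) (len := 18) h3005 sl_3005
  have h3007 : ∀ u < 54126, (fun u => chkSlp tab slp u) u = true := ext_range (a := 54108) (len := 18) h3006 sl_3006
  have h3008 : ∀ u < 54144, (fun u => chkSlp tab slp u) u = true := ext_range (a := 54126) (len := 18) h3007 sl_3007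
  have h3009 : ∀ u < 54162, (fun u => chkSlp tab slp u) u = true := ext_range (a := 54144) (len := 18) h3008 sl_3008
  have h3010 : ∀ u < 54180, (fun u => chkSlp tab slp u) u = true := ext_range (a := 54162) (len := 18) h3009 sl_3009
  have h3011 : ∀ u < 54198, (fun u => chkSlp tab slp u) u = true := ext_range (a := 54180) (len := 18) h3010 sl_3010
  have h3012 : ∀ u < 54216, (fun u => chkSlp tab slp u) u = true := ext_range (a := 54198) (len := 18) h3011 sl_3011
  have h3013 : ∀ u < 54234, (fun u => chkSlp tab slp u) u = true := ext_range (a := 54216) (len := 18) h3012 sl_3012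
  have h3014 : ∀ u < 54252, (fun u => chkSlp tab slp u) u = true := ext_range (a := 54234) (len := 18) h3013 sl_3013
  have h3015 : ∀ u < 54270, (fun u => chkSlp tab slp u) u = true := ext_range (a := 54252) (len := 18) h3014 sl_3014
  have h3016 : ∀ u < 54288, (fun u => chkSlp tab slp u) u = true := ext_range (a := 54270) (len := 18) h3015 sl_3015
  have h3017 : ∀ u < 54306, (fun u => chkSlp tab slp u) u = true := ext_range (a := 54288) (len := 18) h3016 sl_3016
  have h3018 : ∀ u < 54324, (fun u => chkSlp tab slp u) u = true := ext_range (a := 54306) (len := 18) h3017 sl_3017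
  have h3019 : ∀ u < 54342, (fun u => chkSlp tab slp u) u = true := ext_range (a := 54324) (len := 18) h3018 sl_3018
  have h3020 : ∀ u < 54360, (fun u => chkSlp tab slp u) u = true := ext_range (a := 54342) (len := 18) h3019 sl_3019
  have h3021 : ∀ u < 54378, (fun u => chkSlp tab slp u) u = true := ext_range (a := 54360) (len := 18) h3020 sl_3020
  have h3022 : ∀ u < 54396, (fun u => chkSlp tab slp u) u = true := ext_range (a := 54378) (len := 18) h3021 sl_3021
  have h3023 : ∀ u < 54414, (fun u => chkSlp tab slp u) u = true := ext_range (a := 54396) (len := 18) h3022 sl_3022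
  have h3024 : ∀ u < 54432, (fun u => chkSlp tab slp u) u = true := ext_range (a := 54414) (len := 18) h3023 sl_3023
  have h3025 : ∀ u < 54450, (fun u => chkSlp tab slp u) u = true := ext_range (a := 54432) (len := 18) h3024 sl_3024
  have h3026 : ∀ u < 54468, (fun u => chkSlp tab slp u) u = true := ext_range (a := 54450) (len := 18) h3025 sl_3025
  have h3027 : ∀ u < 54486, (fun u => chkSlp tab slp u) u = true := ext_range (a := 54468) (len := 18) h3026 sl_3026
  have h3028 : ∀ u < 54504, (fun u => chkSlp tab slp u) u = true := ext_range (a := 54486) (len := 18) h3027 sl_3027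
  have h3029 : ∀ u < 54522, (fun u => chkSlp tab slp u) u = true := ext_range (a := 54504) (len := 18) h3028 sl_3028
  have h3030 : ∀ u < 54540, (fun u => chkSlp tab slp u) u = true := ext_range (a := 54522) (len := 18) h3029 sl_3029
  have h3031 : ∀ u < 54558, (fun u => chkSlp tab slp u) u = true := ext_range (a := 54540) (len := 18) h3030 sl_3030
  have h3032 : ∀ u < 54576, (fun u => chkSlp tab slp u) u = true := ext_range (a := 54558) (len := 18) h3031 sl_3031
  have h3033 : ∀ u < 54594, (fun u => chkSlp tab slp u) u = true := ext_range (a := 54576) (len := 18) h3032 sl_3032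
  have h3034 : ∀ u < 54612, (fun u => chkSlp tab slp u) u = true := ext_range (a := 54594) (len := 18) h3033 sl_3033
  have h3035 : ∀ u < 54630, (fun u => chkSlp tab slp u) u = true := ext_range (a := 54612) (len := 18) h3034 sl_3034
  have h3036 : ∀ u < 54648, (fun u => chkSlp tab slp u) u = true := ext_range (a := 54630) (len := 18) h3035 sl_3035
  have h3037 : ∀ u < 54666, (fun u => chkSlp tab slp u) u = true := ext_range (a := 54648) (len := 18) h3036 sl_3036
  have h3038 : ∀ u < 54684, (fun u => chkSlp tab slp u) u = true := ext_range (a := 54666) (len := 18) h3037 sl_3037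
  have h3039 : ∀ u < 54702, (fun u => chkSlp tab slp u) u = true := ext_range (a := 54684) (len := 18) h3038 sl_3038
  have h3040 : ∀ u < 54720, (fun u => chkSlp tab slp u) u = true := ext_range (a := 54702) (len := 18) h3039 sl_3039
  have h3041 : ∀ u < 54738, (fun u => chkSlp tab slp u) u = true := ext_range (a := 54720) (len := 18) h3040 sl_3040
  have h3042 : ∀ u < 54756, (fun u => chkSlp tab slp u) u = true := ext_range (a := 54738) (len := 18) h3041 sl_3041
  have h3043 : ∀ u < 54774, (fun u => chkSlp tab slp u) u = true := ext_range (a := 54756) (len := 18) h3042 sl_3042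
  have h3044 : ∀ u < 54792, (fun u => chkSlp tab slp u) u = true := ext_range (a := 54774) (len := 18) h3043 sl_3043
  have h3045 : ∀ u < 54810, (fun u => chkSlp tab slp u) u = true := ext_range (a := 54792) (len := 18) h3044 sl_3044
  have h3046 : ∀ u < 54828, (fun u => chkSlp tab slp u) u = true := ext_range (a := 54810) (len := 18) h3045 sl_3045
  have h3047 : ∀ u < 54846, (fun u => chkSlp tab slp u) u = true := ext_range (a := 54828) (len := 18) h3046 sl_3046
  have h3048 : ∀ u < 54864, (fun u => chkSlp tab slp u) u = true := ext_range (a := 54846) (len := 18) h3047 sl_3047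
  have h3049 : ∀ u < 54882, (fun u => chkSlp tab slp u) u = true := ext_range (a := 54864) (len := 18) h3048 sl_3048
  have h3050 : ∀ u < 54900, (fun u => chkSlp tab slp u) u = true := ext_range (a := 54882) (len := 18) h3049 sl_3049
  have h3051 : ∀ u < 54918, (fun u => chkSlp tab slp u) u = true := ext_range (a := 54900) (len := 18) h3050 sl_3050
  have h3052 : ∀ u < 54936, (fun u => chkSlp tab slp u) u = true := ext_range (a := 54918) (len := 18) h3051 sl_3051
  have h3053 : ∀ u < 54954, (fun u => chkSlp tab slp u) u = true := ext_range (a := 54936) (len := 18) h3052 sl_3052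
  have h3054 : ∀ u < 54972, (fun u => chkSlp tab slp u) u = true := ext_range (a := 54954) (len := 18) h3053 sl_3053
  have h3055 : ∀ u < 54990, (fun u => chkSlp tab slp u) u = true := ext_range (a := 54972) (len := 18) h3054 sl_3054
  have h3056 : ∀ u < 55008, (fun u => chkSlp tab slp u) u = true := ext_range (a := 54990) (len := 18) h3055 sl_3055
  have h3057 : ∀ u < 55026, (fun u => chkSlp tab slp u) u = true := ext_range (a := 55008) (len := 18) h3056 sl_3056
  have h3058 : ∀ u < 55044, (fun u => chkSlp tab slp u) u = true := ext_range (a := 55026) (len := 18) h3057 sl_3057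
  have h3059 : ∀ u < 55062, (fun u => chkSlp tab slp u) u = true := ext_range (a := 55044) (len := 18) h3058 sl_3058
  have h3060 : ∀ u < 55080, (fun u => chkSlp tab slp u) u = true := ext_range (a := 55062) (len := 18) h3059 sl_3059
  have h3061 : ∀ u < 55098, (fun u => chkSlp tab slp u) u = true := ext_range (a := 55080) (len := 18) h3060 sl_3060
  have h3062 : ∀ u < 55116, (fun u => chkSlp tab slp u) u = true := ext_range (a := 55098) (len := 18) h3061 sl_3061
  have h3063 : ∀ u < 55134, (fun u => chkSlp tab slp u) u = true := ext_range (a := 55116) (len := 18) h3062 sl_3062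
  have h3064 : ∀ u < 55152, (fun u => chkSlp tab slp u) u = true := ext_range (a := 55134) (len := 18) h3063 sl_3063
  have h3065 : ∀ u < 55170, (fun u => chkSlp tab slp u) u = true := ext_range (a := 55152) (len := 18) h3064 sl_3064
  have h3066 : ∀ u < 55188, (fun u => chkSlp tab slp u) u = true := ext_range (a := 55170) (len := 18) h3065 sl_3065
  have h3067 : ∀ u < 55206, (fun u => chkSlp tab slp u) u = true := ext_range (a := 55188) (len := 18) h3066 sl_3066
  have h3068 : ∀ u < 55224, (fun u => chkSlp tab slp u) u = true := ext_range (a := 55206) (len := 18) h3067 sl_3067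
  have h3069 : ∀ u < 55242, (fun u => chkSlp tab slp u) u = true := ext_range (a := 55224) (len := 18) h3068 sl_3068
  have h3070 : ∀ u < 55260, (fun u => chkSlp tab slp u) u = true := ext_range (a := 55242) (len := 18) h3069 sl_3069
  have h3071 : ∀ u < 55278, (fun u => chkSlp tab slp u) u = true := ext_range (a := 55260) (len := 18) h3070 sl_3070
  have h3072 : ∀ u < 55296, (fun u => chkSlp tab slp u) u = true := ext_range (a := 55278) (len := 18) h3071 sl_3071
  have h3073 : ∀ u < 55314, (fun u => chkSlp tab slp u) u = true := ext_range (a := 55296) (len := 18) h3072 sl_3072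
  have h3074 : ∀ u < 55332, (fun u => chkSlp tab slp u) u = true := ext_range (a := 55314) (len := 18) h3073 sl_3073
  have h3075 : ∀ u < 55350, (fun u => chkSlp tab slp u) u = true := ext_range (a := 55332) (len := 18) h3074 sl_3074
  have h3076 : ∀ u < 55368, (fun u => chkSlp tab slp u) u = true := ext_range (a := 55350) (len := 18) h3075 sl_3075
  have h3077 : ∀ u < 55386, (fun u => chkSlp tab slp u) u = true := ext_range (a := 55368) (len := 18) h3076 sl_3076
  have h3078 : ∀ u < 55404, (fun u => chkSlp tab slp u) u = true := ext_range (a := 55386) (len := 18) h3077 sl_3077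
  have h3079 : ∀ u < 55422, (fun u => chkSlp tab slp u) u = true := ext_range (a := 55404) (len := 18) h3078 sl_3078
  have h3080 : ∀ u < 55440, (fun u => chkSlp tab slp u) u = true := ext_range (a := 55422) (len := 18) h3079 sl_3079
  have h3081 : ∀ u < 55458, (fun u => chkSlp tab slp u) u = true := ext_range (a := 55440) (len := 18) h3080 sl_3080
  have h3082 : ∀ u < 55476, (fun u => chkSlp tab slp u) u = true := ext_range (a := 55458) (len := 18) h3081 sl_3081
  have h3083 : ∀ u < 55494, (fun u => chkSlp tab slp u) u = true := ext_range (a := 55476) (len := 18) h3082 sl_3082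
  have h3084 : ∀ u < 55512, (fun u => chkSlp tab slp u) u = true := ext_range (a := 55494) (len := 18) h3083 sl_3083
  have h3085 : ∀ u < 55530, (fun u => chkSlp tab slp u) u = true := ext_range (a := 55512) (len := 18) h3084 sl_3084
  have h3086 : ∀ u < 55548, (fun u => chkSlp tab slp u) u = true := ext_range (a := 55530) (len := 18) h3085 sl_3085
  have h3087 : ∀ u < 55566, (fun u => chkSlp tab slp u) u = true := ext_range (a := 55548) (len := 18) h3086 sl_3086
  have h3088 : ∀ u < 55584, (fun u => chkSlp tab slp u) u = true := ext_range (a := 55566) (len := 18) h3087 sl_3087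
  have h3089 : ∀ u < 55602, (fun u => chkSlp tab slp u) u = true := ext_range (a := 55584) (len := 18) h3088 sl_3088
  have h3090 : ∀ u < 55620, (fun u => chkSlp tab slp u) u = true := ext_range (a := 55602) (len := 18) h3089 sl_3089
  have h3091 : ∀ u < 55638, (fun u => chkSlp tab slp u) u = true := ext_range (a := 55620) (len := 18) h3090 sl_3090
  have h3092 : ∀ u < 55656, (fun u => chkSlp tab slp u) u = true := ext_range (a := 55638) (len := 18) h3091 sl_3091
  have h3093 : ∀ u < 55674, (fun u => chkSlp tab slp u) u = true := ext_range (a := 55656) (len := 18) h3092 sl_3092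
  have h3094 : ∀ u < 55692, (fun u => chkSlp tab slp u) u = true := ext_range (a := 55674) (len := 18) h3093 sl_3093
  have h3095 : ∀ u < 55710, (fun u => chkSlp tab slp u) u = true := ext_range (a := 55692) (len := 18) h3094 sl_3094
  have h3096 : ∀ u < 55728, (fun u => chkSlp tab slp u) u = true := ext_range (a := 55710) (len := 18) h3095 sl_3095
  have h3097 : ∀ u < 55746, (fun u => chkSlp tab slp u) u = true := ext_range (a := 55728) (len := 18) h3096 sl_3096
  have h3098 : ∀ u < 55764, (fun u => chkSlp tab slp u) u = true := ext_range (a := 55746) (len := 18) h3097 sl_3097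
  have h3099 : ∀ u < 55782, (fun u => chkSlp tab slp u) u = true := ext_range (a := 55764) (len := 18) h3098 sl_3098
  have h3100 : ∀ u < 55800, (fun u => chkSlp tab slp u) u = true := ext_range (a := 55782) (len := 18) h3099 sl_3099
  have h3101 : ∀ u < 55818, (fun u => chkSlp tab slp u) u = true := ext_range (a := 55800) (len := 18) h3100 sl_3100
  have h3102 : ∀ u < 55836, (fun u => chkSlp tab slp u) u = true := ext_range (a := 55818) (len := 18) h3101 sl_3101
  have h3103 : ∀ u < 55854, (fun u => chkSlp tab slp u) u = true := ext_range (a := 55836) (len := 18) h3102 sl_3102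
  have h3104 : ∀ u < 55872, (fun u => chkSlp tab slp u) u = true := ext_range (a := 55854) (len := 18) h3103 sl_3103
  have h3105 : ∀ u < 55890, (fun u => chkSlp tab slp u) u = true := ext_range (a := 55872) (len := 18) h3104 sl_3104
  have h3106 : ∀ u < 55908, (fun u => chkSlp tab slp u) u = true := ext_range (a := 55890) (len := 18) h3105 sl_3105
  have h3107 : ∀ u < 55926, (fun u => chkSlp tab slp u) u = true := ext_range (a := 55908) (len := 18) h3106 sl_3106
  have h3108 : ∀ u < 55944, (fun u => chkSlp tab slp u) u = true := ext_range (a := 55926) (len := 18) h3107 sl_3107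
  have h3109 : ∀ u < 55962, (fun u => chkSlp tab slp u) u = true := ext_range (a := 55944) (len := 18) h3108 sl_3108
  have h3110 : ∀ u < 55980, (fun u => chkSlp tab slp u) u = true := ext_range (a := 55962) (len := 18) h3109 sl_3109
  have h3111 : ∀ u < 55998, (fun u => chkSlp tab slp u) u = true := ext_range (a := 55980) (len := 18) h3110 sl_3110
  have h3112 : ∀ u < 56016, (fun u => chkSlp tab slp u) u = true := ext_range (a := 55998) (len := 18) h3111 sl_3111
  have h3113 : ∀ u < 56034, (fun u => chkSlp tab slp u) u = true := ext_range (a := 56016) (len := 18) h3112 sl_3112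
  have h3114 : ∀ u < 56052, (fun u => chkSlp tab slp u) u = true := ext_range (a := 56034) (len := 18) h3113 sl_3113
  have h3115 : ∀ u < 56070, (fun u => chkSlp tab slp u) u = true := ext_range (a := 56052) (len := 18) h3114 sl_3114
  have h3116 : ∀ u < 56088, (fun u => chkSlp tab slp u) u = true := ext_range (a := 56070) (len := 18) h3115 sl_3115
  have h3117 : ∀ u < 56106, (fun u => chkSlp tab slp u) u = true := ext_range (a := 56088) (len := 18) h3116 sl_3116
  have h3118 : ∀ u < 56124, (fun u => chkSlp tab slp u) u = true := ext_range (a := 56106) (len := 18) h3117 sl_3117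
  have h3119 : ∀ u < 56142, (fun u => chkSlp tab slp u) u = true := ext_range (a := 56124) (len := 18) h3118 sl_3118
  have h3120 : ∀ u < 56160, (fun u => chkSlp tab slp u) u = true := ext_range (a := 56142) (len := 18) h3119 sl_3119
  have h3121 : ∀ u < 56178, (fun u => chkSlp tab slp u) u = true := ext_range (a := 56160) (len := 18) h3120 sl_3120
  have h3122 : ∀ u < 56196, (fun u => chkSlp tab slp u) u = true := ext_range (a := 56178) (len := 18) h3121 sl_3121
  have h3123 : ∀ u < 56214, (fun u => chkSlp tab slp u) u = true := ext_range (a := 56196) (len := 18) h3122 sl_3122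
  have h3124 : ∀ u < 56232, (fun u => chkSlp tab slp u) u = true := ext_range (a := 56214) (len := 18) h3123 sl_3123
  have h3125 : ∀ u < 56250, (fun u => chkSlp tab slp u) u = true := ext_range (a := 56232) (len := 18) h3124 sl_3124
  have h3126 : ∀ u < 56268, (fun u => chkSlp tab slp u) u = true := ext_range (a := 56250) (len := 18) h3125 sl_3125
  have h3127 : ∀ u < 56286, (fun u => chkSlp tab slp u) u = true := ext_range (a := 56268) (len := 18) h3126 sl_3126
  have h3128 : ∀ u < 56304, (fun u => chkSlp tab slp u) u = true := ext_range (a := 56286) (len := 18) h3127 sl_3127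
  have h3129 : ∀ u < 56322, (fun u => chkSlp tab slp u) u = true := ext_range (a := 56304) (len := 18) h3128 sl_3128
  have h3130 : ∀ u < 56340, (fun u => chkSlp tab slp u) u = true := ext_range (a := 56322) (len := 18) h3129 sl_3129
  have h3131 : ∀ u < 56358, (fun u => chkSlp tab slp u) u = true := ext_range (a := 56340) (len := 18) h3130 sl_3130
  have h3132 : ∀ u < 56376, (fun u => chkSlp tab slp u) u = true := ext_range (a := 56358) (len := 18) h3131 sl_3131
  have h3133 : ∀ u < 56394, (fun u => chkSlp tab slp u) u = true := ext_range (a := 56376) (len := 18) h3132 sl_3132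
  have h3134 : ∀ u < 56412, (fun u => chkSlp tab slp u) u = true := ext_range (a := 56394) (len := 18) h3133 sl_3133
  have h3135 : ∀ u < 56430, (fun u => chkSlp tab slp u) u = true := ext_range (a := 56412) (len := 18) h3134 sl_3134
  have h3136 : ∀ u < 56448, (fun u => chkSlp tab slp u) u = true := ext_range (a := 56430) (len := 18) h3135 sl_3135
  have h3137 : ∀ u < 56466, (fun u => chkSlp tab slp u) u = true := ext_range (a := 56448) (len := 18) h3136 sl_3136
  have h3138 : ∀ u < 56484, (fun u => chkSlp tab slp u) u = true := ext_range (a := 56466) (len := 18) h3137 sl_3137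
  have h3139 : ∀ u < 56502, (fun u => chkSlp tab slp u) u = true := ext_range (a := 56484) (len := 18) h3138 sl_3138
  have h3140 : ∀ u < 56520, (fun u => chkSlp tab slp u) u = true := ext_range (a := 56502) (len := 18) h3139 sl_3139
  have h3141 : ∀ u < 56538, (fun u => chkSlp tab slp u) u = true := ext_range (a := 56520) (len := 18) h3140 sl_3140
  have h3142 : ∀ u < 56556, (fun u => chkSlp tab slp u) u = true := ext_range (a := 56538) (len := 18) h3141 sl_3141
  have h3143 : ∀ u < 56574, (fun u => chkSlp tab slp u) u = true := ext_range (a := 56556) (len := 18) h3142 sl_3142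
  have h3144 : ∀ u < 56592, (fun u => chkSlp tab slp u) u = true := ext_range (a := 56574) (len := 18) h3143 sl_3143
  have h3145 : ∀ u < 56610, (fun u => chkSlp tab slp u) u = true := ext_range (a := 56592) (len := 18) h3144 sl_3144
  have h3146 : ∀ u < 56628, (fun u => chkSlp tab slp u) u = true := ext_range (a := 56610) (len := 18) h3145 sl_3145
  have h3147 : ∀ u < 56646, (fun u => chkSlp tab slp u) u = true := ext_range (a := 56628) (len := 18) h3146 sl_3146
  have h3148 : ∀ u < 56664, (fun u => chkSlp tab slp u) u = true := ext_range (a := 56646) (len := 18) h3147 sl_3147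
  have h3149 : ∀ u < 56682, (fun u => chkSlp tab slp u) u = true := ext_range (a := 56664) (len := 18) h3148 sl_3148
  have h3150 : ∀ u < 56700, (fun u => chkSlp tab slp u) u = true := ext_range (a := 56682) (len := 18) h3149 sl_3149
  have h3151 : ∀ u < 56718, (fun u => chkSlp tab slp u) u = true := ext_range (a := 56700) (len := 18) h3150 sl_3150
  have h3152 : ∀ u < 56736, (fun u => chkSlp tab slp u) u = true := ext_range (a := 56718) (len := 18) h3151 sl_3151
  have h3153 : ∀ u < 56754, (fun u => chkSlp tab slp u) u = true := ext_range (a := 56736) (len := 18) h3152 sl_3152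
  have h3154 : ∀ u < 56772, (fun u => chkSlp tab slp u) u = true := ext_range (a := 56754) (len := 18) h3153 sl_3153
  have h3155 : ∀ u < 56790, (fun u => chkSlp tab slp u) u = true := ext_range (a := 56772) (len := 18) h3154 sl_3154
  have h3156 : ∀ u < 56808, (fun u => chkSlp tab slp u) u = true := ext_range (a := 56790) (len := 18) h3155 sl_3155
  have h3157 : ∀ u < 56826, (fun u => chkSlp tab slp u) u = true := ext_range (a := 56808) (len := 18) h3156 sl_3156
  have h3158 : ∀ u < 56844, (fun u => chkSlp tab slp u) u = true := ext_range (a := 56826) (len := 18) h3157 sl_3157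
  have h3159 : ∀ u < 56862, (fun u => chkSlp tab slp u) u = true := ext_range (a := 56844) (len := 18) h3158 sl_3158
  have h3160 : ∀ u < 56880, (fun u => chkSlp tab slp u) u = true := ext_range (a := 56862) (len := 18) h3159 sl_3159
  have h3161 : ∀ u < 56898, (fun u => chkSlp tab slp u) u = true := ext_range (a := 56880) (len := 18) h3160 sl_3160
  have h3162 : ∀ u < 56916, (fun u => chkSlp tab slp u) u = true := ext_range (a := 56898) (len := 18) h3161 sl_3161
  have h3163 : ∀ u < 56934, (fun u => chkSlp tab slp u) u = true := ext_range (a := 56916) (len := 18) h3162 sl_3162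
  have h3164 : ∀ u < 56952, (fun u => chkSlp tab slp u) u = true := ext_range (a := 56934) (len := 18) h3163 sl_3163
  have h3165 : ∀ u < 56970, (fun u => chkSlp tab slp u) u = true := ext_range (a := 56952) (len := 18) h3164 sl_3164
  have h3166 : ∀ u < 56988, (fun u => chkSlp tab slp u) u = true := ext_range (a := 56970) (len := 18) h3165 sl_3165
  have h3167 : ∀ u < 57006, (fun u => chkSlp tab slp u) u = true := ext_range (a := 56988) (len := 18) h3166 sl_3166
  have h3168 : ∀ u < 57024, (fun u => chkSlp tab slp u) u = true := ext_range (a := 57006) (len := 18) h3167 sl_3167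
  have h3169 : ∀ u < 57042, (fun u => chkSlp tab slp u) u = true := ext_range (a := 57024) (len := 18) h3168 sl_3168
  have h3170 : ∀ u < 57060, (fun u => chkSlp tab slp u) u = true := ext_range (a := 57042) (len := 18) h3169 sl_3169
  have h3171 : ∀ u < 57078, (fun u => chkSlp tab slp u) u = true := ext_range (a := 57060) (len := 18) h3170 sl_3170
  have h3172 : ∀ u < 57096, (fun u => chkSlp tab slp u) u = true := ext_range (a := 57078) (len := 18) h3171 sl_3171
  have h3173 : ∀ u < 57114, (fun u => chkSlp tab slp u) u = true := ext_range (a := 57096) (len := 18) h3172 sl_3172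
  have h3174 : ∀ u < 57132, (fun u => chkSlp tab slp u) u = true := ext_range (a := 57114) (len := 18) h3173 sl_3173
  have h3175 : ∀ u < 57150, (fun u => chkSlp tab slp u) u = true := ext_range (a := 57132) (len := 18) h3174 sl_3174
  have h3176 : ∀ u < 57168, (fun u => chkSlp tab slp u) u = true := ext_range (a := 57150) (len := 18) h3175 sl_3175
  have h3177 : ∀ u < 57186, (fun u => chkSlp tab slp u) u = true := ext_range (a := 57168) (len := 18) h3176 sl_3176
  have h3178 : ∀ u < 57204, (fun u => chkSlp tab slp u) u = true := ext_range (a := 57186) (len := 18) h3177 sl_3177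
  have h3179 : ∀ u < 57222, (fun u => chkSlp tab slp u) u = true := ext_range (a := 57204) (len := 18) h3178 sl_3178
  have h3180 : ∀ u < 57240, (fun u => chkSlp tab slp u) u = true := ext_range (a := 57222) (len := 18) h3179 sl_3179
  have h3181 : ∀ u < 57258, (fun u => chkSlp tab slp u) u = true := ext_range (a := 57240) (len := 18) h3180 sl_3180
  have h3182 : ∀ u < 57276, (fun u => chkSlp tab slp u) u = true := ext_range (a := 57258) (len := 18) h3181 sl_3181
  have h3183 : ∀ u < 57294, (fun u => chkSlp tab slp u) u = true := ext_range (a := 57276) (len := 18) h3182 sl_3182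
  have h3184 : ∀ u < 57312, (fun u => chkSlp tab slp u) u = true := ext_range (a := 57294) (len := 18) h3183 sl_3183
  have h3185 : ∀ u < 57330, (fun u => chkSlp tab slp u) u = true := ext_range (a := 57312) (len := 18) h3184 sl_3184
  have h3186 : ∀ u < 57348, (fun u => chkSlp tab slp u) u = true := ext_range (a := 57330) (len := 18) h3185 sl_3185
  have h3187 : ∀ u < 57366, (fun u => chkSlp tab slp u) u = true := ext_range (a := 57348) (len := 18) h3186 sl_3186
  have h3188 : ∀ u < 57384, (fun u => chkSlp tab slp u) u = true := ext_range (a := 57366) (len := 18) h3187 sl_3187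
  have h3189 : ∀ u < 57402, (fun u => chkSlp tab slp u) u = true := ext_range (a := 57384) (len := 18) h3188 sl_3188
  have h3190 : ∀ u < 57420, (fun u => chkSlp tab slp u) u = true := ext_range (a := 57402) (len := 18) h3189 sl_3189
  have h3191 : ∀ u < 57438, (fun u => chkSlp tab slp u) u = true := ext_range (a := 57420) (len := 18) h3190 sl_3190
  have h3192 : ∀ u < 57456, (fun u => chkSlp tab slp u) u = true := ext_range (a := 57438) (len := 18) h3191 sl_3191
  have h3193 : ∀ u < 57474, (fun u => chkSlp tab slp u) u = true := ext_range (a := 57456) (len := 18) h3192 sl_3192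
  have h3194 : ∀ u < 57492, (fun u => chkSlp tab slp u) u = true := ext_range (a := 57474) (len := 18) h3193 sl_3193
  have h3195 : ∀ u < 57510, (fun u => chkSlp tab slp u) u = true := ext_range (a := 57492) (len := 18) h3194 sl_3194
  have h3196 : ∀ u < 57528, (fun u => chkSlp tab slp u) u = true := ext_range (a := 57510) (len := 18) h3195 sl_3195
  have h3197 : ∀ u < 57546, (fun u => chkSlp tab slp u) u = true := ext_range (a := 57528) (len := 18) h3196 sl_3196
  have h3198 : ∀ u < 57564, (fun u => chkSlp tab slp u) u = true := ext_range (a := 57546) (len := 18) h3197 sl_3197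
  have h3199 : ∀ u < 57582, (fun u => chkSlp tab slp u) u = true := ext_range (a := 57564) (len := 18) h3198 sl_3198
  have h3200 : ∀ u < 57600, (fun u => chkSlp tab slp u) u = true := ext_range (a := 57582) (len := 18) h3199 sl_3199
  have h3201 : ∀ u < 57618, (fun u => chkSlp tab slp u) u = true := ext_range (a := 57600) (len := 18) h3200 sl_3200
  have h3202 : ∀ u < 57636, (fun u => chkSlp tab slp u) u = true := ext_range (a := 57618) (len := 18) h3201 sl_3201
  have h3203 : ∀ u < 57654, (fun u => chkSlp tab slp u) u = true := ext_range (a := 57636) (len := 18) h3202 sl_3202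
  have h3204 : ∀ u < 57672, (fun u => chkSlp tab slp u) u = true := ext_range (a := 57654) (len := 18) h3203 sl_3203
  have h3205 : ∀ u < 57690, (fun u => chkSlp tab slp u) u = true := ext_range (a := 57672) (len := 18) h3204 sl_3204
  have h3206 : ∀ u < 57708, (fun u => chkSlp tab slp u) u = true := ext_range (a := 57690) (len := 18) h3205 sl_3205
  have h3207 : ∀ u < 57726, (fun u => chkSlp tab slp u) u = true := ext_range (a := 57708) (len := 18) h3206 sl_3206
  have h3208 : ∀ u < 57744, (fun u => chkSlp tab slp u) u = true := ext_range (a := 57726) (len := 18) h3207 sl_3207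
  have h3209 : ∀ u < 57762, (fun u => chkSlp tab slp u) u = true := ext_range (a := 57744) (len := 18) h3208 sl_3208
  have h3210 : ∀ u < 57780, (fun u => chkSlp tab slp u) u = true := ext_range (a := 57762) (len := 18) h3209 sl_3209
  have h3211 : ∀ u < 57798, (fun u => chkSlp tab slp u) u = true := ext_range (a := 57780) (len := 18) h3210 sl_3210
  have h3212 : ∀ u < 57816, (fun u => chkSlp tab slp u) u = true := ext_range (a := 57798) (len := 18) h3211 sl_3211
  have h3213 : ∀ u < 57834, (fun u => chkSlp tab slp u) u = true := ext_range (a := 57816) (len := 18) h3212 sl_3212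
  have h3214 : ∀ u < 57852, (fun u => chkSlp tab slp u) u = true := ext_range (a := 57834) (len := 18) h3213 sl_3213
  have h3215 : ∀ u < 57870, (fun u => chkSlp tab slp u) u = true := ext_range (a := 57852) (len := 18) h3214 sl_3214
  have h3216 : ∀ u < 57888, (fun u => chkSlp tab slp u) u = true := ext_range (a := 57870) (len := 18) h3215 sl_3215
  have h3217 : ∀ u < 57906, (fun u => chkSlp tab slp u) u = true := ext_range (a := 57888) (len := 18) h3216 sl_3216
  have h3218 : ∀ u < 57924, (fun u => chkSlp tab slp u) u = true := ext_range (a := 57906) (len := 18) h3217 sl_3217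
  have h3219 : ∀ u < 57942, (fun u => chkSlp tab slp u) u = true := ext_range (a := 57924) (len := 18) h3218 sl_3218
  have h3220 : ∀ u < 57960, (fun u => chkSlp tab slp u) u = true := ext_range (a := 57942) (len := 18) h3219 sl_3219
  have h3221 : ∀ u < 57978, (fun u => chkSlp tab slp u) u = true := ext_range (a := 57960) (len := 18) h3220 sl_3220
  have h3222 : ∀ u < 57996, (fun u => chkSlp tab slp u) u = true := ext_range (a := 57978) (len := 18) h3221 sl_3221
  have h3223 : ∀ u < 58014, (fun u => chkSlp tab slp u) u = true := ext_range (a := 57996) (len := 18) h3222 sl_3222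
  have h3224 : ∀ u < 58032, (fun u => chkSlp tab slp u) u = true := ext_range (a := 58014) (len := 18) h3223 sl_3223
  have h3225 : ∀ u < 58050, (fun u => chkSlp tab slp u) u = true := ext_range (a := 58032) (len := 18) h3224 sl_3224
  have h3226 : ∀ u < 58068, (fun u => chkSlp tab slp u) u = true := ext_range (a := 58050) (len := 18) h3225 sl_3225
  have h3227 : ∀ u < 58086, (fun u => chkSlp tab slp u) u = true := ext_range (a := 58068) (len := 18) h3226 sl_3226
  have h3228 : ∀ u < 58104, (fun u => chkSlp tab slp u) u = true := ext_range (a := 58086) (len := 18) h3227 sl_3227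
  have h3229 : ∀ u < 58122, (fun u => chkSlp tab slp u) u = true := ext_range (a := 58104) (len := 18) h3228 sl_3228
  have h3230 : ∀ u < 58140, (fun u => chkSlp tab slp u) u = true := ext_range (a := 58122) (len := 18) h3229 sl_3229
  have h3231 : ∀ u < 58158, (fun u => chkSlp tab slp u) u = true := ext_range (a := 58140) (len := 18) h3230 sl_3230
  have h3232 : ∀ u < 58176, (fun u => chkSlp tab slp u) u = true := ext_range (a := 58158) (len := 18) h3231 sl_3231
  have h3233 : ∀ u < 58194, (fun u => chkSlp tab slp u) u = true := ext_range (a := 58176) (len := 18) h3232 sl_3232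
  have h3234 : ∀ u < 58212, (fun u => chkSlp tab slp u) u = true := ext_range (a := 58194) (len := 18) h3233 sl_3233
  have h3235 : ∀ u < 58230, (fun u => chkSlp tab slp u) u = true := ext_range (a := 58212) (len := 18) h3234 sl_3234
  have h3236 : ∀ u < 58248, (fun u => chkSlp tab slp u) u = true := ext_range (a := 58230) (len := 18) h3235 sl_3235
  have h3237 : ∀ u < 58266, (fun u => chkSlp tab slp u) u = true := ext_range (a := 58248) (len := 18) h3236 sl_3236
  have h3238 : ∀ u < 58284, (fun u => chkSlp tab slp u) u = true := ext_range (a := 58266) (len := 18) h3237 sl_3237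
  have h3239 : ∀ u < 58302, (fun u => chkSlp tab slp u) u = true := ext_range (a := 58284) (len := 18) h3238 sl_3238
  have h3240 : ∀ u < 58320, (fun u => chkSlp tab slp u) u = true := ext_range (a := 58302) (len := 18) h3239 sl_3239
  have h3241 : ∀ u < 58338, (fun u => chkSlp tab slp u) u = true := ext_range (a := 58320) (len := 18) h3240 sl_3240
  have h3242 : ∀ u < 58356, (fun u => chkSlp tab slp u) u = true := ext_range (a := 58338) (len := 18) h3241 sl_3241
  have h3243 : ∀ u < 58374, (fun u => chkSlp tab slp u) u = true := ext_range (a := 58356) (len := 18) h3242 sl_3242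
  have h3244 : ∀ u < 58392, (fun u => chkSlp tab slp u) u = true := ext_range (a := 58374) (len := 18) h3243 sl_3243
  have h3245 : ∀ u < 58410, (fun u => chkSlp tab slp u) u = true := ext_range (a := 58392) (len := 18) h3244 sl_3244
  have h3246 : ∀ u < 58428, (fun u => chkSlp tab slp u) u = true := ext_range (a := 58410) (len := 18) h3245 sl_3245
  have h3247 : ∀ u < 58446, (fun u => chkSlp tab slp u) u = true := ext_range (a := 58428) (len := 18) h3246 sl_3246
  have h3248 : ∀ u < 58464, (fun u => chkSlp tab slp u) u = true := ext_range (a := 58446) (len := 18) h3247 sl_3247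
  have h3249 : ∀ u < 58482, (fun u => chkSlp tab slp u) u = true := ext_range (a := 58464) (len := 18) h3248 sl_3248
  have h3250 : ∀ u < 58500, (fun u => chkSlp tab slp u) u = true := ext_range (a := 58482) (len := 18) h3249 sl_3249
  have h3251 : ∀ u < 58518, (fun u => chkSlp tab slp u) u = true := ext_range (a := 58500) (len := 18) h3250 sl_3250
  have h3252 : ∀ u < 58536, (fun u => chkSlp tab slp u) u = true := ext_range (a := 58518) (len := 18) h3251 sl_3251
  have h3253 : ∀ u < 58554, (fun u => chkSlp tab slp u) u = true := ext_range (a := 58536) (len := 18) h3252 sl_3252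
  have h3254 : ∀ u < 58572, (fun u => chkSlp tab slp u) u = true := ext_range (a := 58554) (len := 18) h3253 sl_3253
  have h3255 : ∀ u < 58590, (fun u => chkSlp tab slp u) u = true := ext_range (a := 58572) (len := 18) h3254 sl_3254
  have h3256 : ∀ u < 58608, (fun u => chkSlp tab slp u) u = true := ext_range (a := 58590) (len := 18) h3255 sl_3255
  have h3257 : ∀ u < 58626, (fun u => chkSlp tab slp u) u = true := ext_range (a := 58608) (len := 18) h3256 sl_3256
  have h3258 : ∀ u < 58644, (fun u => chkSlp tab slp u) u = true := ext_range (a := 58626) (len := 18) h3257 sl_3257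
  have h3259 : ∀ u < 58662, (fun u => chkSlp tab slp u) u = true := ext_range (a := 58644) (len := 18) h3258 sl_3258
  have h3260 : ∀ u < 58680, (fun u => chkSlp tab slp u) u = true := ext_range (a := 58662) (len := 18) h3259 sl_3259
  have h3261 : ∀ u < 58698, (fun u => chkSlp tab slp u) u = true := ext_range (a := 58680) (len := 18) h3260 sl_3260
  have h3262 : ∀ u < 58716, (fun u => chkSlp tab slp u) u = true := ext_range (a := 58698) (len := 18) h3261 sl_3261
  have h3263 : ∀ u < 58734, (fun u => chkSlp tab slp u) u = true := ext_range (a := 58716) (len := 18) h3262 sl_3262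
  have h3264 : ∀ u < 58752, (fun u => chkSlp tab slp u) u = true := ext_range (a := 58734) (len := 18) h3263 sl_3263
  have h3265 : ∀ u < 58770, (fun u => chkSlp tab slp u) u = true := ext_range (a := 58752) (len := 18) h3264 sl_3264
  have h3266 : ∀ u < 58788, (fun u => chkSlp tab slp u) u = true := ext_range (a := 58770) (len := 18) h3265 sl_3265
  have h3267 : ∀ u < 58806, (fun u => chkSlp tab slp u) u = true := ext_range (a := 58788) (len := 18) h3266 sl_3266
  have h3268 : ∀ u < 58824, (fun u => chkSlp tab slp u) u = true := ext_range (a := 58806) (len := 18) h3267 sl_3267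
  have h3269 : ∀ u < 58842, (fun u => chkSlp tab slp u) u = true := ext_range (a := 58824) (len := 18) h3268 sl_3268
  have h3270 : ∀ u < 58860, (fun u => chkSlp tab slp u) u = true := ext_range (a := 58842) (len := 18) h3269 sl_3269
  have h3271 : ∀ u < 58878, (fun u => chkSlp tab slp u) u = true := ext_range (a := 58860) (len := 18) h3270 sl_3270
  have h3272 : ∀ u < 58896, (fun u => chkSlp tab slp u) u = true := ext_range (a := 58878) (len := 18) h3271 sl_3271
  have h3273 : ∀ u < 58914, (fun u => chkSlp tab slp u) u = true := ext_range (a := 58896) (len := 18) h3272 sl_3272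
  have h3274 : ∀ u < 58932, (fun u => chkSlp tab slp u) u = true := ext_range (a := 58914) (len := 18) h3273 sl_3273
  have h3275 : ∀ u < 58950, (fun u => chkSlp tab slp u) u = true := ext_range (a := 58932) (len := 18) h3274 sl_3274
  have h3276 : ∀ u < 58968, (fun u => chkSlp tab slp u) u = true := ext_range (a := 58950) (len := 18) h3275 sl_3275
  have h3277 : ∀ u < 58986, (fun u => chkSlp tab slp u) u = true := ext_range (a := 58968) (len := 18) h3276 sl_3276
  have h3278 : ∀ u < 59004, (fun u => chkSlp tab slp u) u = true := ext_range (a := 58986) (len := 18) h3277 sl_3277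
  have h3279 : ∀ u < 59022, (fun u => chkSlp tab slp u) u = true := ext_range (a := 59004) (len := 18) h3278 sl_3278
  have h3280 : ∀ u < 59040, (fun u => chkSlp tab slp u) u = true := ext_range (a := 59022) (len := 18) h3279 sl_3279
  have h3281 : ∀ u < 59058, (fun u => chkSlp tab slp u) u = true := ext_range (a := 59040) (len := 18) h3280 sl_3280
  have h3282 : ∀ u < 59076, (fun u => chkSlp tab slp u) u = true := ext_range (a := 59058) (len := 18) h3281 sl_3281
  have h3283 : ∀ u < 59094, (fun u => chkSlp tab slp u) u = true := ext_range (a := 59076) (len := 18) h3282 sl_3282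
  have h3284 : ∀ u < 59112, (fun u => chkSlp tab slp u) u = true := ext_range (a := 59094) (len := 18) h3283 sl_3283
  have h3285 : ∀ u < 59130, (fun u => chkSlp tab slp u) u = true := ext_range (a := 59112) (len := 18) h3284 sl_3284
  have h3286 : ∀ u < 59148, (fun u => chkSlp tab slp u) u = true := ext_range (a := 59130) (len := 18) h3285 sl_3285
  have h3287 : ∀ u < 59166, (fun u => chkSlp tab slp u) u = true := ext_range (a := 59148) (len := 18) h3286 sl_3286
  have h3288 : ∀ u < 59184, (fun u => chkSlp tab slp u) u = true := ext_range (a := 59166) (len := 18) h3287 sl_3287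
  have h3289 : ∀ u < 59202, (fun u => chkSlp tab slp u) u = true := ext_range (a := 59184) (len := 18) h3288 sl_3288
  have h3290 : ∀ u < 59220, (fun u => chkSlp tab slp u) u = true := ext_range (a := 59202) (len := 18) h3289 sl_3289
  have h3291 : ∀ u < 59238, (fun u => chkSlp tab slp u) u = true := ext_range (a := 59220) (len := 18) h3290 sl_3290
  have h3292 : ∀ u < 59256, (fun u => chkSlp tab slp u) u = true := ext_range (a := 59238) (len := 18) h3291 sl_3291
  have h3293 : ∀ u < 59274, (fun u => chkSlp tab slp u) u = true := ext_range (a := 59256) (len := 18) h3292 sl_3292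
  have h3294 : ∀ u < 59292, (fun u => chkSlp tab slp u) u = true := ext_range (a := 59274) (len := 18) h3293 sl_3293
  have h3295 : ∀ u < 59310, (fun u => chkSlp tab slp u) u = true := ext_range (a := 59292) (len := 18) h3294 sl_3294
  have h3296 : ∀ u < 59328, (fun u => chkSlp tab slp u) u = true := ext_range (a := 59310) (len := 18) h3295 sl_3295
  have h3297 : ∀ u < 59346, (fun u => chkSlp tab slp u) u = true := ext_range (a := 59328) (len := 18) h3296 sl_3296
  have h3298 : ∀ u < 59364, (fun u => chkSlp tab slp u) u = true := ext_range (a := 59346) (len := 18) h3297 sl_3297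
  have h3299 : ∀ u < 59382, (fun u => chkSlp tab slp u) u = true := ext_range (a := 59364) (len := 18) h3298 sl_3298
  have h3300 : ∀ u < 59400, (fun u => chkSlp tab slp u) u = true := ext_range (a := 59382) (len := 18) h3299 sl_3299
  have h3301 : ∀ u < 59418, (fun u => chkSlp tab slp u) u = true := ext_range (a := 59400) (len := 18) h3300 sl_3300
  have h3302 : ∀ u < 59436, (fun u => chkSlp tab slp u) u = true := ext_range (a := 59418) (len := 18) h3301 sl_3301
  have h3303 : ∀ u < 59454, (fun u => chkSlp tab slp u) u = true := ext_range (a := 59436) (len := 18) h3302 sl_3302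
  have h3304 : ∀ u < 59472, (fun u => chkSlp tab slp u) u = true := ext_range (a := 59454) (len := 18) h3303 sl_3303
  have h3305 : ∀ u < 59490, (fun u => chkSlp tab slp u) u = true := ext_range (a := 59472) (len := 18) h3304 sl_3304
  have h3306 : ∀ u < 59508, (fun u => chkSlp tab slp u) u = true := ext_range (a := 59490) (len := 18) h3305 sl_3305
  have h3307 : ∀ u < 59526, (fun u => chkSlp tab slp u) u = true := ext_range (a := 59508) (len := 18) h3306 sl_3306
  have h3308 : ∀ u < 59544, (fun u => chkSlp tab slp u) u = true := ext_range (a := 59526) (len := 18) h3307 sl_3307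
  have h3309 : ∀ u < 59562, (fun u => chkSlp tab slp u) u = true := ext_range (a := 59544) (len := 18) h3308 sl_3308
  have h3310 : ∀ u < 59580, (fun u => chkSlp tab slp u) u = true := ext_range (a := 59562) (len := 18) h3309 sl_3309
  have h3311 : ∀ u < 59598, (fun u => chkSlp tab slp u) u = true := ext_range (a := 59580) (len := 18) h3310 sl_3310
  have h3312 : ∀ u < 59616, (fun u => chkSlp tab slp u) u = true := ext_range (a := 59598) (len := 18) h3311 sl_3311
  have h3313 : ∀ u < 59634, (fun u => chkSlp tab slp u) u = true := ext_range (a := 59616) (len := 18) h3312 sl_3312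
  have h3314 : ∀ u < 59652, (fun u => chkSlp tab slp u) u = true := ext_range (a := 59634) (len := 18) h3313 sl_3313
  have h3315 : ∀ u < 59670, (fun u => chkSlp tab slp u) u = true := ext_range (a := 59652) (len := 18) h3314 sl_3314
  have h3316 : ∀ u < 59688, (fun u => chkSlp tab slp u) u = true := ext_range (a := 59670) (len := 18) h3315 sl_3315
  have h3317 : ∀ u < 59706, (fun u => chkSlp tab slp u) u = true := ext_range (a := 59688) (len := 18) h3316 sl_3316
  have h3318 : ∀ u < 59724, (fun u => chkSlp tab slp u) u = true := ext_range (a := 59706) (len := 18) h3317 sl_3317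
  have h3319 : ∀ u < 59742, (fun u => chkSlp tab slp u) u = true := ext_range (a := 59724) (len := 18) h3318 sl_3318
  have h3320 : ∀ u < 59760, (fun u => chkSlp tab slp u) u = true := ext_range (a := 59742) (len := 18) h3319 sl_3319
  have h3321 : ∀ u < 59778, (fun u => chkSlp tab slp u) u = true := ext_range (a := 59760) (len := 18) h3320 sl_3320
  have h3322 : ∀ u < 59796, (fun u => chkSlp tab slp u) u = true := ext_range (a := 59778) (len := 18) h3321 sl_3321
  have h3323 : ∀ u < 59814, (fun u => chkSlp tab slp u) u = true := ext_range (a := 59796) (len := 18) h3322 sl_3322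
  have h3324 : ∀ u < 59832, (fun u => chkSlp tab slp u) u = true := ext_range (a := 59814) (len := 18) h3323 sl_3323
  have h3325 : ∀ u < 59850, (fun u => chkSlp tab slp u) u = true := ext_range (a := 59832) (len := 18) h3324 sl_3324
  have h3326 : ∀ u < 59868, (fun u => chkSlp tab slp u) u = true := ext_range (a := 59850) (len := 18) h3325 sl_3325
  have h3327 : ∀ u < 59886, (fun u => chkSlp tab slp u) u = true := ext_range (a := 59868) (len := 18) h3326 sl_3326
  have h3328 : ∀ u < 59904, (fun u => chkSlp tab slp u) u = true := ext_range (a := 59886) (len := 18) h3327 sl_3327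
  have h3329 : ∀ u < 59922, (fun u => chkSlp tab slp u) u = true := ext_range (a := 59904) (len := 18) h3328 sl_3328
  have h3330 : ∀ u < 59940, (fun u => chkSlp tab slp u) u = true := ext_range (a := 59922) (len := 18) h3329 sl_3329
  have h3331 : ∀ u < 59958, (fun u => chkSlp tab slp u) u = true := ext_range (a := 59940) (len := 18) h3330 sl_3330
  have h3332 : ∀ u < 59976, (fun u => chkSlp tab slp u) u = true := ext_range (a := 59958) (len := 18) h3331 sl_3331
  have h3333 : ∀ u < 59994, (fun u => chkSlp tab slp u) u = true := ext_range (a := 59976) (len := 18) h3332 sl_3332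
  have h3334 : ∀ u < 60012, (fun u => chkSlp tab slp u) u = true := ext_range (a := 59994) (len := 18) h3333 sl_3333
  have h3335 : ∀ u < 60030, (fun u => chkSlp tab slp u) u = true := ext_range (a := 60012) (len := 18) h3334 sl_3334
  have h3336 : ∀ u < 60048, (fun u => chkSlp tab slp u) u = true := ext_range (a := 60030) (len := 18) h3335 sl_3335
  have h3337 : ∀ u < 60066, (fun u => chkSlp tab slp u) u = true := ext_range (a := 60048) (len := 18) h3336 sl_3336
  have h3338 : ∀ u < 60084, (fun u => chkSlp tab slp u) u = true := ext_range (a := 60066) (len := 18) h3337 sl_3337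
  have h3339 : ∀ u < 60102, (fun u => chkSlp tab slp u) u = true := ext_range (a := 60084) (len := 18) h3338 sl_3338
  have h3340 : ∀ u < 60120, (fun u => chkSlp tab slp u) u = true := ext_range (a := 60102) (len := 18) h3339 sl_3339
  have h3341 : ∀ u < 60138, (fun u => chkSlp tab slp u) u = true := ext_range (a := 60120) (len := 18) h3340 sl_3340
  have h3342 : ∀ u < 60156, (fun u => chkSlp tab slp u) u = true := ext_range (a := 60138) (len := 18) h3341 sl_3341
  have h3343 : ∀ u < 60174, (fun u => chkSlp tab slp u) u = true := ext_range (a := 60156) (len := 18) h3342 sl_3342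
  have h3344 : ∀ u < 60192, (fun u => chkSlp tab slp u) u = true := ext_range (a := 60174) (len := 18) h3343 sl_3343
  have h3345 : ∀ u < 60210, (fun u => chkSlp tab slp u) u = true := ext_range (a := 60192) (len := 18) h3344 sl_3344
  have h3346 : ∀ u < 60228, (fun u => chkSlp tab slp u) u = true := ext_range (a := 60210) (len := 18) h3345 sl_3345
  have h3347 : ∀ u < 60246, (fun u => chkSlp tab slp u) u = true := ext_range (a := 60228) (len := 18) h3346 sl_3346
  have h3348 : ∀ u < 60264, (fun u => chkSlp tab slp u) u = true := ext_range (a := 60246) (len := 18) h3347 sl_3347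
  have h3349 : ∀ u < 60282, (fun u => chkSlp tab slp u) u = true := ext_range (a := 60264) (len := 18) h3348 sl_3348
  have h3350 : ∀ u < 60300, (fun u => chkSlp tab slp u) u = true := ext_range (a := 60282) (len := 18) h3349 sl_3349
  have h3351 : ∀ u < 60318, (fun u => chkSlp tab slp u) u = true := ext_range (a := 60300) (len := 18) h3350 sl_3350
  have h3352 : ∀ u < 60336, (fun u => chkSlp tab slp u) u = true := ext_range (a := 60318) (len := 18) h3351 sl_3351
  have h3353 : ∀ u < 60354, (fun u => chkSlp tab slp u) u = true := ext_range (a := 60336) (len := 18) h3352 sl_3352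
  have h3354 : ∀ u < 60372, (fun u => chkSlp tab slp u) u = true := ext_range (a := 60354) (len := 18) h3353 sl_3353
  have h3355 : ∀ u < 60390, (fun u => chkSlp tab slp u) u = true := ext_range (a := 60372) (len := 18) h3354 sl_3354
  have h3356 : ∀ u < 60408, (fun u => chkSlp tab slp u) u = true := ext_range (a := 60390) (len := 18) h3355 sl_3355
  have h3357 : ∀ u < 60426, (fun u => chkSlp tab slp u) u = true := ext_range (a := 60408) (len := 18) h3356 sl_3356
  have h3358 : ∀ u < 60444, (fun u => chkSlp tab slp u) u = true := ext_range (a := 60426) (len := 18) h3357 sl_3357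
  have h3359 : ∀ u < 60462, (fun u => chkSlp tab slp u) u = true := ext_range (a := 60444) (len := 18) h3358 sl_3358
  have h3360 : ∀ u < 60480, (fun u => chkSlp tab slp u) u = true := ext_range (a := 60462) (len := 18) h3359 sl_3359
  have h3361 : ∀ u < 60498, (fun u => chkSlp tab slp u) u = true := ext_range (a := 60480) (len := 18) h3360 sl_3360
  have h3362 : ∀ u < 60516, (fun u => chkSlp tab slp u) u = true := ext_range (a := 60498) (len := 18) h3361 sl_3361
  have h3363 : ∀ u < 60534, (fun u => chkSlp tab slp u) u = true := ext_range (a := 60516) (len := 18) h3362 sl_3362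
  have h3364 : ∀ u < 60552, (fun u => chkSlp tab slp u) u = true := ext_range (a := 60534) (len := 18) h3363 sl_3363
  have h3365 : ∀ u < 60570, (fun u => chkSlp tab slp u) u = true := ext_range (a := 60552) (len := 18) h3364 sl_3364
  have h3366 : ∀ u < 60588, (fun u => chkSlp tab slp u) u = true := ext_range (a := 60570) (len := 18) h3365 sl_3365
  have h3367 : ∀ u < 60606, (fun u => chkSlp tab slp u) u = true := ext_range (a := 60588) (len := 18) h3366 sl_3366
  have h3368 : ∀ u < 60624, (fun u => chkSlp tab slp u) u = true := ext_range (a := 60606) (len := 18) h3367 sl_3367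
  have h3369 : ∀ u < 60642, (fun u => chkSlp tab slp u) u = true := ext_range (a := 60624) (len := 18) h3368 sl_3368
  have h3370 : ∀ u < 60660, (fun u => chkSlp tab slp u) u = true := ext_range (a := 60642) (len := 18) h3369 sl_3369
  have h3371 : ∀ u < 60678, (fun u => chkSlp tab slp u) u = true := ext_range (a := 60660) (len := 18) h3370 sl_3370
  have h3372 : ∀ u < 60696, (fun u => chkSlp tab slp u) u = true := ext_range (a := 60678) (len := 18) h3371 sl_3371
  have h3373 : ∀ u < 60714, (fun u => chkSlp tab slp u) u = true := ext_range (a := 60696) (len := 18) h3372 sl_3372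
  have h3374 : ∀ u < 60732, (fun u => chkSlp tab slp u) u = true := ext_range (a := 60714) (len := 18) h3373 sl_3373
  have h3375 : ∀ u < 60750, (fun u => chkSlp tab slp u) u = true := ext_range (a := 60732) (len := 18) h3374 sl_3374
  have h3376 : ∀ u < 60768, (fun u => chkSlp tab slp u) u = true := ext_range (a := 60750) (len := 18) h3375 sl_3375
  have h3377 : ∀ u < 60786, (fun u => chkSlp tab slp u) u = true := ext_range (a := 60768) (len := 18) h3376 sl_3376
  have h3378 : ∀ u < 60804, (fun u => chkSlp tab slp u) u = true := ext_range (a := 60786) (len := 18) h3377 sl_3377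
  have h3379 : ∀ u < 60822, (fun u => chkSlp tab slp u) u = true := ext_range (a := 60804) (len := 18) h3378 sl_3378
  have h3380 : ∀ u < 60840, (fun u => chkSlp tab slp u) u = true := ext_range (a := 60822) (len := 18) h3379 sl_3379
  have h3381 : ∀ u < 60858, (fun u => chkSlp tab slp u) u = true := ext_range (a := 60840) (len := 18) h3380 sl_3380
  have h3382 : ∀ u < 60876, (fun u => chkSlp tab slp u) u = true := ext_range (a := 60858) (len := 18) h3381 sl_3381
  have h3383 : ∀ u < 60894, (fun u => chkSlp tab slp u) u = true := ext_range (a := 60876) (len := 18) h3382 sl_3382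
  have h3384 : ∀ u < 60912, (fun u => chkSlp tab slp u) u = true := ext_range (a := 60894) (len := 18) h3383 sl_3383
  have h3385 : ∀ u < 60930, (fun u => chkSlp tab slp u) u = true := ext_range (a := 60912) (len := 18) h3384 sl_3384
  have h3386 : ∀ u < 60948, (fun u => chkSlp tab slp u) u = true := ext_range (a := 60930) (len := 18) h3385 sl_3385
  have h3387 : ∀ u < 60966, (fun u => chkSlp tab slp u) u = true := ext_range (a := 60948) (len := 18) h3386 sl_3386
  have h3388 : ∀ u < 60984, (fun u => chkSlp tab slp u) u = true := ext_range (a := 60966) (len := 18) h3387 sl_3387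
  have h3389 : ∀ u < 61002, (fun u => chkSlp tab slp u) u = true := ext_range (a := 60984) (len := 18) h3388 sl_3388
  have h3390 : ∀ u < 61020, (fun u => chkSlp tab slp u) u = true := ext_range (a := 61002) (len := 18) h3389 sl_3389
  have h3391 : ∀ u < 61038, (fun u => chkSlp tab slp u) u = true := ext_range (a := 61020) (len := 18) h3390 sl_3390
  have h3392 : ∀ u < 61056, (fun u => chkSlp tab slp u) u = true := ext_range (a := 61038) (len := 18) h3391 sl_3391
  have h3393 : ∀ u < 61074, (fun u => chkSlp tab slp u) u = true := ext_range (a := 61056) (len := 18) h3392 sl_3392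
  have h3394 : ∀ u < 61092, (fun u => chkSlp tab slp u) u = true := ext_range (a := 61074) (len := 18) h3393 sl_3393
  have h3395 : ∀ u < 61110, (fun u => chkSlp tab slp u) u = true := ext_range (a := 61092) (len := 18) h3394 sl_3394
  have h3396 : ∀ u < 61128, (fun u => chkSlp tab slp u) u = true := ext_range (a := 61110) (len := 18) h3395 sl_3395
  have h3397 : ∀ u < 61146, (fun u => chkSlp tab slp u) u = true := ext_range (a := 61128) (len := 18) h3396 sl_3396
  have h3398 : ∀ u < 61164, (fun u => chkSlp tab slp u) u = true := ext_range (a := 61146) (len := 18) h3397 sl_3397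
  have h3399 : ∀ u < 61182, (fun u => chkSlp tab slp u) u = true := ext_range (a := 61164) (len := 18) h3398 sl_3398
  have h3400 : ∀ u < 61200, (fun u => chkSlp tab slp u) u = true := ext_range (a := 61182) (len := 18) h3399 sl_3399
  have h3401 : ∀ u < 61218, (fun u => chkSlp tab slp u) u = true := ext_range (a := 61200) (len := 18) h3400 sl_3400
  have h3402 : ∀ u < 61236, (fun u => chkSlp tab slp u) u = true := ext_range (a := 61218) (len := 18) h3401 sl_3401
  have h3403 : ∀ u < 61254, (fun u => chkSlp tab slp u) u = true := ext_range (a := 61236) (len := 18) h3402 sl_3402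
  have h3404 : ∀ u < 61272, (fun u => chkSlp tab slp u) u = true := ext_range (a := 61254) (len := 18) h3403 sl_3403
  have h3405 : ∀ u < 61290, (fun u => chkSlp tab slp u) u = true := ext_range (a := 61272) (len := 18) h3404 sl_3404
  have h3406 : ∀ u < 61308, (fun u => chkSlp tab slp u) u = true := ext_range (a := 61290) (len := 18) h3405 sl_3405
  have h3407 : ∀ u < 61326, (fun u => chkSlp tab slp u) u = true := ext_range (a := 61308) (len := 18) h3406 sl_3406
  have h3408 : ∀ u < 61344, (fun u => chkSlp tab slp u) u = true := ext_range (a := 61326) (len := 18) h3407 sl_3407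
  have h3409 : ∀ u < 61362, (fun u => chkSlp tab slp u) u = true := ext_range (a := 61344) (len := 18) h3408 sl_3408
  have h3410 : ∀ u < 61380, (fun u => chkSlp tab slp u) u = true := ext_range (a := 61362) (len := 18) h3409 sl_3409
  have h3411 : ∀ u < 61398, (fun u => chkSlp tab slp u) u = true := ext_range (a := 61380) (len := 18) h3410 sl_3410
  have h3412 : ∀ u < 61416, (fun u => chkSlp tab slp u) u = true := ext_range (a := 61398) (len := 18) h3411 sl_3411
  have h3413 : ∀ u < 61434, (fun u => chkSlp tab slp u) u = true := ext_range (a := 61416) (len := 18) h3412 sl_3412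
  have h3414 : ∀ u < 61452, (fun u => chkSlp tab slp u) u = true := ext_range (a := 61434) (len := 18) h3413 sl_3413
  have h3415 : ∀ u < 61470, (fun u => chkSlp tab slp u) u = true := ext_range (a := 61452) (len := 18) h3414 sl_3414
  have h3416 : ∀ u < 61488, (fun u => chkSlp tab slp u) u = true := ext_range (a := 61470) (len := 18) h3415 sl_3415
  have h3417 : ∀ u < 61506, (fun u => chkSlp tab slp u) u = true := ext_range (a := 61488) (len := 18) h3416 sl_3416
  have h3418 : ∀ u < 61524, (fun u => chkSlp tab slp u) u = true := ext_range (a := 61506) (len := 18) h3417 sl_3417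
  have h3419 : ∀ u < 61542, (fun u => chkSlp tab slp u) u = true := ext_range (a := 61524) (len := 18) h3418 sl_3418
  have h3420 : ∀ u < 61560, (fun u => chkSlp tab slp u) u = true := ext_range (a := 61542) (len := 18) h3419 sl_3419
  have h3421 : ∀ u < 61578, (fun u => chkSlp tab slp u) u = true := ext_range (a := 61560) (len := 18) h3420 sl_3420
  have h3422 : ∀ u < 61596, (fun u => chkSlp tab slp u) u = true := ext_range (a := 61578) (len := 18) h3421 sl_3421
  have h3423 : ∀ u < 61614, (fun u => chkSlp tab slp u) u = true := ext_range (a := 61596) (len := 18) h3422 sl_3422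
  have h3424 : ∀ u < 61632, (fun u => chkSlp tab slp u) u = true := ext_range (a := 61614) (len := 18) h3423 sl_3423
  have h3425 : ∀ u < 61650, (fun u => chkSlp tab slp u) u = true := ext_range (a := 61632) (len := 18) h3424 sl_3424
  have h3426 : ∀ u < 61668, (fun u => chkSlp tab slp u) u = true := ext_range (a := 61650) (len := 18) h3425 sl_3425
  have h3427 : ∀ u < 61686, (fun u => chkSlp tab slp u) u = true := ext_range (a := 61668) (len := 18) h3426 sl_3426
  have h3428 : ∀ u < 61704, (fun u => chkSlp tab slp u) u = true := ext_range (a := 61686) (len := 18) h3427 sl_3427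
  have h3429 : ∀ u < 61722, (fun u => chkSlp tab slp u) u = true := ext_range (a := 61704) (len := 18) h3428 sl_3428
  have h3430 : ∀ u < 61740, (fun u => chkSlp tab slp u) u = true := ext_range (a := 61722) (len := 18) h3429 sl_3429
  have h3431 : ∀ u < 61758, (fun u => chkSlp tab slp u) u = true := ext_range (a := 61740) (len := 18) h3430 sl_3430
  have h3432 : ∀ u < 61776, (fun u => chkSlp tab slp u) u = true := ext_range (a := 61758) (len := 18) h3431 sl_3431
  have h3433 : ∀ u < 61794, (fun u => chkSlp tab slp u) u = true := ext_range (a := 61776) (len := 18) h3432 sl_3432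
  have h3434 : ∀ u < 61812, (fun u => chkSlp tab slp u) u = true := ext_range (a := 61794) (len := 18) h3433 sl_3433
  have h3435 : ∀ u < 61830, (fun u => chkSlp tab slp u) u = true := ext_range (a := 61812) (len := 18) h3434 sl_3434
  have h3436 : ∀ u < 61848, (fun u => chkSlp tab slp u) u = true := ext_range (a := 61830) (len := 18) h3435 sl_3435
  have h3437 : ∀ u < 61866, (fun u => chkSlp tab slp u) u = true := ext_range (a := 61848) (len := 18) h3436 sl_3436
  have h3438 : ∀ u < 61884, (fun u => chkSlp tab slp u) u = true := ext_range (a := 61866) (len := 18) h3437 sl_3437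
  have h3439 : ∀ u < 61902, (fun u => chkSlp tab slp u) u = true := ext_range (a := 61884) (len := 18) h3438 sl_3438
  have h3440 : ∀ u < 61920, (fun u => chkSlp tab slp u) u = true := ext_range (a := 61902) (len := 18) h3439 sl_3439
  have h3441 : ∀ u < 61938, (fun u => chkSlp tab slp u) u = true := ext_range (a := 61920) (len := 18) h3440 sl_3440
  have h3442 : ∀ u < 61956, (fun u => chkSlp tab slp u) u = true := ext_range (a := 61938) (len := 18) h3441 sl_3441
  have h3443 : ∀ u < 61974, (fun u => chkSlp tab slp u) u = true := ext_range (a := 61956) (len := 18) h3442 sl_3442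
  have h3444 : ∀ u < 61992, (fun u => chkSlp tab slp u) u = true := ext_range (a := 61974) (len := 18) h3443 sl_3443
  have h3445 : ∀ u < 62010, (fun u => chkSlp tab slp u) u = true := ext_range (a := 61992) (len := 18) h3444 sl_3444
  have h3446 : ∀ u < 62028, (fun u => chkSlp tab slp u) u = true := ext_range (a := 62010) (len := 18) h3445 sl_3445
  have h3447 : ∀ u < 62046, (fun u => chkSlp tab slp u) u = true := ext_range (a := 62028) (len := 18) h3446 sl_3446
  have h3448 : ∀ u < 62064, (fun u => chkSlp tab slp u) u = true := ext_range (a := 62046) (len := 18) h3447 sl_3447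
  have h3449 : ∀ u < 62082, (fun u => chkSlp tab slp u) u = true := ext_range (a := 62064) (len := 18) h3448 sl_3448
  have h3450 : ∀ u < 62100, (fun u => chkSlp tab slp u) u = true := ext_range (a := 62082) (len := 18) h3449 sl_3449
  have h3451 : ∀ u < 62118, (fun u => chkSlp tab slp u) u = true := ext_range (a := 62100) (len := 18) h3450 sl_3450
  have h3452 : ∀ u < 62136, (fun u => chkSlp tab slp u) u = true := ext_range (a := 62118) (len := 18) h3451 sl_3451
  have h3453 : ∀ u < 62154, (fun u => chkSlp tab slp u) u = true := ext_range (a := 62136) (len := 18) h3452 sl_3452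
  have h3454 : ∀ u < 62172, (fun u => chkSlp tab slp u) u = true := ext_range (a := 62154) (len := 18) h3453 sl_3453
  have h3455 : ∀ u < 62190, (fun u => chkSlp tab slp u) u = true := ext_range (a := 62172) (len := 18) h3454 sl_3454
  have h3456 : ∀ u < 62208, (fun u => chkSlp tab slp u) u = true := ext_range (a := 62190) (len := 18) h3455 sl_3455
  have h3457 : ∀ u < 62226, (fun u => chkSlp tab slp u) u = true := ext_range (a := 62208) (len := 18) h3456 sl_3456
  have h3458 : ∀ u < 62244, (fun u => chkSlp tab slp u) u = true := ext_range (a := 62226) (len := 18) h3457 sl_3457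
  have h3459 : ∀ u < 62262, (fun u => chkSlp tab slp u) u = true := ext_range (a := 62244) (len := 18) h3458 sl_3458
  have h3460 : ∀ u < 62280, (fun u => chkSlp tab slp u) u = true := ext_range (a := 62262) (len := 18) h3459 sl_3459
  have h3461 : ∀ u < 62298, (fun u => chkSlp tab slp u) u = true := ext_range (a := 62280) (len := 18) h3460 sl_3460
  have h3462 : ∀ u < 62316, (fun u => chkSlp tab slp u) u = true := ext_range (a := 62298) (len := 18) h3461 sl_3461
  have h3463 : ∀ u < 62334, (fun u => chkSlp tab slp u) u = true := ext_range (a := 62316) (len := 18) h3462 sl_3462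
  have h3464 : ∀ u < 62352, (fun u => chkSlp tab slp u) u = true := ext_range (a := 62334) (len := 18) h3463 sl_3463
  have h3465 : ∀ u < 62370, (fun u => chkSlp tab slp u) u = true := ext_range (a := 62352) (len := 18) h3464 sl_3464
  have h3466 : ∀ u < 62388, (fun u => chkSlp tab slp u) u = true := ext_range (a := 62370) (len := 18) h3465 sl_3465
  have h3467 : ∀ u < 62406, (fun u => chkSlp tab slp u) u = true := ext_range (a := 62388) (len := 18) h3466 sl_3466
  have h3468 : ∀ u < 62424, (fun u => chkSlp tab slp u) u = true := ext_range (a := 62406) (len := 18) h3467 sl_3467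
  have h3469 : ∀ u < 62442, (fun u => chkSlp tab slp u) u = true := ext_range (a := 62424) (len := 18) h3468 sl_3468
  have h3470 : ∀ u < 62460, (fun u => chkSlp tab slp u) u = true := ext_range (a := 62442) (len := 18) h3469 sl_3469
  have h3471 : ∀ u < 62478, (fun u => chkSlp tab slp u) u = true := ext_range (a := 62460) (len := 18) h3470 sl_3470
  have h3472 : ∀ u < 62496, (fun u => chkSlp tab slp u) u = true := ext_range (a := 62478) (len := 18) h3471 sl_3471
  have h3473 : ∀ u < 62514, (fun u => chkSlp tab slp u) u = true := ext_range (a := 62496) (len := 18) h3472 sl_3472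
  have h3474 : ∀ u < 62532, (fun u => chkSlp tab slp u) u = true := ext_range (a := 62514) (len := 18) h3473 sl_3473
  have h3475 : ∀ u < 62550, (fun u => chkSlp tab slp u) u = true := ext_range (a := 62532) (len := 18) h3474 sl_3474
  have h3476 : ∀ u < 62568, (fun u => chkSlp tab slp u) u = true := ext_range (a := 62550) (len := 18) h3475 sl_3475
  have h3477 : ∀ u < 62586, (fun u => chkSlp tab slp u) u = true := ext_range (a := 62568) (len := 18) h3476 sl_3476
  have h3478 : ∀ u < 62604, (fun u => chkSlp tab slp u) u = true := ext_range (a := 62586) (len := 18) h3477 sl_3477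
  have h3479 : ∀ u < 62622, (fun u => chkSlp tab slp u) u = true := ext_range (a := 62604) (len := 18) h3478 sl_3478
  have h3480 : ∀ u < 62640, (fun u => chkSlp tab slp u) u = true := ext_range (a := 62622) (len := 18) h3479 sl_3479
  have h3481 : ∀ u < 62658, (fun u => chkSlp tab slp u) u = true := ext_range (a := 62640) (len := 18) h3480 sl_3480
  have h3482 : ∀ u < 62676, (fun u => chkSlp tab slp u) u = true := ext_range (a := 62658) (len := 18) h3481 sl_3481
  have h3483 : ∀ u < 62694, (fun u => chkSlp tab slp u) u = true := ext_range (a := 62676) (len := 18) h3482 sl_3482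
  have h3484 : ∀ u < 62712, (fun u => chkSlp tab slp u) u = true := ext_range (a := 62694) (len := 18) h3483 sl_3483
  have h3485 : ∀ u < 62730, (fun u => chkSlp tab slp u) u = true := ext_range (a := 62712) (len := 18) h3484 sl_3484
  have h3486 : ∀ u < 62748, (fun u => chkSlp tab slp u) u = true := ext_range (a := 62730) (len := 18) h3485 sl_3485
  have h3487 : ∀ u < 62766, (fun u => chkSlp tab slp u) u = true := ext_range (a := 62748) (len := 18) h3486 sl_3486
  have h3488 : ∀ u < 62784, (fun u => chkSlp tab slp u) u = true := ext_range (a := 62766) (len := 18) h3487 sl_3487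
  have h3489 : ∀ u < 62802, (fun u => chkSlp tab slp u) u = true := ext_range (a := 62784) (len := 18) h3488 sl_3488
  have h3490 : ∀ u < 62820, (fun u => chkSlp tab slp u) u = true := ext_range (a := 62802) (len := 18) h3489 sl_3489
  have h3491 : ∀ u < 62838, (fun u => chkSlp tab slp u) u = true := ext_range (a := 62820) (len := 18) h3490 sl_3490
  have h3492 : ∀ u < 62856, (fun u => chkSlp tab slp u) u = true := ext_range (a := 62838) (len := 18) h3491 sl_3491
  have h3493 : ∀ u < 62874, (fun u => chkSlp tab slp u) u = true := ext_range (a := 62856) (len := 18) h3492 sl_3492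
  have h3494 : ∀ u < 62892, (fun u => chkSlp tab slp u) u = true := ext_range (a := 62874) (len := 18) h3493 sl_3493
  have h3495 : ∀ u < 62910, (fun u => chkSlp tab slp u) u = true := ext_range (a := 62892) (len := 18) h3494 sl_3494
  have h3496 : ∀ u < 62928, (fun u => chkSlp tab slp u) u = true := ext_range (a := 62910) (len := 18) h3495 sl_3495
  have h3497 : ∀ u < 62946, (fun u => chkSlp tab slp u) u = true := ext_range (a := 62928) (len := 18) h3496 sl_3496
  have h3498 : ∀ u < 62964, (fun u => chkSlp tab slp u) u = true := ext_range (a := 62946) (len := 18) h3497 sl_3497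
  have h3499 : ∀ u < 62982, (fun u => chkSlp tab slp u) u = true := ext_range (a := 62964) (len := 18) h3498 sl_3498
  have h3500 : ∀ u < 63000, (fun u => chkSlp tab slp u) u = true := ext_range (a := 62982) (len := 18) h3499 sl_3499
  have h3501 : ∀ u < 63018, (fun u => chkSlp tab slp u) u = true := ext_range (a := 63000) (len := 18) h3500 sl_3500
  have h3502 : ∀ u < 63036, (fun u => chkSlp tab slp u) u = true := ext_range (a := 63018) (len := 18) h3501 sl_3501
  have h3503 : ∀ u < 63054, (fun u => chkSlp tab slp u) u = true := ext_range (a := 63036) (len := 18) h3502 sl_3502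
  have h3504 : ∀ u < 63072, (fun u => chkSlp tab slp u) u = true := ext_range (a := 63054) (len := 18) h3503 sl_3503
  have h3505 : ∀ u < 63090, (fun u => chkSlp tab slp u) u = true := ext_range (a := 63072) (len := 18) h3504 sl_3504
  have h3506 : ∀ u < 63108, (fun u => chkSlp tab slp u) u = true := ext_range (a := 63090) (len := 18) h3505 sl_3505
  have h3507 : ∀ u < 63126, (fun u => chkSlp tab slp u) u = true := ext_range (a := 63108) (len := 18) h3506 sl_3506
  have h3508 : ∀ u < 63144, (fun u => chkSlp tab slp u) u = true := ext_range (a := 63126) (len := 18) h3507 sl_3507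
  have h3509 : ∀ u < 63162, (fun u => chkSlp tab slp u) u = true := ext_range (a := 63144) (len := 18) h3508 sl_3508
  have h3510 : ∀ u < 63180, (fun u => chkSlp tab slp u) u = true := ext_range (a := 63162) (len := 18) h3509 sl_3509
  have h3511 : ∀ u < 63198, (fun u => chkSlp tab slp u) u = true := ext_range (a := 63180) (len := 18) h3510 sl_3510
  have h3512 : ∀ u < 63216, (fun u => chkSlp tab slp u) u = true := ext_range (a := 63198) (len := 18) h3511 sl_3511
  have h3513 : ∀ u < 63234, (fun u => chkSlp tab slp u) u = true := ext_range (a := 63216) (len := 18) h3512 sl_3512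
  have h3514 : ∀ u < 63252, (fun u => chkSlp tab slp u) u = true := ext_range (a := 63234) (len := 18) h3513 sl_3513
  have h3515 : ∀ u < 63270, (fun u => chkSlp tab slp u) u = true := ext_range (a := 63252) (len := 18) h3514 sl_3514
  have h3516 : ∀ u < 63288, (fun u => chkSlp tab slp u) u = true := ext_range (a := 63270) (len := 18) h3515 sl_3515
  have h3517 : ∀ u < 63306, (fun u => chkSlp tab slp u) u = true := ext_range (a := 63288) (len := 18) h3516 sl_3516
  have h3518 : ∀ u < 63324, (fun u => chkSlp tab slp u) u = true := ext_range (a := 63306) (len := 18) h3517 sl_3517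
  have h3519 : ∀ u < 63342, (fun u => chkSlp tab slp u) u = true := ext_range (a := 63324) (len := 18) h3518 sl_3518
  have h3520 : ∀ u < 63360, (fun u => chkSlp tab slp u) u = true := ext_range (a := 63342) (len := 18) h3519 sl_3519
  have h3521 : ∀ u < 63378, (fun u => chkSlp tab slp u) u = true := ext_range (a := 63360) (len := 18) h3520 sl_3520
  have h3522 : ∀ u < 63396, (fun u => chkSlp tab slp u) u = true := ext_range (a := 63378) (len := 18) h3521 sl_3521
  have h3523 : ∀ u < 63414, (fun u => chkSlp tab slp u) u = true := ext_range (a := 63396) (len := 18) h3522 sl_3522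
  have h3524 : ∀ u < 63432, (fun u => chkSlp tab slp u) u = true := ext_range (a := 63414) (len := 18) h3523 sl_3523
  have h3525 : ∀ u < 63450, (fun u => chkSlp tab slp u) u = true := ext_range (a := 63432) (len := 18) h3524 sl_3524
  have h3526 : ∀ u < 63468, (fun u => chkSlp tab slp u) u = true := ext_range (a := 63450) (len := 18) h3525 sl_3525
  have h3527 : ∀ u < 63486, (fun u => chkSlp tab slp u) u = true := ext_range (a := 63468) (len := 18) h3526 sl_3526
  have h3528 : ∀ u < 63504, (fun u => chkSlp tab slp u) u = true := ext_range (a := 63486) (len := 18) h3527 sl_3527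
  have h3529 : ∀ u < 63522, (fun u => chkSlp tab slp u) u = true := ext_range (a := 63504) (len := 18) h3528 sl_3528
  have h3530 : ∀ u < 63540, (fun u => chkSlp tab slp u) u = true := ext_range (a := 63522) (len := 18) h3529 sl_3529
  have h3531 : ∀ u < 63558, (fun u => chkSlp tab slp u) u = true := ext_range (a := 63540) (len := 18) h3530 sl_3530
  have h3532 : ∀ u < 63576, (fun u => chkSlp tab slp u) u = true := ext_range (a := 63558) (len := 18) h3531 sl_3531
  have h3533 : ∀ u < 63594, (fun u => chkSlp tab slp u) u = true := ext_range (a := 63576) (len := 18) h3532 sl_3532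
  have h3534 : ∀ u < 63612, (fun u => chkSlp tab slp u) u = true := ext_range (a := 63594) (len := 18) h3533 sl_3533
  have h3535 : ∀ u < 63630, (fun u => chkSlp tab slp u) u = true := ext_range (a := 63612) (len := 18) h3534 sl_3534
  have h3536 : ∀ u < 63648, (fun u => chkSlp tab slp u) u = true := ext_range (a := 63630) (len := 18) h3535 sl_3535
  have h3537 : ∀ u < 63666, (fun u => chkSlp tab slp u) u = true := ext_range (a := 63648) (len := 18) h3536 sl_3536
  have h3538 : ∀ u < 63684, (fun u => chkSlp tab slp u) u = true := ext_range (a := 63666) (len := 18) h3537 sl_3537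
  have h3539 : ∀ u < 63702, (fun u => chkSlp tab slp u) u = true := ext_range (a := 63684) (len := 18) h3538 sl_3538
  have h3540 : ∀ u < 63720, (fun u => chkSlp tab slp u) u = true := ext_range (a := 63702) (len := 18) h3539 sl_3539
  have h3541 : ∀ u < 63738, (fun u => chkSlp tab slp u) u = true := ext_range (a := 63720) (len := 18) h3540 sl_3540
  have h3542 : ∀ u < 63756, (fun u => chkSlp tab slp u) u = true := ext_range (a := 63738) (len := 18) h3541 sl_3541
  have h3543 : ∀ u < 63774, (fun u => chkSlp tab slp u) u = true := ext_range (a := 63756) (len := 18) h3542 sl_3542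
  have h3544 : ∀ u < 63792, (fun u => chkSlp tab slp u) u = true := ext_range (a := 63774) (len := 18) h3543 sl_3543
  have h3545 : ∀ u < 63810, (fun u => chkSlp tab slp u) u = true := ext_range (a := 63792) (len := 18) h3544 sl_3544
  have h3546 : ∀ u < 63828, (fun u => chkSlp tab slp u) u = true := ext_range (a := 63810) (len := 18) h3545 sl_3545
  have h3547 : ∀ u < 63846, (fun u => chkSlp tab slp u) u = true := ext_range (a := 63828) (len := 18) h3546 sl_3546
  have h3548 : ∀ u < 63864, (fun u => chkSlp tab slp u) u = true := ext_range (a := 63846) (len := 18) h3547 sl_3547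
  have h3549 : ∀ u < 63882, (fun u => chkSlp tab slp u) u = true := ext_range (a := 63864) (len := 18) h3548 sl_3548
  have h3550 : ∀ u < 63900, (fun u => chkSlp tab slp u) u = true := ext_range (a := 63882) (len := 18) h3549 sl_3549
  have h3551 : ∀ u < 63918, (fun u => chkSlp tab slp u) u = true := ext_range (a := 63900) (len := 18) h3550 sl_3550
  have h3552 : ∀ u < 63936, (fun u => chkSlp tab slp u) u = true := ext_range (a := 63918) (len := 18) h3551 sl_3551
  have h3553 : ∀ u < 63954, (fun u => chkSlp tab slp u) u = true := ext_range (a := 63936) (len := 18) h3552 sl_3552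
  have h3554 : ∀ u < 63972, (fun u => chkSlp tab slp u) u = true := ext_range (a := 63954) (len := 18) h3553 sl_3553
  have h3555 : ∀ u < 63990, (fun u => chkSlp tab slp u) u = true := ext_range (a := 63972) (len := 18) h3554 sl_3554
  have h3556 : ∀ u < 64008, (fun u => chkSlp tab slp u) u = true := ext_range (a := 63990) (len := 18) h3555 sl_3555
  have h3557 : ∀ u < 64026, (fun u => chkSlp tab slp u) u = true := ext_range (a := 64008) (len := 18) h3556 sl_3556
  have h3558 : ∀ u < 64044, (fun u => chkSlp tab slp u) u = true := ext_range (a := 64026) (len := 18) h3557 sl_3557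
  have h3559 : ∀ u < 64062, (fun u => chkSlp tab slp u) u = true := ext_range (a := 64044) (len := 18) h3558 sl_3558
  have h3560 : ∀ u < 64080, (fun u => chkSlp tab slp u) u = true := ext_range (a := 64062) (len := 18) h3559 sl_3559
  have h3561 : ∀ u < 64098, (fun u => chkSlp tab slp u) u = true := ext_range (a := 64080) (len := 18) h3560 sl_3560
  have h3562 : ∀ u < 64116, (fun u => chkSlp tab slp u) u = true := ext_range (a := 64098) (len := 18) h3561 sl_3561
  have h3563 : ∀ u < 64134, (fun u => chkSlp tab slp u) u = true := ext_range (a := 64116) (len := 18) h3562 sl_3562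
  have h3564 : ∀ u < 64152, (fun u => chkSlp tab slp u) u = true := ext_range (a := 64134) (len := 18) h3563 sl_3563
  have h3565 : ∀ u < 64170, (fun u => chkSlp tab slp u) u = true := ext_range (a := 64152) (len := 18) h3564 sl_3564
  have h3566 : ∀ u < 64188, (fun u => chkSlp tab slp u) u = true := ext_range (a := 64170) (len := 18) h3565 sl_3565
  have h3567 : ∀ u < 64206, (fun u => chkSlp tab slp u) u = true := ext_range (a := 64188) (len := 18) h3566 sl_3566
  have h3568 : ∀ u < 64224, (fun u => chkSlp tab slp u) u = true := ext_range (a := 64206) (len := 18) h3567 sl_3567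
  have h3569 : ∀ u < 64242, (fun u => chkSlp tab slp u) u = true := ext_range (a := 64224) (len := 18) h3568 sl_3568
  have h3570 : ∀ u < 64260, (fun u => chkSlp tab slp u) u = true := ext_range (a := 64242) (len := 18) h3569 sl_3569
  have h3571 : ∀ u < 64278, (fun u => chkSlp tab slp u) u = true := ext_range (a := 64260) (len := 18) h3570 sl_3570
  have h3572 : ∀ u < 64296, (fun u => chkSlp tab slp u) u = true := ext_range (a := 64278) (len := 18) h3571 sl_3571
  have h3573 : ∀ u < 64314, (fun u => chkSlp tab slp u) u = true := ext_range (a := 64296) (len := 18) h3572 sl_3572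
  have h3574 : ∀ u < 64332, (fun u => chkSlp tab slp u) u = true := ext_range (a := 64314) (len := 18) h3573 sl_3573
  have h3575 : ∀ u < 64350, (fun u => chkSlp tab slp u) u = true := ext_range (a := 64332) (len := 18) h3574 sl_3574
  have h3576 : ∀ u < 64368, (fun u => chkSlp tab slp u) u = true := ext_range (a := 64350) (len := 18) h3575 sl_3575
  have h3577 : ∀ u < 64386, (fun u => chkSlp tab slp u) u = true := ext_range (a := 64368) (len := 18) h3576 sl_3576
  have h3578 : ∀ u < 64404, (fun u => chkSlp tab slp u) u = true := ext_range (a := 64386) (len := 18) h3577 sl_3577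
  have h3579 : ∀ u < 64422, (fun u => chkSlp tab slp u) u = true := ext_range (a := 64404) (len := 18) h3578 sl_3578
  have h3580 : ∀ u < 64440, (fun u => chkSlp tab slp u) u = true := ext_range (a := 64422) (len := 18) h3579 sl_3579
  have h3581 : ∀ u < 64458, (fun u => chkSlp tab slp u) u = true := ext_range (a := 64440) (len := 18) h3580 sl_3580
  have h3582 : ∀ u < 64476, (fun u => chkSlp tab slp u) u = true := ext_range (a := 64458) (len := 18) h3581 sl_3581
  have h3583 : ∀ u < 64494, (fun u => chkSlp tab slp u) u = true := ext_range (a := 64476) (len := 18) h3582 sl_3582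
  have h3584 : ∀ u < 64512, (fun u => chkSlp tab slp u) u = true := ext_range (a := 64494) (len := 18) h3583 sl_3583
  have h3585 : ∀ u < 64530, (fun u => chkSlp tab slp u) u = true := ext_range (a := 64512) (len := 18) h3584 sl_3584
  have h3586 : ∀ u < 64548, (fun u => chkSlp tab slp u) u = true := ext_range (a := 64530) (len := 18) h3585 sl_3585
  have h3587 : ∀ u < 64566, (fun u => chkSlp tab slp u) u = true := ext_range (a := 64548) (len := 18) h3586 sl_3586
  have h3588 : ∀ u < 64584, (fun u => chkSlp tab slp u) u = true := ext_range (a := 64566) (len := 18) h3587 sl_3587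
  have h3589 : ∀ u < 64602, (fun u => chkSlp tab slp u) u = true := ext_range (a := 64584) (len := 18) h3588 sl_3588
  have h3590 : ∀ u < 64620, (fun u => chkSlp tab slp u) u = true := ext_range (a := 64602) (len := 18) h3589 sl_3589
  have h3591 : ∀ u < 64638, (fun u => chkSlp tab slp u) u = true := ext_range (a := 64620) (len := 18) h3590 sl_3590
  have h3592 : ∀ u < 64656, (fun u => chkSlp tab slp u) u = true := ext_range (a := 64638) (len := 18) h3591 sl_3591
  have h3593 : ∀ u < 64674, (fun u => chkSlp tab slp u) u = true := ext_range (a := 64656) (len := 18) h3592 sl_3592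
  have h3594 : ∀ u < 64692, (fun u => chkSlp tab slp u) u = true := ext_range (a := 64674) (len := 18) h3593 sl_3593
  have h3595 : ∀ u < 64710, (fun u => chkSlp tab slp u) u = true := ext_range (a := 64692) (len := 18) h3594 sl_3594
  have h3596 : ∀ u < 64728, (fun u => chkSlp tab slp u) u = true := ext_range (a := 64710) (len := 18) h3595 sl_3595
  have h3597 : ∀ u < 64746, (fun u => chkSlp tab slp u) u = true := ext_range (a := 64728) (len := 18) h3596 sl_3596
  have h3598 : ∀ u < 64764, (fun u => chkSlp tab slp u) u = true := ext_range (a := 64746) (len := 18) h3597 sl_3597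
  have h3599 : ∀ u < 64782, (fun u => chkSlp tab slp u) u = true := ext_range (a := 64764) (len := 18) h3598 sl_3598
  have h3600 : ∀ u < 64800, (fun u => chkSlp tab slp u) u = true := ext_range (a := 64782) (len := 18) h3599 sl_3599
  have h3601 : ∀ u < 64818, (fun u => chkSlp tab slp u) u = true := ext_range (a := 64800) (len := 18) h3600 sl_3600
  have h3602 : ∀ u < 64836, (fun u => chkSlp tab slp u) u = true := ext_range (a := 64818) (len := 18) h3601 sl_3601
  have h3603 : ∀ u < 64854, (fun u => chkSlp tab slp u) u = true := ext_range (a := 64836) (len := 18) h3602 sl_3602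
  have h3604 : ∀ u < 64872, (fun u => chkSlp tab slp u) u = true := ext_range (a := 64854) (len := 18) h3603 sl_3603
  have h3605 : ∀ u < 64890, (fun u => chkSlp tab slp u) u = true := ext_range (a := 64872) (len := 18) h3604 sl_3604
  have h3606 : ∀ u < 64908, (fun u => chkSlp tab slp u) u = true := ext_range (a := 64890) (len := 18) h3605 sl_3605
  have h3607 : ∀ u < 64926, (fun u => chkSlp tab slp u) u = true := ext_range (a := 64908) (len := 18) h3606 sl_3606
  have h3608 : ∀ u < 64944, (fun u => chkSlp tab slp u) u = true := ext_range (a := 64926) (len := 18) h3607 sl_3607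
  have h3609 : ∀ u < 64962, (fun u => chkSlp tab slp u) u = true := ext_range (a := 64944) (len := 18) h3608 sl_3608
  have h3610 : ∀ u < 64980, (fun u => chkSlp tab slp u) u = true := ext_range (a := 64962) (len := 18) h3609 sl_3609
  have h3611 : ∀ u < 64998, (fun u => chkSlp tab slp u) u = true := ext_range (a := 64980) (len := 18) h3610 sl_3610
  have h3612 : ∀ u < 65016, (fun u => chkSlp tab slp u) u = true := ext_range (a := 64998) (len := 18) h3611 sl_3611
  have h3613 : ∀ u < 65034, (fun u => chkSlp tab slp u) u = true := ext_range (a := 65016) (len := 18) h3612 sl_3612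
  have h3614 : ∀ u < 65052, (fun u => chkSlp tab slp u) u = true := ext_range (a := 65034) (len := 18) h3613 sl_3613
  have h3615 : ∀ u < 65070, (fun u => chkSlp tab slp u) u = true := ext_range (a := 65052) (len := 18) h3614 sl_3614
  have h3616 : ∀ u < 65088, (fun u => chkSlp tab slp u) u = true := ext_range (a := 65070) (len := 18) h3615 sl_3615
  have h3617 : ∀ u < 65106, (fun u => chkSlp tab slp u) u = true := ext_range (a := 65088) (len := 18) h3616 sl_3616
  have h3618 : ∀ u < 65124, (fun u => chkSlp tab slp u) u = true := ext_range (a := 65106) (len := 18) h3617 sl_3617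
  have h3619 : ∀ u < 65142, (fun u => chkSlp tab slp u) u = true := ext_range (a := 65124) (len := 18) h3618 sl_3618
  have h3620 : ∀ u < 65160, (fun u => chkSlp tab slp u) u = true := ext_range (a := 65142) (len := 18) h3619 sl_3619
  have h3621 : ∀ u < 65178, (fun u => chkSlp tab slp u) u = true := ext_range (a := 65160) (len := 18) h3620 sl_3620
  have h3622 : ∀ u < 65196, (fun u => chkSlp tab slp u) u = true := ext_range (a := 65178) (len := 18) h3621 sl_3621
  have h3623 : ∀ u < 65214, (fun u => chkSlp tab slp u) u = true := ext_range (a := 65196) (len := 18) h3622 sl_3622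
  have h3624 : ∀ u < 65232, (fun u => chkSlp tab slp u) u = true := ext_range (a := 65214) (len := 18) h3623 sl_3623
  have h3625 : ∀ u < 65250, (fun u => chkSlp tab slp u) u = true := ext_range (a := 65232) (len := 18) h3624 sl_3624
  have h3626 : ∀ u < 65268, (fun u => chkSlp tab slp u) u = true := ext_range (a := 65250) (len := 18) h3625 sl_3625
  have h3627 : ∀ u < 65286, (fun u => chkSlp tab slp u) u = true := ext_range (a := 65268) (len := 18) h3626 sl_3626
  have h3628 : ∀ u < 65304, (fun u => chkSlp tab slp u) u = true := ext_range (a := 65286) (len := 18) h3627 sl_3627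
  have h3629 : ∀ u < 65322, (fun u => chkSlp tab slp u) u = true := ext_range (a := 65304) (len := 18) h3628 sl_3628
  have h3630 : ∀ u < 65340, (fun u => chkSlp tab slp u) u = true := ext_range (a := 65322) (len := 18) h3629 sl_3629
  have h3631 : ∀ u < 65358, (fun u => chkSlp tab slp u) u = true := ext_range (a := 65340) (len := 18) h3630 sl_3630
  have h3632 : ∀ u < 65376, (fun u => chkSlp tab slp u) u = true := ext_range (a := 65358) (len := 18) h3631 sl_3631
  have h3633 : ∀ u < 65394, (fun u => chkSlp tab slp u) u = true := ext_range (a := 65376) (len := 18) h3632 sl_3632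
  have h3634 : ∀ u < 65412, (fun u => chkSlp tab slp u) u = true := ext_range (a := 65394) (len := 18) h3633 sl_3633
  have h3635 : ∀ u < 65430, (fun u => chkSlp tab slp u) u = true := ext_range (a := 65412) (len := 18) h3634 sl_3634
  have h3636 : ∀ u < 65448, (fun u => chkSlp tab slp u) u = true := ext_range (a := 65430) (len := 18) h3635 sl_3635
  have h3637 : ∀ u < 65466, (fun u => chkSlp tab slp u) u = true := ext_range (a := 65448) (len := 18) h3636 sl_3636
  have h3638 : ∀ u < 65484, (fun u => chkSlp tab slp u) u = true := ext_range (a := 65466) (len := 18) h3637 sl_3637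
  have h3639 : ∀ u < 65502, (fun u => chkSlp tab slp u) u = true := ext_range (a := 65484) (len := 18) h3638 sl_3638
  have h3640 : ∀ u < 65520, (fun u => chkSlp tab slp u) u = true := ext_range (a := 65502) (len := 18) h3639 sl_3639
  have h3641 : ∀ u < 65538, (fun u => chkSlp tab slp u) u = true := ext_range (a := 65520) (len := 18) h3640 sl_3640
  have h3642 : ∀ u < 65556, (fun u => chkSlp tab slp u) u = true := ext_range (a := 65538) (len := 18) h3641 sl_3641
  have h3643 : ∀ u < 65574, (fun u => chkSlp tab slp u) u = true := ext_range (a := 65556) (len := 18) h3642 sl_3642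
  have h3644 : ∀ u < 65592, (fun u => chkSlp tab slp u) u = true := ext_range (a := 65574) (len := 18) h3643 sl_3643
  have h3645 : ∀ u < 65610, (fun u => chkSlp tab slp u) u = true := ext_range (a := 65592) (len := 18) h3644 sl_3644
  have h3646 : ∀ u < 65628, (fun u => chkSlp tab slp u) u = true := ext_range (a := 65610) (len := 18) h3645 sl_3645
  have h3647 : ∀ u < 65646, (fun u => chkSlp tab slp u) u = true := ext_range (a := 65628) (len := 18) h3646 sl_3646
  have h3648 : ∀ u < 65664, (fun u => chkSlp tab slp u) u = true := ext_range (a := 65646) (len := 18) h3647 sl_3647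
  have h3649 : ∀ u < 65682, (fun u => chkSlp tab slp u) u = true := ext_range (a := 65664) (len := 18) h3648 sl_3648
  have h3650 : ∀ u < 65700, (fun u => chkSlp tab slp u) u = true := ext_range (a := 65682) (len := 18) h3649 sl_3649
  have h3651 : ∀ u < 65718, (fun u => chkSlp tab slp u) u = true := ext_range (a := 65700) (len := 18) h3650 sl_3650
  have h3652 : ∀ u < 65736, (fun u => chkSlp tab slp u) u = true := ext_range (a := 65718) (len := 18) h3651 sl_3651
  have h3653 : ∀ u < 65754, (fun u => chkSlp tab slp u) u = true := ext_range (a := 65736) (len := 18) h3652 sl_3652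
  have h3654 : ∀ u < 65772, (fun u => chkSlp tab slp u) u = true := ext_range (a := 65754) (len := 18) h3653 sl_3653
  have h3655 : ∀ u < 65790, (fun u => chkSlp tab slp u) u = true := ext_range (a := 65772) (len := 18) h3654 sl_3654
  have h3656 : ∀ u < 65808, (fun u => chkSlp tab slp u) u = true := ext_range (a := 65790) (len := 18) h3655 sl_3655
  have h3657 : ∀ u < 65826, (fun u => chkSlp tab slp u) u = true := ext_range (a := 65808) (len := 18) h3656 sl_3656
  have h3658 : ∀ u < 65844, (fun u => chkSlp tab slp u) u = true := ext_range (a := 65826) (len := 18) h3657 sl_3657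
  have h3659 : ∀ u < 65862, (fun u => chkSlp tab slp u) u = true := ext_range (a := 65844) (len := 18) h3658 sl_3658
  have h3660 : ∀ u < 65880, (fun u => chkSlp tab slp u) u = true := ext_range (a := 65862) (len := 18) h3659 sl_3659
  have h3661 : ∀ u < 65898, (fun u => chkSlp tab slp u) u = true := ext_range (a := 65880) (len := 18) h3660 sl_3660
  have h3662 : ∀ u < 65916, (fun u => chkSlp tab slp u) u = true := ext_range (a := 65898) (len := 18) h3661 sl_3661
  have h3663 : ∀ u < 65934, (fun u => chkSlp tab slp u) u = true := ext_range (a := 65916) (len := 18) h3662 sl_3662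
  have h3664 : ∀ u < 65952, (fun u => chkSlp tab slp u) u = true := ext_range (a := 65934) (len := 18) h3663 sl_3663
  have h3665 : ∀ u < 65970, (fun u => chkSlp tab slp u) u = true := ext_range (a := 65952) (len := 18) h3664 sl_3664
  have h3666 : ∀ u < 65988, (fun u => chkSlp tab slp u) u = true := ext_range (a := 65970) (len := 18) h3665 sl_3665
  have h3667 : ∀ u < 66006, (fun u => chkSlp tab slp u) u = true := ext_range (a := 65988) (len := 18) h3666 sl_3666
  have h3668 : ∀ u < 66024, (fun u => chkSlp tab slp u) u = true := ext_range (a := 66006) (len := 18) h3667 sl_3667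
  have h3669 : ∀ u < 66042, (fun u => chkSlp tab slp u) u = true := ext_range (a := 66024) (len := 18) h3668 sl_3668
  have h3670 : ∀ u < 66060, (fun u => chkSlp tab slp u) u = true := ext_range (a := 66042) (len := 18) h3669 sl_3669
  have h3671 : ∀ u < 66078, (fun u => chkSlp tab slp u) u = true := ext_range (a := 66060) (len := 18) h3670 sl_3670
  have h3672 : ∀ u < 66096, (fun u => chkSlp tab slp u) u = true := ext_range (a := 66078) (len := 18) h3671 sl_3671
  have h3673 : ∀ u < 66114, (fun u => chkSlp tab slp u) u = true := ext_range (a := 66096) (len := 18) h3672 sl_3672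
  have h3674 : ∀ u < 66132, (fun u => chkSlp tab slp u) u = true := ext_range (a := 66114) (len := 18) h3673 sl_3673
  have h3675 : ∀ u < 66150, (fun u => chkSlp tab slp u) u = true := ext_range (a := 66132) (len := 18) h3674 sl_3674
  have h3676 : ∀ u < 66168, (fun u => chkSlp tab slp u) u = true := ext_range (a := 66150) (len := 18) h3675 sl_3675
  have h3677 : ∀ u < 66186, (fun u => chkSlp tab slp u) u = true := ext_range (a := 66168) (len := 18) h3676 sl_3676
  have h3678 : ∀ u < 66204, (fun u => chkSlp tab slp u) u = true := ext_range (a := 66186) (len := 18) h3677 sl_3677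
  have h3679 : ∀ u < 66222, (fun u => chkSlp tab slp u) u = true := ext_range (a := 66204) (len := 18) h3678 sl_3678
  have h3680 : ∀ u < 66240, (fun u => chkSlp tab slp u) u = true := ext_range (a := 66222) (len := 18) h3679 sl_3679
  have h3681 : ∀ u < 66258, (fun u => chkSlp tab slp u) u = true := ext_range (a := 66240) (len := 18) h3680 sl_3680
  have h3682 : ∀ u < 66276, (fun u => chkSlp tab slp u) u = true := ext_range (a := 66258) (len := 18) h3681 sl_3681
  have h3683 : ∀ u < 66294, (fun u => chkSlp tab slp u) u = true := ext_range (a := 66276) (len := 18) h3682 sl_3682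
  have h3684 : ∀ u < 66312, (fun u => chkSlp tab slp u) u = true := ext_range (a := 66294) (len := 18) h3683 sl_3683
  have h3685 : ∀ u < 66330, (fun u => chkSlp tab slp u) u = true := ext_range (a := 66312) (len := 18) h3684 sl_3684
  have h3686 : ∀ u < 66348, (fun u => chkSlp tab slp u) u = true := ext_range (a := 66330) (len := 18) h3685 sl_3685
  have h3687 : ∀ u < 66366, (fun u => chkSlp tab slp u) u = true := ext_range (a := 66348) (len := 18) h3686 sl_3686
  have h3688 : ∀ u < 66384, (fun u => chkSlp tab slp u) u = true := ext_range (a := 66366) (len := 18) h3687 sl_3687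
  have h3689 : ∀ u < 66402, (fun u => chkSlp tab slp u) u = true := ext_range (a := 66384) (len := 18) h3688 sl_3688
  have h3690 : ∀ u < 66420, (fun u => chkSlp tab slp u) u = true := ext_range (a := 66402) (len := 18) h3689 sl_3689
  have h3691 : ∀ u < 66438, (fun u => chkSlp tab slp u) u = true := ext_range (a := 66420) (len := 18) h3690 sl_3690
  have h3692 : ∀ u < 66456, (fun u => chkSlp tab slp u) u = true := ext_range (a := 66438) (len := 18) h3691 sl_3691
  have h3693 : ∀ u < 66474, (fun u => chkSlp tab slp u) u = true := ext_range (a := 66456) (len := 18) h3692 sl_3692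
  have h3694 : ∀ u < 66492, (fun u => chkSlp tab slp u) u = true := ext_range (a := 66474) (len := 18) h3693 sl_3693
  have h3695 : ∀ u < 66510, (fun u => chkSlp tab slp u) u = true := ext_range (a := 66492) (len := 18) h3694 sl_3694
  have h3696 : ∀ u < 66528, (fun u => chkSlp tab slp u) u = true := ext_range (a := 66510) (len := 18) h3695 sl_3695
  have h3697 : ∀ u < 66546, (fun u => chkSlp tab slp u) u = true := ext_range (a := 66528) (len := 18) h3696 sl_3696
  have h3698 : ∀ u < 66564, (fun u => chkSlp tab slp u) u = true := ext_range (a := 66546) (len := 18) h3697 sl_3697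
  have h3699 : ∀ u < 66582, (fun u => chkSlp tab slp u) u = true := ext_range (a := 66564) (len := 18) h3698 sl_3698
  have h3700 : ∀ u < 66600, (fun u => chkSlp tab slp u) u = true := ext_range (a := 66582) (len := 18) h3699 sl_3699
  have h3701 : ∀ u < 66618, (fun u => chkSlp tab slp u) u = true := ext_range (a := 66600) (len := 18) h3700 sl_3700
  have h3702 : ∀ u < 66636, (fun u => chkSlp tab slp u) u = true := ext_range (a := 66618) (len := 18) h3701 sl_3701
  have h3703 : ∀ u < 66654, (fun u => chkSlp tab slp u) u = true := ext_range (a := 66636) (len := 18) h3702 sl_3702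
  have h3704 : ∀ u < 66672, (fun u => chkSlp tab slp u) u = true := ext_range (a := 66654) (len := 18) h3703 sl_3703
  have h3705 : ∀ u < 66690, (fun u => chkSlp tab slp u) u = true := ext_range (a := 66672) (len := 18) h3704 sl_3704
  have h3706 : ∀ u < 66708, (fun u => chkSlp tab slp u) u = true := ext_range (a := 66690) (len := 18) h3705 sl_3705
  have h3707 : ∀ u < 66726, (fun u => chkSlp tab slp u) u = true := ext_range (a := 66708) (len := 18) h3706 sl_3706
  have h3708 : ∀ u < 66744, (fun u => chkSlp tab slp u) u = true := ext_range (a := 66726) (len := 18) h3707 sl_3707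
  have h3709 : ∀ u < 66762, (fun u => chkSlp tab slp u) u = true := ext_range (a := 66744) (len := 18) h3708 sl_3708
  have h3710 : ∀ u < 66780, (fun u => chkSlp tab slp u) u = true := ext_range (a := 66762) (len := 18) h3709 sl_3709
  have h3711 : ∀ u < 66798, (fun u => chkSlp tab slp u) u = true := ext_range (a := 66780) (len := 18) h3710 sl_3710
  have h3712 : ∀ u < 66816, (fun u => chkSlp tab slp u) u = true := ext_range (a := 66798) (len := 18) h3711 sl_3711
  have h3713 : ∀ u < 66834, (fun u => chkSlp tab slp u) u = true := ext_range (a := 66816) (len := 18) h3712 sl_3712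
  have h3714 : ∀ u < 66852, (fun u => chkSlp tab slp u) u = true := ext_range (a := 66834) (len := 18) h3713 sl_3713
  have h3715 : ∀ u < 66870, (fun u => chkSlp tab slp u) u = true := ext_range (a := 66852) (len := 18) h3714 sl_3714
  have h3716 : ∀ u < 66888, (fun u => chkSlp tab slp u) u = true := ext_range (a := 66870) (len := 18) h3715 sl_3715
  have h3717 : ∀ u < 66906, (fun u => chkSlp tab slp u) u = true := ext_range (a := 66888) (len := 18) h3716 sl_3716
  have h3718 : ∀ u < 66924, (fun u => chkSlp tab slp u) u = true := ext_range (a := 66906) (len := 18) h3717 sl_3717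
  have h3719 : ∀ u < 66942, (fun u => chkSlp tab slp u) u = true := ext_range (a := 66924) (len := 18) h3718 sl_3718
  have h3720 : ∀ u < 66960, (fun u => chkSlp tab slp u) u = true := ext_range (a := 66942) (len := 18) h3719 sl_3719
  have h3721 : ∀ u < 66978, (fun u => chkSlp tab slp u) u = true := ext_range (a := 66960) (len := 18) h3720 sl_3720
  have h3722 : ∀ u < 66996, (fun u => chkSlp tab slp u) u = true := ext_range (a := 66978) (len := 18) h3721 sl_3721
  have h3723 : ∀ u < 67014, (fun u => chkSlp tab slp u) u = true := ext_range (a := 66996) (len := 18) h3722 sl_3722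
  have h3724 : ∀ u < 67032, (fun u => chkSlp tab slp u) u = true := ext_range (a := 67014) (len := 18) h3723 sl_3723
  have h3725 : ∀ u < 67050, (fun u => chkSlp tab slp u) u = true := ext_range (a := 67032) (len := 18) h3724 sl_3724
  have h3726 : ∀ u < 67068, (fun u => chkSlp tab slp u) u = true := ext_range (a := 67050) (len := 18) h3725 sl_3725
  have h3727 : ∀ u < 67086, (fun u => chkSlp tab slp u) u = true := ext_range (a := 67068) (len := 18) h3726 sl_3726
  have h3728 : ∀ u < 67104, (fun u => chkSlp tab slp u) u = true := ext_range (a := 67086) (len := 18) h3727 sl_3727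
  have h3729 : ∀ u < 67122, (fun u => chkSlp tab slp u) u = true := ext_range (a := 67104) (len := 18) h3728 sl_3728
  have h3730 : ∀ u < 67140, (fun u => chkSlp tab slp u) u = true := ext_range (a := 67122) (len := 18) h3729 sl_3729
  have h3731 : ∀ u < 67158, (fun u => chkSlp tab slp u) u = true := ext_range (a := 67140) (len := 18) h3730 sl_3730
  have h3732 : ∀ u < 67176, (fun u => chkSlp tab slp u) u = true := ext_range (a := 67158) (len := 18) h3731 sl_3731
  have h3733 : ∀ u < 67194, (fun u => chkSlp tab slp u) u = true := ext_range (a := 67176) (len := 18) h3732 sl_3732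
  have h3734 : ∀ u < 67212, (fun u => chkSlp tab slp u) u = true := ext_range (a := 67194) (len := 18) h3733 sl_3733
  have h3735 : ∀ u < 67230, (fun u => chkSlp tab slp u) u = true := ext_range (a := 67212) (len := 18) h3734 sl_3734
  have h3736 : ∀ u < 67248, (fun u => chkSlp tab slp u) u = true := ext_range (a := 67230) (len := 18) h3735 sl_3735
  have h3737 : ∀ u < 67266, (fun u => chkSlp tab slp u) u = true := ext_range (a := 67248) (len := 18) h3736 sl_3736
  have h3738 : ∀ u < 67284, (fun u => chkSlp tab slp u) u = true := ext_range (a := 67266) (len := 18) h3737 sl_3737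
  have h3739 : ∀ u < 67302, (fun u => chkSlp tab slp u) u = true := ext_range (a := 67284) (len := 18) h3738 sl_3738
  have h3740 : ∀ u < 67320, (fun u => chkSlp tab slp u) u = true := ext_range (a := 67302) (len := 18) h3739 sl_3739
  have h3741 : ∀ u < 67338, (fun u => chkSlp tab slp u) u = true := ext_range (a := 67320) (len := 18) h3740 sl_3740
  have h3742 : ∀ u < 67356, (fun u => chkSlp tab slp u) u = true := ext_range (a := 67338) (len := 18) h3741 sl_3741
  have h3743 : ∀ u < 67374, (fun u => chkSlp tab slp u) u = true := ext_range (a := 67356) (len := 18) h3742 sl_3742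
  have h3744 : ∀ u < 67392, (fun u => chkSlp tab slp u) u = true := ext_range (a := 67374) (len := 18) h3743 sl_3743
  have h3745 : ∀ u < 67410, (fun u => chkSlp tab slp u) u = true := ext_range (a := 67392) (len := 18) h3744 sl_3744
  have h3746 : ∀ u < 67428, (fun u => chkSlp tab slp u) u = true := ext_range (a := 67410) (len := 18) h3745 sl_3745
  have h3747 : ∀ u < 67446, (fun u => chkSlp tab slp u) u = true := ext_range (a := 67428) (len := 18) h3746 sl_3746
  have h3748 : ∀ u < 67464, (fun u => chkSlp tab slp u) u = true := ext_range (a := 67446) (len := 18) h3747 sl_3747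
  have h3749 : ∀ u < 67482, (fun u => chkSlp tab slp u) u = true := ext_range (a := 67464) (len := 18) h3748 sl_3748
  have h3750 : ∀ u < 67500, (fun u => chkSlp tab slp u) u = true := ext_range (a := 67482) (len := 18) h3749 sl_3749
  have h3751 : ∀ u < 67518, (fun u => chkSlp tab slp u) u = true := ext_range (a := 67500) (len := 18) h3750 sl_3750
  have h3752 : ∀ u < 67536, (fun u => chkSlp tab slp u) u = true := ext_range (a := 67518) (len := 18) h3751 sl_3751
  have h3753 : ∀ u < 67554, (fun u => chkSlp tab slp u) u = true := ext_range (a := 67536) (len := 18) h3752 sl_3752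
  have h3754 : ∀ u < 67572, (fun u => chkSlp tab slp u) u = true := ext_range (a := 67554) (len := 18) h3753 sl_3753
  have h3755 : ∀ u < 67590, (fun u => chkSlp tab slp u) u = true := ext_range (a := 67572) (len := 18) h3754 sl_3754
  have h3756 : ∀ u < 67608, (fun u => chkSlp tab slp u) u = true := ext_range (a := 67590) (len := 18) h3755 sl_3755
  have h3757 : ∀ u < 67626, (fun u => chkSlp tab slp u) u = true := ext_range (a := 67608) (len := 18) h3756 sl_3756
  have h3758 : ∀ u < 67644, (fun u => chkSlp tab slp u) u = true := ext_range (a := 67626) (len := 18) h3757 sl_3757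
  have h3759 : ∀ u < 67662, (fun u => chkSlp tab slp u) u = true := ext_range (a := 67644) (len := 18) h3758 sl_3758
  have h3760 : ∀ u < 67680, (fun u => chkSlp tab slp u) u = true := ext_range (a := 67662) (len := 18) h3759 sl_3759
  have h3761 : ∀ u < 67698, (fun u => chkSlp tab slp u) u = true := ext_range (a := 67680) (len := 18) h3760 sl_3760
  have h3762 : ∀ u < 67716, (fun u => chkSlp tab slp u) u = true := ext_range (a := 67698) (len := 18) h3761 sl_3761
  have h3763 : ∀ u < 67734, (fun u => chkSlp tab slp u) u = true := ext_range (a := 67716) (len := 18) h3762 sl_3762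
  have h3764 : ∀ u < 67752, (fun u => chkSlp tab slp u) u = true := ext_range (a := 67734) (len := 18) h3763 sl_3763
  have h3765 : ∀ u < 67770, (fun u => chkSlp tab slp u) u = true := ext_range (a := 67752) (len := 18) h3764 sl_3764
  have h3766 : ∀ u < 67788, (fun u => chkSlp tab slp u) u = true := ext_range (a := 67770) (len := 18) h3765 sl_3765
  have h3767 : ∀ u < 67806, (fun u => chkSlp tab slp u) u = true := ext_range (a := 67788) (len := 18) h3766 sl_3766
  have h3768 : ∀ u < 67824, (fun u => chkSlp tab slp u) u = true := ext_range (a := 67806) (len := 18) h3767 sl_3767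
  have h3769 : ∀ u < 67842, (fun u => chkSlp tab slp u) u = true := ext_range (a := 67824) (len := 18) h3768 sl_3768
  have h3770 : ∀ u < 67860, (fun u => chkSlp tab slp u) u = true := ext_range (a := 67842) (len := 18) h3769 sl_3769
  have h3771 : ∀ u < 67878, (fun u => chkSlp tab slp u) u = true := ext_range (a := 67860) (len := 18) h3770 sl_3770
  have h3772 : ∀ u < 67896, (fun u => chkSlp tab slp u) u = true := ext_range (a := 67878) (len := 18) h3771 sl_3771
  have h3773 : ∀ u < 67914, (fun u => chkSlp tab slp u) u = true := ext_range (a := 67896) (len := 18) h3772 sl_3772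
  have h3774 : ∀ u < 67932, (fun u => chkSlp tab slp u) u = true := ext_range (a := 67914) (len := 18) h3773 sl_3773
  have h3775 : ∀ u < 67950, (fun u => chkSlp tab slp u) u = true := ext_range (a := 67932) (len := 18) h3774 sl_3774
  have h3776 : ∀ u < 67968, (fun u => chkSlp tab slp u) u = true := ext_range (a := 67950) (len := 18) h3775 sl_3775
  have h3777 : ∀ u < 67986, (fun u => chkSlp tab slp u) u = true := ext_range (a := 67968) (len := 18) h3776 sl_3776
  have h3778 : ∀ u < 68004, (fun u => chkSlp tab slp u) u = true := ext_range (a := 67986) (len := 18) h3777 sl_3777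
  have h3779 : ∀ u < 68022, (fun u => chkSlp tab slp u) u = true := ext_range (a := 68004) (len := 18) h3778 sl_3778
  have h3780 : ∀ u < 68040, (fun u => chkSlp tab slp u) u = true := ext_range (a := 68022) (len := 18) h3779 sl_3779
  have h3781 : ∀ u < 68058, (fun u => chkSlp tab slp u) u = true := ext_range (a := 68040) (len := 18) h3780 sl_3780
  have h3782 : ∀ u < 68076, (fun u => chkSlp tab slp u) u = true := ext_range (a := 68058) (len := 18) h3781 sl_3781
  have h3783 : ∀ u < 68094, (fun u => chkSlp tab slp u) u = true := ext_range (a := 68076) (len := 18) h3782 sl_3782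
  have h3784 : ∀ u < 68112, (fun u => chkSlp tab slp u) u = true := ext_range (a := 68094) (len := 18) h3783 sl_3783
  have h3785 : ∀ u < 68130, (fun u => chkSlp tab slp u) u = true := ext_range (a := 68112) (len := 18) h3784 sl_3784
  have h3786 : ∀ u < 68148, (fun u => chkSlp tab slp u) u = true := ext_range (a := 68130) (len := 18) h3785 sl_3785
  have h3787 : ∀ u < 68166, (fun u => chkSlp tab slp u) u = true := ext_range (a := 68148) (len := 18) h3786 sl_3786
  have h3788 : ∀ u < 68184, (fun u => chkSlp tab slp u) u = true := ext_range (a := 68166) (len := 18) h3787 sl_3787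
  have h3789 : ∀ u < 68202, (fun u => chkSlp tab slp u) u = true := ext_range (a := 68184) (len := 18) h3788 sl_3788
  have h3790 : ∀ u < 68220, (fun u => chkSlp tab slp u) u = true := ext_range (a := 68202) (len := 18) h3789 sl_3789
  have h3791 : ∀ u < 68238, (fun u => chkSlp tab slp u) u = true := ext_range (a := 68220) (len := 18) h3790 sl_3790
  have h3792 : ∀ u < 68256, (fun u => chkSlp tab slp u) u = true := ext_range (a := 68238) (len := 18) h3791 sl_3791
  have h3793 : ∀ u < 68274, (fun u => chkSlp tab slp u) u = true := ext_range (a := 68256) (len := 18) h3792 sl_3792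
  have h3794 : ∀ u < 68292, (fun u => chkSlp tab slp u) u = true := ext_range (a := 68274) (len := 18) h3793 sl_3793
  have h3795 : ∀ u < 68310, (fun u => chkSlp tab slp u) u = true := ext_range (a := 68292) (len := 18) h3794 sl_3794
  have h3796 : ∀ u < 68328, (fun u => chkSlp tab slp u) u = true := ext_range (a := 68310) (len := 18) h3795 sl_3795
  have h3797 : ∀ u < 68346, (fun u => chkSlp tab slp u) u = true := ext_range (a := 68328) (len := 18) h3796 sl_3796
  have h3798 : ∀ u < 68364, (fun u => chkSlp tab slp u) u = true := ext_range (a := 68346) (len := 18) h3797 sl_3797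
  have h3799 : ∀ u < 68382, (fun u => chkSlp tab slp u) u = true := ext_range (a := 68364) (len := 18) h3798 sl_3798
  have h3800 : ∀ u < 68400, (fun u => chkSlp tab slp u) u = true := ext_range (a := 68382) (len := 18) h3799 sl_3799
  have h3801 : ∀ u < 68418, (fun u => chkSlp tab slp u) u = true := ext_range (a := 68400) (len := 18) h3800 sl_3800
  have h3802 : ∀ u < 68436, (fun u => chkSlp tab slp u) u = true := ext_range (a := 68418) (len := 18) h3801 sl_3801
  have h3803 : ∀ u < 68454, (fun u => chkSlp tab slp u) u = true := ext_range (a := 68436) (len := 18) h3802 sl_3802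
  have h3804 : ∀ u < 68472, (fun u => chkSlp tab slp u) u = true := ext_range (a := 68454) (len := 18) h3803 sl_3803
  have h3805 : ∀ u < 68490, (fun u => chkSlp tab slp u) u = true := ext_range (a := 68472) (len := 18) h3804 sl_3804
  have h3806 : ∀ u < 68508, (fun u => chkSlp tab slp u) u = true := ext_range (a := 68490) (len := 18) h3805 sl_3805
  have h3807 : ∀ u < 68526, (fun u => chkSlp tab slp u) u = true := ext_range (a := 68508) (len := 18) h3806 sl_3806
  have h3808 : ∀ u < 68544, (fun u => chkSlp tab slp u) u = true := ext_range (a := 68526) (len := 18) h3807 sl_3807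
  have h3809 : ∀ u < 68562, (fun u => chkSlp tab slp u) u = true := ext_range (a := 68544) (len := 18) h3808 sl_3808
  have h3810 : ∀ u < 68580, (fun u => chkSlp tab slp u) u = true := ext_range (a := 68562) (len := 18) h3809 sl_3809
  have h3811 : ∀ u < 68598, (fun u => chkSlp tab slp u) u = true := ext_range (a := 68580) (len := 18) h3810 sl_3810
  have h3812 : ∀ u < 68616, (fun u => chkSlp tab slp u) u = true := ext_range (a := 68598) (len := 18) h3811 sl_3811
  have h3813 : ∀ u < 68634, (fun u => chkSlp tab slp u) u = true := ext_range (a := 68616) (len := 18) h3812 sl_3812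
  have h3814 : ∀ u < 68652, (fun u => chkSlp tab slp u) u = true := ext_range (a := 68634) (len := 18) h3813 sl_3813
  have h3815 : ∀ u < 68670, (fun u => chkSlp tab slp u) u = true := ext_range (a := 68652) (len := 18) h3814 sl_3814
  have h3816 : ∀ u < 68688, (fun u => chkSlp tab slp u) u = true := ext_range (a := 68670) (len := 18) h3815 sl_3815
  have h3817 : ∀ u < 68706, (fun u => chkSlp tab slp u) u = true := ext_range (a := 68688) (len := 18) h3816 sl_3816
  have h3818 : ∀ u < 68724, (fun u => chkSlp tab slp u) u = true := ext_range (a := 68706) (len := 18) h3817 sl_3817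
  have h3819 : ∀ u < 68742, (fun u => chkSlp tab slp u) u = true := ext_range (a := 68724) (len := 18) h3818 sl_3818
  have h3820 : ∀ u < 68760, (fun u => chkSlp tab slp u) u = true := ext_range (a := 68742) (len := 18) h3819 sl_3819
  have h3821 : ∀ u < 68778, (fun u => chkSlp tab slp u) u = true := ext_range (a := 68760) (len := 18) h3820 sl_3820
  have h3822 : ∀ u < 68796, (fun u => chkSlp tab slp u) u = true := ext_range (a := 68778) (len := 18) h3821 sl_3821
  have h3823 : ∀ u < 68814, (fun u => chkSlp tab slp u) u = true := ext_range (a := 68796) (len := 18) h3822 sl_3822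
  have h3824 : ∀ u < 68832, (fun u => chkSlp tab slp u) u = true := ext_range (a := 68814) (len := 18) h3823 sl_3823
  have h3825 : ∀ u < 68850, (fun u => chkSlp tab slp u) u = true := ext_range (a := 68832) (len := 18) h3824 sl_3824
  have h3826 : ∀ u < 68868, (fun u => chkSlp tab slp u) u = true := ext_range (a := 68850) (len := 18) h3825 sl_3825
  have h3827 : ∀ u < 68886, (fun u => chkSlp tab slp u) u = true := ext_range (a := 68868) (len := 18) h3826 sl_3826
  have h3828 : ∀ u < 68904, (fun u => chkSlp tab slp u) u = true := ext_range (a := 68886) (len := 18) h3827 sl_3827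
  have h3829 : ∀ u < 68922, (fun u => chkSlp tab slp u) u = true := ext_range (a := 68904) (len := 18) h3828 sl_3828
  have h3830 : ∀ u < 68940, (fun u => chkSlp tab slp u) u = true := ext_range (a := 68922) (len := 18) h3829 sl_3829
  have h3831 : ∀ u < 68958, (fun u => chkSlp tab slp u) u = true := ext_range (a := 68940) (len := 18) h3830 sl_3830
  have h3832 : ∀ u < 68976, (fun u => chkSlp tab slp u) u = true := ext_range (a := 68958) (len := 18) h3831 sl_3831
  have h3833 : ∀ u < 68994, (fun u => chkSlp tab slp u) u = true := ext_range (a := 68976) (len := 18) h3832 sl_3832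
  have h3834 : ∀ u < 69012, (fun u => chkSlp tab slp u) u = true := ext_range (a := 68994) (len := 18) h3833 sl_3833
  have h3835 : ∀ u < 69030, (fun u => chkSlp tab slp u) u = true := ext_range (a := 69012) (len := 18) h3834 sl_3834
  have h3836 : ∀ u < 69048, (fun u => chkSlp tab slp u) u = true := ext_range (a := 69030) (len := 18) h3835 sl_3835
  have h3837 : ∀ u < 69066, (fun u => chkSlp tab slp u) u = true := ext_range (a := 69048) (len := 18) h3836 sl_3836
  have h3838 : ∀ u < 69084, (fun u => chkSlp tab slp u) u = true := ext_range (a := 69066) (len := 18) h3837 sl_3837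
  have h3839 : ∀ u < 69102, (fun u => chkSlp tab slp u) u = true := ext_range (a := 69084) (len := 18) h3838 sl_3838
  have h3840 : ∀ u < 69120, (fun u => chkSlp tab slp u) u = true := ext_range (a := 69102) (len := 18) h3839 sl_3839
  have h3841 : ∀ u < 69138, (fun u => chkSlp tab slp u) u = true := ext_range (a := 69120) (len := 18) h3840 sl_3840
  have h3842 : ∀ u < 69156, (fun u => chkSlp tab slp u) u = true := ext_range (a := 69138) (len := 18) h3841 sl_3841
  have h3843 : ∀ u < 69174, (fun u => chkSlp tab slp u) u = true := ext_range (a := 69156) (len := 18) h3842 sl_3842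
  have h3844 : ∀ u < 69192, (fun u => chkSlp tab slp u) u = true := ext_range (a := 69174) (len := 18) h3843 sl_3843
  have h3845 : ∀ u < 69210, (fun u => chkSlp tab slp u) u = true := ext_range (a := 69192) (len := 18) h3844 sl_3844
  have h3846 : ∀ u < 69228, (fun u => chkSlp tab slp u) u = true := ext_range (a := 69210) (len := 18) h3845 sl_3845
  have h3847 : ∀ u < 69246, (fun u => chkSlp tab slp u) u = true := ext_range (a := 69228) (len := 18) h3846 sl_3846
  have h3848 : ∀ u < 69264, (fun u => chkSlp tab slp u) u = true := ext_range (a := 69246) (len := 18) h3847 sl_3847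
  have h3849 : ∀ u < 69282, (fun u => chkSlp tab slp u) u = true := ext_range (a := 69264) (len := 18) h3848 sl_3848
  have h3850 : ∀ u < 69300, (fun u => chkSlp tab slp u) u = true := ext_range (a := 69282) (len := 18) h3849 sl_3849
  have h3851 : ∀ u < 69318, (fun u => chkSlp tab slp u) u = true := ext_range (a := 69300) (len := 18) h3850 sl_3850
  have h3852 : ∀ u < 69336, (fun u => chkSlp tab slp u) u = true := ext_range (a := 69318) (len := 18) h3851 sl_3851
  have h3853 : ∀ u < 69354, (fun u => chkSlp tab slp u) u = true := ext_range (a := 69336) (len := 18) h3852 sl_3852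
  have h3854 : ∀ u < 69372, (fun u => chkSlp tab slp u) u = true := ext_range (a := 69354) (len := 18) h3853 sl_3853
  have h3855 : ∀ u < 69390, (fun u => chkSlp tab slp u) u = true := ext_range (a := 69372) (len := 18) h3854 sl_3854
  have h3856 : ∀ u < 69408, (fun u => chkSlp tab slp u) u = true := ext_range (a := 69390) (len := 18) h3855 sl_3855
  have h3857 : ∀ u < 69426, (fun u => chkSlp tab slp u) u = true := ext_range (a := 69408) (len := 18) h3856 sl_3856
  have h3858 : ∀ u < 69444, (fun u => chkSlp tab slp u) u = true := ext_range (a := 69426) (len := 18) h3857 sl_3857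
  have h3859 : ∀ u < 69462, (fun u => chkSlp tab slp u) u = true := ext_range (a := 69444) (len := 18) h3858 sl_3858
  have h3860 : ∀ u < 69480, (fun u => chkSlp tab slp u) u = true := ext_range (a := 69462) (len := 18) h3859 sl_3859
  have h3861 : ∀ u < 69498, (fun u => chkSlp tab slp u) u = true := ext_range (a := 69480) (len := 18) h3860 sl_3860
  have h3862 : ∀ u < 69516, (fun u => chkSlp tab slp u) u = true := ext_range (a := 69498) (len := 18) h3861 sl_3861
  have h3863 : ∀ u < 69534, (fun u => chkSlp tab slp u) u = true := ext_range (a := 69516) (len := 18) h3862 sl_3862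
  have h3864 : ∀ u < 69552, (fun u => chkSlp tab slp u) u = true := ext_range (a := 69534) (len := 18) h3863 sl_3863
  have h3865 : ∀ u < 69570, (fun u => chkSlp tab slp u) u = true := ext_range (a := 69552) (len := 18) h3864 sl_3864
  have h3866 : ∀ u < 69588, (fun u => chkSlp tab slp u) u = true := ext_range (a := 69570) (len := 18) h3865 sl_3865
  have h3867 : ∀ u < 69606, (fun u => chkSlp tab slp u) u = true := ext_range (a := 69588) (len := 18) h3866 sl_3866
  have h3868 : ∀ u < 69624, (fun u => chkSlp tab slp u) u = true := ext_range (a := 69606) (len := 18) h3867 sl_3867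
  have h3869 : ∀ u < 69642, (fun u => chkSlp tab slp u) u = true := ext_range (a := 69624) (len := 18) h3868 sl_3868
  have h3870 : ∀ u < 69660, (fun u => chkSlp tab slp u) u = true := ext_range (a := 69642) (len := 18) h3869 sl_3869
  have h3871 : ∀ u < 69678, (fun u => chkSlp tab slp u) u = true := ext_range (a := 69660) (len := 18) h3870 sl_3870
  have h3872 : ∀ u < 69696, (fun u => chkSlp tab slp u) u = true := ext_range (a := 69678) (len := 18) h3871 sl_3871
  have h3873 : ∀ u < 69714, (fun u => chkSlp tab slp u) u = true := ext_range (a := 69696) (len := 18) h3872 sl_3872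
  have h3874 : ∀ u < 69732, (fun u => chkSlp tab slp u) u = true := ext_range (a := 69714) (len := 18) h3873 sl_3873
  have h3875 : ∀ u < 69750, (fun u => chkSlp tab slp u) u = true := ext_range (a := 69732) (len := 18) h3874 sl_3874
  have h3876 : ∀ u < 69768, (fun u => chkSlp tab slp u) u = true := ext_range (a := 69750) (len := 18) h3875 sl_3875
  have h3877 : ∀ u < 69786, (fun u => chkSlp tab slp u) u = true := ext_range (a := 69768) (len := 18) h3876 sl_3876
  have h3878 : ∀ u < 69804, (fun u => chkSlp tab slp u) u = true := ext_range (a := 69786) (len := 18) h3877 sl_3877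
  have h3879 : ∀ u < 69822, (fun u => chkSlp tab slp u) u = true := ext_range (a := 69804) (len := 18) h3878 sl_3878
  have h3880 : ∀ u < 69840, (fun u => chkSlp tab slp u) u = true := ext_range (a := 69822) (len := 18) h3879 sl_3879
  have h3881 : ∀ u < 69858, (fun u => chkSlp tab slp u) u = true := ext_range (a := 69840) (len := 18) h3880 sl_3880
  have h3882 : ∀ u < 69876, (fun u => chkSlp tab slp u) u = true := ext_range (a := 69858) (len := 18) h3881 sl_3881
  have h3883 : ∀ u < 69894, (fun u => chkSlp tab slp u) u = true := ext_range (a := 69876) (len := 18) h3882 sl_3882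
  have h3884 : ∀ u < 69912, (fun u => chkSlp tab slp u) u = true := ext_range (a := 69894) (len := 18) h3883 sl_3883
  have h3885 : ∀ u < 69930, (fun u => chkSlp tab slp u) u = true := ext_range (a := 69912) (len := 18) h3884 sl_3884
  have h3886 : ∀ u < 69948, (fun u => chkSlp tab slp u) u = true := ext_range (a := 69930) (len := 18) h3885 sl_3885
  have h3887 : ∀ u < 69966, (fun u => chkSlp tab slp u) u = true := ext_range (a := 69948) (len := 18) h3886 sl_3886
  have h3888 : ∀ u < 69984, (fun u => chkSlp tab slp u) u = true := ext_range (a := 69966) (len := 18) h3887 sl_3887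
  have h3889 : ∀ u < 70002, (fun u => chkSlp tab slp u) u = true := ext_range (a := 69984) (len := 18) h3888 sl_3888
  have h3890 : ∀ u < 70020, (fun u => chkSlp tab slp u) u = true := ext_range (a := 70002) (len := 18) h3889 sl_3889
  have h3891 : ∀ u < 70038, (fun u => chkSlp tab slp u) u = true := ext_range (a := 70020) (len := 18) h3890 sl_3890
  have h3892 : ∀ u < 70056, (fun u => chkSlp tab slp u) u = true := ext_range (a := 70038) (len := 18) h3891 sl_3891
  have h3893 : ∀ u < 70074, (fun u => chkSlp tab slp u) u = true := ext_range (a := 70056) (len := 18) h3892 sl_3892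
  have h3894 : ∀ u < 70092, (fun u => chkSlp tab slp u) u = true := ext_range (a := 70074) (len := 18) h3893 sl_3893
  have h3895 : ∀ u < 70110, (fun u => chkSlp tab slp u) u = true := ext_range (a := 70092) (len := 18) h3894 sl_3894
  have h3896 : ∀ u < 70128, (fun u => chkSlp tab slp u) u = true := ext_range (a := 70110) (len := 18) h3895 sl_3895
  have h3897 : ∀ u < 70146, (fun u => chkSlp tab slp u) u = true := ext_range (a := 70128) (len := 18) h3896 sl_3896
  have h3898 : ∀ u < 70164, (fun u => chkSlp tab slp u) u = true := ext_range (a := 70146) (len := 18) h3897 sl_3897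
  have h3899 : ∀ u < 70182, (fun u => chkSlp tab slp u) u = true := ext_range (a := 70164) (len := 18) h3898 sl_3898
  have h3900 : ∀ u < 70200, (fun u => chkSlp tab slp u) u = true := ext_range (a := 70182) (len := 18) h3899 sl_3899
  have h3901 : ∀ u < 70218, (fun u => chkSlp tab slp u) u = true := ext_range (a := 70200) (len := 18) h3900 sl_3900
  have h3902 : ∀ u < 70236, (fun u => chkSlp tab slp u) u = true := ext_range (a := 70218) (len := 18) h3901 sl_3901
  have h3903 : ∀ u < 70254, (fun u => chkSlp tab slp u) u = true := ext_range (a := 70236) (len := 18) h3902 sl_3902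
  have h3904 : ∀ u < 70272, (fun u => chkSlp tab slp u) u = true := ext_range (a := 70254) (len := 18) h3903 sl_3903
  have h3905 : ∀ u < 70290, (fun u => chkSlp tab slp u) u = true := ext_range (a := 70272) (len := 18) h3904 sl_3904
  have h3906 : ∀ u < 70308, (fun u => chkSlp tab slp u) u = true := ext_range (a := 70290) (len := 18) h3905 sl_3905
  have h3907 : ∀ u < 70326, (fun u => chkSlp tab slp u) u = true := ext_range (a := 70308) (len := 18) h3906 sl_3906
  have h3908 : ∀ u < 70344, (fun u => chkSlp tab slp u) u = true := ext_range (a := 70326) (len := 18) h3907 sl_3907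
  have h3909 : ∀ u < 70362, (fun u => chkSlp tab slp u) u = true := ext_range (a := 70344) (len := 18) h3908 sl_3908
  have h3910 : ∀ u < 70380, (fun u => chkSlp tab slp u) u = true := ext_range (a := 70362) (len := 18) h3909 sl_3909
  have h3911 : ∀ u < 70398, (fun u => chkSlp tab slp u) u = true := ext_range (a := 70380) (len := 18) h3910 sl_3910
  have h3912 : ∀ u < 70416, (fun u => chkSlp tab slp u) u = true := ext_range (a := 70398) (len := 18) h3911 sl_3911
  have h3913 : ∀ u < 70434, (fun u => chkSlp tab slp u) u = true := ext_range (a := 70416) (len := 18) h3912 sl_3912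
  have h3914 : ∀ u < 70452, (fun u => chkSlp tab slp u) u = true := ext_range (a := 70434) (len := 18) h3913 sl_3913
  have h3915 : ∀ u < 70470, (fun u => chkSlp tab slp u) u = true := ext_range (a := 70452) (len := 18) h3914 sl_3914
  have h3916 : ∀ u < 70488, (fun u => chkSlp tab slp u) u = true := ext_range (a := 70470) (len := 18) h3915 sl_3915
  have h3917 : ∀ u < 70506, (fun u => chkSlp tab slp u) u = true := ext_range (a := 70488) (len := 18) h3916 sl_3916
  have h3918 : ∀ u < 70524, (fun u => chkSlp tab slp u) u = true := ext_range (a := 70506) (len := 18) h3917 sl_3917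
  have h3919 : ∀ u < 70542, (fun u => chkSlp tab slp u) u = true := ext_range (a := 70524) (len := 18) h3918 sl_3918
  have h3920 : ∀ u < 70560, (fun u => chkSlp tab slp u) u = true := ext_range (a := 70542) (len := 18) h3919 sl_3919
  have h3921 : ∀ u < 70578, (fun u => chkSlp tab slp u) u = true := ext_range (a := 70560) (len := 18) h3920 sl_3920
  have h3922 : ∀ u < 70596, (fun u => chkSlp tab slp u) u = true := ext_range (a := 70578) (len := 18) h3921 sl_3921
  have h3923 : ∀ u < 70614, (fun u => chkSlp tab slp u) u = true := ext_range (a := 70596) (len := 18) h3922 sl_3922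
  have h3924 : ∀ u < 70632, (fun u => chkSlp tab slp u) u = true := ext_range (a := 70614) (len := 18) h3923 sl_3923
  have h3925 : ∀ u < 70650, (fun u => chkSlp tab slp u) u = true := ext_range (a := 70632) (len := 18) h3924 sl_3924
  have h3926 : ∀ u < 70668, (fun u => chkSlp tab slp u) u = true := ext_range (a := 70650) (len := 18) h3925 sl_3925
  have h3927 : ∀ u < 70686, (fun u => chkSlp tab slp u) u = true := ext_range (a := 70668) (len := 18) h3926 sl_3926
  have h3928 : ∀ u < 70704, (fun u => chkSlp tab slp u) u = true := ext_range (a := 70686) (len := 18) h3927 sl_3927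
  have h3929 : ∀ u < 70722, (fun u => chkSlp tab slp u) u = true := ext_range (a := 70704) (len := 18) h3928 sl_3928
  have h3930 : ∀ u < 70740, (fun u => chkSlp tab slp u) u = true := ext_range (a := 70722) (len := 18) h3929 sl_3929
  have h3931 : ∀ u < 70758, (fun u => chkSlp tab slp u) u = true := ext_range (a := 70740) (len := 18) h3930 sl_3930
  have h3932 : ∀ u < 70776, (fun u => chkSlp tab slp u) u = true := ext_range (a := 70758) (len := 18) h3931 sl_3931
  have h3933 : ∀ u < 70794, (fun u => chkSlp tab slp u) u = true := ext_range (a := 70776) (len := 18) h3932 sl_3932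
  have h3934 : ∀ u < 70812, (fun u => chkSlp tab slp u) u = true := ext_range (a := 70794) (len := 18) h3933 sl_3933
  have h3935 : ∀ u < 70830, (fun u => chkSlp tab slp u) u = true := ext_range (a := 70812) (len := 18) h3934 sl_3934
  have h3936 : ∀ u < 70848, (fun u => chkSlp tab slp u) u = true := ext_range (a := 70830) (len := 18) h3935 sl_3935
  have h3937 : ∀ u < 70866, (fun u => chkSlp tab slp u) u = true := ext_range (a := 70848) (len := 18) h3936 sl_3936
  have h3938 : ∀ u < 70884, (fun u => chkSlp tab slp u) u = true := ext_range (a := 70866) (len := 18) h3937 sl_3937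
  have h3939 : ∀ u < 70902, (fun u => chkSlp tab slp u) u = true := ext_range (a := 70884) (len := 18) h3938 sl_3938
  have h3940 : ∀ u < 70920, (fun u => chkSlp tab slp u) u = true := ext_range (a := 70902) (len := 18) h3939 sl_3939
  have h3941 : ∀ u < 70938, (fun u => chkSlp tab slp u) u = true := ext_range (a := 70920) (len := 18) h3940 sl_3940
  have h3942 : ∀ u < 70956, (fun u => chkSlp tab slp u) u = true := ext_range (a := 70938) (len := 18) h3941 sl_3941
  have h3943 : ∀ u < 70974, (fun u => chkSlp tab slp u) u = true := ext_range (a := 70956) (len := 18) h3942 sl_3942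
  have h3944 : ∀ u < 70992, (fun u => chkSlp tab slp u) u = true := ext_range (a := 70974) (len := 18) h3943 sl_3943
  have h3945 : ∀ u < 71010, (fun u => chkSlp tab slp u) u = true := ext_range (a := 70992) (len := 18) h3944 sl_3944
  have h3946 : ∀ u < 71028, (fun u => chkSlp tab slp u) u = true := ext_range (a := 71010) (len := 18) h3945 sl_3945
  have h3947 : ∀ u < 71046, (fun u => chkSlp tab slp u) u = true := ext_range (a := 71028) (len := 18) h3946 sl_3946
  have h3948 : ∀ u < 71064, (fun u => chkSlp tab slp u) u = true := ext_range (a := 71046) (len := 18) h3947 sl_3947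
  have h3949 : ∀ u < 71082, (fun u => chkSlp tab slp u) u = true := ext_range (a := 71064) (len := 18) h3948 sl_3948
  have h3950 : ∀ u < 71100, (fun u => chkSlp tab slp u) u = true := ext_range (a := 71082) (len := 18) h3949 sl_3949
  have h3951 : ∀ u < 71118, (fun u => chkSlp tab slp u) u = true := ext_range (a := 71100) (len := 18) h3950 sl_3950
  have h3952 : ∀ u < 71136, (fun u => chkSlp tab slp u) u = true := ext_range (a := 71118) (len := 18) h3951 sl_3951
  have h3953 : ∀ u < 71154, (fun u => chkSlp tab slp u) u = true := ext_range (a := 71136) (len := 18) h3952 sl_3952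
  have h3954 : ∀ u < 71172, (fun u => chkSlp tab slp u) u = true := ext_range (a := 71154) (len := 18) h3953 sl_3953
  have h3955 : ∀ u < 71190, (fun u => chkSlp tab slp u) u = true := ext_range (a := 71172) (len := 18) h3954 sl_3954
  have h3956 : ∀ u < 71208, (fun u => chkSlp tab slp u) u = true := ext_range (a := 71190) (len := 18) h3955 sl_3955
  have h3957 : ∀ u < 71226, (fun u => chkSlp tab slp u) u = true := ext_range (a := 71208) (len := 18) h3956 sl_3956
  have h3958 : ∀ u < 71244, (fun u => chkSlp tab slp u) u = true := ext_range (a := 71226) (len := 18) h3957 sl_3957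
  have h3959 : ∀ u < 71262, (fun u => chkSlp tab slp u) u = true := ext_range (a := 71244) (len := 18) h3958 sl_3958
  have h3960 : ∀ u < 71280, (fun u => chkSlp tab slp u) u = true := ext_range (a := 71262) (len := 18) h3959 sl_3959
  have h3961 : ∀ u < 71298, (fun u => chkSlp tab slp u) u = true := ext_range (a := 71280) (len := 18) h3960 sl_3960
  have h3962 : ∀ u < 71316, (fun u => chkSlp tab slp u) u = true := ext_range (a := 71298) (len := 18) h3961 sl_3961
  have h3963 : ∀ u < 71334, (fun u => chkSlp tab slp u) u = true := ext_range (a := 71316) (len := 18) h3962 sl_3962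
  have h3964 : ∀ u < 71352, (fun u => chkSlp tab slp u) u = true := ext_range (a := 71334) (len := 18) h3963 sl_3963
  have h3965 : ∀ u < 71370, (fun u => chkSlp tab slp u) u = true := ext_range (a := 71352) (len := 18) h3964 sl_3964
  have h3966 : ∀ u < 71388, (fun u => chkSlp tab slp u) u = true := ext_range (a := 71370) (len := 18) h3965 sl_3965
  have h3967 : ∀ u < 71406, (fun u => chkSlp tab slp u) u = true := ext_range (a := 71388) (len := 18) h3966 sl_3966
  have h3968 : ∀ u < 71424, (fun u => chkSlp tab slp u) u = true := ext_range (a := 71406) (len := 18) h3967 sl_3967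
  have h3969 : ∀ u < 71442, (fun u => chkSlp tab slp u) u = true := ext_range (a := 71424) (len := 18) h3968 sl_3968
  have h3970 : ∀ u < 71460, (fun u => chkSlp tab slp u) u = true := ext_range (a := 71442) (len := 18) h3969 sl_3969
  have h3971 : ∀ u < 71478, (fun u => chkSlp tab slp u) u = true := ext_range (a := 71460) (len := 18) h3970 sl_3970
  have h3972 : ∀ u < 71496, (fun u => chkSlp tab slp u) u = true := ext_range (a := 71478) (len := 18) h3971 sl_3971
  have h3973 : ∀ u < 71514, (fun u => chkSlp tab slp u) u = true := ext_range (a := 71496) (len := 18) h3972 sl_3972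
  have h3974 : ∀ u < 71532, (fun u => chkSlp tab slp u) u = true := ext_range (a := 71514) (len := 18) h3973 sl_3973
  have h3975 : ∀ u < 71550, (fun u => chkSlp tab slp u) u = true := ext_range (a := 71532) (len := 18) h3974 sl_3974
  have h3976 : ∀ u < 71568, (fun u => chkSlp tab slp u) u = true := ext_range (a := 71550) (len := 18) h3975 sl_3975
  have h3977 : ∀ u < 71586, (fun u => chkSlp tab slp u) u = true := ext_range (a := 71568) (len := 18) h3976 sl_3976
  have h3978 : ∀ u < 71604, (fun u => chkSlp tab slp u) u = true := ext_range (a := 71586) (len := 18) h3977 sl_3977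
  have h3979 : ∀ u < 71622, (fun u => chkSlp tab slp u) u = true := ext_range (a := 71604) (len := 18) h3978 sl_3978
  have h3980 : ∀ u < 71640, (fun u => chkSlp tab slp u) u = true := ext_range (a := 71622) (len := 18) h3979 sl_3979
  have h3981 : ∀ u < 71658, (fun u => chkSlp tab slp u) u = true := ext_range (a := 71640) (len := 18) h3980 sl_3980
  have h3982 : ∀ u < 71676, (fun u => chkSlp tab slp u) u = true := ext_range (a := 71658) (len := 18) h3981 sl_3981
  have h3983 : ∀ u < 71694, (fun u => chkSlp tab slp u) u = true := ext_range (a := 71676) (len := 18) h3982 sl_3982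
  have h3984 : ∀ u < 71712, (fun u => chkSlp tab slp u) u = true := ext_range (a := 71694) (len := 18) h3983 sl_3983
  have h3985 : ∀ u < 71730, (fun u => chkSlp tab slp u) u = true := ext_range (a := 71712) (len := 18) h3984 sl_3984
  have h3986 : ∀ u < 71748, (fun u => chkSlp tab slp u) u = true := ext_range (a := 71730) (len := 18) h3985 sl_3985
  have h3987 : ∀ u < 71766, (fun u => chkSlp tab slp u) u = true := ext_range (a := 71748) (len := 18) h3986 sl_3986
  have h3988 : ∀ u < 71784, (fun u => chkSlp tab slp u) u = true := ext_range (a := 71766) (len := 18) h3987 sl_3987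
  have h3989 : ∀ u < 71802, (fun u => chkSlp tab slp u) u = true := ext_range (a := 71784) (len := 18) h3988 sl_3988
  have h3990 : ∀ u < 71820, (fun u => chkSlp tab slp u) u = true := ext_range (a := 71802) (len := 18) h3989 sl_3989
  have h3991 : ∀ u < 71838, (fun u => chkSlp tab slp u) u = true := ext_range (a := 71820) (len := 18) h3990 sl_3990
  have h3992 : ∀ u < 71856, (fun u => chkSlp tab slp u) u = true := ext_range (a := 71838) (len := 18) h3991 sl_3991
  have h3993 : ∀ u < 71874, (fun u => chkSlp tab slp u) u = true := ext_range (a := 71856) (len := 18) h3992 sl_3992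
  have h3994 : ∀ u < 71892, (fun u => chkSlp tab slp u) u = true := ext_range (a := 71874) (len := 18) h3993 sl_3993
  have h3995 : ∀ u < 71910, (fun u => chkSlp tab slp u) u = true := ext_range (a := 71892) (len := 18) h3994 sl_3994
  have h3996 : ∀ u < 71928, (fun u => chkSlp tab slp u) u = true := ext_range (a := 71910) (len := 18) h3995 sl_3995
  have h3997 : ∀ u < 71946, (fun u => chkSlp tab slp u) u = true := ext_range (a := 71928) (len := 18) h3996 sl_3996
  have h3998 : ∀ u < 71964, (fun u => chkSlp tab slp u) u = true := ext_range (a := 71946) (len := 18) h3997 sl_3997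
  have h3999 : ∀ u < 71982, (fun u => chkSlp tab slp u) u = true := ext_range (a := 71964) (len := 18) h3998 sl_3998
  have h4000 : ∀ u < 72000, (fun u => chkSlp tab slp u) u = true := ext_range (a := 71982) (len := 18) h3999 sl_3999
  have h4001 : ∀ u < 72018, (fun u => chkSlp tab slp u) u = true := ext_range (a := 72000) (len := 18) h4000 sl_4000
  have h4002 : ∀ u < 72036, (fun u => chkSlp tab slp u) u = true := ext_range (a := 72018) (len := 18) h4001 sl_4001
  have h4003 : ∀ u < 72054, (fun u => chkSlp tab slp u) u = true := ext_range (a := 72036) (len := 18) h4002 sl_4002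
  have h4004 : ∀ u < 72072, (fun u => chkSlp tab slp u) u = true := ext_range (a := 72054) (len := 18) h4003 sl_4003
  have h4005 : ∀ u < 72090, (fun u => chkSlp tab slp u) u = true := ext_range (a := 72072) (len := 18) h4004 sl_4004
  have h4006 : ∀ u < 72108, (fun u => chkSlp tab slp u) u = true := ext_range (a := 72090) (len := 18) h4005 sl_4005
  have h4007 : ∀ u < 72126, (fun u => chkSlp tab slp u) u = true := ext_range (a := 72108) (len := 18) h4006 sl_4006
  have h4008 : ∀ u < 72144, (fun u => chkSlp tab slp u) u = true := ext_range (a := 72126) (len := 18) h4007 sl_4007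
  have h4009 : ∀ u < 72162, (fun u => chkSlp tab slp u) u = true := ext_range (a := 72144) (len := 18) h4008 sl_4008
  have h4010 : ∀ u < 72180, (fun u => chkSlp tab slp u) u = true := ext_range (a := 72162) (len := 18) h4009 sl_4009
  have h4011 : ∀ u < 72198, (fun u => chkSlp tab slp u) u = true := ext_range (a := 72180) (len := 18) h4010 sl_4010
  have h4012 : ∀ u < 72216, (fun u => chkSlp tab slp u) u = true := ext_range (a := 72198) (len := 18) h4011 sl_4011
  have h4013 : ∀ u < 72234, (fun u => chkSlp tab slp u) u = true := ext_range (a := 72216) (len := 18) h4012 sl_4012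
  have h4014 : ∀ u < 72252, (fun u => chkSlp tab slp u) u = true := ext_range (a := 72234) (len := 18) h4013 sl_4013
  have h4015 : ∀ u < 72270, (fun u => chkSlp tab slp u) u = true := ext_range (a := 72252) (len := 18) h4014 sl_4014
  have h4016 : ∀ u < 72288, (fun u => chkSlp tab slp u) u = true := ext_range (a := 72270) (len := 18) h4015 sl_4015
  have h4017 : ∀ u < 72306, (fun u => chkSlp tab slp u) u = true := ext_range (a := 72288) (len := 18) h4016 sl_4016
  have h4018 : ∀ u < 72324, (fun u => chkSlp tab slp u) u = true := ext_range (a := 72306) (len := 18) h4017 sl_4017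
  have h4019 : ∀ u < 72342, (fun u => chkSlp tab slp u) u = true := ext_range (a := 72324) (len := 18) h4018 sl_4018
  have h4020 : ∀ u < 72360, (fun u => chkSlp tab slp u) u = true := ext_range (a := 72342) (len := 18) h4019 sl_4019
  have h4021 : ∀ u < 72378, (fun u => chkSlp tab slp u) u = true := ext_range (a := 72360) (len := 18) h4020 sl_4020
  have h4022 : ∀ u < 72396, (fun u => chkSlp tab slp u) u = true := ext_range (a := 72378) (len := 18) h4021 sl_4021
  have h4023 : ∀ u < 72414, (fun u => chkSlp tab slp u) u = true := ext_range (a := 72396) (len := 18) h4022 sl_4022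
  have h4024 : ∀ u < 72432, (fun u => chkSlp tab slp u) u = true := ext_range (a := 72414) (len := 18) h4023 sl_4023
  have h4025 : ∀ u < 72450, (fun u => chkSlp tab slp u) u = true := ext_range (a := 72432) (len := 18) h4024 sl_4024
  have h4026 : ∀ u < 72468, (fun u => chkSlp tab slp u) u = true := ext_range (a := 72450) (len := 18) h4025 sl_4025
  have h4027 : ∀ u < 72486, (fun u => chkSlp tab slp u) u = true := ext_range (a := 72468) (len := 18) h4026 sl_4026
  have h4028 : ∀ u < 72504, (fun u => chkSlp tab slp u) u = true := ext_range (a := 72486) (len := 18) h4027 sl_4027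
  have h4029 : ∀ u < 72522, (fun u => chkSlp tab slp u) u = true := ext_range (a := 72504) (len := 18) h4028 sl_4028
  have h4030 : ∀ u < 72540, (fun u => chkSlp tab slp u) u = true := ext_range (a := 72522) (len := 18) h4029 sl_4029
  have h4031 : ∀ u < 72558, (fun u => chkSlp tab slp u) u = true := ext_range (a := 72540) (len := 18) h4030 sl_4030
  have h4032 : ∀ u < 72576, (fun u => chkSlp tab slp u) u = true := ext_range (a := 72558) (len := 18) h4031 sl_4031
  have h4033 : ∀ u < 72594, (fun u => chkSlp tab slp u) u = true := ext_range (a := 72576) (len := 18) h4032 sl_4032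
  have h4034 : ∀ u < 72612, (fun u => chkSlp tab slp u) u = true := ext_range (a := 72594) (len := 18) h4033 sl_4033
  have h4035 : ∀ u < 72630, (fun u => chkSlp tab slp u) u = true := ext_range (a := 72612) (len := 18) h4034 sl_4034
  have h4036 : ∀ u < 72648, (fun u => chkSlp tab slp u) u = true := ext_range (a := 72630) (len := 18) h4035 sl_4035
  have h4037 : ∀ u < 72666, (fun u => chkSlp tab slp u) u = true := ext_range (a := 72648) (len := 18) h4036 sl_4036
  have h4038 : ∀ u < 72684, (fun u => chkSlp tab slp u) u = true := ext_range (a := 72666) (len := 18) h4037 sl_4037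
  have h4039 : ∀ u < 72702, (fun u => chkSlp tab slp u) u = true := ext_range (a := 72684) (len := 18) h4038 sl_4038
  have h4040 : ∀ u < 72720, (fun u => chkSlp tab slp u) u = true := ext_range (a := 72702) (len := 18) h4039 sl_4039
  have h4041 : ∀ u < 72738, (fun u => chkSlp tab slp u) u = true := ext_range (a := 72720) (len := 18) h4040 sl_4040
  have h4042 : ∀ u < 72756, (fun u => chkSlp tab slp u) u = true := ext_range (a := 72738) (len := 18) h4041 sl_4041
  have h4043 : ∀ u < 72774, (fun u => chkSlp tab slp u) u = true := ext_range (a := 72756) (len := 18) h4042 sl_4042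
  have h4044 : ∀ u < 72792, (fun u => chkSlp tab slp u) u = true := ext_range (a := 72774) (len := 18) h4043 sl_4043
  have h4045 : ∀ u < 72810, (fun u => chkSlp tab slp u) u = true := ext_range (a := 72792) (len := 18) h4044 sl_4044
  have h4046 : ∀ u < 72828, (fun u => chkSlp tab slp u) u = true := ext_range (a := 72810) (len := 18) h4045 sl_4045
  have h4047 : ∀ u < 72846, (fun u => chkSlp tab slp u) u = true := ext_range (a := 72828) (len := 18) h4046 sl_4046
  have h4048 : ∀ u < 72864, (fun u => chkSlp tab slp u) u = true := ext_range (a := 72846) (len := 18) h4047 sl_4047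
  have h4049 : ∀ u < 72882, (fun u => chkSlp tab slp u) u = true := ext_range (a := 72864) (len := 18) h4048 sl_4048
  have h4050 : ∀ u < 72900, (fun u => chkSlp tab slp u) u = true := ext_range (a := 72882) (len := 18) h4049 sl_4049
  have h4051 : ∀ u < 72918, (fun u => chkSlp tab slp u) u = true := ext_range (a := 72900) (len := 18) h4050 sl_4050
  have h4052 : ∀ u < 72936, (fun u => chkSlp tab slp u) u = true := ext_range (a := 72918) (len := 18) h4051 sl_4051
  have h4053 : ∀ u < 72954, (fun u => chkSlp tab slp u) u = true := ext_range (a := 72936) (len := 18) h4052 sl_4052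
  have h4054 : ∀ u < 72972, (fun u => chkSlp tab slp u) u = true := ext_range (a := 72954) (len := 18) h4053 sl_4053
  have h4055 : ∀ u < 72990, (fun u => chkSlp tab slp u) u = true := ext_range (a := 72972) (len := 18) h4054 sl_4054
  have h4056 : ∀ u < 73008, (fun u => chkSlp tab slp u) u = true := ext_range (a := 72990) (len := 18) h4055 sl_4055
  have h4057 : ∀ u < 73026, (fun u => chkSlp tab slp u) u = true := ext_range (a := 73008) (len := 18) h4056 sl_4056
  have h4058 : ∀ u < 73044, (fun u => chkSlp tab slp u) u = true := ext_range (a := 73026) (len := 18) h4057 sl_4057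
  have h4059 : ∀ u < 73062, (fun u => chkSlp tab slp u) u = true := ext_range (a := 73044) (len := 18) h4058 sl_4058
  have h4060 : ∀ u < 73080, (fun u => chkSlp tab slp u) u = true := ext_range (a := 73062) (len := 18) h4059 sl_4059
  have h4061 : ∀ u < 73098, (fun u => chkSlp tab slp u) u = true := ext_range (a := 73080) (len := 18) h4060 sl_4060
  have h4062 : ∀ u < 73116, (fun u => chkSlp tab slp u) u = true := ext_range (a := 73098) (len := 18) h4061 sl_4061
  have h4063 : ∀ u < 73134, (fun u => chkSlp tab slp u) u = true := ext_range (a := 73116) (len := 18) h4062 sl_4062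
  have h4064 : ∀ u < 73152, (fun u => chkSlp tab slp u) u = true := ext_range (a := 73134) (len := 18) h4063 sl_4063
  have h4065 : ∀ u < 73170, (fun u => chkSlp tab slp u) u = true := ext_range (a := 73152) (len := 18) h4064 sl_4064
  have h4066 : ∀ u < 73188, (fun u => chkSlp tab slp u) u = true := ext_range (a := 73170) (len := 18) h4065 sl_4065
  have h4067 : ∀ u < 73206, (fun u => chkSlp tab slp u) u = true := ext_range (a := 73188) (len := 18) h4066 sl_4066
  have h4068 : ∀ u < 73224, (fun u => chkSlp tab slp u) u = true := ext_range (a := 73206) (len := 18) h4067 sl_4067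
  have h4069 : ∀ u < 73242, (fun u => chkSlp tab slp u) u = true := ext_range (a := 73224) (len := 18) h4068 sl_4068
  have h4070 : ∀ u < 73260, (fun u => chkSlp tab slp u) u = true := ext_range (a := 73242) (len := 18) h4069 sl_4069
  have h4071 : ∀ u < 73278, (fun u => chkSlp tab slp u) u = true := ext_range (a := 73260) (len := 18) h4070 sl_4070
  have h4072 : ∀ u < 73296, (fun u => chkSlp tab slp u) u = true := ext_range (a := 73278) (len := 18) h4071 sl_4071
  have h4073 : ∀ u < 73314, (fun u => chkSlp tab slp u) u = true := ext_range (a := 73296) (len := 18) h4072 sl_4072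
  have h4074 : ∀ u < 73332, (fun u => chkSlp tab slp u) u = true := ext_range (a := 73314) (len := 18) h4073 sl_4073
  have h4075 : ∀ u < 73350, (fun u => chkSlp tab slp u) u = true := ext_range (a := 73332) (len := 18) h4074 sl_4074
  have h4076 : ∀ u < 73368, (fun u => chkSlp tab slp u) u = true := ext_range (a := 73350) (len := 18) h4075 sl_4075
  have h4077 : ∀ u < 73386, (fun u => chkSlp tab slp u) u = true := ext_range (a := 73368) (len := 18) h4076 sl_4076
  have h4078 : ∀ u < 73404, (fun u => chkSlp tab slp u) u = true := ext_range (a := 73386) (len := 18) h4077 sl_4077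
  have h4079 : ∀ u < 73422, (fun u => chkSlp tab slp u) u = true := ext_range (a := 73404) (len := 18) h4078 sl_4078
  have h4080 : ∀ u < 73440, (fun u => chkSlp tab slp u) u = true := ext_range (a := 73422) (len := 18) h4079 sl_4079
  have h4081 : ∀ u < 73458, (fun u => chkSlp tab slp u) u = true := ext_range (a := 73440) (len := 18) h4080 sl_4080
  have h4082 : ∀ u < 73476, (fun u => chkSlp tab slp u) u = true := ext_range (a := 73458) (len := 18) h4081 sl_4081
  have h4083 : ∀ u < 73494, (fun u => chkSlp tab slp u) u = true := ext_range (a := 73476) (len := 18) h4082 sl_4082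
  have h4084 : ∀ u < 73512, (fun u => chkSlp tab slp u) u = true := ext_range (a := 73494) (len := 18) h4083 sl_4083
  have h4085 : ∀ u < 73530, (fun u => chkSlp tab slp u) u = true := ext_range (a := 73512) (len := 18) h4084 sl_4084
  have h4086 : ∀ u < 73548, (fun u => chkSlp tab slp u) u = true := ext_range (a := 73530) (len := 18) h4085 sl_4085
  have h4087 : ∀ u < 73566, (fun u => chkSlp tab slp u) u = true := ext_range (a := 73548) (len := 18) h4086 sl_4086
  have h4088 : ∀ u < 73584, (fun u => chkSlp tab slp u) u = true := ext_range (a := 73566) (len := 18) h4087 sl_4087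
  have h4089 : ∀ u < 73602, (fun u => chkSlp tab slp u) u = true := ext_range (a := 73584) (len := 18) h4088 sl_4088
  have h4090 : ∀ u < 73620, (fun u => chkSlp tab slp u) u = true := ext_range (a := 73602) (len := 18) h4089 sl_4089
  have h4091 : ∀ u < 73638, (fun u => chkSlp tab slp u) u = true := ext_range (a := 73620) (len := 18) h4090 sl_4090
  have h4092 : ∀ u < 73656, (fun u => chkSlp tab slp u) u = true := ext_range (a := 73638) (len := 18) h4091 sl_4091
  have h4093 : ∀ u < 73674, (fun u => chkSlp tab slp u) u = true := ext_range (a := 73656) (len := 18) h4092 sl_4092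
  have h4094 : ∀ u < 73692, (fun u => chkSlp tab slp u) u = true := ext_range (a := 73674) (len := 18) h4093 sl_4093
  have h4095 : ∀ u < 73710, (fun u => chkSlp tab slp u) u = true := ext_range (a := 73692) (len := 18) h4094 sl_4094
  have h4096 : ∀ u < 73728, (fun u => chkSlp tab slp u) u = true := ext_range (a := 73710) (len := 18) h4095 sl_4095
  have h4097 : ∀ u < 73746, (fun u => chkSlp tab slp u) u = true := ext_range (a := 73728) (len := 18) h4096 sl_4096
  have h4098 : ∀ u < 73764, (fun u => chkSlp tab slp u) u = true := ext_range (a := 73746) (len := 18) h4097 sl_4097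
  have h4099 : ∀ u < 73782, (fun u => chkSlp tab slp u) u = true := ext_range (a := 73764) (len := 18) h4098 sl_4098
  have h4100 : ∀ u < 73800, (fun u => chkSlp tab slp u) u = true := ext_range (a := 73782) (len := 18) h4099 sl_4099
  have h4101 : ∀ u < 73818, (fun u => chkSlp tab slp u) u = true := ext_range (a := 73800) (len := 18) h4100 sl_4100
  have h4102 : ∀ u < 73836, (fun u => chkSlp tab slp u) u = true := ext_range (a := 73818) (len := 18) h4101 sl_4101
  have h4103 : ∀ u < 73854, (fun u => chkSlp tab slp u) u = true := ext_range (a := 73836) (len := 18) h4102 sl_4102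
  have h4104 : ∀ u < 73872, (fun u => chkSlp tab slp u) u = true := ext_range (a := 73854) (len := 18) h4103 sl_4103
  have h4105 : ∀ u < 73890, (fun u => chkSlp tab slp u) u = true := ext_range (a := 73872) (len := 18) h4104 sl_4104
  have h4106 : ∀ u < 73908, (fun u => chkSlp tab slp u) u = true := ext_range (a := 73890) (len := 18) h4105 sl_4105
  have h4107 : ∀ u < 73926, (fun u => chkSlp tab slp u) u = true := ext_range (a := 73908) (len := 18) h4106 sl_4106
  have h4108 : ∀ u < 73944, (fun u => chkSlp tab slp u) u = true := ext_range (a := 73926) (len := 18) h4107 sl_4107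
  have h4109 : ∀ u < 73962, (fun u => chkSlp tab slp u) u = true := ext_range (a := 73944) (len := 18) h4108 sl_4108
  have h4110 : ∀ u < 73980, (fun u => chkSlp tab slp u) u = true := ext_range (a := 73962) (len := 18) h4109 sl_4109
  have h4111 : ∀ u < 73998, (fun u => chkSlp tab slp u) u = true := ext_range (a := 73980) (len := 18) h4110 sl_4110
  have h4112 : ∀ u < 74016, (fun u => chkSlp tab slp u) u = true := ext_range (a := 73998) (len := 18) h4111 sl_4111
  have h4113 : ∀ u < 74034, (fun u => chkSlp tab slp u) u = true := ext_range (a := 74016) (len := 18) h4112 sl_4112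
  have h4114 : ∀ u < 74052, (fun u => chkSlp tab slp u) u = true := ext_range (a := 74034) (len := 18) h4113 sl_4113
  have h4115 : ∀ u < 74070, (fun u => chkSlp tab slp u) u = true := ext_range (a := 74052) (len := 18) h4114 sl_4114
  have h4116 : ∀ u < 74088, (fun u => chkSlp tab slp u) u = true := ext_range (a := 74070) (len := 18) h4115 sl_4115
  have h4117 : ∀ u < 74106, (fun u => chkSlp tab slp u) u = true := ext_range (a := 74088) (len := 18) h4116 sl_4116
  have h4118 : ∀ u < 74124, (fun u => chkSlp tab slp u) u = true := ext_range (a := 74106) (len := 18) h4117 sl_4117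
  have h4119 : ∀ u < 74142, (fun u => chkSlp tab slp u) u = true := ext_range (a := 74124) (len := 18) h4118 sl_4118
  have h4120 : ∀ u < 74160, (fun u => chkSlp tab slp u) u = true := ext_range (a := 74142) (len := 18) h4119 sl_4119
  have h4121 : ∀ u < 74178, (fun u => chkSlp tab slp u) u = true := ext_range (a := 74160) (len := 18) h4120 sl_4120
  have h4122 : ∀ u < 74196, (fun u => chkSlp tab slp u) u = true := ext_range (a := 74178) (len := 18) h4121 sl_4121
  have h4123 : ∀ u < 74214, (fun u => chkSlp tab slp u) u = true := ext_range (a := 74196) (len := 18) h4122 sl_4122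
  have h4124 : ∀ u < 74232, (fun u => chkSlp tab slp u) u = true := ext_range (a := 74214) (len := 18) h4123 sl_4123
  have h4125 : ∀ u < 74250, (fun u => chkSlp tab slp u) u = true := ext_range (a := 74232) (len := 18) h4124 sl_4124
  have h4126 : ∀ u < 74268, (fun u => chkSlp tab slp u) u = true := ext_range (a := 74250) (len := 18) h4125 sl_4125
  have h4127 : ∀ u < 74286, (fun u => chkSlp tab slp u) u = true := ext_range (a := 74268) (len := 18) h4126 sl_4126
  have h4128 : ∀ u < 74304, (fun u => chkSlp tab slp u) u = true := ext_range (a := 74286) (len := 18) h4127 sl_4127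
  have h4129 : ∀ u < 74322, (fun u => chkSlp tab slp u) u = true := ext_range (a := 74304) (len := 18) h4128 sl_4128
  have h4130 : ∀ u < 74340, (fun u => chkSlp tab slp u) u = true := ext_range (a := 74322) (len := 18) h4129 sl_4129
  have h4131 : ∀ u < 74358, (fun u => chkSlp tab slp u) u = true := ext_range (a := 74340) (len := 18) h4130 sl_4130
  have h4132 : ∀ u < 74376, (fun u => chkSlp tab slp u) u = true := ext_range (a := 74358) (len := 18) h4131 sl_4131
  have h4133 : ∀ u < 74394, (fun u => chkSlp tab slp u) u = true := ext_range (a := 74376) (len := 18) h4132 sl_4132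
  have h4134 : ∀ u < 74412, (fun u => chkSlp tab slp u) u = true := ext_range (a := 74394) (len := 18) h4133 sl_4133
  have h4135 : ∀ u < 74430, (fun u => chkSlp tab slp u) u = true := ext_range (a := 74412) (len := 18) h4134 sl_4134
  have h4136 : ∀ u < 74448, (fun u => chkSlp tab slp u) u = true := ext_range (a := 74430) (len := 18) h4135 sl_4135
  have h4137 : ∀ u < 74466, (fun u => chkSlp tab slp u) u = true := ext_range (a := 74448) (len := 18) h4136 sl_4136
  have h4138 : ∀ u < 74484, (fun u => chkSlp tab slp u) u = true := ext_range (a := 74466) (len := 18) h4137 sl_4137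
  have h4139 : ∀ u < 74502, (fun u => chkSlp tab slp u) u = true := ext_range (a := 74484) (len := 18) h4138 sl_4138
  have h4140 : ∀ u < 74520, (fun u => chkSlp tab slp u) u = true := ext_range (a := 74502) (len := 18) h4139 sl_4139
  have h4141 : ∀ u < 74538, (fun u => chkSlp tab slp u) u = true := ext_range (a := 74520) (len := 18) h4140 sl_4140
  have h4142 : ∀ u < 74556, (fun u => chkSlp tab slp u) u = true := ext_range (a := 74538) (len := 18) h4141 sl_4141
  have h4143 : ∀ u < 74574, (fun u => chkSlp tab slp u) u = true := ext_range (a := 74556) (len := 18) h4142 sl_4142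
  have h4144 : ∀ u < 74592, (fun u => chkSlp tab slp u) u = true := ext_range (a := 74574) (len := 18) h4143 sl_4143
  have h4145 : ∀ u < 74610, (fun u => chkSlp tab slp u) u = true := ext_range (a := 74592) (len := 18) h4144 sl_4144
  have h4146 : ∀ u < 74628, (fun u => chkSlp tab slp u) u = true := ext_range (a := 74610) (len := 18) h4145 sl_4145
  have h4147 : ∀ u < 74646, (fun u => chkSlp tab slp u) u = true := ext_range (a := 74628) (len := 18) h4146 sl_4146
  have h4148 : ∀ u < 74664, (fun u => chkSlp tab slp u) u = true := ext_range (a := 74646) (len := 18) h4147 sl_4147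
  have h4149 : ∀ u < 74682, (fun u => chkSlp tab slp u) u = true := ext_range (a := 74664) (len := 18) h4148 sl_4148
  have h4150 : ∀ u < 74700, (fun u => chkSlp tab slp u) u = true := ext_range (a := 74682) (len := 18) h4149 sl_4149
  have h4151 : ∀ u < 74718, (fun u => chkSlp tab slp u) u = true := ext_range (a := 74700) (len := 18) h4150 sl_4150
  have h4152 : ∀ u < 74736, (fun u => chkSlp tab slp u) u = true := ext_range (a := 74718) (len := 18) h4151 sl_4151
  have h4153 : ∀ u < 74754, (fun u => chkSlp tab slp u) u = true := ext_range (a := 74736) (len := 18) h4152 sl_4152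
  have h4154 : ∀ u < 74772, (fun u => chkSlp tab slp u) u = true := ext_range (a := 74754) (len := 18) h4153 sl_4153
  have h4155 : ∀ u < 74790, (fun u => chkSlp tab slp u) u = true := ext_range (a := 74772) (len := 18) h4154 sl_4154
  have h4156 : ∀ u < 74808, (fun u => chkSlp tab slp u) u = true := ext_range (a := 74790) (len := 18) h4155 sl_4155
  have h4157 : ∀ u < 74826, (fun u => chkSlp tab slp u) u = true := ext_range (a := 74808) (len := 18) h4156 sl_4156
  have h4158 : ∀ u < 74844, (fun u => chkSlp tab slp u) u = true := ext_range (a := 74826) (len := 18) h4157 sl_4157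
  have h4159 : ∀ u < 74862, (fun u => chkSlp tab slp u) u = true := ext_range (a := 74844) (len := 18) h4158 sl_4158
  have h4160 : ∀ u < 74880, (fun u => chkSlp tab slp u) u = true := ext_range (a := 74862) (len := 18) h4159 sl_4159
  have h4161 : ∀ u < 74898, (fun u => chkSlp tab slp u) u = true := ext_range (a := 74880) (len := 18) h4160 sl_4160
  have h4162 : ∀ u < 74916, (fun u => chkSlp tab slp u) u = true := ext_range (a := 74898) (len := 18) h4161 sl_4161
  have h4163 : ∀ u < 74934, (fun u => chkSlp tab slp u) u = true := ext_range (a := 74916) (len := 18) h4162 sl_4162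
  have h4164 : ∀ u < 74952, (fun u => chkSlp tab slp u) u = true := ext_range (a := 74934) (len := 18) h4163 sl_4163
  have h4165 : ∀ u < 74970, (fun u => chkSlp tab slp u) u = true := ext_range (a := 74952) (len := 18) h4164 sl_4164
  have h4166 : ∀ u < 74988, (fun u => chkSlp tab slp u) u = true := ext_range (a := 74970) (len := 18) h4165 sl_4165
  have h4167 : ∀ u < 75006, (fun u => chkSlp tab slp u) u = true := ext_range (a := 74988) (len := 18) h4166 sl_4166
  have h4168 : ∀ u < 75024, (fun u => chkSlp tab slp u) u = true := ext_range (a := 75006) (len := 18) h4167 sl_4167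
  have h4169 : ∀ u < 75042, (fun u => chkSlp tab slp u) u = true := ext_range (a := 75024) (len := 18) h4168 sl_4168
  have h4170 : ∀ u < 75060, (fun u => chkSlp tab slp u) u = true := ext_range (a := 75042) (len := 18) h4169 sl_4169
  have h4171 : ∀ u < 75078, (fun u => chkSlp tab slp u) u = true := ext_range (a := 75060) (len := 18) h4170 sl_4170
  have h4172 : ∀ u < 75096, (fun u => chkSlp tab slp u) u = true := ext_range (a := 75078) (len := 18) h4171 sl_4171
  have h4173 : ∀ u < 75114, (fun u => chkSlp tab slp u) u = true := ext_range (a := 75096) (len := 18) h4172 sl_4172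
  have h4174 : ∀ u < 75132, (fun u => chkSlp tab slp u) u = true := ext_range (a := 75114) (len := 18) h4173 sl_4173
  have h4175 : ∀ u < 75150, (fun u => chkSlp tab slp u) u = true := ext_range (a := 75132) (len := 18) h4174 sl_4174
  have h4176 : ∀ u < 75168, (fun u => chkSlp tab slp u) u = true := ext_range (a := 75150) (len := 18) h4175 sl_4175
  have h4177 : ∀ u < 75186, (fun u => chkSlp tab slp u) u = true := ext_range (a := 75168) (len := 18) h4176 sl_4176
  have h4178 : ∀ u < 75204, (fun u => chkSlp tab slp u) u = true := ext_range (a := 75186) (len := 18) h4177 sl_4177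
  have h4179 : ∀ u < 75222, (fun u => chkSlp tab slp u) u = true := ext_range (a := 75204) (len := 18) h4178 sl_4178
  have h4180 : ∀ u < 75240, (fun u => chkSlp tab slp u) u = true := ext_range (a := 75222) (len := 18) h4179 sl_4179
  have h4181 : ∀ u < 75258, (fun u => chkSlp tab slp u) u = true := ext_range (a := 75240) (len := 18) h4180 sl_4180
  have h4182 : ∀ u < 75276, (fun u => chkSlp tab slp u) u = true := ext_range (a := 75258) (len := 18) h4181 sl_4181
  have h4183 : ∀ u < 75294, (fun u => chkSlp tab slp u) u = true := ext_range (a := 75276) (len := 18) h4182 sl_4182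
  have h4184 : ∀ u < 75312, (fun u => chkSlp tab slp u) u = true := ext_range (a := 75294) (len := 18) h4183 sl_4183
  have h4185 : ∀ u < 75330, (fun u => chkSlp tab slp u) u = true := ext_range (a := 75312) (len := 18) h4184 sl_4184
  have h4186 : ∀ u < 75348, (fun u => chkSlp tab slp u) u = true := ext_range (a := 75330) (len := 18) h4185 sl_4185
  have h4187 : ∀ u < 75366, (fun u => chkSlp tab slp u) u = true := ext_range (a := 75348) (len := 18) h4186 sl_4186
  have h4188 : ∀ u < 75384, (fun u => chkSlp tab slp u) u = true := ext_range (a := 75366) (len := 18) h4187 sl_4187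
  have h4189 : ∀ u < 75402, (fun u => chkSlp tab slp u) u = true := ext_range (a := 75384) (len := 18) h4188 sl_4188
  have h4190 : ∀ u < 75420, (fun u => chkSlp tab slp u) u = true := ext_range (a := 75402) (len := 18) h4189 sl_4189
  have h4191 : ∀ u < 75438, (fun u => chkSlp tab slp u) u = true := ext_range (a := 75420) (len := 18) h4190 sl_4190
  have h4192 : ∀ u < 75456, (fun u => chkSlp tab slp u) u = true := ext_range (a := 75438) (len := 18) h4191 sl_4191
  have h4193 : ∀ u < 75474, (fun u => chkSlp tab slp u) u = true := ext_range (a := 75456) (len := 18) h4192 sl_4192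
  have h4194 : ∀ u < 75492, (fun u => chkSlp tab slp u) u = true := ext_range (a := 75474) (len := 18) h4193 sl_4193
  have h4195 : ∀ u < 75510, (fun u => chkSlp tab slp u) u = true := ext_range (a := 75492) (len := 18) h4194 sl_4194
  have h4196 : ∀ u < 75528, (fun u => chkSlp tab slp u) u = true := ext_range (a := 75510) (len := 18) h4195 sl_4195
  have h4197 : ∀ u < 75546, (fun u => chkSlp tab slp u) u = true := ext_range (a := 75528) (len := 18) h4196 sl_4196
  have h4198 : ∀ u < 75564, (fun u => chkSlp tab slp u) u = true := ext_range (a := 75546) (len := 18) h4197 sl_4197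
  have h4199 : ∀ u < 75582, (fun u => chkSlp tab slp u) u = true := ext_range (a := 75564) (len := 18) h4198 sl_4198
  have h4200 : ∀ u < 75600, (fun u => chkSlp tab slp u) u = true := ext_range (a := 75582) (len := 18) h4199 sl_4199
  have h4201 : ∀ u < 75618, (fun u => chkSlp tab slp u) u = true := ext_range (a := 75600) (len := 18) h4200 sl_4200
  have h4202 : ∀ u < 75636, (fun u => chkSlp tab slp u) u = true := ext_range (a := 75618) (len := 18) h4201 sl_4201
  have h4203 : ∀ u < 75654, (fun u => chkSlp tab slp u) u = true := ext_range (a := 75636) (len := 18) h4202 sl_4202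
  have h4204 : ∀ u < 75672, (fun u => chkSlp tab slp u) u = true := ext_range (a := 75654) (len := 18) h4203 sl_4203
  have h4205 : ∀ u < 75690, (fun u => chkSlp tab slp u) u = true := ext_range (a := 75672) (len := 18) h4204 sl_4204
  have h4206 : ∀ u < 75708, (fun u => chkSlp tab slp u) u = true := ext_range (a := 75690) (len := 18) h4205 sl_4205
  have h4207 : ∀ u < 75726, (fun u => chkSlp tab slp u) u = true := ext_range (a := 75708) (len := 18) h4206 sl_4206
  have h4208 : ∀ u < 75744, (fun u => chkSlp tab slp u) u = true := ext_range (a := 75726) (len := 18) h4207 sl_4207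
  have h4209 : ∀ u < 75762, (fun u => chkSlp tab slp u) u = true := ext_range (a := 75744) (len := 18) h4208 sl_4208
  have h4210 : ∀ u < 75780, (fun u => chkSlp tab slp u) u = true := ext_range (a := 75762) (len := 18) h4209 sl_4209
  have h4211 : ∀ u < 75798, (fun u => chkSlp tab slp u) u = true := ext_range (a := 75780) (len := 18) h4210 sl_4210
  have h4212 : ∀ u < 75816, (fun u => chkSlp tab slp u) u = true := ext_range (a := 75798) (len := 18) h4211 sl_4211
  have h4213 : ∀ u < 75834, (fun u => chkSlp tab slp u) u = true := ext_range (a := 75816) (len := 18) h4212 sl_4212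
  have h4214 : ∀ u < 75852, (fun u => chkSlp tab slp u) u = true := ext_range (a := 75834) (len := 18) h4213 sl_4213
  have h4215 : ∀ u < 75870, (fun u => chkSlp tab slp u) u = true := ext_range (a := 75852) (len := 18) h4214 sl_4214
  have h4216 : ∀ u < 75888, (fun u => chkSlp tab slp u) u = true := ext_range (a := 75870) (len := 18) h4215 sl_4215
  have h4217 : ∀ u < 75906, (fun u => chkSlp tab slp u) u = true := ext_range (a := 75888) (len := 18) h4216 sl_4216
  have h4218 : ∀ u < 75924, (fun u => chkSlp tab slp u) u = true := ext_range (a := 75906) (len := 18) h4217 sl_4217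
  have h4219 : ∀ u < 75942, (fun u => chkSlp tab slp u) u = true := ext_range (a := 75924) (len := 18) h4218 sl_4218
  have h4220 : ∀ u < 75960, (fun u => chkSlp tab slp u) u = true := ext_range (a := 75942) (len := 18) h4219 sl_4219
  have h4221 : ∀ u < 75978, (fun u => chkSlp tab slp u) u = true := ext_range (a := 75960) (len := 18) h4220 sl_4220
  have h4222 : ∀ u < 75996, (fun u => chkSlp tab slp u) u = true := ext_range (a := 75978) (len := 18) h4221 sl_4221
  have h4223 : ∀ u < 76014, (fun u => chkSlp tab slp u) u = true := ext_range (a := 75996) (len := 18) h4222 sl_4222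
  have h4224 : ∀ u < 76032, (fun u => chkSlp tab slp u) u = true := ext_range (a := 76014) (len := 18) h4223 sl_4223
  have h4225 : ∀ u < 76050, (fun u => chkSlp tab slp u) u = true := ext_range (a := 76032) (len := 18) h4224 sl_4224
  have h4226 : ∀ u < 76068, (fun u => chkSlp tab slp u) u = true := ext_range (a := 76050) (len := 18) h4225 sl_4225
  have h4227 : ∀ u < 76086, (fun u => chkSlp tab slp u) u = true := ext_range (a := 76068) (len := 18) h4226 sl_4226
  have h4228 : ∀ u < 76104, (fun u => chkSlp tab slp u) u = true := ext_range (a := 76086) (len := 18) h4227 sl_4227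
  have h4229 : ∀ u < 76122, (fun u => chkSlp tab slp u) u = true := ext_range (a := 76104) (len := 18) h4228 sl_4228
  have h4230 : ∀ u < 76140, (fun u => chkSlp tab slp u) u = true := ext_range (a := 76122) (len := 18) h4229 sl_4229
  have h4231 : ∀ u < 76158, (fun u => chkSlp tab slp u) u = true := ext_range (a := 76140) (len := 18) h4230 sl_4230
  have h4232 : ∀ u < 76176, (fun u => chkSlp tab slp u) u = true := ext_range (a := 76158) (len := 18) h4231 sl_4231
  have h4233 : ∀ u < 76194, (fun u => chkSlp tab slp u) u = true := ext_range (a := 76176) (len := 18) h4232 sl_4232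
  have h4234 : ∀ u < 76212, (fun u => chkSlp tab slp u) u = true := ext_range (a := 76194) (len := 18) h4233 sl_4233
  have h4235 : ∀ u < 76230, (fun u => chkSlp tab slp u) u = true := ext_range (a := 76212) (len := 18) h4234 sl_4234
  have h4236 : ∀ u < 76248, (fun u => chkSlp tab slp u) u = true := ext_range (a := 76230) (len := 18) h4235 sl_4235
  have h4237 : ∀ u < 76266, (fun u => chkSlp tab slp u) u = true := ext_range (a := 76248) (len := 18) h4236 sl_4236
  have h4238 : ∀ u < 76284, (fun u => chkSlp tab slp u) u = true := ext_range (a := 76266) (len := 18) h4237 sl_4237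
  have h4239 : ∀ u < 76302, (fun u => chkSlp tab slp u) u = true := ext_range (a := 76284) (len := 18) h4238 sl_4238
  have h4240 : ∀ u < 76320, (fun u => chkSlp tab slp u) u = true := ext_range (a := 76302) (len := 18) h4239 sl_4239
  have h4241 : ∀ u < 76338, (fun u => chkSlp tab slp u) u = true := ext_range (a := 76320) (len := 18) h4240 sl_4240
  have h4242 : ∀ u < 76356, (fun u => chkSlp tab slp u) u = true := ext_range (a := 76338) (len := 18) h4241 sl_4241
  have h4243 : ∀ u < 76374, (fun u => chkSlp tab slp u) u = true := ext_range (a := 76356) (len := 18) h4242 sl_4242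
  have h4244 : ∀ u < 76392, (fun u => chkSlp tab slp u) u = true := ext_range (a := 76374) (len := 18) h4243 sl_4243
  have h4245 : ∀ u < 76410, (fun u => chkSlp tab slp u) u = true := ext_range (a := 76392) (len := 18) h4244 sl_4244
  have h4246 : ∀ u < 76428, (fun u => chkSlp tab slp u) u = true := ext_range (a := 76410) (len := 18) h4245 sl_4245
  have h4247 : ∀ u < 76446, (fun u => chkSlp tab slp u) u = true := ext_range (a := 76428) (len := 18) h4246 sl_4246
  have h4248 : ∀ u < 76464, (fun u => chkSlp tab slp u) u = true := ext_range (a := 76446) (len := 18) h4247 sl_4247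
  have h4249 : ∀ u < 76482, (fun u => chkSlp tab slp u) u = true := ext_range (a := 76464) (len := 18) h4248 sl_4248
  have h4250 : ∀ u < 76500, (fun u => chkSlp tab slp u) u = true := ext_range (a := 76482) (len := 18) h4249 sl_4249
  have h4251 : ∀ u < 76518, (fun u => chkSlp tab slp u) u = true := ext_range (a := 76500) (len := 18) h4250 sl_4250
  have h4252 : ∀ u < 76536, (fun u => chkSlp tab slp u) u = true := ext_range (a := 76518) (len := 18) h4251 sl_4251
  have h4253 : ∀ u < 76554, (fun u => chkSlp tab slp u) u = true := ext_range (a := 76536) (len := 18) h4252 sl_4252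
  have h4254 : ∀ u < 76572, (fun u => chkSlp tab slp u) u = true := ext_range (a := 76554) (len := 18) h4253 sl_4253
  have h4255 : ∀ u < 76590, (fun u => chkSlp tab slp u) u = true := ext_range (a := 76572) (len := 18) h4254 sl_4254
  have h4256 : ∀ u < 76608, (fun u => chkSlp tab slp u) u = true := ext_range (a := 76590) (len := 18) h4255 sl_4255
  have h4257 : ∀ u < 76626, (fun u => chkSlp tab slp u) u = true := ext_range (a := 76608) (len := 18) h4256 sl_4256
  have h4258 : ∀ u < 76644, (fun u => chkSlp tab slp u) u = true := ext_range (a := 76626) (len := 18) h4257 sl_4257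
  have h4259 : ∀ u < 76662, (fun u => chkSlp tab slp u) u = true := ext_range (a := 76644) (len := 18) h4258 sl_4258
  have h4260 : ∀ u < 76680, (fun u => chkSlp tab slp u) u = true := ext_range (a := 76662) (len := 18) h4259 sl_4259
  have h4261 : ∀ u < 76698, (fun u => chkSlp tab slp u) u = true := ext_range (a := 76680) (len := 18) h4260 sl_4260
  have h4262 : ∀ u < 76716, (fun u => chkSlp tab slp u) u = true := ext_range (a := 76698) (len := 18) h4261 sl_4261
  have h4263 : ∀ u < 76734, (fun u => chkSlp tab slp u) u = true := ext_range (a := 76716) (len := 18) h4262 sl_4262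
  have h4264 : ∀ u < 76752, (fun u => chkSlp tab slp u) u = true := ext_range (a := 76734) (len := 18) h4263 sl_4263
  have h4265 : ∀ u < 76770, (fun u => chkSlp tab slp u) u = true := ext_range (a := 76752) (len := 18) h4264 sl_4264
  have h4266 : ∀ u < 76788, (fun u => chkSlp tab slp u) u = true := ext_range (a := 76770) (len := 18) h4265 sl_4265
  have h4267 : ∀ u < 76806, (fun u => chkSlp tab slp u) u = true := ext_range (a := 76788) (len := 18) h4266 sl_4266
  have h4268 : ∀ u < 76824, (fun u => chkSlp tab slp u) u = true := ext_range (a := 76806) (len := 18) h4267 sl_4267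
  have h4269 : ∀ u < 76842, (fun u => chkSlp tab slp u) u = true := ext_range (a := 76824) (len := 18) h4268 sl_4268
  have h4270 : ∀ u < 76860, (fun u => chkSlp tab slp u) u = true := ext_range (a := 76842) (len := 18) h4269 sl_4269
  have h4271 : ∀ u < 76878, (fun u => chkSlp tab slp u) u = true := ext_range (a := 76860) (len := 18) h4270 sl_4270
  have h4272 : ∀ u < 76896, (fun u => chkSlp tab slp u) u = true := ext_range (a := 76878) (len := 18) h4271 sl_4271
  have h4273 : ∀ u < 76914, (fun u => chkSlp tab slp u) u = true := ext_range (a := 76896) (len := 18) h4272 sl_4272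
  have h4274 : ∀ u < 76932, (fun u => chkSlp tab slp u) u = true := ext_range (a := 76914) (len := 18) h4273 sl_4273
  have h4275 : ∀ u < 76950, (fun u => chkSlp tab slp u) u = true := ext_range (a := 76932) (len := 18) h4274 sl_4274
  have h4276 : ∀ u < 76968, (fun u => chkSlp tab slp u) u = true := ext_range (a := 76950) (len := 18) h4275 sl_4275
  have h4277 : ∀ u < 76986, (fun u => chkSlp tab slp u) u = true := ext_range (a := 76968) (len := 18) h4276 sl_4276
  have h4278 : ∀ u < 77004, (fun u => chkSlp tab slp u) u = true := ext_range (a := 76986) (len := 18) h4277 sl_4277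
  have h4279 : ∀ u < 77022, (fun u => chkSlp tab slp u) u = true := ext_range (a := 77004) (len := 18) h4278 sl_4278
  have h4280 : ∀ u < 77040, (fun u => chkSlp tab slp u) u = true := ext_range (a := 77022) (len := 18) h4279 sl_4279
  have h4281 : ∀ u < 77058, (fun u => chkSlp tab slp u) u = true := ext_range (a := 77040) (len := 18) h4280 sl_4280
  have h4282 : ∀ u < 77076, (fun u => chkSlp tab slp u) u = true := ext_range (a := 77058) (len := 18) h4281 sl_4281
  have h4283 : ∀ u < 77094, (fun u => chkSlp tab slp u) u = true := ext_range (a := 77076) (len := 18) h4282 sl_4282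
  have h4284 : ∀ u < 77112, (fun u => chkSlp tab slp u) u = true := ext_range (a := 77094) (len := 18) h4283 sl_4283
  have h4285 : ∀ u < 77130, (fun u => chkSlp tab slp u) u = true := ext_range (a := 77112) (len := 18) h4284 sl_4284
  have h4286 : ∀ u < 77148, (fun u => chkSlp tab slp u) u = true := ext_range (a := 77130) (len := 18) h4285 sl_4285
  have h4287 : ∀ u < 77166, (fun u => chkSlp tab slp u) u = true := ext_range (a := 77148) (len := 18) h4286 sl_4286
  have h4288 : ∀ u < 77184, (fun u => chkSlp tab slp u) u = true := ext_range (a := 77166) (len := 18) h4287 sl_4287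
  have h4289 : ∀ u < 77202, (fun u => chkSlp tab slp u) u = true := ext_range (a := 77184) (len := 18) h4288 sl_4288
  have h4290 : ∀ u < 77220, (fun u => chkSlp tab slp u) u = true := ext_range (a := 77202) (len := 18) h4289 sl_4289
  have h4291 : ∀ u < 77238, (fun u => chkSlp tab slp u) u = true := ext_range (a := 77220) (len := 18) h4290 sl_4290
  have h4292 : ∀ u < 77256, (fun u => chkSlp tab slp u) u = true := ext_range (a := 77238) (len := 18) h4291 sl_4291
  have h4293 : ∀ u < 77274, (fun u => chkSlp tab slp u) u = true := ext_range (a := 77256) (len := 18) h4292 sl_4292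
  have h4294 : ∀ u < 77292, (fun u => chkSlp tab slp u) u = true := ext_range (a := 77274) (len := 18) h4293 sl_4293
  have h4295 : ∀ u < 77310, (fun u => chkSlp tab slp u) u = true := ext_range (a := 77292) (len := 18) h4294 sl_4294
  have h4296 : ∀ u < 77328, (fun u => chkSlp tab slp u) u = true := ext_range (a := 77310) (len := 18) h4295 sl_4295
  have h4297 : ∀ u < 77346, (fun u => chkSlp tab slp u) u = true := ext_range (a := 77328) (len := 18) h4296 sl_4296
  have h4298 : ∀ u < 77364, (fun u => chkSlp tab slp u) u = true := ext_range (a := 77346) (len := 18) h4297 sl_4297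
  have h4299 : ∀ u < 77382, (fun u => chkSlp tab slp u) u = true := ext_range (a := 77364) (len := 18) h4298 sl_4298
  have h4300 : ∀ u < 77400, (fun u => chkSlp tab slp u) u = true := ext_range (a := 77382) (len := 18) h4299 sl_4299
  have h4301 : ∀ u < 77418, (fun u => chkSlp tab slp u) u = true := ext_range (a := 77400) (len := 18) h4300 sl_4300
  have h4302 : ∀ u < 77436, (fun u => chkSlp tab slp u) u = true := ext_range (a := 77418) (len := 18) h4301 sl_4301
  have h4303 : ∀ u < 77454, (fun u => chkSlp tab slp u) u = true := ext_range (a := 77436) (len := 18) h4302 sl_4302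
  have h4304 : ∀ u < 77472, (fun u => chkSlp tab slp u) u = true := ext_range (a := 77454) (len := 18) h4303 sl_4303
  have h4305 : ∀ u < 77490, (fun u => chkSlp tab slp u) u = true := ext_range (a := 77472) (len := 18) h4304 sl_4304
  have h4306 : ∀ u < 77508, (fun u => chkSlp tab slp u) u = true := ext_range (a := 77490) (len := 18) h4305 sl_4305
  have h4307 : ∀ u < 77526, (fun u => chkSlp tab slp u) u = true := ext_range (a := 77508) (len := 18) h4306 sl_4306
  have h4308 : ∀ u < 77544, (fun u => chkSlp tab slp u) u = true := ext_range (a := 77526) (len := 18) h4307 sl_4307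
  have h4309 : ∀ u < 77562, (fun u => chkSlp tab slp u) u = true := ext_range (a := 77544) (len := 18) h4308 sl_4308
  have h4310 : ∀ u < 77580, (fun u => chkSlp tab slp u) u = true := ext_range (a := 77562) (len := 18) h4309 sl_4309
  have h4311 : ∀ u < 77598, (fun u => chkSlp tab slp u) u = true := ext_range (a := 77580) (len := 18) h4310 sl_4310
  have h4312 : ∀ u < 77616, (fun u => chkSlp tab slp u) u = true := ext_range (a := 77598) (len := 18) h4311 sl_4311
  have h4313 : ∀ u < 77634, (fun u => chkSlp tab slp u) u = true := ext_range (a := 77616) (len := 18) h4312 sl_4312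
  have h4314 : ∀ u < 77652, (fun u => chkSlp tab slp u) u = true := ext_range (a := 77634) (len := 18) h4313 sl_4313
  have h4315 : ∀ u < 77670, (fun u => chkSlp tab slp u) u = true := ext_range (a := 77652) (len := 18) h4314 sl_4314
  have h4316 : ∀ u < 77688, (fun u => chkSlp tab slp u) u = true := ext_range (a := 77670) (len := 18) h4315 sl_4315
  have h4317 : ∀ u < 77706, (fun u => chkSlp tab slp u) u = true := ext_range (a := 77688) (len := 18) h4316 sl_4316
  have h4318 : ∀ u < 77724, (fun u => chkSlp tab slp u) u = true := ext_range (a := 77706) (len := 18) h4317 sl_4317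
  have h4319 : ∀ u < 77742, (fun u => chkSlp tab slp u) u = true := ext_range (a := 77724) (len := 18) h4318 sl_4318
  have h4320 : ∀ u < 77760, (fun u => chkSlp tab slp u) u = true := ext_range (a := 77742) (len := 18) h4319 sl_4319
  have h4321 : ∀ u < 77778, (fun u => chkSlp tab slp u) u = true := ext_range (a := 77760) (len := 18) h4320 sl_4320
  have h4322 : ∀ u < 77796, (fun u => chkSlp tab slp u) u = true := ext_range (a := 77778) (len := 18) h4321 sl_4321
  have h4323 : ∀ u < 77814, (fun u => chkSlp tab slp u) u = true := ext_range (a := 77796) (len := 18) h4322 sl_4322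
  have h4324 : ∀ u < 77832, (fun u => chkSlp tab slp u) u = true := ext_range (a := 77814) (len := 18) h4323 sl_4323
  have h4325 : ∀ u < 77850, (fun u => chkSlp tab slp u) u = true := ext_range (a := 77832) (len := 18) h4324 sl_4324
  have h4326 : ∀ u < 77868, (fun u => chkSlp tab slp u) u = true := ext_range (a := 77850) (len := 18) h4325 sl_4325
  have h4327 : ∀ u < 77886, (fun u => chkSlp tab slp u) u = true := ext_range (a := 77868) (len := 18) h4326 sl_4326
  have h4328 : ∀ u < 77904, (fun u => chkSlp tab slp u) u = true := ext_range (a := 77886) (len := 18) h4327 sl_4327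
  have h4329 : ∀ u < 77922, (fun u => chkSlp tab slp u) u = true := ext_range (a := 77904) (len := 18) h4328 sl_4328
  have h4330 : ∀ u < 77940, (fun u => chkSlp tab slp u) u = true := ext_range (a := 77922) (len := 18) h4329 sl_4329
  have h4331 : ∀ u < 77958, (fun u => chkSlp tab slp u) u = true := ext_range (a := 77940) (len := 18) h4330 sl_4330
  have h4332 : ∀ u < 77976, (fun u => chkSlp tab slp u) u = true := ext_range (a := 77958) (len := 18) h4331 sl_4331
  have h4333 : ∀ u < 77994, (fun u => chkSlp tab slp u) u = true := ext_range (a := 77976) (len := 18) h4332 sl_4332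
  have h4334 : ∀ u < 78012, (fun u => chkSlp tab slp u) u = true := ext_range (a := 77994) (len := 18) h4333 sl_4333
  have h4335 : ∀ u < 78030, (fun u => chkSlp tab slp u) u = true := ext_range (a := 78012) (len := 18) h4334 sl_4334
  have h4336 : ∀ u < 78048, (fun u => chkSlp tab slp u) u = true := ext_range (a := 78030) (len := 18) h4335 sl_4335
  have h4337 : ∀ u < 78066, (fun u => chkSlp tab slp u) u = true := ext_range (a := 78048) (len := 18) h4336 sl_4336
  have h4338 : ∀ u < 78084, (fun u => chkSlp tab slp u) u = true := ext_range (a := 78066) (len := 18) h4337 sl_4337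
  have h4339 : ∀ u < 78102, (fun u => chkSlp tab slp u) u = true := ext_range (a := 78084) (len := 18) h4338 sl_4338
  have h4340 : ∀ u < 78120, (fun u => chkSlp tab slp u) u = true := ext_range (a := 78102) (len := 18) h4339 sl_4339
  have h4341 : ∀ u < 78138, (fun u => chkSlp tab slp u) u = true := ext_range (a := 78120) (len := 18) h4340 sl_4340
  have h4342 : ∀ u < 78156, (fun u => chkSlp tab slp u) u = true := ext_range (a := 78138) (len := 18) h4341 sl_4341
  have h4343 : ∀ u < 78174, (fun u => chkSlp tab slp u) u = true := ext_range (a := 78156) (len := 18) h4342 sl_4342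
  have h4344 : ∀ u < 78192, (fun u => chkSlp tab slp u) u = true := ext_range (a := 78174) (len := 18) h4343 sl_4343
  have h4345 : ∀ u < 78210, (fun u => chkSlp tab slp u) u = true := ext_range (a := 78192) (len := 18) h4344 sl_4344
  have h4346 : ∀ u < 78228, (fun u => chkSlp tab slp u) u = true := ext_range (a := 78210) (len := 18) h4345 sl_4345
  have h4347 : ∀ u < 78246, (fun u => chkSlp tab slp u) u = true := ext_range (a := 78228) (len := 18) h4346 sl_4346
  have h4348 : ∀ u < 78264, (fun u => chkSlp tab slp u) u = true := ext_range (a := 78246) (len := 18) h4347 sl_4347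
  have h4349 : ∀ u < 78282, (fun u => chkSlp tab slp u) u = true := ext_range (a := 78264) (len := 18) h4348 sl_4348
  have h4350 : ∀ u < 78300, (fun u => chkSlp tab slp u) u = true := ext_range (a := 78282) (len := 18) h4349 sl_4349
  have h4351 : ∀ u < 78318, (fun u => chkSlp tab slp u) u = true := ext_range (a := 78300) (len := 18) h4350 sl_4350
  have h4352 : ∀ u < 78336, (fun u => chkSlp tab slp u) u = true := ext_range (a := 78318) (len := 18) h4351 sl_4351
  have h4353 : ∀ u < 78354, (fun u => chkSlp tab slp u) u = true := ext_range (a := 78336) (len := 18) h4352 sl_4352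
  have h4354 : ∀ u < 78372, (fun u => chkSlp tab slp u) u = true := ext_range (a := 78354) (len := 18) h4353 sl_4353
  have h4355 : ∀ u < 78390, (fun u => chkSlp tab slp u) u = true := ext_range (a := 78372) (len := 18) h4354 sl_4354
  have h4356 : ∀ u < 78408, (fun u => chkSlp tab slp u) u = true := ext_range (a := 78390) (len := 18) h4355 sl_4355
  have h4357 : ∀ u < 78426, (fun u => chkSlp tab slp u) u = true := ext_range (a := 78408) (len := 18) h4356 sl_4356
  have h4358 : ∀ u < 78444, (fun u => chkSlp tab slp u) u = true := ext_range (a := 78426) (len := 18) h4357 sl_4357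
  have h4359 : ∀ u < 78462, (fun u => chkSlp tab slp u) u = true := ext_range (a := 78444) (len := 18) h4358 sl_4358
  have h4360 : ∀ u < 78480, (fun u => chkSlp tab slp u) u = true := ext_range (a := 78462) (len := 18) h4359 sl_4359
  have h4361 : ∀ u < 78498, (fun u => chkSlp tab slp u) u = true := ext_range (a := 78480) (len := 18) h4360 sl_4360
  have h4362 : ∀ u < 78516, (fun u => chkSlp tab slp u) u = true := ext_range (a := 78498) (len := 18) h4361 sl_4361
  have h4363 : ∀ u < 78534, (fun u => chkSlp tab slp u) u = true := ext_range (a := 78516) (len := 18) h4362 sl_4362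
  have h4364 : ∀ u < 78552, (fun u => chkSlp tab slp u) u = true := ext_range (a := 78534) (len := 18) h4363 sl_4363
  have h4365 : ∀ u < 78570, (fun u => chkSlp tab slp u) u = true := ext_range (a := 78552) (len := 18) h4364 sl_4364
  have h4366 : ∀ u < 78588, (fun u => chkSlp tab slp u) u = true := ext_range (a := 78570) (len := 18) h4365 sl_4365
  have h4367 : ∀ u < 78606, (fun u => chkSlp tab slp u) u = true := ext_range (a := 78588) (len := 18) h4366 sl_4366
  have h4368 : ∀ u < 78624, (fun u => chkSlp tab slp u) u = true := ext_range (a := 78606) (len := 18) h4367 sl_4367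
  have h4369 : ∀ u < 78642, (fun u => chkSlp tab slp u) u = true := ext_range (a := 78624) (len := 18) h4368 sl_4368
  have h4370 : ∀ u < 78660, (fun u => chkSlp tab slp u) u = true := ext_range (a := 78642) (len := 18) h4369 sl_4369
  have h4371 : ∀ u < 78678, (fun u => chkSlp tab slp u) u = true := ext_range (a := 78660) (len := 18) h4370 sl_4370
  have h4372 : ∀ u < 78696, (fun u => chkSlp tab slp u) u = true := ext_range (a := 78678) (len := 18) h4371 sl_4371
  have h4373 : ∀ u < 78714, (fun u => chkSlp tab slp u) u = true := ext_range (a := 78696) (len := 18) h4372 sl_4372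
  have h4374 : ∀ u < 78732, (fun u => chkSlp tab slp u) u = true := ext_range (a := 78714) (len := 18) h4373 sl_4373
  have h4375 : ∀ u < 78750, (fun u => chkSlp tab slp u) u = true := ext_range (a := 78732) (len := 18) h4374 sl_4374
  have h4376 : ∀ u < 78768, (fun u => chkSlp tab slp u) u = true := ext_range (a := 78750) (len := 18) h4375 sl_4375
  have h4377 : ∀ u < 78786, (fun u => chkSlp tab slp u) u = true := ext_range (a := 78768) (len := 18) h4376 sl_4376
  have h4378 : ∀ u < 78804, (fun u => chkSlp tab slp u) u = true := ext_range (a := 78786) (len := 18) h4377 sl_4377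
  have h4379 : ∀ u < 78822, (fun u => chkSlp tab slp u) u = true := ext_range (a := 78804) (len := 18) h4378 sl_4378
  have h4380 : ∀ u < 78840, (fun u => chkSlp tab slp u) u = true := ext_range (a := 78822) (len := 18) h4379 sl_4379
  have h4381 : ∀ u < 78858, (fun u => chkSlp tab slp u) u = true := ext_range (a := 78840) (len := 18) h4380 sl_4380
  have h4382 : ∀ u < 78876, (fun u => chkSlp tab slp u) u = true := ext_range (a := 78858) (len := 18) h4381 sl_4381
  have h4383 : ∀ u < 78894, (fun u => chkSlp tab slp u) u = true := ext_range (a := 78876) (len := 18) h4382 sl_4382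
  have h4384 : ∀ u < 78912, (fun u => chkSlp tab slp u) u = true := ext_range (a := 78894) (len := 18) h4383 sl_4383
  have h4385 : ∀ u < 78930, (fun u => chkSlp tab slp u) u = true := ext_range (a := 78912) (len := 18) h4384 sl_4384
  have h4386 : ∀ u < 78948, (fun u => chkSlp tab slp u) u = true := ext_range (a := 78930) (len := 18) h4385 sl_4385
  have h4387 : ∀ u < 78966, (fun u => chkSlp tab slp u) u = true := ext_range (a := 78948) (len := 18) h4386 sl_4386
  have h4388 : ∀ u < 78984, (fun u => chkSlp tab slp u) u = true := ext_range (a := 78966) (len := 18) h4387 sl_4387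
  have h4389 : ∀ u < 79002, (fun u => chkSlp tab slp u) u = true := ext_range (a := 78984) (len := 18) h4388 sl_4388
  have h4390 : ∀ u < 79020, (fun u => chkSlp tab slp u) u = true := ext_range (a := 79002) (len := 18) h4389 sl_4389
  have h4391 : ∀ u < 79038, (fun u => chkSlp tab slp u) u = true := ext_range (a := 79020) (len := 18) h4390 sl_4390
  have h4392 : ∀ u < 79056, (fun u => chkSlp tab slp u) u = true := ext_range (a := 79038) (len := 18) h4391 sl_4391
  have h4393 : ∀ u < 79074, (fun u => chkSlp tab slp u) u = true := ext_range (a := 79056) (len := 18) h4392 sl_4392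
  have h4394 : ∀ u < 79092, (fun u => chkSlp tab slp u) u = true := ext_range (a := 79074) (len := 18) h4393 sl_4393
  have h4395 : ∀ u < 79110, (fun u => chkSlp tab slp u) u = true := ext_range (a := 79092) (len := 18) h4394 sl_4394
  have h4396 : ∀ u < 79128, (fun u => chkSlp tab slp u) u = true := ext_range (a := 79110) (len := 18) h4395 sl_4395
  have h4397 : ∀ u < 79146, (fun u => chkSlp tab slp u) u = true := ext_range (a := 79128) (len := 18) h4396 sl_4396
  have h4398 : ∀ u < 79164, (fun u => chkSlp tab slp u) u = true := ext_range (a := 79146) (len := 18) h4397 sl_4397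
  have h4399 : ∀ u < 79182, (fun u => chkSlp tab slp u) u = true := ext_range (a := 79164) (len := 18) h4398 sl_4398
  have h4400 : ∀ u < 79200, (fun u => chkSlp tab slp u) u = true := ext_range (a := 79182) (len := 18) h4399 sl_4399
  have h4401 : ∀ u < 79218, (fun u => chkSlp tab slp u) u = true := ext_range (a := 79200) (len := 18) h4400 sl_4400
  have h4402 : ∀ u < 79236, (fun u => chkSlp tab slp u) u = true := ext_range (a := 79218) (len := 18) h4401 sl_4401
  have h4403 : ∀ u < 79254, (fun u => chkSlp tab slp u) u = true := ext_range (a := 79236) (len := 18) h4402 sl_4402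
  have h4404 : ∀ u < 79272, (fun u => chkSlp tab slp u) u = true := ext_range (a := 79254) (len := 18) h4403 sl_4403
  have h4405 : ∀ u < 79290, (fun u => chkSlp tab slp u) u = true := ext_range (a := 79272) (len := 18) h4404 sl_4404
  have h4406 : ∀ u < 79308, (fun u => chkSlp tab slp u) u = true := ext_range (a := 79290) (len := 18) h4405 sl_4405
  have h4407 : ∀ u < 79326, (fun u => chkSlp tab slp u) u = true := ext_range (a := 79308) (len := 18) h4406 sl_4406
  have h4408 : ∀ u < 79344, (fun u => chkSlp tab slp u) u = true := ext_range (a := 79326) (len := 18) h4407 sl_4407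
  have h4409 : ∀ u < 79362, (fun u => chkSlp tab slp u) u = true := ext_range (a := 79344) (len := 18) h4408 sl_4408
  have h4410 : ∀ u < 79380, (fun u => chkSlp tab slp u) u = true := ext_range (a := 79362) (len := 18) h4409 sl_4409
  have h4411 : ∀ u < 79398, (fun u => chkSlp tab slp u) u = true := ext_range (a := 79380) (len := 18) h4410 sl_4410
  have h4412 : ∀ u < 79416, (fun u => chkSlp tab slp u) u = true := ext_range (a := 79398) (len := 18) h4411 sl_4411
  have h4413 : ∀ u < 79434, (fun u => chkSlp tab slp u) u = true := ext_range (a := 79416) (len := 18) h4412 sl_4412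
  have h4414 : ∀ u < 79452, (fun u => chkSlp tab slp u) u = true := ext_range (a := 79434) (len := 18) h4413 sl_4413
  have h4415 : ∀ u < 79470, (fun u => chkSlp tab slp u) u = true := ext_range (a := 79452) (len := 18) h4414 sl_4414
  have h4416 : ∀ u < 79488, (fun u => chkSlp tab slp u) u = true := ext_range (a := 79470) (len := 18) h4415 sl_4415
  have h4417 : ∀ u < 79506, (fun u => chkSlp tab slp u) u = true := ext_range (a := 79488) (len := 18) h4416 sl_4416
  have h4418 : ∀ u < 79524, (fun u => chkSlp tab slp u) u = true := ext_range (a := 79506) (len := 18) h4417 sl_4417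
  have h4419 : ∀ u < 79542, (fun u => chkSlp tab slp u) u = true := ext_range (a := 79524) (len := 18) h4418 sl_4418
  have h4420 : ∀ u < 79560, (fun u => chkSlp tab slp u) u = true := ext_range (a := 79542) (len := 18) h4419 sl_4419
  have h4421 : ∀ u < 79578, (fun u => chkSlp tab slp u) u = true := ext_range (a := 79560) (len := 18) h4420 sl_4420
  have h4422 : ∀ u < 79596, (fun u => chkSlp tab slp u) u = true := ext_range (a := 79578) (len := 18) h4421 sl_4421
  have h4423 : ∀ u < 79614, (fun u => chkSlp tab slp u) u = true := ext_range (a := 79596) (len := 18) h4422 sl_4422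
  have h4424 : ∀ u < 79632, (fun u => chkSlp tab slp u) u = true := ext_range (a := 79614) (len := 18) h4423 sl_4423
  have h4425 : ∀ u < 79650, (fun u => chkSlp tab slp u) u = true := ext_range (a := 79632) (len := 18) h4424 sl_4424
  have h4426 : ∀ u < 79668, (fun u => chkSlp tab slp u) u = true := ext_range (a := 79650) (len := 18) h4425 sl_4425
  have h4427 : ∀ u < 79686, (fun u => chkSlp tab slp u) u = true := ext_range (a := 79668) (len := 18) h4426 sl_4426
  have h4428 : ∀ u < 79704, (fun u => chkSlp tab slp u) u = true := ext_range (a := 79686) (len := 18) h4427 sl_4427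
  have h4429 : ∀ u < 79722, (fun u => chkSlp tab slp u) u = true := ext_range (a := 79704) (len := 18) h4428 sl_4428
  have h4430 : ∀ u < 79740, (fun u => chkSlp tab slp u) u = true := ext_range (a := 79722) (len := 18) h4429 sl_4429
  have h4431 : ∀ u < 79758, (fun u => chkSlp tab slp u) u = true := ext_range (a := 79740) (len := 18) h4430 sl_4430
  have h4432 : ∀ u < 79776, (fun u => chkSlp tab slp u) u = true := ext_range (a := 79758) (len := 18) h4431 sl_4431
  have h4433 : ∀ u < 79794, (fun u => chkSlp tab slp u) u = true := ext_range (a := 79776) (len := 18) h4432 sl_4432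
  have h4434 : ∀ u < 79812, (fun u => chkSlp tab slp u) u = true := ext_range (a := 79794) (len := 18) h4433 sl_4433
  have h4435 : ∀ u < 79830, (fun u => chkSlp tab slp u) u = true := ext_range (a := 79812) (len := 18) h4434 sl_4434
  have h4436 : ∀ u < 79848, (fun u => chkSlp tab slp u) u = true := ext_range (a := 79830) (len := 18) h4435 sl_4435
  have h4437 : ∀ u < 79866, (fun u => chkSlp tab slp u) u = true := ext_range (a := 79848) (len := 18) h4436 sl_4436
  have h4438 : ∀ u < 79884, (fun u => chkSlp tab slp u) u = true := ext_range (a := 79866) (len := 18) h4437 sl_4437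
  have h4439 : ∀ u < 79902, (fun u => chkSlp tab slp u) u = true := ext_range (a := 79884) (len := 18) h4438 sl_4438
  have h4440 : ∀ u < 79920, (fun u => chkSlp tab slp u) u = true := ext_range (a := 79902) (len := 18) h4439 sl_4439
  have h4441 : ∀ u < 79938, (fun u => chkSlp tab slp u) u = true := ext_range (a := 79920) (len := 18) h4440 sl_4440
  have h4442 : ∀ u < 79956, (fun u => chkSlp tab slp u) u = true := ext_range (a := 79938) (len := 18) h4441 sl_4441
  have h4443 : ∀ u < 79974, (fun u => chkSlp tab slp u) u = true := ext_range (a := 79956) (len := 18) h4442 sl_4442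
  have h4444 : ∀ u < 79992, (fun u => chkSlp tab slp u) u = true := ext_range (a := 79974) (len := 18) h4443 sl_4443
  have h4445 : ∀ u < 80010, (fun u => chkSlp tab slp u) u = true := ext_range (a := 79992) (len := 18) h4444 sl_4444
  have h4446 : ∀ u < 80028, (fun u => chkSlp tab slp u) u = true := ext_range (a := 80010) (len := 18) h4445 sl_4445
  have h4447 : ∀ u < 80046, (fun u => chkSlp tab slp u) u = true := ext_range (a := 80028) (len := 18) h4446 sl_4446
  have h4448 : ∀ u < 80064, (fun u => chkSlp tab slp u) u = true := ext_range (a := 80046) (len := 18) h4447 sl_4447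
  have h4449 : ∀ u < 80082, (fun u => chkSlp tab slp u) u = true := ext_range (a := 80064) (len := 18) h4448 sl_4448
  have h4450 : ∀ u < 80100, (fun u => chkSlp tab slp u) u = true := ext_range (a := 80082) (len := 18) h4449 sl_4449
  have h4451 : ∀ u < 80118, (fun u => chkSlp tab slp u) u = true := ext_range (a := 80100) (len := 18) h4450 sl_4450
  have h4452 : ∀ u < 80136, (fun u => chkSlp tab slp u) u = true := ext_range (a := 80118) (len := 18) h4451 sl_4451
  have h4453 : ∀ u < 80154, (fun u => chkSlp tab slp u) u = true := ext_range (a := 80136) (len := 18) h4452 sl_4452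
  have h4454 : ∀ u < 80172, (fun u => chkSlp tab slp u) u = true := ext_range (a := 80154) (len := 18) h4453 sl_4453
  have h4455 : ∀ u < 80190, (fun u => chkSlp tab slp u) u = true := ext_range (a := 80172) (len := 18) h4454 sl_4454
  have h4456 : ∀ u < 80208, (fun u => chkSlp tab slp u) u = true := ext_range (a := 80190) (len := 18) h4455 sl_4455
  have h4457 : ∀ u < 80226, (fun u => chkSlp tab slp u) u = true := ext_range (a := 80208) (len := 18) h4456 sl_4456
  have h4458 : ∀ u < 80244, (fun u => chkSlp tab slp u) u = true := ext_range (a := 80226) (len := 18) h4457 sl_4457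
  have h4459 : ∀ u < 80262, (fun u => chkSlp tab slp u) u = true := ext_range (a := 80244) (len := 18) h4458 sl_4458
  have h4460 : ∀ u < 80280, (fun u => chkSlp tab slp u) u = true := ext_range (a := 80262) (len := 18) h4459 sl_4459
  have h4461 : ∀ u < 80298, (fun u => chkSlp tab slp u) u = true := ext_range (a := 80280) (len := 18) h4460 sl_4460
  have h4462 : ∀ u < 80316, (fun u => chkSlp tab slp u) u = true := ext_range (a := 80298) (len := 18) h4461 sl_4461
  have h4463 : ∀ u < 80334, (fun u => chkSlp tab slp u) u = true := ext_range (a := 80316) (len := 18) h4462 sl_4462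
  have h4464 : ∀ u < 80352, (fun u => chkSlp tab slp u) u = true := ext_range (a := 80334) (len := 18) h4463 sl_4463
  have h4465 : ∀ u < 80370, (fun u => chkSlp tab slp u) u = true := ext_range (a := 80352) (len := 18) h4464 sl_4464
  have h4466 : ∀ u < 80388, (fun u => chkSlp tab slp u) u = true := ext_range (a := 80370) (len := 18) h4465 sl_4465
  have h4467 : ∀ u < 80406, (fun u => chkSlp tab slp u) u = true := ext_range (a := 80388) (len := 18) h4466 sl_4466
  have h4468 : ∀ u < 80424, (fun u => chkSlp tab slp u) u = true := ext_range (a := 80406) (len := 18) h4467 sl_4467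
  have h4469 : ∀ u < 80442, (fun u => chkSlp tab slp u) u = true := ext_range (a := 80424) (len := 18) h4468 sl_4468
  have h4470 : ∀ u < 80460, (fun u => chkSlp tab slp u) u = true := ext_range (a := 80442) (len := 18) h4469 sl_4469
  have h4471 : ∀ u < 80478, (fun u => chkSlp tab slp u) u = true := ext_range (a := 80460) (len := 18) h4470 sl_4470
  have h4472 : ∀ u < 80496, (fun u => chkSlp tab slp u) u = true := ext_range (a := 80478) (len := 18) h4471 sl_4471
  have h4473 : ∀ u < 80514, (fun u => chkSlp tab slp u) u = true := ext_range (a := 80496) (len := 18) h4472 sl_4472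
  have h4474 : ∀ u < 80532, (fun u => chkSlp tab slp u) u = true := ext_range (a := 80514) (len := 18) h4473 sl_4473
  have h4475 : ∀ u < 80550, (fun u => chkSlp tab slp u) u = true := ext_range (a := 80532) (len := 18) h4474 sl_4474
  have h4476 : ∀ u < 80568, (fun u => chkSlp tab slp u) u = true := ext_range (a := 80550) (len := 18) h4475 sl_4475
  have h4477 : ∀ u < 80586, (fun u => chkSlp tab slp u) u = true := ext_range (a := 80568) (len := 18) h4476 sl_4476
  have h4478 : ∀ u < 80604, (fun u => chkSlp tab slp u) u = true := ext_range (a := 80586) (len := 18) h4477 sl_4477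
  have h4479 : ∀ u < 80622, (fun u => chkSlp tab slp u) u = true := ext_range (a := 80604) (len := 18) h4478 sl_4478
  have h4480 : ∀ u < 80640, (fun u => chkSlp tab slp u) u = true := ext_range (a := 80622) (len := 18) h4479 sl_4479
  have h4481 : ∀ u < 80658, (fun u => chkSlp tab slp u) u = true := ext_range (a := 80640) (len := 18) h4480 sl_4480
  have h4482 : ∀ u < 80676, (fun u => chkSlp tab slp u) u = true := ext_range (a := 80658) (len := 18) h4481 sl_4481
  have h4483 : ∀ u < 80694, (fun u => chkSlp tab slp u) u = true := ext_range (a := 80676) (len := 18) h4482 sl_4482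
  have h4484 : ∀ u < 80712, (fun u => chkSlp tab slp u) u = true := ext_range (a := 80694) (len := 18) h4483 sl_4483
  have h4485 : ∀ u < 80730, (fun u => chkSlp tab slp u) u = true := ext_range (a := 80712) (len := 18) h4484 sl_4484
  have h4486 : ∀ u < 80748, (fun u => chkSlp tab slp u) u = true := ext_range (a := 80730) (len := 18) h4485 sl_4485
  have h4487 : ∀ u < 80766, (fun u => chkSlp tab slp u) u = true := ext_range (a := 80748) (len := 18) h4486 sl_4486
  have h4488 : ∀ u < 80784, (fun u => chkSlp tab slp u) u = true := ext_range (a := 80766) (len := 18) h4487 sl_4487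
  have h4489 : ∀ u < 80802, (fun u => chkSlp tab slp u) u = true := ext_range (a := 80784) (len := 18) h4488 sl_4488
  have h4490 : ∀ u < 80820, (fun u => chkSlp tab slp u) u = true := ext_range (a := 80802) (len := 18) h4489 sl_4489
  have h4491 : ∀ u < 80838, (fun u => chkSlp tab slp u) u = true := ext_range (a := 80820) (len := 18) h4490 sl_4490
  have h4492 : ∀ u < 80856, (fun u => chkSlp tab slp u) u = true := ext_range (a := 80838) (len := 18) h4491 sl_4491
  have h4493 : ∀ u < 80874, (fun u => chkSlp tab slp u) u = true := ext_range (a := 80856) (len := 18) h4492 sl_4492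
  have h4494 : ∀ u < 80892, (fun u => chkSlp tab slp u) u = true := ext_range (a := 80874) (len := 18) h4493 sl_4493
  have h4495 : ∀ u < 80910, (fun u => chkSlp tab slp u) u = true := ext_range (a := 80892) (len := 18) h4494 sl_4494
  have h4496 : ∀ u < 80928, (fun u => chkSlp tab slp u) u = true := ext_range (a := 80910) (len := 18) h4495 sl_4495
  have h4497 : ∀ u < 80946, (fun u => chkSlp tab slp u) u = true := ext_range (a := 80928) (len := 18) h4496 sl_4496
  have h4498 : ∀ u < 80964, (fun u => chkSlp tab slp u) u = true := ext_range (a := 80946) (len := 18) h4497 sl_4497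
  have h4499 : ∀ u < 80982, (fun u => chkSlp tab slp u) u = true := ext_range (a := 80964) (len := 18) h4498 sl_4498
  have h4500 : ∀ u < 81000, (fun u => chkSlp tab slp u) u = true := ext_range (a := 80982) (len := 18) h4499 sl_4499
  have h4501 : ∀ u < 81018, (fun u => chkSlp tab slp u) u = true := ext_range (a := 81000) (len := 18) h4500 sl_4500
  have h4502 : ∀ u < 81036, (fun u => chkSlp tab slp u) u = true := ext_range (a := 81018) (len := 18) h4501 sl_4501
  have h4503 : ∀ u < 81054, (fun u => chkSlp tab slp u) u = true := ext_range (a := 81036) (len := 18) h4502 sl_4502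
  have h4504 : ∀ u < 81072, (fun u => chkSlp tab slp u) u = true := ext_range (a := 81054) (len := 18) h4503 sl_4503
  have h4505 : ∀ u < 81090, (fun u => chkSlp tab slp u) u = true := ext_range (a := 81072) (len := 18) h4504 sl_4504
  have h4506 : ∀ u < 81108, (fun u => chkSlp tab slp u) u = true := ext_range (a := 81090) (len := 18) h4505 sl_4505
  have h4507 : ∀ u < 81126, (fun u => chkSlp tab slp u) u = true := ext_range (a := 81108) (len := 18) h4506 sl_4506
  have h4508 : ∀ u < 81144, (fun u => chkSlp tab slp u) u = true := ext_range (a := 81126) (len := 18) h4507 sl_4507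
  have h4509 : ∀ u < 81162, (fun u => chkSlp tab slp u) u = true := ext_range (a := 81144) (len := 18) h4508 sl_4508
  have h4510 : ∀ u < 81180, (fun u => chkSlp tab slp u) u = true := ext_range (a := 81162) (len := 18) h4509 sl_4509
  have h4511 : ∀ u < 81198, (fun u => chkSlp tab slp u) u = true := ext_range (a := 81180) (len := 18) h4510 sl_4510
  have h4512 : ∀ u < 81216, (fun u => chkSlp tab slp u) u = true := ext_range (a := 81198) (len := 18) h4511 sl_4511
  have h4513 : ∀ u < 81234, (fun u => chkSlp tab slp u) u = true := ext_range (a := 81216) (len := 18) h4512 sl_4512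
  have h4514 : ∀ u < 81252, (fun u => chkSlp tab slp u) u = true := ext_range (a := 81234) (len := 18) h4513 sl_4513
  have h4515 : ∀ u < 81270, (fun u => chkSlp tab slp u) u = true := ext_range (a := 81252) (len := 18) h4514 sl_4514
  have h4516 : ∀ u < 81288, (fun u => chkSlp tab slp u) u = true := ext_range (a := 81270) (len := 18) h4515 sl_4515
  have h4517 : ∀ u < 81306, (fun u => chkSlp tab slp u) u = true := ext_range (a := 81288) (len := 18) h4516 sl_4516
  have h4518 : ∀ u < 81324, (fun u => chkSlp tab slp u) u = true := ext_range (a := 81306) (len := 18) h4517 sl_4517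
  have h4519 : ∀ u < 81342, (fun u => chkSlp tab slp u) u = true := ext_range (a := 81324) (len := 18) h4518 sl_4518
  have h4520 : ∀ u < 81360, (fun u => chkSlp tab slp u) u = true := ext_range (a := 81342) (len := 18) h4519 sl_4519
  have h4521 : ∀ u < 81378, (fun u => chkSlp tab slp u) u = true := ext_range (a := 81360) (len := 18) h4520 sl_4520
  have h4522 : ∀ u < 81396, (fun u => chkSlp tab slp u) u = true := ext_range (a := 81378) (len := 18) h4521 sl_4521
  have h4523 : ∀ u < 81414, (fun u => chkSlp tab slp u) u = true := ext_range (a := 81396) (len := 18) h4522 sl_4522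
  have h4524 : ∀ u < 81432, (fun u => chkSlp tab slp u) u = true := ext_range (a := 81414) (len := 18) h4523 sl_4523
  have h4525 : ∀ u < 81450, (fun u => chkSlp tab slp u) u = true := ext_range (a := 81432) (len := 18) h4524 sl_4524
  have h4526 : ∀ u < 81468, (fun u => chkSlp tab slp u) u = true := ext_range (a := 81450) (len := 18) h4525 sl_4525
  have h4527 : ∀ u < 81486, (fun u => chkSlp tab slp u) u = true := ext_range (a := 81468) (len := 18) h4526 sl_4526
  have h4528 : ∀ u < 81504, (fun u => chkSlp tab slp u) u = true := ext_range (a := 81486) (len := 18) h4527 sl_4527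
  have h4529 : ∀ u < 81522, (fun u => chkSlp tab slp u) u = true := ext_range (a := 81504) (len := 18) h4528 sl_4528
  have h4530 : ∀ u < 81540, (fun u => chkSlp tab slp u) u = true := ext_range (a := 81522) (len := 18) h4529 sl_4529
  have h4531 : ∀ u < 81558, (fun u => chkSlp tab slp u) u = true := ext_range (a := 81540) (len := 18) h4530 sl_4530
  have h4532 : ∀ u < 81576, (fun u => chkSlp tab slp u) u = true := ext_range (a := 81558) (len := 18) h4531 sl_4531
  have h4533 : ∀ u < 81594, (fun u => chkSlp tab slp u) u = true := ext_range (a := 81576) (len := 18) h4532 sl_4532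
  have h4534 : ∀ u < 81612, (fun u => chkSlp tab slp u) u = true := ext_range (a := 81594) (len := 18) h4533 sl_4533
  have h4535 : ∀ u < 81630, (fun u => chkSlp tab slp u) u = true := ext_range (a := 81612) (len := 18) h4534 sl_4534
  have h4536 : ∀ u < 81648, (fun u => chkSlp tab slp u) u = true := ext_range (a := 81630) (len := 18) h4535 sl_4535
  have h4537 : ∀ u < 81666, (fun u => chkSlp tab slp u) u = true := ext_range (a := 81648) (len := 18) h4536 sl_4536
  have h4538 : ∀ u < 81684, (fun u => chkSlp tab slp u) u = true := ext_range (a := 81666) (len := 18) h4537 sl_4537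
  have h4539 : ∀ u < 81702, (fun u => chkSlp tab slp u) u = true := ext_range (a := 81684) (len := 18) h4538 sl_4538
  have h4540 : ∀ u < 81720, (fun u => chkSlp tab slp u) u = true := ext_range (a := 81702) (len := 18) h4539 sl_4539
  have h4541 : ∀ u < 81738, (fun u => chkSlp tab slp u) u = true := ext_range (a := 81720) (len := 18) h4540 sl_4540
  have h4542 : ∀ u < 81756, (fun u => chkSlp tab slp u) u = true := ext_range (a := 81738) (len := 18) h4541 sl_4541
  have h4543 : ∀ u < 81774, (fun u => chkSlp tab slp u) u = true := ext_range (a := 81756) (len := 18) h4542 sl_4542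
  have h4544 : ∀ u < 81792, (fun u => chkSlp tab slp u) u = true := ext_range (a := 81774) (len := 18) h4543 sl_4543
  have h4545 : ∀ u < 81810, (fun u => chkSlp tab slp u) u = true := ext_range (a := 81792) (len := 18) h4544 sl_4544
  have h4546 : ∀ u < 81828, (fun u => chkSlp tab slp u) u = true := ext_range (a := 81810) (len := 18) h4545 sl_4545
  have h4547 : ∀ u < 81846, (fun u => chkSlp tab slp u) u = true := ext_range (a := 81828) (len := 18) h4546 sl_4546
  have h4548 : ∀ u < 81864, (fun u => chkSlp tab slp u) u = true := ext_range (a := 81846) (len := 18) h4547 sl_4547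
  have h4549 : ∀ u < 81882, (fun u => chkSlp tab slp u) u = true := ext_range (a := 81864) (len := 18) h4548 sl_4548
  have h4550 : ∀ u < 81900, (fun u => chkSlp tab slp u) u = true := ext_range (a := 81882) (len := 18) h4549 sl_4549
  have h4551 : ∀ u < 81918, (fun u => chkSlp tab slp u) u = true := ext_range (a := 81900) (len := 18) h4550 sl_4550
  have h4552 : ∀ u < 81936, (fun u => chkSlp tab slp u) u = true := ext_range (a := 81918) (len := 18) h4551 sl_4551
  have h4553 : ∀ u < 81954, (fun u => chkSlp tab slp u) u = true := ext_range (a := 81936) (len := 18) h4552 sl_4552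
  have h4554 : ∀ u < 81972, (fun u => chkSlp tab slp u) u = true := ext_range (a := 81954) (len := 18) h4553 sl_4553
  have h4555 : ∀ u < 81990, (fun u => chkSlp tab slp u) u = true := ext_range (a := 81972) (len := 18) h4554 sl_4554
  have h4556 : ∀ u < 82008, (fun u => chkSlp tab slp u) u = true := ext_range (a := 81990) (len := 18) h4555 sl_4555
  have h4557 : ∀ u < 82026, (fun u => chkSlp tab slp u) u = true := ext_range (a := 82008) (len := 18) h4556 sl_4556
  have h4558 : ∀ u < 82044, (fun u => chkSlp tab slp u) u = true := ext_range (a := 82026) (len := 18) h4557 sl_4557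
  have h4559 : ∀ u < 82062, (fun u => chkSlp tab slp u) u = true := ext_range (a := 82044) (len := 18) h4558 sl_4558
  have h4560 : ∀ u < 82080, (fun u => chkSlp tab slp u) u = true := ext_range (a := 82062) (len := 18) h4559 sl_4559
  have h4561 : ∀ u < 82098, (fun u => chkSlp tab slp u) u = true := ext_range (a := 82080) (len := 18) h4560 sl_4560
  have h4562 : ∀ u < 82116, (fun u => chkSlp tab slp u) u = true := ext_range (a := 82098) (len := 18) h4561 sl_4561
  have h4563 : ∀ u < 82134, (fun u => chkSlp tab slp u) u = true := ext_range (a := 82116) (len := 18) h4562 sl_4562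
  have h4564 : ∀ u < 82152, (fun u => chkSlp tab slp u) u = true := ext_range (a := 82134) (len := 18) h4563 sl_4563
  have h4565 : ∀ u < 82170, (fun u => chkSlp tab slp u) u = true := ext_range (a := 82152) (len := 18) h4564 sl_4564
  have h4566 : ∀ u < 82188, (fun u => chkSlp tab slp u) u = true := ext_range (a := 82170) (len := 18) h4565 sl_4565
  have h4567 : ∀ u < 82206, (fun u => chkSlp tab slp u) u = true := ext_range (a := 82188) (len := 18) h4566 sl_4566
  have h4568 : ∀ u < 82224, (fun u => chkSlp tab slp u) u = true := ext_range (a := 82206) (len := 18) h4567 sl_4567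
  have h4569 : ∀ u < 82242, (fun u => chkSlp tab slp u) u = true := ext_range (a := 82224) (len := 18) h4568 sl_4568
  have h4570 : ∀ u < 82260, (fun u => chkSlp tab slp u) u = true := ext_range (a := 82242) (len := 18) h4569 sl_4569
  have h4571 : ∀ u < 82278, (fun u => chkSlp tab slp u) u = true := ext_range (a := 82260) (len := 18) h4570 sl_4570
  have h4572 : ∀ u < 82296, (fun u => chkSlp tab slp u) u = true := ext_range (a := 82278) (len := 18) h4571 sl_4571
  have h4573 : ∀ u < 82314, (fun u => chkSlp tab slp u) u = true := ext_range (a := 82296) (len := 18) h4572 sl_4572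
  have h4574 : ∀ u < 82332, (fun u => chkSlp tab slp u) u = true := ext_range (a := 82314) (len := 18) h4573 sl_4573
  have h4575 : ∀ u < 82350, (fun u => chkSlp tab slp u) u = true := ext_range (a := 82332) (len := 18) h4574 sl_4574
  have h4576 : ∀ u < 82368, (fun u => chkSlp tab slp u) u = true := ext_range (a := 82350) (len := 18) h4575 sl_4575
  have h4577 : ∀ u < 82386, (fun u => chkSlp tab slp u) u = true := ext_range (a := 82368) (len := 18) h4576 sl_4576
  have h4578 : ∀ u < 82404, (fun u => chkSlp tab slp u) u = true := ext_range (a := 82386) (len := 18) h4577 sl_4577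
  have h4579 : ∀ u < 82422, (fun u => chkSlp tab slp u) u = true := ext_range (a := 82404) (len := 18) h4578 sl_4578
  have h4580 : ∀ u < 82440, (fun u => chkSlp tab slp u) u = true := ext_range (a := 82422) (len := 18) h4579 sl_4579
  have h4581 : ∀ u < 82458, (fun u => chkSlp tab slp u) u = true := ext_range (a := 82440) (len := 18) h4580 sl_4580
  have h4582 : ∀ u < 82476, (fun u => chkSlp tab slp u) u = true := ext_range (a := 82458) (len := 18) h4581 sl_4581
  have h4583 : ∀ u < 82494, (fun u => chkSlp tab slp u) u = true := ext_range (a := 82476) (len := 18) h4582 sl_4582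
  have h4584 : ∀ u < 82512, (fun u => chkSlp tab slp u) u = true := ext_range (a := 82494) (len := 18) h4583 sl_4583
  have h4585 : ∀ u < 82530, (fun u => chkSlp tab slp u) u = true := ext_range (a := 82512) (len := 18) h4584 sl_4584
  have h4586 : ∀ u < 82548, (fun u => chkSlp tab slp u) u = true := ext_range (a := 82530) (len := 18) h4585 sl_4585
  have h4587 : ∀ u < 82566, (fun u => chkSlp tab slp u) u = true := ext_range (a := 82548) (len := 18) h4586 sl_4586
  have h4588 : ∀ u < 82584, (fun u => chkSlp tab slp u) u = true := ext_range (a := 82566) (len := 18) h4587 sl_4587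
  have h4589 : ∀ u < 82602, (fun u => chkSlp tab slp u) u = true := ext_range (a := 82584) (len := 18) h4588 sl_4588
  have h4590 : ∀ u < 82620, (fun u => chkSlp tab slp u) u = true := ext_range (a := 82602) (len := 18) h4589 sl_4589
  have h4591 : ∀ u < 82638, (fun u => chkSlp tab slp u) u = true := ext_range (a := 82620) (len := 18) h4590 sl_4590
  have h4592 : ∀ u < 82656, (fun u => chkSlp tab slp u) u = true := ext_range (a := 82638) (len := 18) h4591 sl_4591
  have h4593 : ∀ u < 82674, (fun u => chkSlp tab slp u) u = true := ext_range (a := 82656) (len := 18) h4592 sl_4592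
  have h4594 : ∀ u < 82692, (fun u => chkSlp tab slp u) u = true := ext_range (a := 82674) (len := 18) h4593 sl_4593
  have h4595 : ∀ u < 82710, (fun u => chkSlp tab slp u) u = true := ext_range (a := 82692) (len := 18) h4594 sl_4594
  have h4596 : ∀ u < 82728, (fun u => chkSlp tab slp u) u = true := ext_range (a := 82710) (len := 18) h4595 sl_4595
  have h4597 : ∀ u < 82746, (fun u => chkSlp tab slp u) u = true := ext_range (a := 82728) (len := 18) h4596 sl_4596
  have h4598 : ∀ u < 82764, (fun u => chkSlp tab slp u) u = true := ext_range (a := 82746) (len := 18) h4597 sl_4597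
  have h4599 : ∀ u < 82782, (fun u => chkSlp tab slp u) u = true := ext_range (a := 82764) (len := 18) h4598 sl_4598
  have h4600 : ∀ u < 82800, (fun u => chkSlp tab slp u) u = true := ext_range (a := 82782) (len := 18) h4599 sl_4599
  have h4601 : ∀ u < 82818, (fun u => chkSlp tab slp u) u = true := ext_range (a := 82800) (len := 18) h4600 sl_4600
  have h4602 : ∀ u < 82836, (fun u => chkSlp tab slp u) u = true := ext_range (a := 82818) (len := 18) h4601 sl_4601
  have h4603 : ∀ u < 82854, (fun u => chkSlp tab slp u) u = true := ext_range (a := 82836) (len := 18) h4602 sl_4602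
  have h4604 : ∀ u < 82872, (fun u => chkSlp tab slp u) u = true := ext_range (a := 82854) (len := 18) h4603 sl_4603
  have h4605 : ∀ u < 82890, (fun u => chkSlp tab slp u) u = true := ext_range (a := 82872) (len := 18) h4604 sl_4604
  have h4606 : ∀ u < 82908, (fun u => chkSlp tab slp u) u = true := ext_range (a := 82890) (len := 18) h4605 sl_4605
  have h4607 : ∀ u < 82926, (fun u => chkSlp tab slp u) u = true := ext_range (a := 82908) (len := 18) h4606 sl_4606
  have h4608 : ∀ u < 82944, (fun u => chkSlp tab slp u) u = true := ext_range (a := 82926) (len := 18) h4607 sl_4607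
  have h4609 : ∀ u < 82962, (fun u => chkSlp tab slp u) u = true := ext_range (a := 82944) (len := 18) h4608 sl_4608
  have h4610 : ∀ u < 82980, (fun u => chkSlp tab slp u) u = true := ext_range (a := 82962) (len := 18) h4609 sl_4609
  have h4611 : ∀ u < 82998, (fun u => chkSlp tab slp u) u = true := ext_range (a := 82980) (len := 18) h4610 sl_4610
  have h4612 : ∀ u < 83016, (fun u => chkSlp tab slp u) u = true := ext_range (a := 82998) (len := 18) h4611 sl_4611
  have h4613 : ∀ u < 83034, (fun u => chkSlp tab slp u) u = true := ext_range (a := 83016) (len := 18) h4612 sl_4612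
  have h4614 : ∀ u < 83052, (fun u => chkSlp tab slp u) u = true := ext_range (a := 83034) (len := 18) h4613 sl_4613
  have h4615 : ∀ u < 83070, (fun u => chkSlp tab slp u) u = true := ext_range (a := 83052) (len := 18) h4614 sl_4614
  have h4616 : ∀ u < 83088, (fun u => chkSlp tab slp u) u = true := ext_range (a := 83070) (len := 18) h4615 sl_4615
  have h4617 : ∀ u < 83106, (fun u => chkSlp tab slp u) u = true := ext_range (a := 83088) (len := 18) h4616 sl_4616
  have h4618 : ∀ u < 83124, (fun u => chkSlp tab slp u) u = true := ext_range (a := 83106) (len := 18) h4617 sl_4617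
  have h4619 : ∀ u < 83142, (fun u => chkSlp tab slp u) u = true := ext_range (a := 83124) (len := 18) h4618 sl_4618
  have h4620 : ∀ u < 83160, (fun u => chkSlp tab slp u) u = true := ext_range (a := 83142) (len := 18) h4619 sl_4619
  have h4621 : ∀ u < 83178, (fun u => chkSlp tab slp u) u = true := ext_range (a := 83160) (len := 18) h4620 sl_4620
  have h4622 : ∀ u < 83196, (fun u => chkSlp tab slp u) u = true := ext_range (a := 83178) (len := 18) h4621 sl_4621
  have h4623 : ∀ u < 83214, (fun u => chkSlp tab slp u) u = true := ext_range (a := 83196) (len := 18) h4622 sl_4622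
  have h4624 : ∀ u < 83232, (fun u => chkSlp tab slp u) u = true := ext_range (a := 83214) (len := 18) h4623 sl_4623
  have h4625 : ∀ u < 83250, (fun u => chkSlp tab slp u) u = true := ext_range (a := 83232) (len := 18) h4624 sl_4624
  have h4626 : ∀ u < 83268, (fun u => chkSlp tab slp u) u = true := ext_range (a := 83250) (len := 18) h4625 sl_4625
  have h4627 : ∀ u < 83286, (fun u => chkSlp tab slp u) u = true := ext_range (a := 83268) (len := 18) h4626 sl_4626
  have h4628 : ∀ u < 83304, (fun u => chkSlp tab slp u) u = true := ext_range (a := 83286) (len := 18) h4627 sl_4627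
  have h4629 : ∀ u < 83322, (fun u => chkSlp tab slp u) u = true := ext_range (a := 83304) (len := 18) h4628 sl_4628
  have h4630 : ∀ u < 83340, (fun u => chkSlp tab slp u) u = true := ext_range (a := 83322) (len := 18) h4629 sl_4629
  have h4631 : ∀ u < 83358, (fun u => chkSlp tab slp u) u = true := ext_range (a := 83340) (len := 18) h4630 sl_4630
  have h4632 : ∀ u < 83376, (fun u => chkSlp tab slp u) u = true := ext_range (a := 83358) (len := 18) h4631 sl_4631
  have h4633 : ∀ u < 83394, (fun u => chkSlp tab slp u) u = true := ext_range (a := 83376) (len := 18) h4632 sl_4632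
  have h4634 : ∀ u < 83412, (fun u => chkSlp tab slp u) u = true := ext_range (a := 83394) (len := 18) h4633 sl_4633
  have h4635 : ∀ u < 83430, (fun u => chkSlp tab slp u) u = true := ext_range (a := 83412) (len := 18) h4634 sl_4634
  have h4636 : ∀ u < 83448, (fun u => chkSlp tab slp u) u = true := ext_range (a := 83430) (len := 18) h4635 sl_4635
  have h4637 : ∀ u < 83466, (fun u => chkSlp tab slp u) u = true := ext_range (a := 83448) (len := 18) h4636 sl_4636
  have h4638 : ∀ u < 83484, (fun u => chkSlp tab slp u) u = true := ext_range (a := 83466) (len := 18) h4637 sl_4637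
  have h4639 : ∀ u < 83502, (fun u => chkSlp tab slp u) u = true := ext_range (a := 83484) (len := 18) h4638 sl_4638
  have h4640 : ∀ u < 83520, (fun u => chkSlp tab slp u) u = true := ext_range (a := 83502) (len := 18) h4639 sl_4639
  have h4641 : ∀ u < 83538, (fun u => chkSlp tab slp u) u = true := ext_range (a := 83520) (len := 18) h4640 sl_4640
  have h4642 : ∀ u < 83556, (fun u => chkSlp tab slp u) u = true := ext_range (a := 83538) (len := 18) h4641 sl_4641
  have h4643 : ∀ u < 83574, (fun u => chkSlp tab slp u) u = true := ext_range (a := 83556) (len := 18) h4642 sl_4642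
  have h4644 : ∀ u < 83592, (fun u => chkSlp tab slp u) u = true := ext_range (a := 83574) (len := 18) h4643 sl_4643
  have h4645 : ∀ u < 83610, (fun u => chkSlp tab slp u) u = true := ext_range (a := 83592) (len := 18) h4644 sl_4644
  have h4646 : ∀ u < 83628, (fun u => chkSlp tab slp u) u = true := ext_range (a := 83610) (len := 18) h4645 sl_4645
  have h4647 : ∀ u < 83646, (fun u => chkSlp tab slp u) u = true := ext_range (a := 83628) (len := 18) h4646 sl_4646
  have h4648 : ∀ u < 83664, (fun u => chkSlp tab slp u) u = true := ext_range (a := 83646) (len := 18) h4647 sl_4647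
  have h4649 : ∀ u < 83682, (fun u => chkSlp tab slp u) u = true := ext_range (a := 83664) (len := 18) h4648 sl_4648
  have h4650 : ∀ u < 83700, (fun u => chkSlp tab slp u) u = true := ext_range (a := 83682) (len := 18) h4649 sl_4649
  have h4651 : ∀ u < 83718, (fun u => chkSlp tab slp u) u = true := ext_range (a := 83700) (len := 18) h4650 sl_4650
  have h4652 : ∀ u < 83736, (fun u => chkSlp tab slp u) u = true := ext_range (a := 83718) (len := 18) h4651 sl_4651
  have h4653 : ∀ u < 83754, (fun u => chkSlp tab slp u) u = true := ext_range (a := 83736) (len := 18) h4652 sl_4652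
  have h4654 : ∀ u < 83772, (fun u => chkSlp tab slp u) u = true := ext_range (a := 83754) (len := 18) h4653 sl_4653
  have h4655 : ∀ u < 83790, (fun u => chkSlp tab slp u) u = true := ext_range (a := 83772) (len := 18) h4654 sl_4654
  have h4656 : ∀ u < 83808, (fun u => chkSlp tab slp u) u = true := ext_range (a := 83790) (len := 18) h4655 sl_4655
  have h4657 : ∀ u < 83826, (fun u => chkSlp tab slp u) u = true := ext_range (a := 83808) (len := 18) h4656 sl_4656
  have h4658 : ∀ u < 83844, (fun u => chkSlp tab slp u) u = true := ext_range (a := 83826) (len := 18) h4657 sl_4657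
  have h4659 : ∀ u < 83862, (fun u => chkSlp tab slp u) u = true := ext_range (a := 83844) (len := 18) h4658 sl_4658
  have h4660 : ∀ u < 83880, (fun u => chkSlp tab slp u) u = true := ext_range (a := 83862) (len := 18) h4659 sl_4659
  have h4661 : ∀ u < 83898, (fun u => chkSlp tab slp u) u = true := ext_range (a := 83880) (len := 18) h4660 sl_4660
  have h4662 : ∀ u < 83916, (fun u => chkSlp tab slp u) u = true := ext_range (a := 83898) (len := 18) h4661 sl_4661
  have h4663 : ∀ u < 83934, (fun u => chkSlp tab slp u) u = true := ext_range (a := 83916) (len := 18) h4662 sl_4662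
  have h4664 : ∀ u < 83952, (fun u => chkSlp tab slp u) u = true := ext_range (a := 83934) (len := 18) h4663 sl_4663
  have h4665 : ∀ u < 83970, (fun u => chkSlp tab slp u) u = true := ext_range (a := 83952) (len := 18) h4664 sl_4664
  have h4666 : ∀ u < 83988, (fun u => chkSlp tab slp u) u = true := ext_range (a := 83970) (len := 18) h4665 sl_4665
  have h4667 : ∀ u < 84006, (fun u => chkSlp tab slp u) u = true := ext_range (a := 83988) (len := 18) h4666 sl_4666
  have h4668 : ∀ u < 84024, (fun u => chkSlp tab slp u) u = true := ext_range (a := 84006) (len := 18) h4667 sl_4667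
  have h4669 : ∀ u < 84042, (fun u => chkSlp tab slp u) u = true := ext_range (a := 84024) (len := 18) h4668 sl_4668
  have h4670 : ∀ u < 84060, (fun u => chkSlp tab slp u) u = true := ext_range (a := 84042) (len := 18) h4669 sl_4669
  have h4671 : ∀ u < 84078, (fun u => chkSlp tab slp u) u = true := ext_range (a := 84060) (len := 18) h4670 sl_4670
  have h4672 : ∀ u < 84096, (fun u => chkSlp tab slp u) u = true := ext_range (a := 84078) (len := 18) h4671 sl_4671
  have h4673 : ∀ u < 84114, (fun u => chkSlp tab slp u) u = true := ext_range (a := 84096) (len := 18) h4672 sl_4672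
  have h4674 : ∀ u < 84132, (fun u => chkSlp tab slp u) u = true := ext_range (a := 84114) (len := 18) h4673 sl_4673
  have h4675 : ∀ u < 84150, (fun u => chkSlp tab slp u) u = true := ext_range (a := 84132) (len := 18) h4674 sl_4674
  have h4676 : ∀ u < 84168, (fun u => chkSlp tab slp u) u = true := ext_range (a := 84150) (len := 18) h4675 sl_4675
  have h4677 : ∀ u < 84186, (fun u => chkSlp tab slp u) u = true := ext_range (a := 84168) (len := 18) h4676 sl_4676
  have h4678 : ∀ u < 84204, (fun u => chkSlp tab slp u) u = true := ext_range (a := 84186) (len := 18) h4677 sl_4677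
  have h4679 : ∀ u < 84222, (fun u => chkSlp tab slp u) u = true := ext_range (a := 84204) (len := 18) h4678 sl_4678
  have h4680 : ∀ u < 84240, (fun u => chkSlp tab slp u) u = true := ext_range (a := 84222) (len := 18) h4679 sl_4679
  have h4681 : ∀ u < 84258, (fun u => chkSlp tab slp u) u = true := ext_range (a := 84240) (len := 18) h4680 sl_4680
  have h4682 : ∀ u < 84276, (fun u => chkSlp tab slp u) u = true := ext_range (a := 84258) (len := 18) h4681 sl_4681
  have h4683 : ∀ u < 84294, (fun u => chkSlp tab slp u) u = true := ext_range (a := 84276) (len := 18) h4682 sl_4682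
  have h4684 : ∀ u < 84312, (fun u => chkSlp tab slp u) u = true := ext_range (a := 84294) (len := 18) h4683 sl_4683
  have h4685 : ∀ u < 84330, (fun u => chkSlp tab slp u) u = true := ext_range (a := 84312) (len := 18) h4684 sl_4684
  have h4686 : ∀ u < 84348, (fun u => chkSlp tab slp u) u = true := ext_range (a := 84330) (len := 18) h4685 sl_4685
  have h4687 : ∀ u < 84366, (fun u => chkSlp tab slp u) u = true := ext_range (a := 84348) (len := 18) h4686 sl_4686
  have h4688 : ∀ u < 84384, (fun u => chkSlp tab slp u) u = true := ext_range (a := 84366) (len := 18) h4687 sl_4687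
  have h4689 : ∀ u < 84402, (fun u => chkSlp tab slp u) u = true := ext_range (a := 84384) (len := 18) h4688 sl_4688
  have h4690 : ∀ u < 84420, (fun u => chkSlp tab slp u) u = true := ext_range (a := 84402) (len := 18) h4689 sl_4689
  have h4691 : ∀ u < 84438, (fun u => chkSlp tab slp u) u = true := ext_range (a := 84420) (len := 18) h4690 sl_4690
  have h4692 : ∀ u < 84456, (fun u => chkSlp tab slp u) u = true := ext_range (a := 84438) (len := 18) h4691 sl_4691
  have h4693 : ∀ u < 84474, (fun u => chkSlp tab slp u) u = true := ext_range (a := 84456) (len := 18) h4692 sl_4692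
  have h4694 : ∀ u < 84492, (fun u => chkSlp tab slp u) u = true := ext_range (a := 84474) (len := 18) h4693 sl_4693
  have h4695 : ∀ u < 84510, (fun u => chkSlp tab slp u) u = true := ext_range (a := 84492) (len := 18) h4694 sl_4694
  have h4696 : ∀ u < 84528, (fun u => chkSlp tab slp u) u = true := ext_range (a := 84510) (len := 18) h4695 sl_4695
  have h4697 : ∀ u < 84546, (fun u => chkSlp tab slp u) u = true := ext_range (a := 84528) (len := 18) h4696 sl_4696
  have h4698 : ∀ u < 84564, (fun u => chkSlp tab slp u) u = true := ext_range (a := 84546) (len := 18) h4697 sl_4697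
  have h4699 : ∀ u < 84582, (fun u => chkSlp tab slp u) u = true := ext_range (a := 84564) (len := 18) h4698 sl_4698
  have h4700 : ∀ u < 84600, (fun u => chkSlp tab slp u) u = true := ext_range (a := 84582) (len := 18) h4699 sl_4699
  have h4701 : ∀ u < 84618, (fun u => chkSlp tab slp u) u = true := ext_range (a := 84600) (len := 18) h4700 sl_4700
  have h4702 : ∀ u < 84636, (fun u => chkSlp tab slp u) u = true := ext_range (a := 84618) (len := 18) h4701 sl_4701
  have h4703 : ∀ u < 84654, (fun u => chkSlp tab slp u) u = true := ext_range (a := 84636) (len := 18) h4702 sl_4702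
  have h4704 : ∀ u < 84672, (fun u => chkSlp tab slp u) u = true := ext_range (a := 84654) (len := 18) h4703 sl_4703
  have h4705 : ∀ u < 84690, (fun u => chkSlp tab slp u) u = true := ext_range (a := 84672) (len := 18) h4704 sl_4704
  have h4706 : ∀ u < 84708, (fun u => chkSlp tab slp u) u = true := ext_range (a := 84690) (len := 18) h4705 sl_4705
  have h4707 : ∀ u < 84726, (fun u => chkSlp tab slp u) u = true := ext_range (a := 84708) (len := 18) h4706 sl_4706
  have h4708 : ∀ u < 84744, (fun u => chkSlp tab slp u) u = true := ext_range (a := 84726) (len := 18) h4707 sl_4707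
  have h4709 : ∀ u < 84762, (fun u => chkSlp tab slp u) u = true := ext_range (a := 84744) (len := 18) h4708 sl_4708
  have h4710 : ∀ u < 84780, (fun u => chkSlp tab slp u) u = true := ext_range (a := 84762) (len := 18) h4709 sl_4709
  have h4711 : ∀ u < 84798, (fun u => chkSlp tab slp u) u = true := ext_range (a := 84780) (len := 18) h4710 sl_4710
  have h4712 : ∀ u < 84816, (fun u => chkSlp tab slp u) u = true := ext_range (a := 84798) (len := 18) h4711 sl_4711
  have h4713 : ∀ u < 84834, (fun u => chkSlp tab slp u) u = true := ext_range (a := 84816) (len := 18) h4712 sl_4712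
  have h4714 : ∀ u < 84852, (fun u => chkSlp tab slp u) u = true := ext_range (a := 84834) (len := 18) h4713 sl_4713
  have h4715 : ∀ u < 84870, (fun u => chkSlp tab slp u) u = true := ext_range (a := 84852) (len := 18) h4714 sl_4714
  have h4716 : ∀ u < 84888, (fun u => chkSlp tab slp u) u = true := ext_range (a := 84870) (len := 18) h4715 sl_4715
  have h4717 : ∀ u < 84906, (fun u => chkSlp tab slp u) u = true := ext_range (a := 84888) (len := 18) h4716 sl_4716
  have h4718 : ∀ u < 84924, (fun u => chkSlp tab slp u) u = true := ext_range (a := 84906) (len := 18) h4717 sl_4717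
  have h4719 : ∀ u < 84942, (fun u => chkSlp tab slp u) u = true := ext_range (a := 84924) (len := 18) h4718 sl_4718
  have h4720 : ∀ u < 84960, (fun u => chkSlp tab slp u) u = true := ext_range (a := 84942) (len := 18) h4719 sl_4719
  have h4721 : ∀ u < 84978, (fun u => chkSlp tab slp u) u = true := ext_range (a := 84960) (len := 18) h4720 sl_4720
  have h4722 : ∀ u < 84996, (fun u => chkSlp tab slp u) u = true := ext_range (a := 84978) (len := 18) h4721 sl_4721
  have h4723 : ∀ u < 85014, (fun u => chkSlp tab slp u) u = true := ext_range (a := 84996) (len := 18) h4722 sl_4722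
  have h4724 : ∀ u < 85032, (fun u => chkSlp tab slp u) u = true := ext_range (a := 85014) (len := 18) h4723 sl_4723
  have h4725 : ∀ u < 85050, (fun u => chkSlp tab slp u) u = true := ext_range (a := 85032) (len := 18) h4724 sl_4724
  have h4726 : ∀ u < 85068, (fun u => chkSlp tab slp u) u = true := ext_range (a := 85050) (len := 18) h4725 sl_4725
  have h4727 : ∀ u < 85086, (fun u => chkSlp tab slp u) u = true := ext_range (a := 85068) (len := 18) h4726 sl_4726
  have h4728 : ∀ u < 85104, (fun u => chkSlp tab slp u) u = true := ext_range (a := 85086) (len := 18) h4727 sl_4727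
  have h4729 : ∀ u < 85122, (fun u => chkSlp tab slp u) u = true := ext_range (a := 85104) (len := 18) h4728 sl_4728
  have h4730 : ∀ u < 85140, (fun u => chkSlp tab slp u) u = true := ext_range (a := 85122) (len := 18) h4729 sl_4729
  have h4731 : ∀ u < 85158, (fun u => chkSlp tab slp u) u = true := ext_range (a := 85140) (len := 18) h4730 sl_4730
  have h4732 : ∀ u < 85176, (fun u => chkSlp tab slp u) u = true := ext_range (a := 85158) (len := 18) h4731 sl_4731
  have h4733 : ∀ u < 85194, (fun u => chkSlp tab slp u) u = true := ext_range (a := 85176) (len := 18) h4732 sl_4732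
  have h4734 : ∀ u < 85212, (fun u => chkSlp tab slp u) u = true := ext_range (a := 85194) (len := 18) h4733 sl_4733
  have h4735 : ∀ u < 85230, (fun u => chkSlp tab slp u) u = true := ext_range (a := 85212) (len := 18) h4734 sl_4734
  have h4736 : ∀ u < 85248, (fun u => chkSlp tab slp u) u = true := ext_range (a := 85230) (len := 18) h4735 sl_4735
  have h4737 : ∀ u < 85266, (fun u => chkSlp tab slp u) u = true := ext_range (a := 85248) (len := 18) h4736 sl_4736
  have h4738 : ∀ u < 85284, (fun u => chkSlp tab slp u) u = true := ext_range (a := 85266) (len := 18) h4737 sl_4737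
  have h4739 : ∀ u < 85302, (fun u => chkSlp tab slp u) u = true := ext_range (a := 85284) (len := 18) h4738 sl_4738
  have h4740 : ∀ u < 85320, (fun u => chkSlp tab slp u) u = true := ext_range (a := 85302) (len := 18) h4739 sl_4739
  have h4741 : ∀ u < 85338, (fun u => chkSlp tab slp u) u = true := ext_range (a := 85320) (len := 18) h4740 sl_4740
  have h4742 : ∀ u < 85356, (fun u => chkSlp tab slp u) u = true := ext_range (a := 85338) (len := 18) h4741 sl_4741
  have h4743 : ∀ u < 85374, (fun u => chkSlp tab slp u) u = true := ext_range (a := 85356) (len := 18) h4742 sl_4742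
  have h4744 : ∀ u < 85392, (fun u => chkSlp tab slp u) u = true := ext_range (a := 85374) (len := 18) h4743 sl_4743
  have h4745 : ∀ u < 85410, (fun u => chkSlp tab slp u) u = true := ext_range (a := 85392) (len := 18) h4744 sl_4744
  have h4746 : ∀ u < 85428, (fun u => chkSlp tab slp u) u = true := ext_range (a := 85410) (len := 18) h4745 sl_4745
  have h4747 : ∀ u < 85446, (fun u => chkSlp tab slp u) u = true := ext_range (a := 85428) (len := 18) h4746 sl_4746
  have h4748 : ∀ u < 85464, (fun u => chkSlp tab slp u) u = true := ext_range (a := 85446) (len := 18) h4747 sl_4747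
  have h4749 : ∀ u < 85482, (fun u => chkSlp tab slp u) u = true := ext_range (a := 85464) (len := 18) h4748 sl_4748
  have h4750 : ∀ u < 85500, (fun u => chkSlp tab slp u) u = true := ext_range (a := 85482) (len := 18) h4749 sl_4749
  have h4751 : ∀ u < 85518, (fun u => chkSlp tab slp u) u = true := ext_range (a := 85500) (len := 18) h4750 sl_4750
  have h4752 : ∀ u < 85536, (fun u => chkSlp tab slp u) u = true := ext_range (a := 85518) (len := 18) h4751 sl_4751
  have h4753 : ∀ u < 85554, (fun u => chkSlp tab slp u) u = true := ext_range (a := 85536) (len := 18) h4752 sl_4752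
  have h4754 : ∀ u < 85572, (fun u => chkSlp tab slp u) u = true := ext_range (a := 85554) (len := 18) h4753 sl_4753
  have h4755 : ∀ u < 85590, (fun u => chkSlp tab slp u) u = true := ext_range (a := 85572) (len := 18) h4754 sl_4754
  have h4756 : ∀ u < 85608, (fun u => chkSlp tab slp u) u = true := ext_range (a := 85590) (len := 18) h4755 sl_4755
  have h4757 : ∀ u < 85626, (fun u => chkSlp tab slp u) u = true := ext_range (a := 85608) (len := 18) h4756 sl_4756
  have h4758 : ∀ u < 85644, (fun u => chkSlp tab slp u) u = true := ext_range (a := 85626) (len := 18) h4757 sl_4757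
  have h4759 : ∀ u < 85662, (fun u => chkSlp tab slp u) u = true := ext_range (a := 85644) (len := 18) h4758 sl_4758
  have h4760 : ∀ u < 85680, (fun u => chkSlp tab slp u) u = true := ext_range (a := 85662) (len := 18) h4759 sl_4759
  have h4761 : ∀ u < 85698, (fun u => chkSlp tab slp u) u = true := ext_range (a := 85680) (len := 18) h4760 sl_4760
  have h4762 : ∀ u < 85716, (fun u => chkSlp tab slp u) u = true := ext_range (a := 85698) (len := 18) h4761 sl_4761
  have h4763 : ∀ u < 85734, (fun u => chkSlp tab slp u) u = true := ext_range (a := 85716) (len := 18) h4762 sl_4762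
  have h4764 : ∀ u < 85752, (fun u => chkSlp tab slp u) u = true := ext_range (a := 85734) (len := 18) h4763 sl_4763
  have h4765 : ∀ u < 85770, (fun u => chkSlp tab slp u) u = true := ext_range (a := 85752) (len := 18) h4764 sl_4764
  have h4766 : ∀ u < 85788, (fun u => chkSlp tab slp u) u = true := ext_range (a := 85770) (len := 18) h4765 sl_4765
  have h4767 : ∀ u < 85806, (fun u => chkSlp tab slp u) u = true := ext_range (a := 85788) (len := 18) h4766 sl_4766
  have h4768 : ∀ u < 85824, (fun u => chkSlp tab slp u) u = true := ext_range (a := 85806) (len := 18) h4767 sl_4767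
  have h4769 : ∀ u < 85842, (fun u => chkSlp tab slp u) u = true := ext_range (a := 85824) (len := 18) h4768 sl_4768
  have h4770 : ∀ u < 85860, (fun u => chkSlp tab slp u) u = true := ext_range (a := 85842) (len := 18) h4769 sl_4769
  have h4771 : ∀ u < 85878, (fun u => chkSlp tab slp u) u = true := ext_range (a := 85860) (len := 18) h4770 sl_4770
  have h4772 : ∀ u < 85896, (fun u => chkSlp tab slp u) u = true := ext_range (a := 85878) (len := 18) h4771 sl_4771
  have h4773 : ∀ u < 85914, (fun u => chkSlp tab slp u) u = true := ext_range (a := 85896) (len := 18) h4772 sl_4772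
  have h4774 : ∀ u < 85932, (fun u => chkSlp tab slp u) u = true := ext_range (a := 85914) (len := 18) h4773 sl_4773
  have h4775 : ∀ u < 85950, (fun u => chkSlp tab slp u) u = true := ext_range (a := 85932) (len := 18) h4774 sl_4774
  have h4776 : ∀ u < 85968, (fun u => chkSlp tab slp u) u = true := ext_range (a := 85950) (len := 18) h4775 sl_4775
  have h4777 : ∀ u < 85986, (fun u => chkSlp tab slp u) u = true := ext_range (a := 85968) (len := 18) h4776 sl_4776
  have h4778 : ∀ u < 86004, (fun u => chkSlp tab slp u) u = true := ext_range (a := 85986) (len := 18) h4777 sl_4777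
  have h4779 : ∀ u < 86022, (fun u => chkSlp tab slp u) u = true := ext_range (a := 86004) (len := 18) h4778 sl_4778
  have h4780 : ∀ u < 86040, (fun u => chkSlp tab slp u) u = true := ext_range (a := 86022) (len := 18) h4779 sl_4779
  have h4781 : ∀ u < 86058, (fun u => chkSlp tab slp u) u = true := ext_range (a := 86040) (len := 18) h4780 sl_4780
  have h4782 : ∀ u < 86076, (fun u => chkSlp tab slp u) u = true := ext_range (a := 86058) (len := 18) h4781 sl_4781
  have h4783 : ∀ u < 86094, (fun u => chkSlp tab slp u) u = true := ext_range (a := 86076) (len := 18) h4782 sl_4782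
  have h4784 : ∀ u < 86112, (fun u => chkSlp tab slp u) u = true := ext_range (a := 86094) (len := 18) h4783 sl_4783
  have h4785 : ∀ u < 86130, (fun u => chkSlp tab slp u) u = true := ext_range (a := 86112) (len := 18) h4784 sl_4784
  have h4786 : ∀ u < 86148, (fun u => chkSlp tab slp u) u = true := ext_range (a := 86130) (len := 18) h4785 sl_4785
  have h4787 : ∀ u < 86166, (fun u => chkSlp tab slp u) u = true := ext_range (a := 86148) (len := 18) h4786 sl_4786
  have h4788 : ∀ u < 86184, (fun u => chkSlp tab slp u) u = true := ext_range (a := 86166) (len := 18) h4787 sl_4787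
  have h4789 : ∀ u < 86202, (fun u => chkSlp tab slp u) u = true := ext_range (a := 86184) (len := 18) h4788 sl_4788
  have h4790 : ∀ u < 86220, (fun u => chkSlp tab slp u) u = true := ext_range (a := 86202) (len := 18) h4789 sl_4789
  have h4791 : ∀ u < 86238, (fun u => chkSlp tab slp u) u = true := ext_range (a := 86220) (len := 18) h4790 sl_4790
  have h4792 : ∀ u < 86256, (fun u => chkSlp tab slp u) u = true := ext_range (a := 86238) (len := 18) h4791 sl_4791
  have h4793 : ∀ u < 86274, (fun u => chkSlp tab slp u) u = true := ext_range (a := 86256) (len := 18) h4792 sl_4792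
  have h4794 : ∀ u < 86292, (fun u => chkSlp tab slp u) u = true := ext_range (a := 86274) (len := 18) h4793 sl_4793
  have h4795 : ∀ u < 86310, (fun u => chkSlp tab slp u) u = true := ext_range (a := 86292) (len := 18) h4794 sl_4794
  have h4796 : ∀ u < 86328, (fun u => chkSlp tab slp u) u = true := ext_range (a := 86310) (len := 18) h4795 sl_4795
  have h4797 : ∀ u < 86346, (fun u => chkSlp tab slp u) u = true := ext_range (a := 86328) (len := 18) h4796 sl_4796
  have h4798 : ∀ u < 86364, (fun u => chkSlp tab slp u) u = true := ext_range (a := 86346) (len := 18) h4797 sl_4797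
  have h4799 : ∀ u < 86382, (fun u => chkSlp tab slp u) u = true := ext_range (a := 86364) (len := 18) h4798 sl_4798
  have h4800 : ∀ u < 86400, (fun u => chkSlp tab slp u) u = true := ext_range (a := 86382) (len := 18) h4799 sl_4799
  have h4801 : ∀ u < 86418, (fun u => chkSlp tab slp u) u = true := ext_range (a := 86400) (len := 18) h4800 sl_4800
  have h4802 : ∀ u < 86436, (fun u => chkSlp tab slp u) u = true := ext_range (a := 86418) (len := 18) h4801 sl_4801
  have h4803 : ∀ u < 86454, (fun u => chkSlp tab slp u) u = true := ext_range (a := 86436) (len := 18) h4802 sl_4802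
  have h4804 : ∀ u < 86472, (fun u => chkSlp tab slp u) u = true := ext_range (a := 86454) (len := 18) h4803 sl_4803
  have h4805 : ∀ u < 86490, (fun u => chkSlp tab slp u) u = true := ext_range (a := 86472) (len := 18) h4804 sl_4804
  have h4806 : ∀ u < 86508, (fun u => chkSlp tab slp u) u = true := ext_range (a := 86490) (len := 18) h4805 sl_4805
  have h4807 : ∀ u < 86526, (fun u => chkSlp tab slp u) u = true := ext_range (a := 86508) (len := 18) h4806 sl_4806
  have h4808 : ∀ u < 86544, (fun u => chkSlp tab slp u) u = true := ext_range (a := 86526) (len := 18) h4807 sl_4807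
  have h4809 : ∀ u < 86562, (fun u => chkSlp tab slp u) u = true := ext_range (a := 86544) (len := 18) h4808 sl_4808
  have h4810 : ∀ u < 86580, (fun u => chkSlp tab slp u) u = true := ext_range (a := 86562) (len := 18) h4809 sl_4809
  have h4811 : ∀ u < 86598, (fun u => chkSlp tab slp u) u = true := ext_range (a := 86580) (len := 18) h4810 sl_4810
  have h4812 : ∀ u < 86616, (fun u => chkSlp tab slp u) u = true := ext_range (a := 86598) (len := 18) h4811 sl_4811
  have h4813 : ∀ u < 86634, (fun u => chkSlp tab slp u) u = true := ext_range (a := 86616) (len := 18) h4812 sl_4812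
  have h4814 : ∀ u < 86652, (fun u => chkSlp tab slp u) u = true := ext_range (a := 86634) (len := 18) h4813 sl_4813
  have h4815 : ∀ u < 86670, (fun u => chkSlp tab slp u) u = true := ext_range (a := 86652) (len := 18) h4814 sl_4814
  have h4816 : ∀ u < 86688, (fun u => chkSlp tab slp u) u = true := ext_range (a := 86670) (len := 18) h4815 sl_4815
  have h4817 : ∀ u < 86706, (fun u => chkSlp tab slp u) u = true := ext_range (a := 86688) (len := 18) h4816 sl_4816
  have h4818 : ∀ u < 86724, (fun u => chkSlp tab slp u) u = true := ext_range (a := 86706) (len := 18) h4817 sl_4817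
  have h4819 : ∀ u < 86742, (fun u => chkSlp tab slp u) u = true := ext_range (a := 86724) (len := 18) h4818 sl_4818
  have h4820 : ∀ u < 86760, (fun u => chkSlp tab slp u) u = true := ext_range (a := 86742) (len := 18) h4819 sl_4819
  have h4821 : ∀ u < 86778, (fun u => chkSlp tab slp u) u = true := ext_range (a := 86760) (len := 18) h4820 sl_4820
  have h4822 : ∀ u < 86796, (fun u => chkSlp tab slp u) u = true := ext_range (a := 86778) (len := 18) h4821 sl_4821
  have h4823 : ∀ u < 86814, (fun u => chkSlp tab slp u) u = true := ext_range (a := 86796) (len := 18) h4822 sl_4822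
  have h4824 : ∀ u < 86832, (fun u => chkSlp tab slp u) u = true := ext_range (a := 86814) (len := 18) h4823 sl_4823
  have h4825 : ∀ u < 86850, (fun u => chkSlp tab slp u) u = true := ext_range (a := 86832) (len := 18) h4824 sl_4824
  have h4826 : ∀ u < 86868, (fun u => chkSlp tab slp u) u = true := ext_range (a := 86850) (len := 18) h4825 sl_4825
  have h4827 : ∀ u < 86886, (fun u => chkSlp tab slp u) u = true := ext_range (a := 86868) (len := 18) h4826 sl_4826
  have h4828 : ∀ u < 86904, (fun u => chkSlp tab slp u) u = true := ext_range (a := 86886) (len := 18) h4827 sl_4827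
  have h4829 : ∀ u < 86922, (fun u => chkSlp tab slp u) u = true := ext_range (a := 86904) (len := 18) h4828 sl_4828
  have h4830 : ∀ u < 86940, (fun u => chkSlp tab slp u) u = true := ext_range (a := 86922) (len := 18) h4829 sl_4829
  have h4831 : ∀ u < 86958, (fun u => chkSlp tab slp u) u = true := ext_range (a := 86940) (len := 18) h4830 sl_4830
  have h4832 : ∀ u < 86976, (fun u => chkSlp tab slp u) u = true := ext_range (a := 86958) (len := 18) h4831 sl_4831
  have h4833 : ∀ u < 86994, (fun u => chkSlp tab slp u) u = true := ext_range (a := 86976) (len := 18) h4832 sl_4832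
  have h4834 : ∀ u < 87012, (fun u => chkSlp tab slp u) u = true := ext_range (a := 86994) (len := 18) h4833 sl_4833
  have h4835 : ∀ u < 87030, (fun u => chkSlp tab slp u) u = true := ext_range (a := 87012) (len := 18) h4834 sl_4834
  have h4836 : ∀ u < 87048, (fun u => chkSlp tab slp u) u = true := ext_range (a := 87030) (len := 18) h4835 sl_4835
  have h4837 : ∀ u < 87066, (fun u => chkSlp tab slp u) u = true := ext_range (a := 87048) (len := 18) h4836 sl_4836
  have h4838 : ∀ u < 87084, (fun u => chkSlp tab slp u) u = true := ext_range (a := 87066) (len := 18) h4837 sl_4837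
  have h4839 : ∀ u < 87102, (fun u => chkSlp tab slp u) u = true := ext_range (a := 87084) (len := 18) h4838 sl_4838
  have h4840 : ∀ u < 87120, (fun u => chkSlp tab slp u) u = true := ext_range (a := 87102) (len := 18) h4839 sl_4839
  have h4841 : ∀ u < 87138, (fun u => chkSlp tab slp u) u = true := ext_range (a := 87120) (len := 18) h4840 sl_4840
  have h4842 : ∀ u < 87156, (fun u => chkSlp tab slp u) u = true := ext_range (a := 87138) (len := 18) h4841 sl_4841
  have h4843 : ∀ u < 87174, (fun u => chkSlp tab slp u) u = true := ext_range (a := 87156) (len := 18) h4842 sl_4842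
  have h4844 : ∀ u < 87192, (fun u => chkSlp tab slp u) u = true := ext_range (a := 87174) (len := 18) h4843 sl_4843
  have h4845 : ∀ u < 87210, (fun u => chkSlp tab slp u) u = true := ext_range (a := 87192) (len := 18) h4844 sl_4844
  have h4846 : ∀ u < 87228, (fun u => chkSlp tab slp u) u = true := ext_range (a := 87210) (len := 18) h4845 sl_4845
  have h4847 : ∀ u < 87246, (fun u => chkSlp tab slp u) u = true := ext_range (a := 87228) (len := 18) h4846 sl_4846
  have h4848 : ∀ u < 87264, (fun u => chkSlp tab slp u) u = true := ext_range (a := 87246) (len := 18) h4847 sl_4847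
  have h4849 : ∀ u < 87282, (fun u => chkSlp tab slp u) u = true := ext_range (a := 87264) (len := 18) h4848 sl_4848
  have h4850 : ∀ u < 87300, (fun u => chkSlp tab slp u) u = true := ext_range (a := 87282) (len := 18) h4849 sl_4849
  have h4851 : ∀ u < 87318, (fun u => chkSlp tab slp u) u = true := ext_range (a := 87300) (len := 18) h4850 sl_4850
  have h4852 : ∀ u < 87336, (fun u => chkSlp tab slp u) u = true := ext_range (a := 87318) (len := 18) h4851 sl_4851
  have h4853 : ∀ u < 87354, (fun u => chkSlp tab slp u) u = true := ext_range (a := 87336) (len := 18) h4852 sl_4852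
  have h4854 : ∀ u < 87372, (fun u => chkSlp tab slp u) u = true := ext_range (a := 87354) (len := 18) h4853 sl_4853
  have h4855 : ∀ u < 87390, (fun u => chkSlp tab slp u) u = true := ext_range (a := 87372) (len := 18) h4854 sl_4854
  have h4856 : ∀ u < 87408, (fun u => chkSlp tab slp u) u = true := ext_range (a := 87390) (len := 18) h4855 sl_4855
  have h4857 : ∀ u < 87426, (fun u => chkSlp tab slp u) u = true := ext_range (a := 87408) (len := 18) h4856 sl_4856
  have h4858 : ∀ u < 87444, (fun u => chkSlp tab slp u) u = true := ext_range (a := 87426) (len := 18) h4857 sl_4857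
  have h4859 : ∀ u < 87462, (fun u => chkSlp tab slp u) u = true := ext_range (a := 87444) (len := 18) h4858 sl_4858
  have h4860 : ∀ u < 87480, (fun u => chkSlp tab slp u) u = true := ext_range (a := 87462) (len := 18) h4859 sl_4859
  have h4861 : ∀ u < 87498, (fun u => chkSlp tab slp u) u = true := ext_range (a := 87480) (len := 18) h4860 sl_4860
  have h4862 : ∀ u < 87516, (fun u => chkSlp tab slp u) u = true := ext_range (a := 87498) (len := 18) h4861 sl_4861
  have h4863 : ∀ u < 87534, (fun u => chkSlp tab slp u) u = true := ext_range (a := 87516) (len := 18) h4862 sl_4862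
  have h4864 : ∀ u < 87552, (fun u => chkSlp tab slp u) u = true := ext_range (a := 87534) (len := 18) h4863 sl_4863
  have h4865 : ∀ u < 87570, (fun u => chkSlp tab slp u) u = true := ext_range (a := 87552) (len := 18) h4864 sl_4864
  have h4866 : ∀ u < 87588, (fun u => chkSlp tab slp u) u = true := ext_range (a := 87570) (len := 18) h4865 sl_4865
  have h4867 : ∀ u < 87606, (fun u => chkSlp tab slp u) u = true := ext_range (a := 87588) (len := 18) h4866 sl_4866
  have h4868 : ∀ u < 87624, (fun u => chkSlp tab slp u) u = true := ext_range (a := 87606) (len := 18) h4867 sl_4867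
  have h4869 : ∀ u < 87642, (fun u => chkSlp tab slp u) u = true := ext_range (a := 87624) (len := 18) h4868 sl_4868
  have h4870 : ∀ u < 87660, (fun u => chkSlp tab slp u) u = true := ext_range (a := 87642) (len := 18) h4869 sl_4869
  have h4871 : ∀ u < 87678, (fun u => chkSlp tab slp u) u = true := ext_range (a := 87660) (len := 18) h4870 sl_4870
  have h4872 : ∀ u < 87696, (fun u => chkSlp tab slp u) u = true := ext_range (a := 87678) (len := 18) h4871 sl_4871
  have h4873 : ∀ u < 87714, (fun u => chkSlp tab slp u) u = true := ext_range (a := 87696) (len := 18) h4872 sl_4872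
  have h4874 : ∀ u < 87732, (fun u => chkSlp tab slp u) u = true := ext_range (a := 87714) (len := 18) h4873 sl_4873
  have h4875 : ∀ u < 87750, (fun u => chkSlp tab slp u) u = true := ext_range (a := 87732) (len := 18) h4874 sl_4874
  have h4876 : ∀ u < 87768, (fun u => chkSlp tab slp u) u = true := ext_range (a := 87750) (len := 18) h4875 sl_4875
  have h4877 : ∀ u < 87786, (fun u => chkSlp tab slp u) u = true := ext_range (a := 87768) (len := 18) h4876 sl_4876
  have h4878 : ∀ u < 87804, (fun u => chkSlp tab slp u) u = true := ext_range (a := 87786) (len := 18) h4877 sl_4877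
  have h4879 : ∀ u < 87822, (fun u => chkSlp tab slp u) u = true := ext_range (a := 87804) (len := 18) h4878 sl_4878
  have h4880 : ∀ u < 87840, (fun u => chkSlp tab slp u) u = true := ext_range (a := 87822) (len := 18) h4879 sl_4879
  have h4881 : ∀ u < 87858, (fun u => chkSlp tab slp u) u = true := ext_range (a := 87840) (len := 18) h4880 sl_4880
  have h4882 : ∀ u < 87876, (fun u => chkSlp tab slp u) u = true := ext_range (a := 87858) (len := 18) h4881 sl_4881
  have h4883 : ∀ u < 87894, (fun u => chkSlp tab slp u) u = true := ext_range (a := 87876) (len := 18) h4882 sl_4882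
  have h4884 : ∀ u < 87912, (fun u => chkSlp tab slp u) u = true := ext_range (a := 87894) (len := 18) h4883 sl_4883
  have h4885 : ∀ u < 87930, (fun u => chkSlp tab slp u) u = true := ext_range (a := 87912) (len := 18) h4884 sl_4884
  have h4886 : ∀ u < 87948, (fun u => chkSlp tab slp u) u = true := ext_range (a := 87930) (len := 18) h4885 sl_4885
  have h4887 : ∀ u < 87966, (fun u => chkSlp tab slp u) u = true := ext_range (a := 87948) (len := 18) h4886 sl_4886
  have h4888 : ∀ u < 87984, (fun u => chkSlp tab slp u) u = true := ext_range (a := 87966) (len := 18) h4887 sl_4887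
  have h4889 : ∀ u < 88002, (fun u => chkSlp tab slp u) u = true := ext_range (a := 87984) (len := 18) h4888 sl_4888
  have h4890 : ∀ u < 88020, (fun u => chkSlp tab slp u) u = true := ext_range (a := 88002) (len := 18) h4889 sl_4889
  have h4891 : ∀ u < 88038, (fun u => chkSlp tab slp u) u = true := ext_range (a := 88020) (len := 18) h4890 sl_4890
  have h4892 : ∀ u < 88056, (fun u => chkSlp tab slp u) u = true := ext_range (a := 88038) (len := 18) h4891 sl_4891
  have h4893 : ∀ u < 88074, (fun u => chkSlp tab slp u) u = true := ext_range (a := 88056) (len := 18) h4892 sl_4892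
  have h4894 : ∀ u < 88092, (fun u => chkSlp tab slp u) u = true := ext_range (a := 88074) (len := 18) h4893 sl_4893
  have h4895 : ∀ u < 88110, (fun u => chkSlp tab slp u) u = true := ext_range (a := 88092) (len := 18) h4894 sl_4894
  have h4896 : ∀ u < 88128, (fun u => chkSlp tab slp u) u = true := ext_range (a := 88110) (len := 18) h4895 sl_4895
  have h4897 : ∀ u < 88146, (fun u => chkSlp tab slp u) u = true := ext_range (a := 88128) (len := 18) h4896 sl_4896
  have h4898 : ∀ u < 88164, (fun u => chkSlp tab slp u) u = true := ext_range (a := 88146) (len := 18) h4897 sl_4897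
  have h4899 : ∀ u < 88182, (fun u => chkSlp tab slp u) u = true := ext_range (a := 88164) (len := 18) h4898 sl_4898
  have h4900 : ∀ u < 88200, (fun u => chkSlp tab slp u) u = true := ext_range (a := 88182) (len := 18) h4899 sl_4899
  have h4901 : ∀ u < 88218, (fun u => chkSlp tab slp u) u = true := ext_range (a := 88200) (len := 18) h4900 sl_4900
  have h4902 : ∀ u < 88236, (fun u => chkSlp tab slp u) u = true := ext_range (a := 88218) (len := 18) h4901 sl_4901
  have h4903 : ∀ u < 88254, (fun u => chkSlp tab slp u) u = true := ext_range (a := 88236) (len := 18) h4902 sl_4902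
  have h4904 : ∀ u < 88272, (fun u => chkSlp tab slp u) u = true := ext_range (a := 88254) (len := 18) h4903 sl_4903
  have h4905 : ∀ u < 88290, (fun u => chkSlp tab slp u) u = true := ext_range (a := 88272) (len := 18) h4904 sl_4904
  have h4906 : ∀ u < 88308, (fun u => chkSlp tab slp u) u = true := ext_range (a := 88290) (len := 18) h4905 sl_4905
  have h4907 : ∀ u < 88326, (fun u => chkSlp tab slp u) u = true := ext_range (a := 88308) (len := 18) h4906 sl_4906
  have h4908 : ∀ u < 88344, (fun u => chkSlp tab slp u) u = true := ext_range (a := 88326) (len := 18) h4907 sl_4907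
  have h4909 : ∀ u < 88362, (fun u => chkSlp tab slp u) u = true := ext_range (a := 88344) (len := 18) h4908 sl_4908
  have h4910 : ∀ u < 88380, (fun u => chkSlp tab slp u) u = true := ext_range (a := 88362) (len := 18) h4909 sl_4909
  have h4911 : ∀ u < 88398, (fun u => chkSlp tab slp u) u = true := ext_range (a := 88380) (len := 18) h4910 sl_4910
  have h4912 : ∀ u < 88416, (fun u => chkSlp tab slp u) u = true := ext_range (a := 88398) (len := 18) h4911 sl_4911
  have h4913 : ∀ u < 88434, (fun u => chkSlp tab slp u) u = true := ext_range (a := 88416) (len := 18) h4912 sl_4912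
  have h4914 : ∀ u < 88452, (fun u => chkSlp tab slp u) u = true := ext_range (a := 88434) (len := 18) h4913 sl_4913
  have h4915 : ∀ u < 88470, (fun u => chkSlp tab slp u) u = true := ext_range (a := 88452) (len := 18) h4914 sl_4914
  have h4916 : ∀ u < 88488, (fun u => chkSlp tab slp u) u = true := ext_range (a := 88470) (len := 18) h4915 sl_4915
  have h4917 : ∀ u < 88506, (fun u => chkSlp tab slp u) u = true := ext_range (a := 88488) (len := 18) h4916 sl_4916
  have h4918 : ∀ u < 88524, (fun u => chkSlp tab slp u) u = true := ext_range (a := 88506) (len := 18) h4917 sl_4917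
  have h4919 : ∀ u < 88542, (fun u => chkSlp tab slp u) u = true := ext_range (a := 88524) (len := 18) h4918 sl_4918
  have h4920 : ∀ u < 88560, (fun u => chkSlp tab slp u) u = true := ext_range (a := 88542) (len := 18) h4919 sl_4919
  have h4921 : ∀ u < 88578, (fun u => chkSlp tab slp u) u = true := ext_range (a := 88560) (len := 18) h4920 sl_4920
  have h4922 : ∀ u < 88596, (fun u => chkSlp tab slp u) u = true := ext_range (a := 88578) (len := 18) h4921 sl_4921
  have h4923 : ∀ u < 88614, (fun u => chkSlp tab slp u) u = true := ext_range (a := 88596) (len := 18) h4922 sl_4922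
  have h4924 : ∀ u < 88632, (fun u => chkSlp tab slp u) u = true := ext_range (a := 88614) (len := 18) h4923 sl_4923
  have h4925 : ∀ u < 88650, (fun u => chkSlp tab slp u) u = true := ext_range (a := 88632) (len := 18) h4924 sl_4924
  have h4926 : ∀ u < 88668, (fun u => chkSlp tab slp u) u = true := ext_range (a := 88650) (len := 18) h4925 sl_4925
  have h4927 : ∀ u < 88686, (fun u => chkSlp tab slp u) u = true := ext_range (a := 88668) (len := 18) h4926 sl_4926
  have h4928 : ∀ u < 88704, (fun u => chkSlp tab slp u) u = true := ext_range (a := 88686) (len := 18) h4927 sl_4927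
  have h4929 : ∀ u < 88722, (fun u => chkSlp tab slp u) u = true := ext_range (a := 88704) (len := 18) h4928 sl_4928
  have h4930 : ∀ u < 88740, (fun u => chkSlp tab slp u) u = true := ext_range (a := 88722) (len := 18) h4929 sl_4929
  have h4931 : ∀ u < 88758, (fun u => chkSlp tab slp u) u = true := ext_range (a := 88740) (len := 18) h4930 sl_4930
  have h4932 : ∀ u < 88776, (fun u => chkSlp tab slp u) u = true := ext_range (a := 88758) (len := 18) h4931 sl_4931
  have h4933 : ∀ u < 88794, (fun u => chkSlp tab slp u) u = true := ext_range (a := 88776) (len := 18) h4932 sl_4932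
  have h4934 : ∀ u < 88812, (fun u => chkSlp tab slp u) u = true := ext_range (a := 88794) (len := 18) h4933 sl_4933
  have h4935 : ∀ u < 88830, (fun u => chkSlp tab slp u) u = true := ext_range (a := 88812) (len := 18) h4934 sl_4934
  have h4936 : ∀ u < 88848, (fun u => chkSlp tab slp u) u = true := ext_range (a := 88830) (len := 18) h4935 sl_4935
  have h4937 : ∀ u < 88866, (fun u => chkSlp tab slp u) u = true := ext_range (a := 88848) (len := 18) h4936 sl_4936
  have h4938 : ∀ u < 88884, (fun u => chkSlp tab slp u) u = true := ext_range (a := 88866) (len := 18) h4937 sl_4937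
  have h4939 : ∀ u < 88902, (fun u => chkSlp tab slp u) u = true := ext_range (a := 88884) (len := 18) h4938 sl_4938
  have h4940 : ∀ u < 88920, (fun u => chkSlp tab slp u) u = true := ext_range (a := 88902) (len := 18) h4939 sl_4939
  have h4941 : ∀ u < 88938, (fun u => chkSlp tab slp u) u = true := ext_range (a := 88920) (len := 18) h4940 sl_4940
  have h4942 : ∀ u < 88956, (fun u => chkSlp tab slp u) u = true := ext_range (a := 88938) (len := 18) h4941 sl_4941
  have h4943 : ∀ u < 88974, (fun u => chkSlp tab slp u) u = true := ext_range (a := 88956) (len := 18) h4942 sl_4942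
  have h4944 : ∀ u < 88992, (fun u => chkSlp tab slp u) u = true := ext_range (a := 88974) (len := 18) h4943 sl_4943
  have h4945 : ∀ u < 89010, (fun u => chkSlp tab slp u) u = true := ext_range (a := 88992) (len := 18) h4944 sl_4944
  have h4946 : ∀ u < 89028, (fun u => chkSlp tab slp u) u = true := ext_range (a := 89010) (len := 18) h4945 sl_4945
  have h4947 : ∀ u < 89046, (fun u => chkSlp tab slp u) u = true := ext_range (a := 89028) (len := 18) h4946 sl_4946
  have h4948 : ∀ u < 89064, (fun u => chkSlp tab slp u) u = true := ext_range (a := 89046) (len := 18) h4947 sl_4947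
  have h4949 : ∀ u < 89082, (fun u => chkSlp tab slp u) u = true := ext_range (a := 89064) (len := 18) h4948 sl_4948
  have h4950 : ∀ u < 89100, (fun u => chkSlp tab slp u) u = true := ext_range (a := 89082) (len := 18) h4949 sl_4949
  have h4951 : ∀ u < 89118, (fun u => chkSlp tab slp u) u = true := ext_range (a := 89100) (len := 18) h4950 sl_4950
  have h4952 : ∀ u < 89136, (fun u => chkSlp tab slp u) u = true := ext_range (a := 89118) (len := 18) h4951 sl_4951
  have h4953 : ∀ u < 89154, (fun u => chkSlp tab slp u) u = true := ext_range (a := 89136) (len := 18) h4952 sl_4952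
  have h4954 : ∀ u < 89172, (fun u => chkSlp tab slp u) u = true := ext_range (a := 89154) (len := 18) h4953 sl_4953
  have h4955 : ∀ u < 89190, (fun u => chkSlp tab slp u) u = true := ext_range (a := 89172) (len := 18) h4954 sl_4954
  have h4956 : ∀ u < 89208, (fun u => chkSlp tab slp u) u = true := ext_range (a := 89190) (len := 18) h4955 sl_4955
  have h4957 : ∀ u < 89226, (fun u => chkSlp tab slp u) u = true := ext_range (a := 89208) (len := 18) h4956 sl_4956
  have h4958 : ∀ u < 89244, (fun u => chkSlp tab slp u) u = true := ext_range (a := 89226) (len := 18) h4957 sl_4957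
  have h4959 : ∀ u < 89262, (fun u => chkSlp tab slp u) u = true := ext_range (a := 89244) (len := 18) h4958 sl_4958
  have h4960 : ∀ u < 89280, (fun u => chkSlp tab slp u) u = true := ext_range (a := 89262) (len := 18) h4959 sl_4959
  have h4961 : ∀ u < 89298, (fun u => chkSlp tab slp u) u = true := ext_range (a := 89280) (len := 18) h4960 sl_4960
  have h4962 : ∀ u < 89316, (fun u => chkSlp tab slp u) u = true := ext_range (a := 89298) (len := 18) h4961 sl_4961
  have h4963 : ∀ u < 89334, (fun u => chkSlp tab slp u) u = true := ext_range (a := 89316) (len := 18) h4962 sl_4962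
  have h4964 : ∀ u < 89352, (fun u => chkSlp tab slp u) u = true := ext_range (a := 89334) (len := 18) h4963 sl_4963
  have h4965 : ∀ u < 89370, (fun u => chkSlp tab slp u) u = true := ext_range (a := 89352) (len := 18) h4964 sl_4964
  have h4966 : ∀ u < 89388, (fun u => chkSlp tab slp u) u = true := ext_range (a := 89370) (len := 18) h4965 sl_4965
  have h4967 : ∀ u < 89406, (fun u => chkSlp tab slp u) u = true := ext_range (a := 89388) (len := 18) h4966 sl_4966
  have h4968 : ∀ u < 89424, (fun u => chkSlp tab slp u) u = true := ext_range (a := 89406) (len := 18) h4967 sl_4967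
  have h4969 : ∀ u < 89442, (fun u => chkSlp tab slp u) u = true := ext_range (a := 89424) (len := 18) h4968 sl_4968
  have h4970 : ∀ u < 89460, (fun u => chkSlp tab slp u) u = true := ext_range (a := 89442) (len := 18) h4969 sl_4969
  have h4971 : ∀ u < 89478, (fun u => chkSlp tab slp u) u = true := ext_range (a := 89460) (len := 18) h4970 sl_4970
  have h4972 : ∀ u < 89496, (fun u => chkSlp tab slp u) u = true := ext_range (a := 89478) (len := 18) h4971 sl_4971
  have h4973 : ∀ u < 89514, (fun u => chkSlp tab slp u) u = true := ext_range (a := 89496) (len := 18) h4972 sl_4972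
  have h4974 : ∀ u < 89532, (fun u => chkSlp tab slp u) u = true := ext_range (a := 89514) (len := 18) h4973 sl_4973
  have h4975 : ∀ u < 89550, (fun u => chkSlp tab slp u) u = true := ext_range (a := 89532) (len := 18) h4974 sl_4974
  have h4976 : ∀ u < 89568, (fun u => chkSlp tab slp u) u = true := ext_range (a := 89550) (len := 18) h4975 sl_4975
  have h4977 : ∀ u < 89586, (fun u => chkSlp tab slp u) u = true := ext_range (a := 89568) (len := 18) h4976 sl_4976
  have h4978 : ∀ u < 89604, (fun u => chkSlp tab slp u) u = true := ext_range (a := 89586) (len := 18) h4977 sl_4977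
  have h4979 : ∀ u < 89622, (fun u => chkSlp tab slp u) u = true := ext_range (a := 89604) (len := 18) h4978 sl_4978
  have h4980 : ∀ u < 89640, (fun u => chkSlp tab slp u) u = true := ext_range (a := 89622) (len := 18) h4979 sl_4979
  have h4981 : ∀ u < 89658, (fun u => chkSlp tab slp u) u = true := ext_range (a := 89640) (len := 18) h4980 sl_4980
  have h4982 : ∀ u < 89676, (fun u => chkSlp tab slp u) u = true := ext_range (a := 89658) (len := 18) h4981 sl_4981
  have h4983 : ∀ u < 89694, (fun u => chkSlp tab slp u) u = true := ext_range (a := 89676) (len := 18) h4982 sl_4982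
  have h4984 : ∀ u < 89712, (fun u => chkSlp tab slp u) u = true := ext_range (a := 89694) (len := 18) h4983 sl_4983
  have h4985 : ∀ u < 89730, (fun u => chkSlp tab slp u) u = true := ext_range (a := 89712) (len := 18) h4984 sl_4984
  have h4986 : ∀ u < 89748, (fun u => chkSlp tab slp u) u = true := ext_range (a := 89730) (len := 18) h4985 sl_4985
  have h4987 : ∀ u < 89766, (fun u => chkSlp tab slp u) u = true := ext_range (a := 89748) (len := 18) h4986 sl_4986
  have h4988 : ∀ u < 89784, (fun u => chkSlp tab slp u) u = true := ext_range (a := 89766) (len := 18) h4987 sl_4987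
  have h4989 : ∀ u < 89802, (fun u => chkSlp tab slp u) u = true := ext_range (a := 89784) (len := 18) h4988 sl_4988
  have h4990 : ∀ u < 89820, (fun u => chkSlp tab slp u) u = true := ext_range (a := 89802) (len := 18) h4989 sl_4989
  have h4991 : ∀ u < 89838, (fun u => chkSlp tab slp u) u = true := ext_range (a := 89820) (len := 18) h4990 sl_4990
  have h4992 : ∀ u < 89856, (fun u => chkSlp tab slp u) u = true := ext_range (a := 89838) (len := 18) h4991 sl_4991
  have h4993 : ∀ u < 89874, (fun u => chkSlp tab slp u) u = true := ext_range (a := 89856) (len := 18) h4992 sl_4992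
  have h4994 : ∀ u < 89892, (fun u => chkSlp tab slp u) u = true := ext_range (a := 89874) (len := 18) h4993 sl_4993
  have h4995 : ∀ u < 89910, (fun u => chkSlp tab slp u) u = true := ext_range (a := 89892) (len := 18) h4994 sl_4994
  have h4996 : ∀ u < 89928, (fun u => chkSlp tab slp u) u = true := ext_range (a := 89910) (len := 18) h4995 sl_4995
  have h4997 : ∀ u < 89946, (fun u => chkSlp tab slp u) u = true := ext_range (a := 89928) (len := 18) h4996 sl_4996
  have h4998 : ∀ u < 89964, (fun u => chkSlp tab slp u) u = true := ext_range (a := 89946) (len := 18) h4997 sl_4997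
  have h4999 : ∀ u < 89982, (fun u => chkSlp tab slp u) u = true := ext_range (a := 89964) (len := 18) h4998 sl_4998
  have h5000 : ∀ u < 90000, (fun u => chkSlp tab slp u) u = true := ext_range (a := 89982) (len := 18) h4999 sl_4999
  have h5001 : ∀ u < 90018, (fun u => chkSlp tab slp u) u = true := ext_range (a := 90000) (len := 18) h5000 sl_5000
  have h5002 : ∀ u < 90036, (fun u => chkSlp tab slp u) u = true := ext_range (a := 90018) (len := 18) h5001 sl_5001
  have h5003 : ∀ u < 90054, (fun u => chkSlp tab slp u) u = true := ext_range (a := 90036) (len := 18) h5002 sl_5002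
  have h5004 : ∀ u < 90072, (fun u => chkSlp tab slp u) u = true := ext_range (a := 90054) (len := 18) h5003 sl_5003
  have h5005 : ∀ u < 90090, (fun u => chkSlp tab slp u) u = true := ext_range (a := 90072) (len := 18) h5004 sl_5004
  have h5006 : ∀ u < 90108, (fun u => chkSlp tab slp u) u = true := ext_range (a := 90090) (len := 18) h5005 sl_5005
  have h5007 : ∀ u < 90126, (fun u => chkSlp tab slp u) u = true := ext_range (a := 90108) (len := 18) h5006 sl_5006
  have h5008 : ∀ u < 90144, (fun u => chkSlp tab slp u) u = true := ext_range (a := 90126) (len := 18) h5007 sl_5007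
  have h5009 : ∀ u < 90162, (fun u => chkSlp tab slp u) u = true := ext_range (a := 90144) (len := 18) h5008 sl_5008
  have h5010 : ∀ u < 90180, (fun u => chkSlp tab slp u) u = true := ext_range (a := 90162) (len := 18) h5009 sl_5009
  have h5011 : ∀ u < 90198, (fun u => chkSlp tab slp u) u = true := ext_range (a := 90180) (len := 18) h5010 sl_5010
  have h5012 : ∀ u < 90216, (fun u => chkSlp tab slp u) u = true := ext_range (a := 90198) (len := 18) h5011 sl_5011
  have h5013 : ∀ u < 90234, (fun u => chkSlp tab slp u) u = true := ext_range (a := 90216) (len := 18) h5012 sl_5012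
  have h5014 : ∀ u < 90252, (fun u => chkSlp tab slp u) u = true := ext_range (a := 90234) (len := 18) h5013 sl_5013
  have h5015 : ∀ u < 90270, (fun u => chkSlp tab slp u) u = true := ext_range (a := 90252) (len := 18) h5014 sl_5014
  have h5016 : ∀ u < 90288, (fun u => chkSlp tab slp u) u = true := ext_range (a := 90270) (len := 18) h5015 sl_5015
  have h5017 : ∀ u < 90306, (fun u => chkSlp tab slp u) u = true := ext_range (a := 90288) (len := 18) h5016 sl_5016
  have h5018 : ∀ u < 90324, (fun u => chkSlp tab slp u) u = true := ext_range (a := 90306) (len := 18) h5017 sl_5017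
  have h5019 : ∀ u < 90342, (fun u => chkSlp tab slp u) u = true := ext_range (a := 90324) (len := 18) h5018 sl_5018
  have h5020 : ∀ u < 90360, (fun u => chkSlp tab slp u) u = true := ext_range (a := 90342) (len := 18) h5019 sl_5019
  have h5021 : ∀ u < 90378, (fun u => chkSlp tab slp u) u = true := ext_range (a := 90360) (len := 18) h5020 sl_5020
  have h5022 : ∀ u < 90396, (fun u => chkSlp tab slp u) u = true := ext_range (a := 90378) (len := 18) h5021 sl_5021
  have h5023 : ∀ u < 90414, (fun u => chkSlp tab slp u) u = true := ext_range (a := 90396) (len := 18) h5022 sl_5022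
  have h5024 : ∀ u < 90432, (fun u => chkSlp tab slp u) u = true := ext_range (a := 90414) (len := 18) h5023 sl_5023
  have h5025 : ∀ u < 90450, (fun u => chkSlp tab slp u) u = true := ext_range (a := 90432) (len := 18) h5024 sl_5024
  have h5026 : ∀ u < 90468, (fun u => chkSlp tab slp u) u = true := ext_range (a := 90450) (len := 18) h5025 sl_5025
  have h5027 : ∀ u < 90486, (fun u => chkSlp tab slp u) u = true := ext_range (a := 90468) (len := 18) h5026 sl_5026
  have h5028 : ∀ u < 90504, (fun u => chkSlp tab slp u) u = true := ext_range (a := 90486) (len := 18) h5027 sl_5027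
  have h5029 : ∀ u < 90522, (fun u => chkSlp tab slp u) u = true := ext_range (a := 90504) (len := 18) h5028 sl_5028
  have h5030 : ∀ u < 90540, (fun u => chkSlp tab slp u) u = true := ext_range (a := 90522) (len := 18) h5029 sl_5029
  have h5031 : ∀ u < 90558, (fun u => chkSlp tab slp u) u = true := ext_range (a := 90540) (len := 18) h5030 sl_5030
  have h5032 : ∀ u < 90576, (fun u => chkSlp tab slp u) u = true := ext_range (a := 90558) (len := 18) h5031 sl_5031
  have h5033 : ∀ u < 90594, (fun u => chkSlp tab slp u) u = true := ext_range (a := 90576) (len := 18) h5032 sl_5032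
  have h5034 : ∀ u < 90612, (fun u => chkSlp tab slp u) u = true := ext_range (a := 90594) (len := 18) h5033 sl_5033
  have h5035 : ∀ u < 90630, (fun u => chkSlp tab slp u) u = true := ext_range (a := 90612) (len := 18) h5034 sl_5034
  have h5036 : ∀ u < 90648, (fun u => chkSlp tab slp u) u = true := ext_range (a := 90630) (len := 18) h5035 sl_5035
  have h5037 : ∀ u < 90666, (fun u => chkSlp tab slp u) u = true := ext_range (a := 90648) (len := 18) h5036 sl_5036
  have h5038 : ∀ u < 90684, (fun u => chkSlp tab slp u) u = true := ext_range (a := 90666) (len := 18) h5037 sl_5037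
  have h5039 : ∀ u < 90702, (fun u => chkSlp tab slp u) u = true := ext_range (a := 90684) (len := 18) h5038 sl_5038
  have h5040 : ∀ u < 90720, (fun u => chkSlp tab slp u) u = true := ext_range (a := 90702) (len := 18) h5039 sl_5039
  have h5041 : ∀ u < 90738, (fun u => chkSlp tab slp u) u = true := ext_range (a := 90720) (len := 18) h5040 sl_5040
  have h5042 : ∀ u < 90756, (fun u => chkSlp tab slp u) u = true := ext_range (a := 90738) (len := 18) h5041 sl_5041
  have h5043 : ∀ u < 90774, (fun u => chkSlp tab slp u) u = true := ext_range (a := 90756) (len := 18) h5042 sl_5042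
  have h5044 : ∀ u < 90792, (fun u => chkSlp tab slp u) u = true := ext_range (a := 90774) (len := 18) h5043 sl_5043
  have h5045 : ∀ u < 90810, (fun u => chkSlp tab slp u) u = true := ext_range (a := 90792) (len := 18) h5044 sl_5044
  have h5046 : ∀ u < 90828, (fun u => chkSlp tab slp u) u = true := ext_range (a := 90810) (len := 18) h5045 sl_5045
  have h5047 : ∀ u < 90846, (fun u => chkSlp tab slp u) u = true := ext_range (a := 90828) (len := 18) h5046 sl_5046
  have h5048 : ∀ u < 90864, (fun u => chkSlp tab slp u) u = true := ext_range (a := 90846) (len := 18) h5047 sl_5047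
  have h5049 : ∀ u < 90882, (fun u => chkSlp tab slp u) u = true := ext_range (a := 90864) (len := 18) h5048 sl_5048
  have h5050 : ∀ u < 90900, (fun u => chkSlp tab slp u) u = true := ext_range (a := 90882) (len := 18) h5049 sl_5049
  have h5051 : ∀ u < 90918, (fun u => chkSlp tab slp u) u = true := ext_range (a := 90900) (len := 18) h5050 sl_5050
  have h5052 : ∀ u < 90936, (fun u => chkSlp tab slp u) u = true := ext_range (a := 90918) (len := 18) h5051 sl_5051
  have h5053 : ∀ u < 90954, (fun u => chkSlp tab slp u) u = true := ext_range (a := 90936) (len := 18) h5052 sl_5052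
  have h5054 : ∀ u < 90972, (fun u => chkSlp tab slp u) u = true := ext_range (a := 90954) (len := 18) h5053 sl_5053
  have h5055 : ∀ u < 90990, (fun u => chkSlp tab slp u) u = true := ext_range (a := 90972) (len := 18) h5054 sl_5054
  have h5056 : ∀ u < 91008, (fun u => chkSlp tab slp u) u = true := ext_range (a := 90990) (len := 18) h5055 sl_5055
  have h5057 : ∀ u < 91026, (fun u => chkSlp tab slp u) u = true := ext_range (a := 91008) (len := 18) h5056 sl_5056
  have h5058 : ∀ u < 91044, (fun u => chkSlp tab slp u) u = true := ext_range (a := 91026) (len := 18) h5057 sl_5057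
  have h5059 : ∀ u < 91062, (fun u => chkSlp tab slp u) u = true := ext_range (a := 91044) (len := 18) h5058 sl_5058
  have h5060 : ∀ u < 91080, (fun u => chkSlp tab slp u) u = true := ext_range (a := 91062) (len := 18) h5059 sl_5059
  have h5061 : ∀ u < 91098, (fun u => chkSlp tab slp u) u = true := ext_range (a := 91080) (len := 18) h5060 sl_5060
  have h5062 : ∀ u < 91116, (fun u => chkSlp tab slp u) u = true := ext_range (a := 91098) (len := 18) h5061 sl_5061
  have h5063 : ∀ u < 91134, (fun u => chkSlp tab slp u) u = true := ext_range (a := 91116) (len := 18) h5062 sl_5062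
  have h5064 : ∀ u < 91152, (fun u => chkSlp tab slp u) u = true := ext_range (a := 91134) (len := 18) h5063 sl_5063
  have h5065 : ∀ u < 91170, (fun u => chkSlp tab slp u) u = true := ext_range (a := 91152) (len := 18) h5064 sl_5064
  have h5066 : ∀ u < 91188, (fun u => chkSlp tab slp u) u = true := ext_range (a := 91170) (len := 18) h5065 sl_5065
  have h5067 : ∀ u < 91206, (fun u => chkSlp tab slp u) u = true := ext_range (a := 91188) (len := 18) h5066 sl_5066
  have h5068 : ∀ u < 91224, (fun u => chkSlp tab slp u) u = true := ext_range (a := 91206) (len := 18) h5067 sl_5067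
  have h5069 : ∀ u < 91242, (fun u => chkSlp tab slp u) u = true := ext_range (a := 91224) (len := 18) h5068 sl_5068
  have h5070 : ∀ u < 91260, (fun u => chkSlp tab slp u) u = true := ext_range (a := 91242) (len := 18) h5069 sl_5069
  have h5071 : ∀ u < 91278, (fun u => chkSlp tab slp u) u = true := ext_range (a := 91260) (len := 18) h5070 sl_5070
  have h5072 : ∀ u < 91296, (fun u => chkSlp tab slp u) u = true := ext_range (a := 91278) (len := 18) h5071 sl_5071
  have h5073 : ∀ u < 91314, (fun u => chkSlp tab slp u) u = true := ext_range (a := 91296) (len := 18) h5072 sl_5072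
  have h5074 : ∀ u < 91332, (fun u => chkSlp tab slp u) u = true := ext_range (a := 91314) (len := 18) h5073 sl_5073
  have h5075 : ∀ u < 91350, (fun u => chkSlp tab slp u) u = true := ext_range (a := 91332) (len := 18) h5074 sl_5074
  have h5076 : ∀ u < 91368, (fun u => chkSlp tab slp u) u = true := ext_range (a := 91350) (len := 18) h5075 sl_5075
  have h5077 : ∀ u < 91386, (fun u => chkSlp tab slp u) u = true := ext_range (a := 91368) (len := 18) h5076 sl_5076
  have h5078 : ∀ u < 91404, (fun u => chkSlp tab slp u) u = true := ext_range (a := 91386) (len := 18) h5077 sl_5077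
  have h5079 : ∀ u < 91422, (fun u => chkSlp tab slp u) u = true := ext_range (a := 91404) (len := 18) h5078 sl_5078
  have h5080 : ∀ u < 91440, (fun u => chkSlp tab slp u) u = true := ext_range (a := 91422) (len := 18) h5079 sl_5079
  have h5081 : ∀ u < 91458, (fun u => chkSlp tab slp u) u = true := ext_range (a := 91440) (len := 18) h5080 sl_5080
  have h5082 : ∀ u < 91476, (fun u => chkSlp tab slp u) u = true := ext_range (a := 91458) (len := 18) h5081 sl_5081
  have h5083 : ∀ u < 91494, (fun u => chkSlp tab slp u) u = true := ext_range (a := 91476) (len := 18) h5082 sl_5082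
  have h5084 : ∀ u < 91512, (fun u => chkSlp tab slp u) u = true := ext_range (a := 91494) (len := 18) h5083 sl_5083
  have h5085 : ∀ u < 91530, (fun u => chkSlp tab slp u) u = true := ext_range (a := 91512) (len := 18) h5084 sl_5084
  have h5086 : ∀ u < 91548, (fun u => chkSlp tab slp u) u = true := ext_range (a := 91530) (len := 18) h5085 sl_5085
  have h5087 : ∀ u < 91566, (fun u => chkSlp tab slp u) u = true := ext_range (a := 91548) (len := 18) h5086 sl_5086
  have h5088 : ∀ u < 91584, (fun u => chkSlp tab slp u) u = true := ext_range (a := 91566) (len := 18) h5087 sl_5087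
  have h5089 : ∀ u < 91602, (fun u => chkSlp tab slp u) u = true := ext_range (a := 91584) (len := 18) h5088 sl_5088
  have h5090 : ∀ u < 91620, (fun u => chkSlp tab slp u) u = true := ext_range (a := 91602) (len := 18) h5089 sl_5089
  have h5091 : ∀ u < 91638, (fun u => chkSlp tab slp u) u = true := ext_range (a := 91620) (len := 18) h5090 sl_5090
  have h5092 : ∀ u < 91656, (fun u => chkSlp tab slp u) u = true := ext_range (a := 91638) (len := 18) h5091 sl_5091
  have h5093 : ∀ u < 91674, (fun u => chkSlp tab slp u) u = true := ext_range (a := 91656) (len := 18) h5092 sl_5092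
  have h5094 : ∀ u < 91692, (fun u => chkSlp tab slp u) u = true := ext_range (a := 91674) (len := 18) h5093 sl_5093
  have h5095 : ∀ u < 91710, (fun u => chkSlp tab slp u) u = true := ext_range (a := 91692) (len := 18) h5094 sl_5094
  have h5096 : ∀ u < 91728, (fun u => chkSlp tab slp u) u = true := ext_range (a := 91710) (len := 18) h5095 sl_5095
  have h5097 : ∀ u < 91746, (fun u => chkSlp tab slp u) u = true := ext_range (a := 91728) (len := 18) h5096 sl_5096
  have h5098 : ∀ u < 91764, (fun u => chkSlp tab slp u) u = true := ext_range (a := 91746) (len := 18) h5097 sl_5097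
  have h5099 : ∀ u < 91782, (fun u => chkSlp tab slp u) u = true := ext_range (a := 91764) (len := 18) h5098 sl_5098
  have h5100 : ∀ u < 91800, (fun u => chkSlp tab slp u) u = true := ext_range (a := 91782) (len := 18) h5099 sl_5099
  have h5101 : ∀ u < 91818, (fun u => chkSlp tab slp u) u = true := ext_range (a := 91800) (len := 18) h5100 sl_5100
  have h5102 : ∀ u < 91836, (fun u => chkSlp tab slp u) u = true := ext_range (a := 91818) (len := 18) h5101 sl_5101
  have h5103 : ∀ u < 91854, (fun u => chkSlp tab slp u) u = true := ext_range (a := 91836) (len := 18) h5102 sl_5102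
  have h5104 : ∀ u < 91872, (fun u => chkSlp tab slp u) u = true := ext_range (a := 91854) (len := 18) h5103 sl_5103
  have h5105 : ∀ u < 91890, (fun u => chkSlp tab slp u) u = true := ext_range (a := 91872) (len := 18) h5104 sl_5104
  have h5106 : ∀ u < 91908, (fun u => chkSlp tab slp u) u = true := ext_range (a := 91890) (len := 18) h5105 sl_5105
  have h5107 : ∀ u < 91926, (fun u => chkSlp tab slp u) u = true := ext_range (a := 91908) (len := 18) h5106 sl_5106
  have h5108 : ∀ u < 91944, (fun u => chkSlp tab slp u) u = true := ext_range (a := 91926) (len := 18) h5107 sl_5107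
  have h5109 : ∀ u < 91962, (fun u => chkSlp tab slp u) u = true := ext_range (a := 91944) (len := 18) h5108 sl_5108
  have h5110 : ∀ u < 91980, (fun u => chkSlp tab slp u) u = true := ext_range (a := 91962) (len := 18) h5109 sl_5109
  have h5111 : ∀ u < 91998, (fun u => chkSlp tab slp u) u = true := ext_range (a := 91980) (len := 18) h5110 sl_5110
  have h5112 : ∀ u < 92016, (fun u => chkSlp tab slp u) u = true := ext_range (a := 91998) (len := 18) h5111 sl_5111
  have h5113 : ∀ u < 92034, (fun u => chkSlp tab slp u) u = true := ext_range (a := 92016) (len := 18) h5112 sl_5112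
  have h5114 : ∀ u < 92052, (fun u => chkSlp tab slp u) u = true := ext_range (a := 92034) (len := 18) h5113 sl_5113
  have h5115 : ∀ u < 92070, (fun u => chkSlp tab slp u) u = true := ext_range (a := 92052) (len := 18) h5114 sl_5114
  have h5116 : ∀ u < 92088, (fun u => chkSlp tab slp u) u = true := ext_range (a := 92070) (len := 18) h5115 sl_5115
  have h5117 : ∀ u < 92106, (fun u => chkSlp tab slp u) u = true := ext_range (a := 92088) (len := 18) h5116 sl_5116
  have h5118 : ∀ u < 92124, (fun u => chkSlp tab slp u) u = true := ext_range (a := 92106) (len := 18) h5117 sl_5117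
  have h5119 : ∀ u < 92142, (fun u => chkSlp tab slp u) u = true := ext_range (a := 92124) (len := 18) h5118 sl_5118
  have h5120 : ∀ u < 92160, (fun u => chkSlp tab slp u) u = true := ext_range (a := 92142) (len := 18) h5119 sl_5119
  have h5121 : ∀ u < 92178, (fun u => chkSlp tab slp u) u = true := ext_range (a := 92160) (len := 18) h5120 sl_5120
  have h5122 : ∀ u < 92196, (fun u => chkSlp tab slp u) u = true := ext_range (a := 92178) (len := 18) h5121 sl_5121
  have h5123 : ∀ u < 92214, (fun u => chkSlp tab slp u) u = true := ext_range (a := 92196) (len := 18) h5122 sl_5122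
  have h5124 : ∀ u < 92232, (fun u => chkSlp tab slp u) u = true := ext_range (a := 92214) (len := 18) h5123 sl_5123
  have h5125 : ∀ u < 92250, (fun u => chkSlp tab slp u) u = true := ext_range (a := 92232) (len := 18) h5124 sl_5124
  have h5126 : ∀ u < 92268, (fun u => chkSlp tab slp u) u = true := ext_range (a := 92250) (len := 18) h5125 sl_5125
  have h5127 : ∀ u < 92286, (fun u => chkSlp tab slp u) u = true := ext_range (a := 92268) (len := 18) h5126 sl_5126
  have h5128 : ∀ u < 92304, (fun u => chkSlp tab slp u) u = true := ext_range (a := 92286) (len := 18) h5127 sl_5127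
  have h5129 : ∀ u < 92322, (fun u => chkSlp tab slp u) u = true := ext_range (a := 92304) (len := 18) h5128 sl_5128
  have h5130 : ∀ u < 92340, (fun u => chkSlp tab slp u) u = true := ext_range (a := 92322) (len := 18) h5129 sl_5129
  have h5131 : ∀ u < 92358, (fun u => chkSlp tab slp u) u = true := ext_range (a := 92340) (len := 18) h5130 sl_5130
  have h5132 : ∀ u < 92376, (fun u => chkSlp tab slp u) u = true := ext_range (a := 92358) (len := 18) h5131 sl_5131
  have h5133 : ∀ u < 92394, (fun u => chkSlp tab slp u) u = true := ext_range (a := 92376) (len := 18) h5132 sl_5132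
  have h5134 : ∀ u < 92412, (fun u => chkSlp tab slp u) u = true := ext_range (a := 92394) (len := 18) h5133 sl_5133
  have h5135 : ∀ u < 92430, (fun u => chkSlp tab slp u) u = true := ext_range (a := 92412) (len := 18) h5134 sl_5134
  have h5136 : ∀ u < 92448, (fun u => chkSlp tab slp u) u = true := ext_range (a := 92430) (len := 18) h5135 sl_5135
  have h5137 : ∀ u < 92466, (fun u => chkSlp tab slp u) u = true := ext_range (a := 92448) (len := 18) h5136 sl_5136
  have h5138 : ∀ u < 92484, (fun u => chkSlp tab slp u) u = true := ext_range (a := 92466) (len := 18) h5137 sl_5137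
  have h5139 : ∀ u < 92502, (fun u => chkSlp tab slp u) u = true := ext_range (a := 92484) (len := 18) h5138 sl_5138
  have h5140 : ∀ u < 92520, (fun u => chkSlp tab slp u) u = true := ext_range (a := 92502) (len := 18) h5139 sl_5139
  have h5141 : ∀ u < 92538, (fun u => chkSlp tab slp u) u = true := ext_range (a := 92520) (len := 18) h5140 sl_5140
  have h5142 : ∀ u < 92556, (fun u => chkSlp tab slp u) u = true := ext_range (a := 92538) (len := 18) h5141 sl_5141
  have h5143 : ∀ u < 92574, (fun u => chkSlp tab slp u) u = true := ext_range (a := 92556) (len := 18) h5142 sl_5142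
  have h5144 : ∀ u < 92592, (fun u => chkSlp tab slp u) u = true := ext_range (a := 92574) (len := 18) h5143 sl_5143
  have h5145 : ∀ u < 92610, (fun u => chkSlp tab slp u) u = true := ext_range (a := 92592) (len := 18) h5144 sl_5144
  have h5146 : ∀ u < 92628, (fun u => chkSlp tab slp u) u = true := ext_range (a := 92610) (len := 18) h5145 sl_5145
  have h5147 : ∀ u < 92646, (fun u => chkSlp tab slp u) u = true := ext_range (a := 92628) (len := 18) h5146 sl_5146
  have h5148 : ∀ u < 92664, (fun u => chkSlp tab slp u) u = true := ext_range (a := 92646) (len := 18) h5147 sl_5147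
  have h5149 : ∀ u < 92682, (fun u => chkSlp tab slp u) u = true := ext_range (a := 92664) (len := 18) h5148 sl_5148
  have h5150 : ∀ u < 92700, (fun u => chkSlp tab slp u) u = true := ext_range (a := 92682) (len := 18) h5149 sl_5149
  have h5151 : ∀ u < 92718, (fun u => chkSlp tab slp u) u = true := ext_range (a := 92700) (len := 18) h5150 sl_5150
  have h5152 : ∀ u < 92736, (fun u => chkSlp tab slp u) u = true := ext_range (a := 92718) (len := 18) h5151 sl_5151
  have h5153 : ∀ u < 92754, (fun u => chkSlp tab slp u) u = true := ext_range (a := 92736) (len := 18) h5152 sl_5152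
  have h5154 : ∀ u < 92772, (fun u => chkSlp tab slp u) u = true := ext_range (a := 92754) (len := 18) h5153 sl_5153
  have h5155 : ∀ u < 92790, (fun u => chkSlp tab slp u) u = true := ext_range (a := 92772) (len := 18) h5154 sl_5154
  have h5156 : ∀ u < 92808, (fun u => chkSlp tab slp u) u = true := ext_range (a := 92790) (len := 18) h5155 sl_5155
  have h5157 : ∀ u < 92826, (fun u => chkSlp tab slp u) u = true := ext_range (a := 92808) (len := 18) h5156 sl_5156
  have h5158 : ∀ u < 92844, (fun u => chkSlp tab slp u) u = true := ext_range (a := 92826) (len := 18) h5157 sl_5157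
  have h5159 : ∀ u < 92862, (fun u => chkSlp tab slp u) u = true := ext_range (a := 92844) (len := 18) h5158 sl_5158
  have h5160 : ∀ u < 92880, (fun u => chkSlp tab slp u) u = true := ext_range (a := 92862) (len := 18) h5159 sl_5159
  have h5161 : ∀ u < 92898, (fun u => chkSlp tab slp u) u = true := ext_range (a := 92880) (len := 18) h5160 sl_5160
  have h5162 : ∀ u < 92916, (fun u => chkSlp tab slp u) u = true := ext_range (a := 92898) (len := 18) h5161 sl_5161
  have h5163 : ∀ u < 92934, (fun u => chkSlp tab slp u) u = true := ext_range (a := 92916) (len := 18) h5162 sl_5162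
  have h5164 : ∀ u < 92952, (fun u => chkSlp tab slp u) u = true := ext_range (a := 92934) (len := 18) h5163 sl_5163
  have h5165 : ∀ u < 92970, (fun u => chkSlp tab slp u) u = true := ext_range (a := 92952) (len := 18) h5164 sl_5164
  have h5166 : ∀ u < 92988, (fun u => chkSlp tab slp u) u = true := ext_range (a := 92970) (len := 18) h5165 sl_5165
  have h5167 : ∀ u < 93006, (fun u => chkSlp tab slp u) u = true := ext_range (a := 92988) (len := 18) h5166 sl_5166
  have h5168 : ∀ u < 93024, (fun u => chkSlp tab slp u) u = true := ext_range (a := 93006) (len := 18) h5167 sl_5167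
  have h5169 : ∀ u < 93042, (fun u => chkSlp tab slp u) u = true := ext_range (a := 93024) (len := 18) h5168 sl_5168
  have h5170 : ∀ u < 93060, (fun u => chkSlp tab slp u) u = true := ext_range (a := 93042) (len := 18) h5169 sl_5169
  have h5171 : ∀ u < 93078, (fun u => chkSlp tab slp u) u = true := ext_range (a := 93060) (len := 18) h5170 sl_5170
  have h5172 : ∀ u < 93096, (fun u => chkSlp tab slp u) u = true := ext_range (a := 93078) (len := 18) h5171 sl_5171
  have h5173 : ∀ u < 93114, (fun u => chkSlp tab slp u) u = true := ext_range (a := 93096) (len := 18) h5172 sl_5172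
  have h5174 : ∀ u < 93132, (fun u => chkSlp tab slp u) u = true := ext_range (a := 93114) (len := 18) h5173 sl_5173
  have h5175 : ∀ u < 93150, (fun u => chkSlp tab slp u) u = true := ext_range (a := 93132) (len := 18) h5174 sl_5174
  have h5176 : ∀ u < 93168, (fun u => chkSlp tab slp u) u = true := ext_range (a := 93150) (len := 18) h5175 sl_5175
  have h5177 : ∀ u < 93186, (fun u => chkSlp tab slp u) u = true := ext_range (a := 93168) (len := 18) h5176 sl_5176
  have h5178 : ∀ u < 93204, (fun u => chkSlp tab slp u) u = true := ext_range (a := 93186) (len := 18) h5177 sl_5177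
  have h5179 : ∀ u < 93222, (fun u => chkSlp tab slp u) u = true := ext_range (a := 93204) (len := 18) h5178 sl_5178
  have h5180 : ∀ u < 93240, (fun u => chkSlp tab slp u) u = true := ext_range (a := 93222) (len := 18) h5179 sl_5179
  have h5181 : ∀ u < 93258, (fun u => chkSlp tab slp u) u = true := ext_range (a := 93240) (len := 18) h5180 sl_5180
  have h5182 : ∀ u < 93276, (fun u => chkSlp tab slp u) u = true := ext_range (a := 93258) (len := 18) h5181 sl_5181
  have h5183 : ∀ u < 93294, (fun u => chkSlp tab slp u) u = true := ext_range (a := 93276) (len := 18) h5182 sl_5182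
  have h5184 : ∀ u < 93312, (fun u => chkSlp tab slp u) u = true := ext_range (a := 93294) (len := 18) h5183 sl_5183
  have h5185 : ∀ u < 93330, (fun u => chkSlp tab slp u) u = true := ext_range (a := 93312) (len := 18) h5184 sl_5184
  have h5186 : ∀ u < 93348, (fun u => chkSlp tab slp u) u = true := ext_range (a := 93330) (len := 18) h5185 sl_5185
  have h5187 : ∀ u < 93366, (fun u => chkSlp tab slp u) u = true := ext_range (a := 93348) (len := 18) h5186 sl_5186
  have h5188 : ∀ u < 93384, (fun u => chkSlp tab slp u) u = true := ext_range (a := 93366) (len := 18) h5187 sl_5187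
  have h5189 : ∀ u < 93402, (fun u => chkSlp tab slp u) u = true := ext_range (a := 93384) (len := 18) h5188 sl_5188
  have h5190 : ∀ u < 93420, (fun u => chkSlp tab slp u) u = true := ext_range (a := 93402) (len := 18) h5189 sl_5189
  have h5191 : ∀ u < 93438, (fun u => chkSlp tab slp u) u = true := ext_range (a := 93420) (len := 18) h5190 sl_5190
  have h5192 : ∀ u < 93456, (fun u => chkSlp tab slp u) u = true := ext_range (a := 93438) (len := 18) h5191 sl_5191
  have h5193 : ∀ u < 93474, (fun u => chkSlp tab slp u) u = true := ext_range (a := 93456) (len := 18) h5192 sl_5192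
  have h5194 : ∀ u < 93492, (fun u => chkSlp tab slp u) u = true := ext_range (a := 93474) (len := 18) h5193 sl_5193
  have h5195 : ∀ u < 93510, (fun u => chkSlp tab slp u) u = true := ext_range (a := 93492) (len := 18) h5194 sl_5194
  have h5196 : ∀ u < 93528, (fun u => chkSlp tab slp u) u = true := ext_range (a := 93510) (len := 18) h5195 sl_5195
  have h5197 : ∀ u < 93546, (fun u => chkSlp tab slp u) u = true := ext_range (a := 93528) (len := 18) h5196 sl_5196
  have h5198 : ∀ u < 93564, (fun u => chkSlp tab slp u) u = true := ext_range (a := 93546) (len := 18) h5197 sl_5197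
  have h5199 : ∀ u < 93582, (fun u => chkSlp tab slp u) u = true := ext_range (a := 93564) (len := 18) h5198 sl_5198
  have h5200 : ∀ u < 93600, (fun u => chkSlp tab slp u) u = true := ext_range (a := 93582) (len := 18) h5199 sl_5199
  have h5201 : ∀ u < 93618, (fun u => chkSlp tab slp u) u = true := ext_range (a := 93600) (len := 18) h5200 sl_5200
  have h5202 : ∀ u < 93636, (fun u => chkSlp tab slp u) u = true := ext_range (a := 93618) (len := 18) h5201 sl_5201
  have h5203 : ∀ u < 93654, (fun u => chkSlp tab slp u) u = true := ext_range (a := 93636) (len := 18) h5202 sl_5202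
  have h5204 : ∀ u < 93672, (fun u => chkSlp tab slp u) u = true := ext_range (a := 93654) (len := 18) h5203 sl_5203
  have h5205 : ∀ u < 93690, (fun u => chkSlp tab slp u) u = true := ext_range (a := 93672) (len := 18) h5204 sl_5204
  have h5206 : ∀ u < 93708, (fun u => chkSlp tab slp u) u = true := ext_range (a := 93690) (len := 18) h5205 sl_5205
  have h5207 : ∀ u < 93726, (fun u => chkSlp tab slp u) u = true := ext_range (a := 93708) (len := 18) h5206 sl_5206
  have h5208 : ∀ u < 93744, (fun u => chkSlp tab slp u) u = true := ext_range (a := 93726) (len := 18) h5207 sl_5207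
  have h5209 : ∀ u < 93762, (fun u => chkSlp tab slp u) u = true := ext_range (a := 93744) (len := 18) h5208 sl_5208
  have h5210 : ∀ u < 93780, (fun u => chkSlp tab slp u) u = true := ext_range (a := 93762) (len := 18) h5209 sl_5209
  have h5211 : ∀ u < 93798, (fun u => chkSlp tab slp u) u = true := ext_range (a := 93780) (len := 18) h5210 sl_5210
  have h5212 : ∀ u < 93816, (fun u => chkSlp tab slp u) u = true := ext_range (a := 93798) (len := 18) h5211 sl_5211
  have h5213 : ∀ u < 93834, (fun u => chkSlp tab slp u) u = true := ext_range (a := 93816) (len := 18) h5212 sl_5212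
  have h5214 : ∀ u < 93852, (fun u => chkSlp tab slp u) u = true := ext_range (a := 93834) (len := 18) h5213 sl_5213
  have h5215 : ∀ u < 93870, (fun u => chkSlp tab slp u) u = true := ext_range (a := 93852) (len := 18) h5214 sl_5214
  have h5216 : ∀ u < 93888, (fun u => chkSlp tab slp u) u = true := ext_range (a := 93870) (len := 18) h5215 sl_5215
  have h5217 : ∀ u < 93906, (fun u => chkSlp tab slp u) u = true := ext_range (a := 93888) (len := 18) h5216 sl_5216
  have h5218 : ∀ u < 93924, (fun u => chkSlp tab slp u) u = true := ext_range (a := 93906) (len := 18) h5217 sl_5217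
  have h5219 : ∀ u < 93942, (fun u => chkSlp tab slp u) u = true := ext_range (a := 93924) (len := 18) h5218 sl_5218
  have h5220 : ∀ u < 93960, (fun u => chkSlp tab slp u) u = true := ext_range (a := 93942) (len := 18) h5219 sl_5219
  have h5221 : ∀ u < 93978, (fun u => chkSlp tab slp u) u = true := ext_range (a := 93960) (len := 18) h5220 sl_5220
  have h5222 : ∀ u < 93996, (fun u => chkSlp tab slp u) u = true := ext_range (a := 93978) (len := 18) h5221 sl_5221
  have h5223 : ∀ u < 94014, (fun u => chkSlp tab slp u) u = true := ext_range (a := 93996) (len := 18) h5222 sl_5222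
  have h5224 : ∀ u < 94032, (fun u => chkSlp tab slp u) u = true := ext_range (a := 94014) (len := 18) h5223 sl_5223
  have h5225 : ∀ u < 94050, (fun u => chkSlp tab slp u) u = true := ext_range (a := 94032) (len := 18) h5224 sl_5224
  have h5226 : ∀ u < 94068, (fun u => chkSlp tab slp u) u = true := ext_range (a := 94050) (len := 18) h5225 sl_5225
  have h5227 : ∀ u < 94086, (fun u => chkSlp tab slp u) u = true := ext_range (a := 94068) (len := 18) h5226 sl_5226
  have h5228 : ∀ u < 94104, (fun u => chkSlp tab slp u) u = true := ext_range (a := 94086) (len := 18) h5227 sl_5227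
  have h5229 : ∀ u < 94122, (fun u => chkSlp tab slp u) u = true := ext_range (a := 94104) (len := 18) h5228 sl_5228
  have h5230 : ∀ u < 94140, (fun u => chkSlp tab slp u) u = true := ext_range (a := 94122) (len := 18) h5229 sl_5229
  have h5231 : ∀ u < 94158, (fun u => chkSlp tab slp u) u = true := ext_range (a := 94140) (len := 18) h5230 sl_5230
  have h5232 : ∀ u < 94176, (fun u => chkSlp tab slp u) u = true := ext_range (a := 94158) (len := 18) h5231 sl_5231
  have h5233 : ∀ u < 94194, (fun u => chkSlp tab slp u) u = true := ext_range (a := 94176) (len := 18) h5232 sl_5232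
  have h5234 : ∀ u < 94212, (fun u => chkSlp tab slp u) u = true := ext_range (a := 94194) (len := 18) h5233 sl_5233
  have h5235 : ∀ u < 94230, (fun u => chkSlp tab slp u) u = true := ext_range (a := 94212) (len := 18) h5234 sl_5234
  have h5236 : ∀ u < 94248, (fun u => chkSlp tab slp u) u = true := ext_range (a := 94230) (len := 18) h5235 sl_5235
  have h5237 : ∀ u < 94266, (fun u => chkSlp tab slp u) u = true := ext_range (a := 94248) (len := 18) h5236 sl_5236
  have h5238 : ∀ u < 94284, (fun u => chkSlp tab slp u) u = true := ext_range (a := 94266) (len := 18) h5237 sl_5237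
  have h5239 : ∀ u < 94302, (fun u => chkSlp tab slp u) u = true := ext_range (a := 94284) (len := 18) h5238 sl_5238
  have h5240 : ∀ u < 94320, (fun u => chkSlp tab slp u) u = true := ext_range (a := 94302) (len := 18) h5239 sl_5239
  have h5241 : ∀ u < 94338, (fun u => chkSlp tab slp u) u = true := ext_range (a := 94320) (len := 18) h5240 sl_5240
  have h5242 : ∀ u < 94356, (fun u => chkSlp tab slp u) u = true := ext_range (a := 94338) (len := 18) h5241 sl_5241
  have h5243 : ∀ u < 94374, (fun u => chkSlp tab slp u) u = true := ext_range (a := 94356) (len := 18) h5242 sl_5242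
  have h5244 : ∀ u < 94392, (fun u => chkSlp tab slp u) u = true := ext_range (a := 94374) (len := 18) h5243 sl_5243
  have h5245 : ∀ u < 94410, (fun u => chkSlp tab slp u) u = true := ext_range (a := 94392) (len := 18) h5244 sl_5244
  have h5246 : ∀ u < 94428, (fun u => chkSlp tab slp u) u = true := ext_range (a := 94410) (len := 18) h5245 sl_5245
  have h5247 : ∀ u < 94446, (fun u => chkSlp tab slp u) u = true := ext_range (a := 94428) (len := 18) h5246 sl_5246
  have h5248 : ∀ u < 94464, (fun u => chkSlp tab slp u) u = true := ext_range (a := 94446) (len := 18) h5247 sl_5247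
  have h5249 : ∀ u < 94482, (fun u => chkSlp tab slp u) u = true := ext_range (a := 94464) (len := 18) h5248 sl_5248
  have h5250 : ∀ u < 94500, (fun u => chkSlp tab slp u) u = true := ext_range (a := 94482) (len := 18) h5249 sl_5249
  have h5251 : ∀ u < 94518, (fun u => chkSlp tab slp u) u = true := ext_range (a := 94500) (len := 18) h5250 sl_5250
  have h5252 : ∀ u < 94536, (fun u => chkSlp tab slp u) u = true := ext_range (a := 94518) (len := 18) h5251 sl_5251
  have h5253 : ∀ u < 94554, (fun u => chkSlp tab slp u) u = true := ext_range (a := 94536) (len := 18) h5252 sl_5252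
  have h5254 : ∀ u < 94572, (fun u => chkSlp tab slp u) u = true := ext_range (a := 94554) (len := 18) h5253 sl_5253
  have h5255 : ∀ u < 94590, (fun u => chkSlp tab slp u) u = true := ext_range (a := 94572) (len := 18) h5254 sl_5254
  have h5256 : ∀ u < 94608, (fun u => chkSlp tab slp u) u = true := ext_range (a := 94590) (len := 18) h5255 sl_5255
  have h5257 : ∀ u < 94626, (fun u => chkSlp tab slp u) u = true := ext_range (a := 94608) (len := 18) h5256 sl_5256
  have h5258 : ∀ u < 94644, (fun u => chkSlp tab slp u) u = true := ext_range (a := 94626) (len := 18) h5257 sl_5257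
  have h5259 : ∀ u < 94662, (fun u => chkSlp tab slp u) u = true := ext_range (a := 94644) (len := 18) h5258 sl_5258
  have h5260 : ∀ u < 94680, (fun u => chkSlp tab slp u) u = true := ext_range (a := 94662) (len := 18) h5259 sl_5259
  have h5261 : ∀ u < 94698, (fun u => chkSlp tab slp u) u = true := ext_range (a := 94680) (len := 18) h5260 sl_5260
  have h5262 : ∀ u < 94716, (fun u => chkSlp tab slp u) u = true := ext_range (a := 94698) (len := 18) h5261 sl_5261
  have h5263 : ∀ u < 94734, (fun u => chkSlp tab slp u) u = true := ext_range (a := 94716) (len := 18) h5262 sl_5262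
  have h5264 : ∀ u < 94752, (fun u => chkSlp tab slp u) u = true := ext_range (a := 94734) (len := 18) h5263 sl_5263
  have h5265 : ∀ u < 94770, (fun u => chkSlp tab slp u) u = true := ext_range (a := 94752) (len := 18) h5264 sl_5264
  have h5266 : ∀ u < 94788, (fun u => chkSlp tab slp u) u = true := ext_range (a := 94770) (len := 18) h5265 sl_5265
  have h5267 : ∀ u < 94806, (fun u => chkSlp tab slp u) u = true := ext_range (a := 94788) (len := 18) h5266 sl_5266
  have h5268 : ∀ u < 94824, (fun u => chkSlp tab slp u) u = true := ext_range (a := 94806) (len := 18) h5267 sl_5267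
  have h5269 : ∀ u < 94842, (fun u => chkSlp tab slp u) u = true := ext_range (a := 94824) (len := 18) h5268 sl_5268
  have h5270 : ∀ u < 94860, (fun u => chkSlp tab slp u) u = true := ext_range (a := 94842) (len := 18) h5269 sl_5269
  have h5271 : ∀ u < 94878, (fun u => chkSlp tab slp u) u = true := ext_range (a := 94860) (len := 18) h5270 sl_5270
  have h5272 : ∀ u < 94896, (fun u => chkSlp tab slp u) u = true := ext_range (a := 94878) (len := 18) h5271 sl_5271
  have h5273 : ∀ u < 94914, (fun u => chkSlp tab slp u) u = true := ext_range (a := 94896) (len := 18) h5272 sl_5272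
  have h5274 : ∀ u < 94932, (fun u => chkSlp tab slp u) u = true := ext_range (a := 94914) (len := 18) h5273 sl_5273
  have h5275 : ∀ u < 94950, (fun u => chkSlp tab slp u) u = true := ext_range (a := 94932) (len := 18) h5274 sl_5274
  have h5276 : ∀ u < 94968, (fun u => chkSlp tab slp u) u = true := ext_range (a := 94950) (len := 18) h5275 sl_5275
  have h5277 : ∀ u < 94986, (fun u => chkSlp tab slp u) u = true := ext_range (a := 94968) (len := 18) h5276 sl_5276
  have h5278 : ∀ u < 95004, (fun u => chkSlp tab slp u) u = true := ext_range (a := 94986) (len := 18) h5277 sl_5277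
  have h5279 : ∀ u < 95022, (fun u => chkSlp tab slp u) u = true := ext_range (a := 95004) (len := 18) h5278 sl_5278
  have h5280 : ∀ u < 95040, (fun u => chkSlp tab slp u) u = true := ext_range (a := 95022) (len := 18) h5279 sl_5279
  have h5281 : ∀ u < 95058, (fun u => chkSlp tab slp u) u = true := ext_range (a := 95040) (len := 18) h5280 sl_5280
  have h5282 : ∀ u < 95076, (fun u => chkSlp tab slp u) u = true := ext_range (a := 95058) (len := 18) h5281 sl_5281
  have h5283 : ∀ u < 95094, (fun u => chkSlp tab slp u) u = true := ext_range (a := 95076) (len := 18) h5282 sl_5282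
  have h5284 : ∀ u < 95112, (fun u => chkSlp tab slp u) u = true := ext_range (a := 95094) (len := 18) h5283 sl_5283
  have h5285 : ∀ u < 95130, (fun u => chkSlp tab slp u) u = true := ext_range (a := 95112) (len := 18) h5284 sl_5284
  have h5286 : ∀ u < 95148, (fun u => chkSlp tab slp u) u = true := ext_range (a := 95130) (len := 18) h5285 sl_5285
  have h5287 : ∀ u < 95166, (fun u => chkSlp tab slp u) u = true := ext_range (a := 95148) (len := 18) h5286 sl_5286
  have h5288 : ∀ u < 95184, (fun u => chkSlp tab slp u) u = true := ext_range (a := 95166) (len := 18) h5287 sl_5287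
  have h5289 : ∀ u < 95202, (fun u => chkSlp tab slp u) u = true := ext_range (a := 95184) (len := 18) h5288 sl_5288
  have h5290 : ∀ u < 95220, (fun u => chkSlp tab slp u) u = true := ext_range (a := 95202) (len := 18) h5289 sl_5289
  have h5291 : ∀ u < 95238, (fun u => chkSlp tab slp u) u = true := ext_range (a := 95220) (len := 18) h5290 sl_5290
  have h5292 : ∀ u < 95256, (fun u => chkSlp tab slp u) u = true := ext_range (a := 95238) (len := 18) h5291 sl_5291
  have h5293 : ∀ u < 95274, (fun u => chkSlp tab slp u) u = true := ext_range (a := 95256) (len := 18) h5292 sl_5292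
  have h5294 : ∀ u < 95292, (fun u => chkSlp tab slp u) u = true := ext_range (a := 95274) (len := 18) h5293 sl_5293
  have h5295 : ∀ u < 95310, (fun u => chkSlp tab slp u) u = true := ext_range (a := 95292) (len := 18) h5294 sl_5294
  have h5296 : ∀ u < 95328, (fun u => chkSlp tab slp u) u = true := ext_range (a := 95310) (len := 18) h5295 sl_5295
  have h5297 : ∀ u < 95346, (fun u => chkSlp tab slp u) u = true := ext_range (a := 95328) (len := 18) h5296 sl_5296
  have h5298 : ∀ u < 95364, (fun u => chkSlp tab slp u) u = true := ext_range (a := 95346) (len := 18) h5297 sl_5297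
  have h5299 : ∀ u < 95382, (fun u => chkSlp tab slp u) u = true := ext_range (a := 95364) (len := 18) h5298 sl_5298
  have h5300 : ∀ u < 95400, (fun u => chkSlp tab slp u) u = true := ext_range (a := 95382) (len := 18) h5299 sl_5299
  have h5301 : ∀ u < 95418, (fun u => chkSlp tab slp u) u = true := ext_range (a := 95400) (len := 18) h5300 sl_5300
  have h5302 : ∀ u < 95436, (fun u => chkSlp tab slp u) u = true := ext_range (a := 95418) (len := 18) h5301 sl_5301
  have h5303 : ∀ u < 95454, (fun u => chkSlp tab slp u) u = true := ext_range (a := 95436) (len := 18) h5302 sl_5302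
  have h5304 : ∀ u < 95472, (fun u => chkSlp tab slp u) u = true := ext_range (a := 95454) (len := 18) h5303 sl_5303
  have h5305 : ∀ u < 95490, (fun u => chkSlp tab slp u) u = true := ext_range (a := 95472) (len := 18) h5304 sl_5304
  have h5306 : ∀ u < 95508, (fun u => chkSlp tab slp u) u = true := ext_range (a := 95490) (len := 18) h5305 sl_5305
  have h5307 : ∀ u < 95526, (fun u => chkSlp tab slp u) u = true := ext_range (a := 95508) (len := 18) h5306 sl_5306
  have h5308 : ∀ u < 95544, (fun u => chkSlp tab slp u) u = true := ext_range (a := 95526) (len := 18) h5307 sl_5307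
  have h5309 : ∀ u < 95562, (fun u => chkSlp tab slp u) u = true := ext_range (a := 95544) (len := 18) h5308 sl_5308
  have h5310 : ∀ u < 95580, (fun u => chkSlp tab slp u) u = true := ext_range (a := 95562) (len := 18) h5309 sl_5309
  have h5311 : ∀ u < 95598, (fun u => chkSlp tab slp u) u = true := ext_range (a := 95580) (len := 18) h5310 sl_5310
  have h5312 : ∀ u < 95616, (fun u => chkSlp tab slp u) u = true := ext_range (a := 95598) (len := 18) h5311 sl_5311
  have h5313 : ∀ u < 95634, (fun u => chkSlp tab slp u) u = true := ext_range (a := 95616) (len := 18) h5312 sl_5312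
  have h5314 : ∀ u < 95652, (fun u => chkSlp tab slp u) u = true := ext_range (a := 95634) (len := 18) h5313 sl_5313
  have h5315 : ∀ u < 95670, (fun u => chkSlp tab slp u) u = true := ext_range (a := 95652) (len := 18) h5314 sl_5314
  have h5316 : ∀ u < 95688, (fun u => chkSlp tab slp u) u = true := ext_range (a := 95670) (len := 18) h5315 sl_5315
  have h5317 : ∀ u < 95706, (fun u => chkSlp tab slp u) u = true := ext_range (a := 95688) (len := 18) h5316 sl_5316
  have h5318 : ∀ u < 95724, (fun u => chkSlp tab slp u) u = true := ext_range (a := 95706) (len := 18) h5317 sl_5317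
  have h5319 : ∀ u < 95742, (fun u => chkSlp tab slp u) u = true := ext_range (a := 95724) (len := 18) h5318 sl_5318
  have h5320 : ∀ u < 95760, (fun u => chkSlp tab slp u) u = true := ext_range (a := 95742) (len := 18) h5319 sl_5319
  have h5321 : ∀ u < 95778, (fun u => chkSlp tab slp u) u = true := ext_range (a := 95760) (len := 18) h5320 sl_5320
  have h5322 : ∀ u < 95796, (fun u => chkSlp tab slp u) u = true := ext_range (a := 95778) (len := 18) h5321 sl_5321
  have h5323 : ∀ u < 95814, (fun u => chkSlp tab slp u) u = true := ext_range (a := 95796) (len := 18) h5322 sl_5322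
  have h5324 : ∀ u < 95832, (fun u => chkSlp tab slp u) u = true := ext_range (a := 95814) (len := 18) h5323 sl_5323
  have h5325 : ∀ u < 95850, (fun u => chkSlp tab slp u) u = true := ext_range (a := 95832) (len := 18) h5324 sl_5324
  have h5326 : ∀ u < 95868, (fun u => chkSlp tab slp u) u = true := ext_range (a := 95850) (len := 18) h5325 sl_5325
  have h5327 : ∀ u < 95886, (fun u => chkSlp tab slp u) u = true := ext_range (a := 95868) (len := 18) h5326 sl_5326
  have h5328 : ∀ u < 95904, (fun u => chkSlp tab slp u) u = true := ext_range (a := 95886) (len := 18) h5327 sl_5327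
  have h5329 : ∀ u < 95922, (fun u => chkSlp tab slp u) u = true := ext_range (a := 95904) (len := 18) h5328 sl_5328
  have h5330 : ∀ u < 95940, (fun u => chkSlp tab slp u) u = true := ext_range (a := 95922) (len := 18) h5329 sl_5329
  have h5331 : ∀ u < 95958, (fun u => chkSlp tab slp u) u = true := ext_range (a := 95940) (len := 18) h5330 sl_5330
  have h5332 : ∀ u < 95976, (fun u => chkSlp tab slp u) u = true := ext_range (a := 95958) (len := 18) h5331 sl_5331
  have h5333 : ∀ u < 95994, (fun u => chkSlp tab slp u) u = true := ext_range (a := 95976) (len := 18) h5332 sl_5332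
  have h5334 : ∀ u < 96012, (fun u => chkSlp tab slp u) u = true := ext_range (a := 95994) (len := 18) h5333 sl_5333
  have h5335 : ∀ u < 96030, (fun u => chkSlp tab slp u) u = true := ext_range (a := 96012) (len := 18) h5334 sl_5334
  have h5336 : ∀ u < 96048, (fun u => chkSlp tab slp u) u = true := ext_range (a := 96030) (len := 18) h5335 sl_5335
  have h5337 : ∀ u < 96066, (fun u => chkSlp tab slp u) u = true := ext_range (a := 96048) (len := 18) h5336 sl_5336
  have h5338 : ∀ u < 96084, (fun u => chkSlp tab slp u) u = true := ext_range (a := 96066) (len := 18) h5337 sl_5337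
  have h5339 : ∀ u < 96102, (fun u => chkSlp tab slp u) u = true := ext_range (a := 96084) (len := 18) h5338 sl_5338
  have h5340 : ∀ u < 96120, (fun u => chkSlp tab slp u) u = true := ext_range (a := 96102) (len := 18) h5339 sl_5339
  have h5341 : ∀ u < 96138, (fun u => chkSlp tab slp u) u = true := ext_range (a := 96120) (len := 18) h5340 sl_5340
  have h5342 : ∀ u < 96156, (fun u => chkSlp tab slp u) u = true := ext_range (a := 96138) (len := 18) h5341 sl_5341
  have h5343 : ∀ u < 96174, (fun u => chkSlp tab slp u) u = true := ext_range (a := 96156) (len := 18) h5342 sl_5342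
  have h5344 : ∀ u < 96192, (fun u => chkSlp tab slp u) u = true := ext_range (a := 96174) (len := 18) h5343 sl_5343
  have h5345 : ∀ u < 96210, (fun u => chkSlp tab slp u) u = true := ext_range (a := 96192) (len := 18) h5344 sl_5344
  have h5346 : ∀ u < 96228, (fun u => chkSlp tab slp u) u = true := ext_range (a := 96210) (len := 18) h5345 sl_5345
  have h5347 : ∀ u < 96246, (fun u => chkSlp tab slp u) u = true := ext_range (a := 96228) (len := 18) h5346 sl_5346
  have h5348 : ∀ u < 96264, (fun u => chkSlp tab slp u) u = true := ext_range (a := 96246) (len := 18) h5347 sl_5347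
  have h5349 : ∀ u < 96282, (fun u => chkSlp tab slp u) u = true := ext_range (a := 96264) (len := 18) h5348 sl_5348
  have h5350 : ∀ u < 96300, (fun u => chkSlp tab slp u) u = true := ext_range (a := 96282) (len := 18) h5349 sl_5349
  have h5351 : ∀ u < 96318, (fun u => chkSlp tab slp u) u = true := ext_range (a := 96300) (len := 18) h5350 sl_5350
  have h5352 : ∀ u < 96336, (fun u => chkSlp tab slp u) u = true := ext_range (a := 96318) (len := 18) h5351 sl_5351
  have h5353 : ∀ u < 96354, (fun u => chkSlp tab slp u) u = true := ext_range (a := 96336) (len := 18) h5352 sl_5352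
  have h5354 : ∀ u < 96372, (fun u => chkSlp tab slp u) u = true := ext_range (a := 96354) (len := 18) h5353 sl_5353
  have h5355 : ∀ u < 96390, (fun u => chkSlp tab slp u) u = true := ext_range (a := 96372) (len := 18) h5354 sl_5354
  have h5356 : ∀ u < 96408, (fun u => chkSlp tab slp u) u = true := ext_range (a := 96390) (len := 18) h5355 sl_5355
  have h5357 : ∀ u < 96426, (fun u => chkSlp tab slp u) u = true := ext_range (a := 96408) (len := 18) h5356 sl_5356
  have h5358 : ∀ u < 96444, (fun u => chkSlp tab slp u) u = true := ext_range (a := 96426) (len := 18) h5357 sl_5357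
  have h5359 : ∀ u < 96462, (fun u => chkSlp tab slp u) u = true := ext_range (a := 96444) (len := 18) h5358 sl_5358
  have h5360 : ∀ u < 96480, (fun u => chkSlp tab slp u) u = true := ext_range (a := 96462) (len := 18) h5359 sl_5359
  have h5361 : ∀ u < 96498, (fun u => chkSlp tab slp u) u = true := ext_range (a := 96480) (len := 18) h5360 sl_5360
  have h5362 : ∀ u < 96516, (fun u => chkSlp tab slp u) u = true := ext_range (a := 96498) (len := 18) h5361 sl_5361
  have h5363 : ∀ u < 96534, (fun u => chkSlp tab slp u) u = true := ext_range (a := 96516) (len := 18) h5362 sl_5362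
  have h5364 : ∀ u < 96552, (fun u => chkSlp tab slp u) u = true := ext_range (a := 96534) (len := 18) h5363 sl_5363
  have h5365 : ∀ u < 96570, (fun u => chkSlp tab slp u) u = true := ext_range (a := 96552) (len := 18) h5364 sl_5364
  have h5366 : ∀ u < 96588, (fun u => chkSlp tab slp u) u = true := ext_range (a := 96570) (len := 18) h5365 sl_5365
  have h5367 : ∀ u < 96606, (fun u => chkSlp tab slp u) u = true := ext_range (a := 96588) (len := 18) h5366 sl_5366
  have h5368 : ∀ u < 96624, (fun u => chkSlp tab slp u) u = true := ext_range (a := 96606) (len := 18) h5367 sl_5367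
  have h5369 : ∀ u < 96642, (fun u => chkSlp tab slp u) u = true := ext_range (a := 96624) (len := 18) h5368 sl_5368
  have h5370 : ∀ u < 96660, (fun u => chkSlp tab slp u) u = true := ext_range (a := 96642) (len := 18) h5369 sl_5369
  have h5371 : ∀ u < 96678, (fun u => chkSlp tab slp u) u = true := ext_range (a := 96660) (len := 18) h5370 sl_5370
  have h5372 : ∀ u < 96696, (fun u => chkSlp tab slp u) u = true := ext_range (a := 96678) (len := 18) h5371 sl_5371
  have h5373 : ∀ u < 96714, (fun u => chkSlp tab slp u) u = true := ext_range (a := 96696) (len := 18) h5372 sl_5372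
  have h5374 : ∀ u < 96732, (fun u => chkSlp tab slp u) u = true := ext_range (a := 96714) (len := 18) h5373 sl_5373
  have h5375 : ∀ u < 96750, (fun u => chkSlp tab slp u) u = true := ext_range (a := 96732) (len := 18) h5374 sl_5374
  have h5376 : ∀ u < 96768, (fun u => chkSlp tab slp u) u = true := ext_range (a := 96750) (len := 18) h5375 sl_5375
  have h5377 : ∀ u < 96786, (fun u => chkSlp tab slp u) u = true := ext_range (a := 96768) (len := 18) h5376 sl_5376
  have h5378 : ∀ u < 96804, (fun u => chkSlp tab slp u) u = true := ext_range (a := 96786) (len := 18) h5377 sl_5377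
  have h5379 : ∀ u < 96822, (fun u => chkSlp tab slp u) u = true := ext_range (a := 96804) (len := 18) h5378 sl_5378
  have h5380 : ∀ u < 96840, (fun u => chkSlp tab slp u) u = true := ext_range (a := 96822) (len := 18) h5379 sl_5379
  have h5381 : ∀ u < 96858, (fun u => chkSlp tab slp u) u = true := ext_range (a := 96840) (len := 18) h5380 sl_5380
  have h5382 : ∀ u < 96876, (fun u => chkSlp tab slp u) u = true := ext_range (a := 96858) (len := 18) h5381 sl_5381
  have h5383 : ∀ u < 96894, (fun u => chkSlp tab slp u) u = true := ext_range (a := 96876) (len := 18) h5382 sl_5382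
  have h5384 : ∀ u < 96912, (fun u => chkSlp tab slp u) u = true := ext_range (a := 96894) (len := 18) h5383 sl_5383
  have h5385 : ∀ u < 96930, (fun u => chkSlp tab slp u) u = true := ext_range (a := 96912) (len := 18) h5384 sl_5384
  have h5386 : ∀ u < 96948, (fun u => chkSlp tab slp u) u = true := ext_range (a := 96930) (len := 18) h5385 sl_5385
  have h5387 : ∀ u < 96966, (fun u => chkSlp tab slp u) u = true := ext_range (a := 96948) (len := 18) h5386 sl_5386
  have h5388 : ∀ u < 96984, (fun u => chkSlp tab slp u) u = true := ext_range (a := 96966) (len := 18) h5387 sl_5387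
  have h5389 : ∀ u < 97002, (fun u => chkSlp tab slp u) u = true := ext_range (a := 96984) (len := 18) h5388 sl_5388
  have h5390 : ∀ u < 97020, (fun u => chkSlp tab slp u) u = true := ext_range (a := 97002) (len := 18) h5389 sl_5389
  have h5391 : ∀ u < 97038, (fun u => chkSlp tab slp u) u = true := ext_range (a := 97020) (len := 18) h5390 sl_5390
  have h5392 : ∀ u < 97056, (fun u => chkSlp tab slp u) u = true := ext_range (a := 97038) (len := 18) h5391 sl_5391
  have h5393 : ∀ u < 97074, (fun u => chkSlp tab slp u) u = true := ext_range (a := 97056) (len := 18) h5392 sl_5392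
  have h5394 : ∀ u < 97092, (fun u => chkSlp tab slp u) u = true := ext_range (a := 97074) (len := 18) h5393 sl_5393
  have h5395 : ∀ u < 97110, (fun u => chkSlp tab slp u) u = true := ext_range (a := 97092) (len := 18) h5394 sl_5394
  have h5396 : ∀ u < 97128, (fun u => chkSlp tab slp u) u = true := ext_range (a := 97110) (len := 18) h5395 sl_5395
  have h5397 : ∀ u < 97146, (fun u => chkSlp tab slp u) u = true := ext_range (a := 97128) (len := 18) h5396 sl_5396
  have h5398 : ∀ u < 97164, (fun u => chkSlp tab slp u) u = true := ext_range (a := 97146) (len := 18) h5397 sl_5397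
  have h5399 : ∀ u < 97182, (fun u => chkSlp tab slp u) u = true := ext_range (a := 97164) (len := 18) h5398 sl_5398
  have h5400 : ∀ u < 97200, (fun u => chkSlp tab slp u) u = true := ext_range (a := 97182) (len := 18) h5399 sl_5399
  have h5401 : ∀ u < 97218, (fun u => chkSlp tab slp u) u = true := ext_range (a := 97200) (len := 18) h5400 sl_5400
  have h5402 : ∀ u < 97236, (fun u => chkSlp tab slp u) u = true := ext_range (a := 97218) (len := 18) h5401 sl_5401
  have h5403 : ∀ u < 97254, (fun u => chkSlp tab slp u) u = true := ext_range (a := 97236) (len := 18) h5402 sl_5402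
  have h5404 : ∀ u < 97272, (fun u => chkSlp tab slp u) u = true := ext_range (a := 97254) (len := 18) h5403 sl_5403
  have h5405 : ∀ u < 97290, (fun u => chkSlp tab slp u) u = true := ext_range (a := 97272) (len := 18) h5404 sl_5404
  have h5406 : ∀ u < 97308, (fun u => chkSlp tab slp u) u = true := ext_range (a := 97290) (len := 18) h5405 sl_5405
  have h5407 : ∀ u < 97326, (fun u => chkSlp tab slp u) u = true := ext_range (a := 97308) (len := 18) h5406 sl_5406
  have h5408 : ∀ u < 97344, (fun u => chkSlp tab slp u) u = true := ext_range (a := 97326) (len := 18) h5407 sl_5407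
  have h5409 : ∀ u < 97362, (fun u => chkSlp tab slp u) u = true := ext_range (a := 97344) (len := 18) h5408 sl_5408
  have h5410 : ∀ u < 97380, (fun u => chkSlp tab slp u) u = true := ext_range (a := 97362) (len := 18) h5409 sl_5409
  have h5411 : ∀ u < 97398, (fun u => chkSlp tab slp u) u = true := ext_range (a := 97380) (len := 18) h5410 sl_5410
  have h5412 : ∀ u < 97416, (fun u => chkSlp tab slp u) u = true := ext_range (a := 97398) (len := 18) h5411 sl_5411
  have h5413 : ∀ u < 97434, (fun u => chkSlp tab slp u) u = true := ext_range (a := 97416) (len := 18) h5412 sl_5412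
  have h5414 : ∀ u < 97452, (fun u => chkSlp tab slp u) u = true := ext_range (a := 97434) (len := 18) h5413 sl_5413
  have h5415 : ∀ u < 97470, (fun u => chkSlp tab slp u) u = true := ext_range (a := 97452) (len := 18) h5414 sl_5414
  have h5416 : ∀ u < 97488, (fun u => chkSlp tab slp u) u = true := ext_range (a := 97470) (len := 18) h5415 sl_5415
  have h5417 : ∀ u < 97506, (fun u => chkSlp tab slp u) u = true := ext_range (a := 97488) (len := 18) h5416 sl_5416
  have h5418 : ∀ u < 97524, (fun u => chkSlp tab slp u) u = true := ext_range (a := 97506) (len := 18) h5417 sl_5417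
  have h5419 : ∀ u < 97542, (fun u => chkSlp tab slp u) u = true := ext_range (a := 97524) (len := 18) h5418 sl_5418
  have h5420 : ∀ u < 97560, (fun u => chkSlp tab slp u) u = true := ext_range (a := 97542) (len := 18) h5419 sl_5419
  have h5421 : ∀ u < 97578, (fun u => chkSlp tab slp u) u = true := ext_range (a := 97560) (len := 18) h5420 sl_5420
  have h5422 : ∀ u < 97596, (fun u => chkSlp tab slp u) u = true := ext_range (a := 97578) (len := 18) h5421 sl_5421
  have h5423 : ∀ u < 97614, (fun u => chkSlp tab slp u) u = true := ext_range (a := 97596) (len := 18) h5422 sl_5422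
  have h5424 : ∀ u < 97632, (fun u => chkSlp tab slp u) u = true := ext_range (a := 97614) (len := 18) h5423 sl_5423
  have h5425 : ∀ u < 97650, (fun u => chkSlp tab slp u) u = true := ext_range (a := 97632) (len := 18) h5424 sl_5424
  have h5426 : ∀ u < 97668, (fun u => chkSlp tab slp u) u = true := ext_range (a := 97650) (len := 18) h5425 sl_5425
  have h5427 : ∀ u < 97686, (fun u => chkSlp tab slp u) u = true := ext_range (a := 97668) (len := 18) h5426 sl_5426
  have h5428 : ∀ u < 97704, (fun u => chkSlp tab slp u) u = true := ext_range (a := 97686) (len := 18) h5427 sl_5427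
  have h5429 : ∀ u < 97722, (fun u => chkSlp tab slp u) u = true := ext_range (a := 97704) (len := 18) h5428 sl_5428
  have h5430 : ∀ u < 97740, (fun u => chkSlp tab slp u) u = true := ext_range (a := 97722) (len := 18) h5429 sl_5429
  have h5431 : ∀ u < 97758, (fun u => chkSlp tab slp u) u = true := ext_range (a := 97740) (len := 18) h5430 sl_5430
  have h5432 : ∀ u < 97776, (fun u => chkSlp tab slp u) u = true := ext_range (a := 97758) (len := 18) h5431 sl_5431
  have h5433 : ∀ u < 97794, (fun u => chkSlp tab slp u) u = true := ext_range (a := 97776) (len := 18) h5432 sl_5432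
  have h5434 : ∀ u < 97812, (fun u => chkSlp tab slp u) u = true := ext_range (a := 97794) (len := 18) h5433 sl_5433
  have h5435 : ∀ u < 97830, (fun u => chkSlp tab slp u) u = true := ext_range (a := 97812) (len := 18) h5434 sl_5434
  have h5436 : ∀ u < 97848, (fun u => chkSlp tab slp u) u = true := ext_range (a := 97830) (len := 18) h5435 sl_5435
  have h5437 : ∀ u < 97866, (fun u => chkSlp tab slp u) u = true := ext_range (a := 97848) (len := 18) h5436 sl_5436
  have h5438 : ∀ u < 97884, (fun u => chkSlp tab slp u) u = true := ext_range (a := 97866) (len := 18) h5437 sl_5437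
  have h5439 : ∀ u < 97902, (fun u => chkSlp tab slp u) u = true := ext_range (a := 97884) (len := 18) h5438 sl_5438
  have h5440 : ∀ u < 97920, (fun u => chkSlp tab slp u) u = true := ext_range (a := 97902) (len := 18) h5439 sl_5439
  have h5441 : ∀ u < 97938, (fun u => chkSlp tab slp u) u = true := ext_range (a := 97920) (len := 18) h5440 sl_5440
  have h5442 : ∀ u < 97956, (fun u => chkSlp tab slp u) u = true := ext_range (a := 97938) (len := 18) h5441 sl_5441
  have h5443 : ∀ u < 97974, (fun u => chkSlp tab slp u) u = true := ext_range (a := 97956) (len := 18) h5442 sl_5442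
  have h5444 : ∀ u < 97992, (fun u => chkSlp tab slp u) u = true := ext_range (a := 97974) (len := 18) h5443 sl_5443
  have h5445 : ∀ u < 98010, (fun u => chkSlp tab slp u) u = true := ext_range (a := 97992) (len := 18) h5444 sl_5444
  have h5446 : ∀ u < 98028, (fun u => chkSlp tab slp u) u = true := ext_range (a := 98010) (len := 18) h5445 sl_5445
  have h5447 : ∀ u < 98046, (fun u => chkSlp tab slp u) u = true := ext_range (a := 98028) (len := 18) h5446 sl_5446
  have h5448 : ∀ u < 98064, (fun u => chkSlp tab slp u) u = true := ext_range (a := 98046) (len := 18) h5447 sl_5447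
  have h5449 : ∀ u < 98082, (fun u => chkSlp tab slp u) u = true := ext_range (a := 98064) (len := 18) h5448 sl_5448
  have h5450 : ∀ u < 98100, (fun u => chkSlp tab slp u) u = true := ext_range (a := 98082) (len := 18) h5449 sl_5449
  have h5451 : ∀ u < 98118, (fun u => chkSlp tab slp u) u = true := ext_range (a := 98100) (len := 18) h5450 sl_5450
  have h5452 : ∀ u < 98136, (fun u => chkSlp tab slp u) u = true := ext_range (a := 98118) (len := 18) h5451 sl_5451
  have h5453 : ∀ u < 98154, (fun u => chkSlp tab slp u) u = true := ext_range (a := 98136) (len := 18) h5452 sl_5452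
  have h5454 : ∀ u < 98172, (fun u => chkSlp tab slp u) u = true := ext_range (a := 98154) (len := 18) h5453 sl_5453
  have h5455 : ∀ u < 98190, (fun u => chkSlp tab slp u) u = true := ext_range (a := 98172) (len := 18) h5454 sl_5454
  have h5456 : ∀ u < 98208, (fun u => chkSlp tab slp u) u = true := ext_range (a := 98190) (len := 18) h5455 sl_5455
  have h5457 : ∀ u < 98226, (fun u => chkSlp tab slp u) u = true := ext_range (a := 98208) (len := 18) h5456 sl_5456
  have h5458 : ∀ u < 98244, (fun u => chkSlp tab slp u) u = true := ext_range (a := 98226) (len := 18) h5457 sl_5457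
  have h5459 : ∀ u < 98262, (fun u => chkSlp tab slp u) u = true := ext_range (a := 98244) (len := 18) h5458 sl_5458
  have h5460 : ∀ u < 98280, (fun u => chkSlp tab slp u) u = true := ext_range (a := 98262) (len := 18) h5459 sl_5459
  have h5461 : ∀ u < 98298, (fun u => chkSlp tab slp u) u = true := ext_range (a := 98280) (len := 18) h5460 sl_5460
  have h5462 : ∀ u < 98316, (fun u => chkSlp tab slp u) u = true := ext_range (a := 98298) (len := 18) h5461 sl_5461
  have h5463 : ∀ u < 98334, (fun u => chkSlp tab slp u) u = true := ext_range (a := 98316) (len := 18) h5462 sl_5462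
  have h5464 : ∀ u < 98352, (fun u => chkSlp tab slp u) u = true := ext_range (a := 98334) (len := 18) h5463 sl_5463
  have h5465 : ∀ u < 98370, (fun u => chkSlp tab slp u) u = true := ext_range (a := 98352) (len := 18) h5464 sl_5464
  have h5466 : ∀ u < 98388, (fun u => chkSlp tab slp u) u = true := ext_range (a := 98370) (len := 18) h5465 sl_5465
  have h5467 : ∀ u < 98406, (fun u => chkSlp tab slp u) u = true := ext_range (a := 98388) (len := 18) h5466 sl_5466
  have h5468 : ∀ u < 98424, (fun u => chkSlp tab slp u) u = true := ext_range (a := 98406) (len := 18) h5467 sl_5467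
  have h5469 : ∀ u < 98442, (fun u => chkSlp tab slp u) u = true := ext_range (a := 98424) (len := 18) h5468 sl_5468
  have h5470 : ∀ u < 98460, (fun u => chkSlp tab slp u) u = true := ext_range (a := 98442) (len := 18) h5469 sl_5469
  have h5471 : ∀ u < 98478, (fun u => chkSlp tab slp u) u = true := ext_range (a := 98460) (len := 18) h5470 sl_5470
  have h5472 : ∀ u < 98496, (fun u => chkSlp tab slp u) u = true := ext_range (a := 98478) (len := 18) h5471 sl_5471
  have h5473 : ∀ u < 98514, (fun u => chkSlp tab slp u) u = true := ext_range (a := 98496) (len := 18) h5472 sl_5472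
  have h5474 : ∀ u < 98532, (fun u => chkSlp tab slp u) u = true := ext_range (a := 98514) (len := 18) h5473 sl_5473
  have h5475 : ∀ u < 98550, (fun u => chkSlp tab slp u) u = true := ext_range (a := 98532) (len := 18) h5474 sl_5474
  have h5476 : ∀ u < 98568, (fun u => chkSlp tab slp u) u = true := ext_range (a := 98550) (len := 18) h5475 sl_5475
  have h5477 : ∀ u < 98586, (fun u => chkSlp tab slp u) u = true := ext_range (a := 98568) (len := 18) h5476 sl_5476
  have h5478 : ∀ u < 98604, (fun u => chkSlp tab slp u) u = true := ext_range (a := 98586) (len := 18) h5477 sl_5477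
  have h5479 : ∀ u < 98622, (fun u => chkSlp tab slp u) u = true := ext_range (a := 98604) (len := 18) h5478 sl_5478
  have h5480 : ∀ u < 98640, (fun u => chkSlp tab slp u) u = true := ext_range (a := 98622) (len := 18) h5479 sl_5479
  have h5481 : ∀ u < 98658, (fun u => chkSlp tab slp u) u = true := ext_range (a := 98640) (len := 18) h5480 sl_5480
  have h5482 : ∀ u < 98676, (fun u => chkSlp tab slp u) u = true := ext_range (a := 98658) (len := 18) h5481 sl_5481
  have h5483 : ∀ u < 98694, (fun u => chkSlp tab slp u) u = true := ext_range (a := 98676) (len := 18) h5482 sl_5482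
  have h5484 : ∀ u < 98712, (fun u => chkSlp tab slp u) u = true := ext_range (a := 98694) (len := 18) h5483 sl_5483
  have h5485 : ∀ u < 98730, (fun u => chkSlp tab slp u) u = true := ext_range (a := 98712) (len := 18) h5484 sl_5484
  have h5486 : ∀ u < 98748, (fun u => chkSlp tab slp u) u = true := ext_range (a := 98730) (len := 18) h5485 sl_5485
  have h5487 : ∀ u < 98766, (fun u => chkSlp tab slp u) u = true := ext_range (a := 98748) (len := 18) h5486 sl_5486
  have h5488 : ∀ u < 98784, (fun u => chkSlp tab slp u) u = true := ext_range (a := 98766) (len := 18) h5487 sl_5487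
  have h5489 : ∀ u < 98802, (fun u => chkSlp tab slp u) u = true := ext_range (a := 98784) (len := 18) h5488 sl_5488
  have h5490 : ∀ u < 98820, (fun u => chkSlp tab slp u) u = true := ext_range (a := 98802) (len := 18) h5489 sl_5489
  have h5491 : ∀ u < 98838, (fun u => chkSlp tab slp u) u = true := ext_range (a := 98820) (len := 18) h5490 sl_5490
  have h5492 : ∀ u < 98856, (fun u => chkSlp tab slp u) u = true := ext_range (a := 98838) (len := 18) h5491 sl_5491
  have h5493 : ∀ u < 98874, (fun u => chkSlp tab slp u) u = true := ext_range (a := 98856) (len := 18) h5492 sl_5492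
  have h5494 : ∀ u < 98892, (fun u => chkSlp tab slp u) u = true := ext_range (a := 98874) (len := 18) h5493 sl_5493
  have h5495 : ∀ u < 98910, (fun u => chkSlp tab slp u) u = true := ext_range (a := 98892) (len := 18) h5494 sl_5494
  have h5496 : ∀ u < 98928, (fun u => chkSlp tab slp u) u = true := ext_range (a := 98910) (len := 18) h5495 sl_5495
  have h5497 : ∀ u < 98946, (fun u => chkSlp tab slp u) u = true := ext_range (a := 98928) (len := 18) h5496 sl_5496
  have h5498 : ∀ u < 98964, (fun u => chkSlp tab slp u) u = true := ext_range (a := 98946) (len := 18) h5497 sl_5497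
  have h5499 : ∀ u < 98982, (fun u => chkSlp tab slp u) u = true := ext_range (a := 98964) (len := 18) h5498 sl_5498
  have h5500 : ∀ u < 99000, (fun u => chkSlp tab slp u) u = true := ext_range (a := 98982) (len := 18) h5499 sl_5499
  have h5501 : ∀ u < 99018, (fun u => chkSlp tab slp u) u = true := ext_range (a := 99000) (len := 18) h5500 sl_5500
  have h5502 : ∀ u < 99036, (fun u => chkSlp tab slp u) u = true := ext_range (a := 99018) (len := 18) h5501 sl_5501
  have h5503 : ∀ u < 99054, (fun u => chkSlp tab slp u) u = true := ext_range (a := 99036) (len := 18) h5502 sl_5502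
  have h5504 : ∀ u < 99072, (fun u => chkSlp tab slp u) u = true := ext_range (a := 99054) (len := 18) h5503 sl_5503
  have h5505 : ∀ u < 99090, (fun u => chkSlp tab slp u) u = true := ext_range (a := 99072) (len := 18) h5504 sl_5504
  have h5506 : ∀ u < 99108, (fun u => chkSlp tab slp u) u = true := ext_range (a := 99090) (len := 18) h5505 sl_5505
  have h5507 : ∀ u < 99126, (fun u => chkSlp tab slp u) u = true := ext_range (a := 99108) (len := 18) h5506 sl_5506
  have h5508 : ∀ u < 99144, (fun u => chkSlp tab slp u) u = true := ext_range (a := 99126) (len := 18) h5507 sl_5507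
  have h5509 : ∀ u < 99162, (fun u => chkSlp tab slp u) u = true := ext_range (a := 99144) (len := 18) h5508 sl_5508
  have h5510 : ∀ u < 99180, (fun u => chkSlp tab slp u) u = true := ext_range (a := 99162) (len := 18) h5509 sl_5509
  have h5511 : ∀ u < 99198, (fun u => chkSlp tab slp u) u = true := ext_range (a := 99180) (len := 18) h5510 sl_5510
  have h5512 : ∀ u < 99216, (fun u => chkSlp tab slp u) u = true := ext_range (a := 99198) (len := 18) h5511 sl_5511
  have h5513 : ∀ u < 99234, (fun u => chkSlp tab slp u) u = true := ext_range (a := 99216) (len := 18) h5512 sl_5512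
  have h5514 : ∀ u < 99252, (fun u => chkSlp tab slp u) u = true := ext_range (a := 99234) (len := 18) h5513 sl_5513
  have h5515 : ∀ u < 99270, (fun u => chkSlp tab slp u) u = true := ext_range (a := 99252) (len := 18) h5514 sl_5514
  have h5516 : ∀ u < 99288, (fun u => chkSlp tab slp u) u = true := ext_range (a := 99270) (len := 18) h5515 sl_5515
  have h5517 : ∀ u < 99306, (fun u => chkSlp tab slp u) u = true := ext_range (a := 99288) (len := 18) h5516 sl_5516
  have h5518 : ∀ u < 99324, (fun u => chkSlp tab slp u) u = true := ext_range (a := 99306) (len := 18) h5517 sl_5517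
  have h5519 : ∀ u < 99342, (fun u => chkSlp tab slp u) u = true := ext_range (a := 99324) (len := 18) h5518 sl_5518
  have h5520 : ∀ u < 99360, (fun u => chkSlp tab slp u) u = true := ext_range (a := 99342) (len := 18) h5519 sl_5519
  have h5521 : ∀ u < 99378, (fun u => chkSlp tab slp u) u = true := ext_range (a := 99360) (len := 18) h5520 sl_5520
  have h5522 : ∀ u < 99396, (fun u => chkSlp tab slp u) u = true := ext_range (a := 99378) (len := 18) h5521 sl_5521
  have h5523 : ∀ u < 99414, (fun u => chkSlp tab slp u) u = true := ext_range (a := 99396) (len := 18) h5522 sl_5522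
  have h5524 : ∀ u < 99432, (fun u => chkSlp tab slp u) u = true := ext_range (a := 99414) (len := 18) h5523 sl_5523
  have h5525 : ∀ u < 99450, (fun u => chkSlp tab slp u) u = true := ext_range (a := 99432) (len := 18) h5524 sl_5524
  have h5526 : ∀ u < 99468, (fun u => chkSlp tab slp u) u = true := ext_range (a := 99450) (len := 18) h5525 sl_5525
  have h5527 : ∀ u < 99486, (fun u => chkSlp tab slp u) u = true := ext_range (a := 99468) (len := 18) h5526 sl_5526
  have h5528 : ∀ u < 99504, (fun u => chkSlp tab slp u) u = true := ext_range (a := 99486) (len := 18) h5527 sl_5527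
  have h5529 : ∀ u < 99522, (fun u => chkSlp tab slp u) u = true := ext_range (a := 99504) (len := 18) h5528 sl_5528
  have h5530 : ∀ u < 99540, (fun u => chkSlp tab slp u) u = true := ext_range (a := 99522) (len := 18) h5529 sl_5529
  have h5531 : ∀ u < 99558, (fun u => chkSlp tab slp u) u = true := ext_range (a := 99540) (len := 18) h5530 sl_5530
  have h5532 : ∀ u < 99576, (fun u => chkSlp tab slp u) u = true := ext_range (a := 99558) (len := 18) h5531 sl_5531
  have h5533 : ∀ u < 99594, (fun u => chkSlp tab slp u) u = true := ext_range (a := 99576) (len := 18) h5532 sl_5532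
  have h5534 : ∀ u < 99612, (fun u => chkSlp tab slp u) u = true := ext_range (a := 99594) (len := 18) h5533 sl_5533
  have h5535 : ∀ u < 99630, (fun u => chkSlp tab slp u) u = true := ext_range (a := 99612) (len := 18) h5534 sl_5534
  have h5536 : ∀ u < 99648, (fun u => chkSlp tab slp u) u = true := ext_range (a := 99630) (len := 18) h5535 sl_5535
  have h5537 : ∀ u < 99666, (fun u => chkSlp tab slp u) u = true := ext_range (a := 99648) (len := 18) h5536 sl_5536
  have h5538 : ∀ u < 99684, (fun u => chkSlp tab slp u) u = true := ext_range (a := 99666) (len := 18) h5537 sl_5537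
  have h5539 : ∀ u < 99702, (fun u => chkSlp tab slp u) u = true := ext_range (a := 99684) (len := 18) h5538 sl_5538
  have h5540 : ∀ u < 99720, (fun u => chkSlp tab slp u) u = true := ext_range (a := 99702) (len := 18) h5539 sl_5539
  have h5541 : ∀ u < 99738, (fun u => chkSlp tab slp u) u = true := ext_range (a := 99720) (len := 18) h5540 sl_5540
  have h5542 : ∀ u < 99756, (fun u => chkSlp tab slp u) u = true := ext_range (a := 99738) (len := 18) h5541 sl_5541
  have h5543 : ∀ u < 99774, (fun u => chkSlp tab slp u) u = true := ext_range (a := 99756) (len := 18) h5542 sl_5542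
  have h5544 : ∀ u < 99792, (fun u => chkSlp tab slp u) u = true := ext_range (a := 99774) (len := 18) h5543 sl_5543
  have h5545 : ∀ u < 99810, (fun u => chkSlp tab slp u) u = true := ext_range (a := 99792) (len := 18) h5544 sl_5544
  have h5546 : ∀ u < 99828, (fun u => chkSlp tab slp u) u = true := ext_range (a := 99810) (len := 18) h5545 sl_5545
  have h5547 : ∀ u < 99846, (fun u => chkSlp tab slp u) u = true := ext_range (a := 99828) (len := 18) h5546 sl_5546
  have h5548 : ∀ u < 99864, (fun u => chkSlp tab slp u) u = true := ext_range (a := 99846) (len := 18) h5547 sl_5547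
  have h5549 : ∀ u < 99882, (fun u => chkSlp tab slp u) u = true := ext_range (a := 99864) (len := 18) h5548 sl_5548
  have h5550 : ∀ u < 99900, (fun u => chkSlp tab slp u) u = true := ext_range (a := 99882) (len := 18) h5549 sl_5549
  have h5551 : ∀ u < 99918, (fun u => chkSlp tab slp u) u = true := ext_range (a := 99900) (len := 18) h5550 sl_5550
  have h5552 : ∀ u < 99936, (fun u => chkSlp tab slp u) u = true := ext_range (a := 99918) (len := 18) h5551 sl_5551
  have h5553 : ∀ u < 99954, (fun u => chkSlp tab slp u) u = true := ext_range (a := 99936) (len := 18) h5552 sl_5552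
  have h5554 : ∀ u < 99972, (fun u => chkSlp tab slp u) u = true := ext_range (a := 99954) (len := 18) h5553 sl_5553
  have h5555 : ∀ u < 99990, (fun u => chkSlp tab slp u) u = true := ext_range (a := 99972) (len := 18) h5554 sl_5554
  have h5556 : ∀ u < 100008, (fun u => chkSlp tab slp u) u = true := ext_range (a := 99990) (len := 18) h5555 sl_5555
  have h5557 : ∀ u < 100026, (fun u => chkSlp tab slp u) u = true := ext_range (a := 100008) (len := 18) h5556 sl_5556
  have h5558 : ∀ u < 100044, (fun u => chkSlp tab slp u) u = true := ext_range (a := 100026) (len := 18) h5557 sl_5557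
  have h5559 : ∀ u < 100062, (fun u => chkSlp tab slp u) u = true := ext_range (a := 100044) (len := 18) h5558 sl_5558
  have h5560 : ∀ u < 100080, (fun u => chkSlp tab slp u) u = true := ext_range (a := 100062) (len := 18) h5559 sl_5559
  have h5561 : ∀ u < 100098, (fun u => chkSlp tab slp u) u = true := ext_range (a := 100080) (len := 18) h5560 sl_5560
  have h5562 : ∀ u < 100116, (fun u => chkSlp tab slp u) u = true := ext_range (a := 100098) (len := 18) h5561 sl_5561
  have h5563 : ∀ u < 100134, (fun u => chkSlp tab slp u) u = true := ext_range (a := 100116) (len := 18) h5562 sl_5562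
  have h5564 : ∀ u < 100152, (fun u => chkSlp tab slp u) u = true := ext_range (a := 100134) (len := 18) h5563 sl_5563
  have h5565 : ∀ u < 100170, (fun u => chkSlp tab slp u) u = true := ext_range (a := 100152) (len := 18) h5564 sl_5564
  have h5566 : ∀ u < 100188, (fun u => chkSlp tab slp u) u = true := ext_range (a := 100170) (len := 18) h5565 sl_5565
  have h5567 : ∀ u < 100206, (fun u => chkSlp tab slp u) u = true := ext_range (a := 100188) (len := 18) h5566 sl_5566
  have h5568 : ∀ u < 100224, (fun u => chkSlp tab slp u) u = true := ext_range (a := 100206) (len := 18) h5567 sl_5567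
  have h5569 : ∀ u < 100242, (fun u => chkSlp tab slp u) u = true := ext_range (a := 100224) (len := 18) h5568 sl_5568
  have h5570 : ∀ u < 100260, (fun u => chkSlp tab slp u) u = true := ext_range (a := 100242) (len := 18) h5569 sl_5569
  have h5571 : ∀ u < 100278, (fun u => chkSlp tab slp u) u = true := ext_range (a := 100260) (len := 18) h5570 sl_5570
  have h5572 : ∀ u < 100296, (fun u => chkSlp tab slp u) u = true := ext_range (a := 100278) (len := 18) h5571 sl_5571
  have h5573 : ∀ u < 100314, (fun u => chkSlp tab slp u) u = true := ext_range (a := 100296) (len := 18) h5572 sl_5572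
  have h5574 : ∀ u < 100332, (fun u => chkSlp tab slp u) u = true := ext_range (a := 100314) (len := 18) h5573 sl_5573
  have h5575 : ∀ u < 100350, (fun u => chkSlp tab slp u) u = true := ext_range (a := 100332) (len := 18) h5574 sl_5574
  have h5576 : ∀ u < 100368, (fun u => chkSlp tab slp u) u = true := ext_range (a := 100350) (len := 18) h5575 sl_5575
  have h5577 : ∀ u < 100386, (fun u => chkSlp tab slp u) u = true := ext_range (a := 100368) (len := 18) h5576 sl_5576
  have h5578 : ∀ u < 100404, (fun u => chkSlp tab slp u) u = true := ext_range (a := 100386) (len := 18) h5577 sl_5577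
  have h5579 : ∀ u < 100422, (fun u => chkSlp tab slp u) u = true := ext_range (a := 100404) (len := 18) h5578 sl_5578
  have h5580 : ∀ u < 100440, (fun u => chkSlp tab slp u) u = true := ext_range (a := 100422) (len := 18) h5579 sl_5579
  have h5581 : ∀ u < 100458, (fun u => chkSlp tab slp u) u = true := ext_range (a := 100440) (len := 18) h5580 sl_5580
  have h5582 : ∀ u < 100476, (fun u => chkSlp tab slp u) u = true := ext_range (a := 100458) (len := 18) h5581 sl_5581
  have h5583 : ∀ u < 100494, (fun u => chkSlp tab slp u) u = true := ext_range (a := 100476) (len := 18) h5582 sl_5582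
  have h5584 : ∀ u < 100512, (fun u => chkSlp tab slp u) u = true := ext_range (a := 100494) (len := 18) h5583 sl_5583
  have h5585 : ∀ u < 100530, (fun u => chkSlp tab slp u) u = true := ext_range (a := 100512) (len := 18) h5584 sl_5584
  have h5586 : ∀ u < 100548, (fun u => chkSlp tab slp u) u = true := ext_range (a := 100530) (len := 18) h5585 sl_5585
  have h5587 : ∀ u < 100566, (fun u => chkSlp tab slp u) u = true := ext_range (a := 100548) (len := 18) h5586 sl_5586
  have h5588 : ∀ u < 100584, (fun u => chkSlp tab slp u) u = true := ext_range (a := 100566) (len := 18) h5587 sl_5587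
  have h5589 : ∀ u < 100602, (fun u => chkSlp tab slp u) u = true := ext_range (a := 100584) (len := 18) h5588 sl_5588
  have h5590 : ∀ u < 100620, (fun u => chkSlp tab slp u) u = true := ext_range (a := 100602) (len := 18) h5589 sl_5589
  have h5591 : ∀ u < 100638, (fun u => chkSlp tab slp u) u = true := ext_range (a := 100620) (len := 18) h5590 sl_5590
  have h5592 : ∀ u < 100656, (fun u => chkSlp tab slp u) u = true := ext_range (a := 100638) (len := 18) h5591 sl_5591
  have h5593 : ∀ u < 100674, (fun u => chkSlp tab slp u) u = true := ext_range (a := 100656) (len := 18) h5592 sl_5592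
  have h5594 : ∀ u < 100692, (fun u => chkSlp tab slp u) u = true := ext_range (a := 100674) (len := 18) h5593 sl_5593
  have h5595 : ∀ u < 100710, (fun u => chkSlp tab slp u) u = true := ext_range (a := 100692) (len := 18) h5594 sl_5594
  have h5596 : ∀ u < 100728, (fun u => chkSlp tab slp u) u = true := ext_range (a := 100710) (len := 18) h5595 sl_5595
  have h5597 : ∀ u < 100746, (fun u => chkSlp tab slp u) u = true := ext_range (a := 100728) (len := 18) h5596 sl_5596
  have h5598 : ∀ u < 100764, (fun u => chkSlp tab slp u) u = true := ext_range (a := 100746) (len := 18) h5597 sl_5597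
  have h5599 : ∀ u < 100782, (fun u => chkSlp tab slp u) u = true := ext_range (a := 100764) (len := 18) h5598 sl_5598
  have h5600 : ∀ u < 100800, (fun u => chkSlp tab slp u) u = true := ext_range (a := 100782) (len := 18) h5599 sl_5599
  have h5601 : ∀ u < 100818, (fun u => chkSlp tab slp u) u = true := ext_range (a := 100800) (len := 18) h5600 sl_5600
  have h5602 : ∀ u < 100836, (fun u => chkSlp tab slp u) u = true := ext_range (a := 100818) (len := 18) h5601 sl_5601
  have h5603 : ∀ u < 100854, (fun u => chkSlp tab slp u) u = true := ext_range (a := 100836) (len := 18) h5602 sl_5602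
  have h5604 : ∀ u < 100872, (fun u => chkSlp tab slp u) u = true := ext_range (a := 100854) (len := 18) h5603 sl_5603
  have h5605 : ∀ u < 100890, (fun u => chkSlp tab slp u) u = true := ext_range (a := 100872) (len := 18) h5604 sl_5604
  have h5606 : ∀ u < 100908, (fun u => chkSlp tab slp u) u = true := ext_range (a := 100890) (len := 18) h5605 sl_5605
  have h5607 : ∀ u < 100926, (fun u => chkSlp tab slp u) u = true := ext_range (a := 100908) (len := 18) h5606 sl_5606
  have h5608 : ∀ u < 100944, (fun u => chkSlp tab slp u) u = true := ext_range (a := 100926) (len := 18) h5607 sl_5607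
  have h5609 : ∀ u < 100962, (fun u => chkSlp tab slp u) u = true := ext_range (a := 100944) (len := 18) h5608 sl_5608
  have h5610 : ∀ u < 100980, (fun u => chkSlp tab slp u) u = true := ext_range (a := 100962) (len := 18) h5609 sl_5609
  have h5611 : ∀ u < 100998, (fun u => chkSlp tab slp u) u = true := ext_range (a := 100980) (len := 18) h5610 sl_5610
  have h5612 : ∀ u < 101016, (fun u => chkSlp tab slp u) u = true := ext_range (a := 100998) (len := 18) h5611 sl_5611
  have h5613 : ∀ u < 101034, (fun u => chkSlp tab slp u) u = true := ext_range (a := 101016) (len := 18) h5612 sl_5612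
  have h5614 : ∀ u < 101052, (fun u => chkSlp tab slp u) u = true := ext_range (a := 101034) (len := 18) h5613 sl_5613
  have h5615 : ∀ u < 101070, (fun u => chkSlp tab slp u) u = true := ext_range (a := 101052) (len := 18) h5614 sl_5614
  have h5616 : ∀ u < 101088, (fun u => chkSlp tab slp u) u = true := ext_range (a := 101070) (len := 18) h5615 sl_5615
  have h5617 : ∀ u < 101106, (fun u => chkSlp tab slp u) u = true := ext_range (a := 101088) (len := 18) h5616 sl_5616
  have h5618 : ∀ u < 101124, (fun u => chkSlp tab slp u) u = true := ext_range (a := 101106) (len := 18) h5617 sl_5617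
  have h5619 : ∀ u < 101142, (fun u => chkSlp tab slp u) u = true := ext_range (a := 101124) (len := 18) h5618 sl_5618
  have h5620 : ∀ u < 101160, (fun u => chkSlp tab slp u) u = true := ext_range (a := 101142) (len := 18) h5619 sl_5619
  have h5621 : ∀ u < 101178, (fun u => chkSlp tab slp u) u = true := ext_range (a := 101160) (len := 18) h5620 sl_5620
  have h5622 : ∀ u < 101196, (fun u => chkSlp tab slp u) u = true := ext_range (a := 101178) (len := 18) h5621 sl_5621
  have h5623 : ∀ u < 101214, (fun u => chkSlp tab slp u) u = true := ext_range (a := 101196) (len := 18) h5622 sl_5622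
  have h5624 : ∀ u < 101232, (fun u => chkSlp tab slp u) u = true := ext_range (a := 101214) (len := 18) h5623 sl_5623
  have h5625 : ∀ u < 101250, (fun u => chkSlp tab slp u) u = true := ext_range (a := 101232) (len := 18) h5624 sl_5624
  have h5626 : ∀ u < 101268, (fun u => chkSlp tab slp u) u = true := ext_range (a := 101250) (len := 18) h5625 sl_5625
  have h5627 : ∀ u < 101286, (fun u => chkSlp tab slp u) u = true := ext_range (a := 101268) (len := 18) h5626 sl_5626
  have h5628 : ∀ u < 101304, (fun u => chkSlp tab slp u) u = true := ext_range (a := 101286) (len := 18) h5627 sl_5627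
  have h5629 : ∀ u < 101322, (fun u => chkSlp tab slp u) u = true := ext_range (a := 101304) (len := 18) h5628 sl_5628
  have h5630 : ∀ u < 101340, (fun u => chkSlp tab slp u) u = true := ext_range (a := 101322) (len := 18) h5629 sl_5629
  have h5631 : ∀ u < 101358, (fun u => chkSlp tab slp u) u = true := ext_range (a := 101340) (len := 18) h5630 sl_5630
  have h5632 : ∀ u < 101376, (fun u => chkSlp tab slp u) u = true := ext_range (a := 101358) (len := 18) h5631 sl_5631
  have h5633 : ∀ u < 101394, (fun u => chkSlp tab slp u) u = true := ext_range (a := 101376) (len := 18) h5632 sl_5632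
  have h5634 : ∀ u < 101412, (fun u => chkSlp tab slp u) u = true := ext_range (a := 101394) (len := 18) h5633 sl_5633
  have h5635 : ∀ u < 101430, (fun u => chkSlp tab slp u) u = true := ext_range (a := 101412) (len := 18) h5634 sl_5634
  have h5636 : ∀ u < 101448, (fun u => chkSlp tab slp u) u = true := ext_range (a := 101430) (len := 18) h5635 sl_5635
  have h5637 : ∀ u < 101466, (fun u => chkSlp tab slp u) u = true := ext_range (a := 101448) (len := 18) h5636 sl_5636
  have h5638 : ∀ u < 101484, (fun u => chkSlp tab slp u) u = true := ext_range (a := 101466) (len := 18) h5637 sl_5637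
  have h5639 : ∀ u < 101502, (fun u => chkSlp tab slp u) u = true := ext_range (a := 101484) (len := 18) h5638 sl_5638
  have h5640 : ∀ u < 101520, (fun u => chkSlp tab slp u) u = true := ext_range (a := 101502) (len := 18) h5639 sl_5639
  have h5641 : ∀ u < 101538, (fun u => chkSlp tab slp u) u = true := ext_range (a := 101520) (len := 18) h5640 sl_5640
  have h5642 : ∀ u < 101556, (fun u => chkSlp tab slp u) u = true := ext_range (a := 101538) (len := 18) h5641 sl_5641
  have h5643 : ∀ u < 101574, (fun u => chkSlp tab slp u) u = true := ext_range (a := 101556) (len := 18) h5642 sl_5642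
  have h5644 : ∀ u < 101592, (fun u => chkSlp tab slp u) u = true := ext_range (a := 101574) (len := 18) h5643 sl_5643
  have h5645 : ∀ u < 101610, (fun u => chkSlp tab slp u) u = true := ext_range (a := 101592) (len := 18) h5644 sl_5644
  have h5646 : ∀ u < 101628, (fun u => chkSlp tab slp u) u = true := ext_range (a := 101610) (len := 18) h5645 sl_5645
  have h5647 : ∀ u < 101646, (fun u => chkSlp tab slp u) u = true := ext_range (a := 101628) (len := 18) h5646 sl_5646
  have h5648 : ∀ u < 101664, (fun u => chkSlp tab slp u) u = true := ext_range (a := 101646) (len := 18) h5647 sl_5647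
  have h5649 : ∀ u < 101682, (fun u => chkSlp tab slp u) u = true := ext_range (a := 101664) (len := 18) h5648 sl_5648
  have h5650 : ∀ u < 101700, (fun u => chkSlp tab slp u) u = true := ext_range (a := 101682) (len := 18) h5649 sl_5649
  have h5651 : ∀ u < 101718, (fun u => chkSlp tab slp u) u = true := ext_range (a := 101700) (len := 18) h5650 sl_5650
  have h5652 : ∀ u < 101736, (fun u => chkSlp tab slp u) u = true := ext_range (a := 101718) (len := 18) h5651 sl_5651
  have h5653 : ∀ u < 101754, (fun u => chkSlp tab slp u) u = true := ext_range (a := 101736) (len := 18) h5652 sl_5652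
  have h5654 : ∀ u < 101772, (fun u => chkSlp tab slp u) u = true := ext_range (a := 101754) (len := 18) h5653 sl_5653
  have h5655 : ∀ u < 101790, (fun u => chkSlp tab slp u) u = true := ext_range (a := 101772) (len := 18) h5654 sl_5654
  have h5656 : ∀ u < 101808, (fun u => chkSlp tab slp u) u = true := ext_range (a := 101790) (len := 18) h5655 sl_5655
  have h5657 : ∀ u < 101826, (fun u => chkSlp tab slp u) u = true := ext_range (a := 101808) (len := 18) h5656 sl_5656
  have h5658 : ∀ u < 101844, (fun u => chkSlp tab slp u) u = true := ext_range (a := 101826) (len := 18) h5657 sl_5657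
  have h5659 : ∀ u < 101862, (fun u => chkSlp tab slp u) u = true := ext_range (a := 101844) (len := 18) h5658 sl_5658
  have h5660 : ∀ u < 101880, (fun u => chkSlp tab slp u) u = true := ext_range (a := 101862) (len := 18) h5659 sl_5659
  have h5661 : ∀ u < 101898, (fun u => chkSlp tab slp u) u = true := ext_range (a := 101880) (len := 18) h5660 sl_5660
  have h5662 : ∀ u < 101916, (fun u => chkSlp tab slp u) u = true := ext_range (a := 101898) (len := 18) h5661 sl_5661
  have h5663 : ∀ u < 101934, (fun u => chkSlp tab slp u) u = true := ext_range (a := 101916) (len := 18) h5662 sl_5662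
  have h5664 : ∀ u < 101952, (fun u => chkSlp tab slp u) u = true := ext_range (a := 101934) (len := 18) h5663 sl_5663
  have h5665 : ∀ u < 101970, (fun u => chkSlp tab slp u) u = true := ext_range (a := 101952) (len := 18) h5664 sl_5664
  have h5666 : ∀ u < 101988, (fun u => chkSlp tab slp u) u = true := ext_range (a := 101970) (len := 18) h5665 sl_5665
  have h5667 : ∀ u < 102006, (fun u => chkSlp tab slp u) u = true := ext_range (a := 101988) (len := 18) h5666 sl_5666
  have h5668 : ∀ u < 102024, (fun u => chkSlp tab slp u) u = true := ext_range (a := 102006) (len := 18) h5667 sl_5667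
  have h5669 : ∀ u < 102042, (fun u => chkSlp tab slp u) u = true := ext_range (a := 102024) (len := 18) h5668 sl_5668
  have h5670 : ∀ u < 102060, (fun u => chkSlp tab slp u) u = true := ext_range (a := 102042) (len := 18) h5669 sl_5669
  have h5671 : ∀ u < 102078, (fun u => chkSlp tab slp u) u = true := ext_range (a := 102060) (len := 18) h5670 sl_5670
  have h5672 : ∀ u < 102096, (fun u => chkSlp tab slp u) u = true := ext_range (a := 102078) (len := 18) h5671 sl_5671
  have h5673 : ∀ u < 102114, (fun u => chkSlp tab slp u) u = true := ext_range (a := 102096) (len := 18) h5672 sl_5672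
  have h5674 : ∀ u < 102132, (fun u => chkSlp tab slp u) u = true := ext_range (a := 102114) (len := 18) h5673 sl_5673
  have h5675 : ∀ u < 102150, (fun u => chkSlp tab slp u) u = true := ext_range (a := 102132) (len := 18) h5674 sl_5674
  have h5676 : ∀ u < 102168, (fun u => chkSlp tab slp u) u = true := ext_range (a := 102150) (len := 18) h5675 sl_5675
  have h5677 : ∀ u < 102186, (fun u => chkSlp tab slp u) u = true := ext_range (a := 102168) (len := 18) h5676 sl_5676
  have h5678 : ∀ u < 102204, (fun u => chkSlp tab slp u) u = true := ext_range (a := 102186) (len := 18) h5677 sl_5677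
  have h5679 : ∀ u < 102222, (fun u => chkSlp tab slp u) u = true := ext_range (a := 102204) (len := 18) h5678 sl_5678
  have h5680 : ∀ u < 102240, (fun u => chkSlp tab slp u) u = true := ext_range (a := 102222) (len := 18) h5679 sl_5679
  have h5681 : ∀ u < 102258, (fun u => chkSlp tab slp u) u = true := ext_range (a := 102240) (len := 18) h5680 sl_5680
  have h5682 : ∀ u < 102276, (fun u => chkSlp tab slp u) u = true := ext_range (a := 102258) (len := 18) h5681 sl_5681
  have h5683 : ∀ u < 102294, (fun u => chkSlp tab slp u) u = true := ext_range (a := 102276) (len := 18) h5682 sl_5682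
  have h5684 : ∀ u < 102312, (fun u => chkSlp tab slp u) u = true := ext_range (a := 102294) (len := 18) h5683 sl_5683
  have h5685 : ∀ u < 102330, (fun u => chkSlp tab slp u) u = true := ext_range (a := 102312) (len := 18) h5684 sl_5684
  have h5686 : ∀ u < 102348, (fun u => chkSlp tab slp u) u = true := ext_range (a := 102330) (len := 18) h5685 sl_5685
  have h5687 : ∀ u < 102366, (fun u => chkSlp tab slp u) u = true := ext_range (a := 102348) (len := 18) h5686 sl_5686
  have h5688 : ∀ u < 102384, (fun u => chkSlp tab slp u) u = true := ext_range (a := 102366) (len := 18) h5687 sl_5687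
  have h5689 : ∀ u < 102402, (fun u => chkSlp tab slp u) u = true := ext_range (a := 102384) (len := 18) h5688 sl_5688
  have h5690 : ∀ u < 102420, (fun u => chkSlp tab slp u) u = true := ext_range (a := 102402) (len := 18) h5689 sl_5689
  have h5691 : ∀ u < 102438, (fun u => chkSlp tab slp u) u = true := ext_range (a := 102420) (len := 18) h5690 sl_5690
  have h5692 : ∀ u < 102456, (fun u => chkSlp tab slp u) u = true := ext_range (a := 102438) (len := 18) h5691 sl_5691
  have h5693 : ∀ u < 102474, (fun u => chkSlp tab slp u) u = true := ext_range (a := 102456) (len := 18) h5692 sl_5692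
  have h5694 : ∀ u < 102492, (fun u => chkSlp tab slp u) u = true := ext_range (a := 102474) (len := 18) h5693 sl_5693
  have h5695 : ∀ u < 102510, (fun u => chkSlp tab slp u) u = true := ext_range (a := 102492) (len := 18) h5694 sl_5694
  have h5696 : ∀ u < 102528, (fun u => chkSlp tab slp u) u = true := ext_range (a := 102510) (len := 18) h5695 sl_5695
  have h5697 : ∀ u < 102546, (fun u => chkSlp tab slp u) u = true := ext_range (a := 102528) (len := 18) h5696 sl_5696
  have h5698 : ∀ u < 102564, (fun u => chkSlp tab slp u) u = true := ext_range (a := 102546) (len := 18) h5697 sl_5697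
  have h5699 : ∀ u < 102582, (fun u => chkSlp tab slp u) u = true := ext_range (a := 102564) (len := 18) h5698 sl_5698
  have h5700 : ∀ u < 102600, (fun u => chkSlp tab slp u) u = true := ext_range (a := 102582) (len := 18) h5699 sl_5699
  have h5701 : ∀ u < 102618, (fun u => chkSlp tab slp u) u = true := ext_range (a := 102600) (len := 18) h5700 sl_5700
  have h5702 : ∀ u < 102636, (fun u => chkSlp tab slp u) u = true := ext_range (a := 102618) (len := 18) h5701 sl_5701
  have h5703 : ∀ u < 102654, (fun u => chkSlp tab slp u) u = true := ext_range (a := 102636) (len := 18) h5702 sl_5702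
  have h5704 : ∀ u < 102672, (fun u => chkSlp tab slp u) u = true := ext_range (a := 102654) (len := 18) h5703 sl_5703
  have h5705 : ∀ u < 102690, (fun u => chkSlp tab slp u) u = true := ext_range (a := 102672) (len := 18) h5704 sl_5704
  have h5706 : ∀ u < 102708, (fun u => chkSlp tab slp u) u = true := ext_range (a := 102690) (len := 18) h5705 sl_5705
  have h5707 : ∀ u < 102726, (fun u => chkSlp tab slp u) u = true := ext_range (a := 102708) (len := 18) h5706 sl_5706
  have h5708 : ∀ u < 102744, (fun u => chkSlp tab slp u) u = true := ext_range (a := 102726) (len := 18) h5707 sl_5707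
  have h5709 : ∀ u < 102762, (fun u => chkSlp tab slp u) u = true := ext_range (a := 102744) (len := 18) h5708 sl_5708
  have h5710 : ∀ u < 102780, (fun u => chkSlp tab slp u) u = true := ext_range (a := 102762) (len := 18) h5709 sl_5709
  have h5711 : ∀ u < 102798, (fun u => chkSlp tab slp u) u = true := ext_range (a := 102780) (len := 18) h5710 sl_5710
  have h5712 : ∀ u < 102816, (fun u => chkSlp tab slp u) u = true := ext_range (a := 102798) (len := 18) h5711 sl_5711
  have h5713 : ∀ u < 102834, (fun u => chkSlp tab slp u) u = true := ext_range (a := 102816) (len := 18) h5712 sl_5712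
  have h5714 : ∀ u < 102852, (fun u => chkSlp tab slp u) u = true := ext_range (a := 102834) (len := 18) h5713 sl_5713
  have h5715 : ∀ u < 102870, (fun u => chkSlp tab slp u) u = true := ext_range (a := 102852) (len := 18) h5714 sl_5714
  have h5716 : ∀ u < 102888, (fun u => chkSlp tab slp u) u = true := ext_range (a := 102870) (len := 18) h5715 sl_5715
  have h5717 : ∀ u < 102906, (fun u => chkSlp tab slp u) u = true := ext_range (a := 102888) (len := 18) h5716 sl_5716
  have h5718 : ∀ u < 102924, (fun u => chkSlp tab slp u) u = true := ext_range (a := 102906) (len := 18) h5717 sl_5717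
  have h5719 : ∀ u < 102942, (fun u => chkSlp tab slp u) u = true := ext_range (a := 102924) (len := 18) h5718 sl_5718
  have h5720 : ∀ u < 102960, (fun u => chkSlp tab slp u) u = true := ext_range (a := 102942) (len := 18) h5719 sl_5719
  have h5721 : ∀ u < 102978, (fun u => chkSlp tab slp u) u = true := ext_range (a := 102960) (len := 18) h5720 sl_5720
  have h5722 : ∀ u < 102996, (fun u => chkSlp tab slp u) u = true := ext_range (a := 102978) (len := 18) h5721 sl_5721
  have h5723 : ∀ u < 103014, (fun u => chkSlp tab slp u) u = true := ext_range (a := 102996) (len := 18) h5722 sl_5722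
  have h5724 : ∀ u < 103032, (fun u => chkSlp tab slp u) u = true := ext_range (a := 103014) (len := 18) h5723 sl_5723
  have h5725 : ∀ u < 103050, (fun u => chkSlp tab slp u) u = true := ext_range (a := 103032) (len := 18) h5724 sl_5724
  have h5726 : ∀ u < 103068, (fun u => chkSlp tab slp u) u = true := ext_range (a := 103050) (len := 18) h5725 sl_5725
  have h5727 : ∀ u < 103086, (fun u => chkSlp tab slp u) u = true := ext_range (a := 103068) (len := 18) h5726 sl_5726
  have h5728 : ∀ u < 103104, (fun u => chkSlp tab slp u) u = true := ext_range (a := 103086) (len := 18) h5727 sl_5727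
  have h5729 : ∀ u < 103122, (fun u => chkSlp tab slp u) u = true := ext_range (a := 103104) (len := 18) h5728 sl_5728
  have h5730 : ∀ u < 103140, (fun u => chkSlp tab slp u) u = true := ext_range (a := 103122) (len := 18) h5729 sl_5729
  have h5731 : ∀ u < 103158, (fun u => chkSlp tab slp u) u = true := ext_range (a := 103140) (len := 18) h5730 sl_5730
  have h5732 : ∀ u < 103176, (fun u => chkSlp tab slp u) u = true := ext_range (a := 103158) (len := 18) h5731 sl_5731
  have h5733 : ∀ u < 103194, (fun u => chkSlp tab slp u) u = true := ext_range (a := 103176) (len := 18) h5732 sl_5732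
  have h5734 : ∀ u < 103212, (fun u => chkSlp tab slp u) u = true := ext_range (a := 103194) (len := 18) h5733 sl_5733
  have h5735 : ∀ u < 103230, (fun u => chkSlp tab slp u) u = true := ext_range (a := 103212) (len := 18) h5734 sl_5734
  have h5736 : ∀ u < 103248, (fun u => chkSlp tab slp u) u = true := ext_range (a := 103230) (len := 18) h5735 sl_5735
  have h5737 : ∀ u < 103266, (fun u => chkSlp tab slp u) u = true := ext_range (a := 103248) (len := 18) h5736 sl_5736
  have h5738 : ∀ u < 103284, (fun u => chkSlp tab slp u) u = true := ext_range (a := 103266) (len := 18) h5737 sl_5737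
  have h5739 : ∀ u < 103302, (fun u => chkSlp tab slp u) u = true := ext_range (a := 103284) (len := 18) h5738 sl_5738
  have h5740 : ∀ u < 103320, (fun u => chkSlp tab slp u) u = true := ext_range (a := 103302) (len := 18) h5739 sl_5739
  have h5741 : ∀ u < 103338, (fun u => chkSlp tab slp u) u = true := ext_range (a := 103320) (len := 18) h5740 sl_5740
  have h5742 : ∀ u < 103356, (fun u => chkSlp tab slp u) u = true := ext_range (a := 103338) (len := 18) h5741 sl_5741
  have h5743 : ∀ u < 103374, (fun u => chkSlp tab slp u) u = true := ext_range (a := 103356) (len := 18) h5742 sl_5742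
  have h5744 : ∀ u < 103392, (fun u => chkSlp tab slp u) u = true := ext_range (a := 103374) (len := 18) h5743 sl_5743
  have h5745 : ∀ u < 103410, (fun u => chkSlp tab slp u) u = true := ext_range (a := 103392) (len := 18) h5744 sl_5744
  have h5746 : ∀ u < 103428, (fun u => chkSlp tab slp u) u = true := ext_range (a := 103410) (len := 18) h5745 sl_5745
  have h5747 : ∀ u < 103446, (fun u => chkSlp tab slp u) u = true := ext_range (a := 103428) (len := 18) h5746 sl_5746
  have h5748 : ∀ u < 103464, (fun u => chkSlp tab slp u) u = true := ext_range (a := 103446) (len := 18) h5747 sl_5747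
  have h5749 : ∀ u < 103482, (fun u => chkSlp tab slp u) u = true := ext_range (a := 103464) (len := 18) h5748 sl_5748
  have h5750 : ∀ u < 103500, (fun u => chkSlp tab slp u) u = true := ext_range (a := 103482) (len := 18) h5749 sl_5749
  have h5751 : ∀ u < 103518, (fun u => chkSlp tab slp u) u = true := ext_range (a := 103500) (len := 18) h5750 sl_5750
  have h5752 : ∀ u < 103536, (fun u => chkSlp tab slp u) u = true := ext_range (a := 103518) (len := 18) h5751 sl_5751
  have h5753 : ∀ u < 103554, (fun u => chkSlp tab slp u) u = true := ext_range (a := 103536) (len := 18) h5752 sl_5752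
  have h5754 : ∀ u < 103572, (fun u => chkSlp tab slp u) u = true := ext_range (a := 103554) (len := 18) h5753 sl_5753
  have h5755 : ∀ u < 103590, (fun u => chkSlp tab slp u) u = true := ext_range (a := 103572) (len := 18) h5754 sl_5754
  have h5756 : ∀ u < 103608, (fun u => chkSlp tab slp u) u = true := ext_range (a := 103590) (len := 18) h5755 sl_5755
  have h5757 : ∀ u < 103626, (fun u => chkSlp tab slp u) u = true := ext_range (a := 103608) (len := 18) h5756 sl_5756
  have h5758 : ∀ u < 103644, (fun u => chkSlp tab slp u) u = true := ext_range (a := 103626) (len := 18) h5757 sl_5757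
  have h5759 : ∀ u < 103662, (fun u => chkSlp tab slp u) u = true := ext_range (a := 103644) (len := 18) h5758 sl_5758
  have h5760 : ∀ u < 103680, (fun u => chkSlp tab slp u) u = true := ext_range (a := 103662) (len := 18) h5759 sl_5759
  have h5761 : ∀ u < 103698, (fun u => chkSlp tab slp u) u = true := ext_range (a := 103680) (len := 18) h5760 sl_5760
  have h5762 : ∀ u < 103716, (fun u => chkSlp tab slp u) u = true := ext_range (a := 103698) (len := 18) h5761 sl_5761
  have h5763 : ∀ u < 103734, (fun u => chkSlp tab slp u) u = true := ext_range (a := 103716) (len := 18) h5762 sl_5762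
  have h5764 : ∀ u < 103752, (fun u => chkSlp tab slp u) u = true := ext_range (a := 103734) (len := 18) h5763 sl_5763
  have h5765 : ∀ u < 103770, (fun u => chkSlp tab slp u) u = true := ext_range (a := 103752) (len := 18) h5764 sl_5764
  have h5766 : ∀ u < 103788, (fun u => chkSlp tab slp u) u = true := ext_range (a := 103770) (len := 18) h5765 sl_5765
  have h5767 : ∀ u < 103806, (fun u => chkSlp tab slp u) u = true := ext_range (a := 103788) (len := 18) h5766 sl_5766
  have h5768 : ∀ u < 103824, (fun u => chkSlp tab slp u) u = true := ext_range (a := 103806) (len := 18) h5767 sl_5767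
  have h5769 : ∀ u < 103842, (fun u => chkSlp tab slp u) u = true := ext_range (a := 103824) (len := 18) h5768 sl_5768
  have h5770 : ∀ u < 103860, (fun u => chkSlp tab slp u) u = true := ext_range (a := 103842) (len := 18) h5769 sl_5769
  have h5771 : ∀ u < 103878, (fun u => chkSlp tab slp u) u = true := ext_range (a := 103860) (len := 18) h5770 sl_5770
  have h5772 : ∀ u < 103896, (fun u => chkSlp tab slp u) u = true := ext_range (a := 103878) (len := 18) h5771 sl_5771
  have h5773 : ∀ u < 103914, (fun u => chkSlp tab slp u) u = true := ext_range (a := 103896) (len := 18) h5772 sl_5772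
  have h5774 : ∀ u < 103932, (fun u => chkSlp tab slp u) u = true := ext_range (a := 103914) (len := 18) h5773 sl_5773
  have h5775 : ∀ u < 103950, (fun u => chkSlp tab slp u) u = true := ext_range (a := 103932) (len := 18) h5774 sl_5774
  have h5776 : ∀ u < 103968, (fun u => chkSlp tab slp u) u = true := ext_range (a := 103950) (len := 18) h5775 sl_5775
  have h5777 : ∀ u < 103986, (fun u => chkSlp tab slp u) u = true := ext_range (a := 103968) (len := 18) h5776 sl_5776
  have h5778 : ∀ u < 104004, (fun u => chkSlp tab slp u) u = true := ext_range (a := 103986) (len := 18) h5777 sl_5777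
  have h5779 : ∀ u < 104022, (fun u => chkSlp tab slp u) u = true := ext_range (a := 104004) (len := 18) h5778 sl_5778
  have h5780 : ∀ u < 104040, (fun u => chkSlp tab slp u) u = true := ext_range (a := 104022) (len := 18) h5779 sl_5779
  have h5781 : ∀ u < 104058, (fun u => chkSlp tab slp u) u = true := ext_range (a := 104040) (len := 18) h5780 sl_5780
  have h5782 : ∀ u < 104076, (fun u => chkSlp tab slp u) u = true := ext_range (a := 104058) (len := 18) h5781 sl_5781
  have h5783 : ∀ u < 104094, (fun u => chkSlp tab slp u) u = true := ext_range (a := 104076) (len := 18) h5782 sl_5782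
  have h5784 : ∀ u < 104112, (fun u => chkSlp tab slp u) u = true := ext_range (a := 104094) (len := 18) h5783 sl_5783
  have h5785 : ∀ u < 104130, (fun u => chkSlp tab slp u) u = true := ext_range (a := 104112) (len := 18) h5784 sl_5784
  have h5786 : ∀ u < 104148, (fun u => chkSlp tab slp u) u = true := ext_range (a := 104130) (len := 18) h5785 sl_5785
  have h5787 : ∀ u < 104166, (fun u => chkSlp tab slp u) u = true := ext_range (a := 104148) (len := 18) h5786 sl_5786
  have h5788 : ∀ u < 104184, (fun u => chkSlp tab slp u) u = true := ext_range (a := 104166) (len := 18) h5787 sl_5787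
  have h5789 : ∀ u < 104202, (fun u => chkSlp tab slp u) u = true := ext_range (a := 104184) (len := 18) h5788 sl_5788
  have h5790 : ∀ u < 104220, (fun u => chkSlp tab slp u) u = true := ext_range (a := 104202) (len := 18) h5789 sl_5789
  have h5791 : ∀ u < 104238, (fun u => chkSlp tab slp u) u = true := ext_range (a := 104220) (len := 18) h5790 sl_5790
  have h5792 : ∀ u < 104256, (fun u => chkSlp tab slp u) u = true := ext_range (a := 104238) (len := 18) h5791 sl_5791
  have h5793 : ∀ u < 104274, (fun u => chkSlp tab slp u) u = true := ext_range (a := 104256) (len := 18) h5792 sl_5792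
  have h5794 : ∀ u < 104292, (fun u => chkSlp tab slp u) u = true := ext_range (a := 104274) (len := 18) h5793 sl_5793
  have h5795 : ∀ u < 104310, (fun u => chkSlp tab slp u) u = true := ext_range (a := 104292) (len := 18) h5794 sl_5794
  have h5796 : ∀ u < 104328, (fun u => chkSlp tab slp u) u = true := ext_range (a := 104310) (len := 18) h5795 sl_5795
  have h5797 : ∀ u < 104346, (fun u => chkSlp tab slp u) u = true := ext_range (a := 104328) (len := 18) h5796 sl_5796
  have h5798 : ∀ u < 104364, (fun u => chkSlp tab slp u) u = true := ext_range (a := 104346) (len := 18) h5797 sl_5797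
  have h5799 : ∀ u < 104382, (fun u => chkSlp tab slp u) u = true := ext_range (a := 104364) (len := 18) h5798 sl_5798
  have h5800 : ∀ u < 104400, (fun u => chkSlp tab slp u) u = true := ext_range (a := 104382) (len := 18) h5799 sl_5799
  have h5801 : ∀ u < 104418, (fun u => chkSlp tab slp u) u = true := ext_range (a := 104400) (len := 18) h5800 sl_5800
  have h5802 : ∀ u < 104436, (fun u => chkSlp tab slp u) u = true := ext_range (a := 104418) (len := 18) h5801 sl_5801
  have h5803 : ∀ u < 104454, (fun u => chkSlp tab slp u) u = true := ext_range (a := 104436) (len := 18) h5802 sl_5802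
  have h5804 : ∀ u < 104472, (fun u => chkSlp tab slp u) u = true := ext_range (a := 104454) (len := 18) h5803 sl_5803
  have h5805 : ∀ u < 104490, (fun u => chkSlp tab slp u) u = true := ext_range (a := 104472) (len := 18) h5804 sl_5804
  have h5806 : ∀ u < 104508, (fun u => chkSlp tab slp u) u = true := ext_range (a := 104490) (len := 18) h5805 sl_5805
  have h5807 : ∀ u < 104526, (fun u => chkSlp tab slp u) u = true := ext_range (a := 104508) (len := 18) h5806 sl_5806
  have h5808 : ∀ u < 104544, (fun u => chkSlp tab slp u) u = true := ext_range (a := 104526) (len := 18) h5807 sl_5807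
  have h5809 : ∀ u < 104562, (fun u => chkSlp tab slp u) u = true := ext_range (a := 104544) (len := 18) h5808 sl_5808
  have h5810 : ∀ u < 104580, (fun u => chkSlp tab slp u) u = true := ext_range (a := 104562) (len := 18) h5809 sl_5809
  have h5811 : ∀ u < 104598, (fun u => chkSlp tab slp u) u = true := ext_range (a := 104580) (len := 18) h5810 sl_5810
  have h5812 : ∀ u < 104616, (fun u => chkSlp tab slp u) u = true := ext_range (a := 104598) (len := 18) h5811 sl_5811
  have h5813 : ∀ u < 104634, (fun u => chkSlp tab slp u) u = true := ext_range (a := 104616) (len := 18) h5812 sl_5812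
  have h5814 : ∀ u < 104652, (fun u => chkSlp tab slp u) u = true := ext_range (a := 104634) (len := 18) h5813 sl_5813
  have h5815 : ∀ u < 104670, (fun u => chkSlp tab slp u) u = true := ext_range (a := 104652) (len := 18) h5814 sl_5814
  have h5816 : ∀ u < 104688, (fun u => chkSlp tab slp u) u = true := ext_range (a := 104670) (len := 18) h5815 sl_5815
  have h5817 : ∀ u < 104706, (fun u => chkSlp tab slp u) u = true := ext_range (a := 104688) (len := 18) h5816 sl_5816
  have h5818 : ∀ u < 104724, (fun u => chkSlp tab slp u) u = true := ext_range (a := 104706) (len := 18) h5817 sl_5817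
  have h5819 : ∀ u < 104742, (fun u => chkSlp tab slp u) u = true := ext_range (a := 104724) (len := 18) h5818 sl_5818
  have h5820 : ∀ u < 104760, (fun u => chkSlp tab slp u) u = true := ext_range (a := 104742) (len := 18) h5819 sl_5819
  have h5821 : ∀ u < 104778, (fun u => chkSlp tab slp u) u = true := ext_range (a := 104760) (len := 18) h5820 sl_5820
  have h5822 : ∀ u < 104796, (fun u => chkSlp tab slp u) u = true := ext_range (a := 104778) (len := 18) h5821 sl_5821
  have h5823 : ∀ u < 104814, (fun u => chkSlp tab slp u) u = true := ext_range (a := 104796) (len := 18) h5822 sl_5822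
  have h5824 : ∀ u < 104832, (fun u => chkSlp tab slp u) u = true := ext_range (a := 104814) (len := 18) h5823 sl_5823
  have h5825 : ∀ u < 104850, (fun u => chkSlp tab slp u) u = true := ext_range (a := 104832) (len := 18) h5824 sl_5824
  have h5826 : ∀ u < 104868, (fun u => chkSlp tab slp u) u = true := ext_range (a := 104850) (len := 18) h5825 sl_5825
  have h5827 : ∀ u < 104886, (fun u => chkSlp tab slp u) u = true := ext_range (a := 104868) (len := 18) h5826 sl_5826
  have h5828 : ∀ u < 104904, (fun u => chkSlp tab slp u) u = true := ext_range (a := 104886) (len := 18) h5827 sl_5827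
  have h5829 : ∀ u < 104922, (fun u => chkSlp tab slp u) u = true := ext_range (a := 104904) (len := 18) h5828 sl_5828
  have h5830 : ∀ u < 104940, (fun u => chkSlp tab slp u) u = true := ext_range (a := 104922) (len := 18) h5829 sl_5829
  have h5831 : ∀ u < 104958, (fun u => chkSlp tab slp u) u = true := ext_range (a := 104940) (len := 18) h5830 sl_5830
  have h5832 : ∀ u < 104976, (fun u => chkSlp tab slp u) u = true := ext_range (a := 104958) (len := 18) h5831 sl_5831
  have h5833 : ∀ u < 104994, (fun u => chkSlp tab slp u) u = true := ext_range (a := 104976) (len := 18) h5832 sl_5832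
  have h5834 : ∀ u < 105012, (fun u => chkSlp tab slp u) u = true := ext_range (a := 104994) (len := 18) h5833 sl_5833
  have h5835 : ∀ u < 105030, (fun u => chkSlp tab slp u) u = true := ext_range (a := 105012) (len := 18) h5834 sl_5834
  have h5836 : ∀ u < 105048, (fun u => chkSlp tab slp u) u = true := ext_range (a := 105030) (len := 18) h5835 sl_5835
  have h5837 : ∀ u < 105066, (fun u => chkSlp tab slp u) u = true := ext_range (a := 105048) (len := 18) h5836 sl_5836
  have h5838 : ∀ u < 105084, (fun u => chkSlp tab slp u) u = true := ext_range (a := 105066) (len := 18) h5837 sl_5837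
  have h5839 : ∀ u < 105102, (fun u => chkSlp tab slp u) u = true := ext_range (a := 105084) (len := 18) h5838 sl_5838
  have h5840 : ∀ u < 105120, (fun u => chkSlp tab slp u) u = true := ext_range (a := 105102) (len := 18) h5839 sl_5839
  have h5841 : ∀ u < 105138, (fun u => chkSlp tab slp u) u = true := ext_range (a := 105120) (len := 18) h5840 sl_5840
  have h5842 : ∀ u < 105156, (fun u => chkSlp tab slp u) u = true := ext_range (a := 105138) (len := 18) h5841 sl_5841
  have h5843 : ∀ u < 105174, (fun u => chkSlp tab slp u) u = true := ext_range (a := 105156) (len := 18) h5842 sl_5842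
  have h5844 : ∀ u < 105192, (fun u => chkSlp tab slp u) u = true := ext_range (a := 105174) (len := 18) h5843 sl_5843
  have h5845 : ∀ u < 105210, (fun u => chkSlp tab slp u) u = true := ext_range (a := 105192) (len := 18) h5844 sl_5844
  have h5846 : ∀ u < 105228, (fun u => chkSlp tab slp u) u = true := ext_range (a := 105210) (len := 18) h5845 sl_5845
  have h5847 : ∀ u < 105246, (fun u => chkSlp tab slp u) u = true := ext_range (a := 105228) (len := 18) h5846 sl_5846
  have h5848 : ∀ u < 105264, (fun u => chkSlp tab slp u) u = true := ext_range (a := 105246) (len := 18) h5847 sl_5847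
  have h5849 : ∀ u < 105282, (fun u => chkSlp tab slp u) u = true := ext_range (a := 105264) (len := 18) h5848 sl_5848
  have h5850 : ∀ u < 105300, (fun u => chkSlp tab slp u) u = true := ext_range (a := 105282) (len := 18) h5849 sl_5849
  have h5851 : ∀ u < 105318, (fun u => chkSlp tab slp u) u = true := ext_range (a := 105300) (len := 18) h5850 sl_5850
  have h5852 : ∀ u < 105336, (fun u => chkSlp tab slp u) u = true := ext_range (a := 105318) (len := 18) h5851 sl_5851
  have h5853 : ∀ u < 105354, (fun u => chkSlp tab slp u) u = true := ext_range (a := 105336) (len := 18) h5852 sl_5852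
  have h5854 : ∀ u < 105372, (fun u => chkSlp tab slp u) u = true := ext_range (a := 105354) (len := 18) h5853 sl_5853
  have h5855 : ∀ u < 105390, (fun u => chkSlp tab slp u) u = true := ext_range (a := 105372) (len := 18) h5854 sl_5854
  have h5856 : ∀ u < 105408, (fun u => chkSlp tab slp u) u = true := ext_range (a := 105390) (len := 18) h5855 sl_5855
  have h5857 : ∀ u < 105426, (fun u => chkSlp tab slp u) u = true := ext_range (a := 105408) (len := 18) h5856 sl_5856
  have h5858 : ∀ u < 105444, (fun u => chkSlp tab slp u) u = true := ext_range (a := 105426) (len := 18) h5857 sl_5857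
  have h5859 : ∀ u < 105462, (fun u => chkSlp tab slp u) u = true := ext_range (a := 105444) (len := 18) h5858 sl_5858
  have h5860 : ∀ u < 105480, (fun u => chkSlp tab slp u) u = true := ext_range (a := 105462) (len := 18) h5859 sl_5859
  have h5861 : ∀ u < 105498, (fun u => chkSlp tab slp u) u = true := ext_range (a := 105480) (len := 18) h5860 sl_5860
  have h5862 : ∀ u < 105516, (fun u => chkSlp tab slp u) u = true := ext_range (a := 105498) (len := 18) h5861 sl_5861
  have h5863 : ∀ u < 105534, (fun u => chkSlp tab slp u) u = true := ext_range (a := 105516) (len := 18) h5862 sl_5862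
  have h5864 : ∀ u < 105552, (fun u => chkSlp tab slp u) u = true := ext_range (a := 105534) (len := 18) h5863 sl_5863
  have h5865 : ∀ u < 105570, (fun u => chkSlp tab slp u) u = true := ext_range (a := 105552) (len := 18) h5864 sl_5864
  have h5866 : ∀ u < 105588, (fun u => chkSlp tab slp u) u = true := ext_range (a := 105570) (len := 18) h5865 sl_5865
  have h5867 : ∀ u < 105606, (fun u => chkSlp tab slp u) u = true := ext_range (a := 105588) (len := 18) h5866 sl_5866
  have h5868 : ∀ u < 105624, (fun u => chkSlp tab slp u) u = true := ext_range (a := 105606) (len := 18) h5867 sl_5867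
  have h5869 : ∀ u < 105642, (fun u => chkSlp tab slp u) u = true := ext_range (a := 105624) (len := 18) h5868 sl_5868
  have h5870 : ∀ u < 105660, (fun u => chkSlp tab slp u) u = true := ext_range (a := 105642) (len := 18) h5869 sl_5869
  have h5871 : ∀ u < 105678, (fun u => chkSlp tab slp u) u = true := ext_range (a := 105660) (len := 18) h5870 sl_5870
  have h5872 : ∀ u < 105696, (fun u => chkSlp tab slp u) u = true := ext_range (a := 105678) (len := 18) h5871 sl_5871
  have h5873 : ∀ u < 105714, (fun u => chkSlp tab slp u) u = true := ext_range (a := 105696) (len := 18) h5872 sl_5872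
  have h5874 : ∀ u < 105732, (fun u => chkSlp tab slp u) u = true := ext_range (a := 105714) (len := 18) h5873 sl_5873
  have h5875 : ∀ u < 105750, (fun u => chkSlp tab slp u) u = true := ext_range (a := 105732) (len := 18) h5874 sl_5874
  have h5876 : ∀ u < 105768, (fun u => chkSlp tab slp u) u = true := ext_range (a := 105750) (len := 18) h5875 sl_5875
  have h5877 : ∀ u < 105786, (fun u => chkSlp tab slp u) u = true := ext_range (a := 105768) (len := 18) h5876 sl_5876
  have h5878 : ∀ u < 105804, (fun u => chkSlp tab slp u) u = true := ext_range (a := 105786) (len := 18) h5877 sl_5877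
  have h5879 : ∀ u < 105822, (fun u => chkSlp tab slp u) u = true := ext_range (a := 105804) (len := 18) h5878 sl_5878
  have h5880 : ∀ u < 105840, (fun u => chkSlp tab slp u) u = true := ext_range (a := 105822) (len := 18) h5879 sl_5879
  have h5881 : ∀ u < 105858, (fun u => chkSlp tab slp u) u = true := ext_range (a := 105840) (len := 18) h5880 sl_5880
  have h5882 : ∀ u < 105876, (fun u => chkSlp tab slp u) u = true := ext_range (a := 105858) (len := 18) h5881 sl_5881
  have h5883 : ∀ u < 105894, (fun u => chkSlp tab slp u) u = true := ext_range (a := 105876) (len := 18) h5882 sl_5882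
  have h5884 : ∀ u < 105912, (fun u => chkSlp tab slp u) u = true := ext_range (a := 105894) (len := 18) h5883 sl_5883
  have h5885 : ∀ u < 105930, (fun u => chkSlp tab slp u) u = true := ext_range (a := 105912) (len := 18) h5884 sl_5884
  have h5886 : ∀ u < 105948, (fun u => chkSlp tab slp u) u = true := ext_range (a := 105930) (len := 18) h5885 sl_5885
  have h5887 : ∀ u < 105966, (fun u => chkSlp tab slp u) u = true := ext_range (a := 105948) (len := 18) h5886 sl_5886
  have h5888 : ∀ u < 105984, (fun u => chkSlp tab slp u) u = true := ext_range (a := 105966) (len := 18) h5887 sl_5887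
  have h5889 : ∀ u < 106002, (fun u => chkSlp tab slp u) u = true := ext_range (a := 105984) (len := 18) h5888 sl_5888
  have h5890 : ∀ u < 106020, (fun u => chkSlp tab slp u) u = true := ext_range (a := 106002) (len := 18) h5889 sl_5889
  have h5891 : ∀ u < 106038, (fun u => chkSlp tab slp u) u = true := ext_range (a := 106020) (len := 18) h5890 sl_5890
  have h5892 : ∀ u < 106056, (fun u => chkSlp tab slp u) u = true := ext_range (a := 106038) (len := 18) h5891 sl_5891
  have h5893 : ∀ u < 106074, (fun u => chkSlp tab slp u) u = true := ext_range (a := 106056) (len := 18) h5892 sl_5892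
  have h5894 : ∀ u < 106092, (fun u => chkSlp tab slp u) u = true := ext_range (a := 106074) (len := 18) h5893 sl_5893
  have h5895 : ∀ u < 106110, (fun u => chkSlp tab slp u) u = true := ext_range (a := 106092) (len := 18) h5894 sl_5894
  have h5896 : ∀ u < 106128, (fun u => chkSlp tab slp u) u = true := ext_range (a := 106110) (len := 18) h5895 sl_5895
  have h5897 : ∀ u < 106146, (fun u => chkSlp tab slp u) u = true := ext_range (a := 106128) (len := 18) h5896 sl_5896
  have h5898 : ∀ u < 106164, (fun u => chkSlp tab slp u) u = true := ext_range (a := 106146) (len := 18) h5897 sl_5897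
  have h5899 : ∀ u < 106182, (fun u => chkSlp tab slp u) u = true := ext_range (a := 106164) (len := 18) h5898 sl_5898
  have h5900 : ∀ u < 106200, (fun u => chkSlp tab slp u) u = true := ext_range (a := 106182) (len := 18) h5899 sl_5899
  have h5901 : ∀ u < 106218, (fun u => chkSlp tab slp u) u = true := ext_range (a := 106200) (len := 18) h5900 sl_5900
  have h5902 : ∀ u < 106236, (fun u => chkSlp tab slp u) u = true := ext_range (a := 106218) (len := 18) h5901 sl_5901
  have h5903 : ∀ u < 106254, (fun u => chkSlp tab slp u) u = true := ext_range (a := 106236) (len := 18) h5902 sl_5902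
  have h5904 : ∀ u < 106272, (fun u => chkSlp tab slp u) u = true := ext_range (a := 106254) (len := 18) h5903 sl_5903
  have h5905 : ∀ u < 106290, (fun u => chkSlp tab slp u) u = true := ext_range (a := 106272) (len := 18) h5904 sl_5904
  have h5906 : ∀ u < 106308, (fun u => chkSlp tab slp u) u = true := ext_range (a := 106290) (len := 18) h5905 sl_5905
  have h5907 : ∀ u < 106326, (fun u => chkSlp tab slp u) u = true := ext_range (a := 106308) (len := 18) h5906 sl_5906
  have h5908 : ∀ u < 106344, (fun u => chkSlp tab slp u) u = true := ext_range (a := 106326) (len := 18) h5907 sl_5907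
  have h5909 : ∀ u < 106362, (fun u => chkSlp tab slp u) u = true := ext_range (a := 106344) (len := 18) h5908 sl_5908
  have h5910 : ∀ u < 106380, (fun u => chkSlp tab slp u) u = true := ext_range (a := 106362) (len := 18) h5909 sl_5909
  have h5911 : ∀ u < 106398, (fun u => chkSlp tab slp u) u = true := ext_range (a := 106380) (len := 18) h5910 sl_5910
  have h5912 : ∀ u < 106416, (fun u => chkSlp tab slp u) u = true := ext_range (a := 106398) (len := 18) h5911 sl_5911
  have h5913 : ∀ u < 106434, (fun u => chkSlp tab slp u) u = true := ext_range (a := 106416) (len := 18) h5912 sl_5912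
  have h5914 : ∀ u < 106452, (fun u => chkSlp tab slp u) u = true := ext_range (a := 106434) (len := 18) h5913 sl_5913
  have h5915 : ∀ u < 106470, (fun u => chkSlp tab slp u) u = true := ext_range (a := 106452) (len := 18) h5914 sl_5914
  have h5916 : ∀ u < 106488, (fun u => chkSlp tab slp u) u = true := ext_range (a := 106470) (len := 18) h5915 sl_5915
  have h5917 : ∀ u < 106506, (fun u => chkSlp tab slp u) u = true := ext_range (a := 106488) (len := 18) h5916 sl_5916
  have h5918 : ∀ u < 106524, (fun u => chkSlp tab slp u) u = true := ext_range (a := 106506) (len := 18) h5917 sl_5917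
  have h5919 : ∀ u < 106542, (fun u => chkSlp tab slp u) u = true := ext_range (a := 106524) (len := 18) h5918 sl_5918
  have h5920 : ∀ u < 106560, (fun u => chkSlp tab slp u) u = true := ext_range (a := 106542) (len := 18) h5919 sl_5919
  have h5921 : ∀ u < 106578, (fun u => chkSlp tab slp u) u = true := ext_range (a := 106560) (len := 18) h5920 sl_5920
  have h5922 : ∀ u < 106596, (fun u => chkSlp tab slp u) u = true := ext_range (a := 106578) (len := 18) h5921 sl_5921
  have h5923 : ∀ u < 106614, (fun u => chkSlp tab slp u) u = true := ext_range (a := 106596) (len := 18) h5922 sl_5922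
  have h5924 : ∀ u < 106632, (fun u => chkSlp tab slp u) u = true := ext_range (a := 106614) (len := 18) h5923 sl_5923
  have h5925 : ∀ u < 106650, (fun u => chkSlp tab slp u) u = true := ext_range (a := 106632) (len := 18) h5924 sl_5924
  have h5926 : ∀ u < 106668, (fun u => chkSlp tab slp u) u = true := ext_range (a := 106650) (len := 18) h5925 sl_5925
  have h5927 : ∀ u < 106686, (fun u => chkSlp tab slp u) u = true := ext_range (a := 106668) (len := 18) h5926 sl_5926
  have h5928 : ∀ u < 106704, (fun u => chkSlp tab slp u) u = true := ext_range (a := 106686) (len := 18) h5927 sl_5927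
  have h5929 : ∀ u < 106722, (fun u => chkSlp tab slp u) u = true := ext_range (a := 106704) (len := 18) h5928 sl_5928
  have h5930 : ∀ u < 106740, (fun u => chkSlp tab slp u) u = true := ext_range (a := 106722) (len := 18) h5929 sl_5929
  have h5931 : ∀ u < 106758, (fun u => chkSlp tab slp u) u = true := ext_range (a := 106740) (len := 18) h5930 sl_5930
  have h5932 : ∀ u < 106776, (fun u => chkSlp tab slp u) u = true := ext_range (a := 106758) (len := 18) h5931 sl_5931
  have h5933 : ∀ u < 106794, (fun u => chkSlp tab slp u) u = true := ext_range (a := 106776) (len := 18) h5932 sl_5932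
  have h5934 : ∀ u < 106812, (fun u => chkSlp tab slp u) u = true := ext_range (a := 106794) (len := 18) h5933 sl_5933
  have h5935 : ∀ u < 106830, (fun u => chkSlp tab slp u) u = true := ext_range (a := 106812) (len := 18) h5934 sl_5934
  have h5936 : ∀ u < 106848, (fun u => chkSlp tab slp u) u = true := ext_range (a := 106830) (len := 18) h5935 sl_5935
  have h5937 : ∀ u < 106866, (fun u => chkSlp tab slp u) u = true := ext_range (a := 106848) (len := 18) h5936 sl_5936
  have h5938 : ∀ u < 106884, (fun u => chkSlp tab slp u) u = true := ext_range (a := 106866) (len := 18) h5937 sl_5937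
  have h5939 : ∀ u < 106902, (fun u => chkSlp tab slp u) u = true := ext_range (a := 106884) (len := 18) h5938 sl_5938
  have h5940 : ∀ u < 106920, (fun u => chkSlp tab slp u) u = true := ext_range (a := 106902) (len := 18) h5939 sl_5939
  have h5941 : ∀ u < 106938, (fun u => chkSlp tab slp u) u = true := ext_range (a := 106920) (len := 18) h5940 sl_5940
  have h5942 : ∀ u < 106956, (fun u => chkSlp tab slp u) u = true := ext_range (a := 106938) (len := 18) h5941 sl_5941
  have h5943 : ∀ u < 106974, (fun u => chkSlp tab slp u) u = true := ext_range (a := 106956) (len := 18) h5942 sl_5942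
  have h5944 : ∀ u < 106992, (fun u => chkSlp tab slp u) u = true := ext_range (a := 106974) (len := 18) h5943 sl_5943
  have h5945 : ∀ u < 107010, (fun u => chkSlp tab slp u) u = true := ext_range (a := 106992) (len := 18) h5944 sl_5944
  have h5946 : ∀ u < 107028, (fun u => chkSlp tab slp u) u = true := ext_range (a := 107010) (len := 18) h5945 sl_5945
  have h5947 : ∀ u < 107046, (fun u => chkSlp tab slp u) u = true := ext_range (a := 107028) (len := 18) h5946 sl_5946
  have h5948 : ∀ u < 107064, (fun u => chkSlp tab slp u) u = true := ext_range (a := 107046) (len := 18) h5947 sl_5947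
  have h5949 : ∀ u < 107082, (fun u => chkSlp tab slp u) u = true := ext_range (a := 107064) (len := 18) h5948 sl_5948
  have h5950 : ∀ u < 107100, (fun u => chkSlp tab slp u) u = true := ext_range (a := 107082) (len := 18) h5949 sl_5949
  have h5951 : ∀ u < 107118, (fun u => chkSlp tab slp u) u = true := ext_range (a := 107100) (len := 18) h5950 sl_5950
  have h5952 : ∀ u < 107136, (fun u => chkSlp tab slp u) u = true := ext_range (a := 107118) (len := 18) h5951 sl_5951
  have h5953 : ∀ u < 107154, (fun u => chkSlp tab slp u) u = true := ext_range (a := 107136) (len := 18) h5952 sl_5952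
  have h5954 : ∀ u < 107172, (fun u => chkSlp tab slp u) u = true := ext_range (a := 107154) (len := 18) h5953 sl_5953
  have h5955 : ∀ u < 107190, (fun u => chkSlp tab slp u) u = true := ext_range (a := 107172) (len := 18) h5954 sl_5954
  have h5956 : ∀ u < 107208, (fun u => chkSlp tab slp u) u = true := ext_range (a := 107190) (len := 18) h5955 sl_5955
  have h5957 : ∀ u < 107226, (fun u => chkSlp tab slp u) u = true := ext_range (a := 107208) (len := 18) h5956 sl_5956
  have h5958 : ∀ u < 107244, (fun u => chkSlp tab slp u) u = true := ext_range (a := 107226) (len := 18) h5957 sl_5957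
  have h5959 : ∀ u < 107262, (fun u => chkSlp tab slp u) u = true := ext_range (a := 107244) (len := 18) h5958 sl_5958
  have h5960 : ∀ u < 107280, (fun u => chkSlp tab slp u) u = true := ext_range (a := 107262) (len := 18) h5959 sl_5959
  have h5961 : ∀ u < 107298, (fun u => chkSlp tab slp u) u = true := ext_range (a := 107280) (len := 18) h5960 sl_5960
  have h5962 : ∀ u < 107316, (fun u => chkSlp tab slp u) u = true := ext_range (a := 107298) (len := 18) h5961 sl_5961
  have h5963 : ∀ u < 107334, (fun u => chkSlp tab slp u) u = true := ext_range (a := 107316) (len := 18) h5962 sl_5962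
  have h5964 : ∀ u < 107352, (fun u => chkSlp tab slp u) u = true := ext_range (a := 107334) (len := 18) h5963 sl_5963
  have h5965 : ∀ u < 107370, (fun u => chkSlp tab slp u) u = true := ext_range (a := 107352) (len := 18) h5964 sl_5964
  have h5966 : ∀ u < 107388, (fun u => chkSlp tab slp u) u = true := ext_range (a := 107370) (len := 18) h5965 sl_5965
  have h5967 : ∀ u < 107406, (fun u => chkSlp tab slp u) u = true := ext_range (a := 107388) (len := 18) h5966 sl_5966
  have h5968 : ∀ u < 107424, (fun u => chkSlp tab slp u) u = true := ext_range (a := 107406) (len := 18) h5967 sl_5967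
  have h5969 : ∀ u < 107442, (fun u => chkSlp tab slp u) u = true := ext_range (a := 107424) (len := 18) h5968 sl_5968
  have h5970 : ∀ u < 107460, (fun u => chkSlp tab slp u) u = true := ext_range (a := 107442) (len := 18) h5969 sl_5969
  have h5971 : ∀ u < 107478, (fun u => chkSlp tab slp u) u = true := ext_range (a := 107460) (len := 18) h5970 sl_5970
  have h5972 : ∀ u < 107496, (fun u => chkSlp tab slp u) u = true := ext_range (a := 107478) (len := 18) h5971 sl_5971
  have h5973 : ∀ u < 107514, (fun u => chkSlp tab slp u) u = true := ext_range (a := 107496) (len := 18) h5972 sl_5972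
  have h5974 : ∀ u < 107532, (fun u => chkSlp tab slp u) u = true := ext_range (a := 107514) (len := 18) h5973 sl_5973
  have h5975 : ∀ u < 107550, (fun u => chkSlp tab slp u) u = true := ext_range (a := 107532) (len := 18) h5974 sl_5974
  have h5976 : ∀ u < 107568, (fun u => chkSlp tab slp u) u = true := ext_range (a := 107550) (len := 18) h5975 sl_5975
  have h5977 : ∀ u < 107586, (fun u => chkSlp tab slp u) u = true := ext_range (a := 107568) (len := 18) h5976 sl_5976
  have h5978 : ∀ u < 107604, (fun u => chkSlp tab slp u) u = true := ext_range (a := 107586) (len := 18) h5977 sl_5977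
  have h5979 : ∀ u < 107622, (fun u => chkSlp tab slp u) u = true := ext_range (a := 107604) (len := 18) h5978 sl_5978
  have h5980 : ∀ u < 107640, (fun u => chkSlp tab slp u) u = true := ext_range (a := 107622) (len := 18) h5979 sl_5979
  have h5981 : ∀ u < 107658, (fun u => chkSlp tab slp u) u = true := ext_range (a := 107640) (len := 18) h5980 sl_5980
  have h5982 : ∀ u < 107676, (fun u => chkSlp tab slp u) u = true := ext_range (a := 107658) (len := 18) h5981 sl_5981
  have h5983 : ∀ u < 107694, (fun u => chkSlp tab slp u) u = true := ext_range (a := 107676) (len := 18) h5982 sl_5982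
  have h5984 : ∀ u < 107712, (fun u => chkSlp tab slp u) u = true := ext_range (a := 107694) (len := 18) h5983 sl_5983
  have h5985 : ∀ u < 107730, (fun u => chkSlp tab slp u) u = true := ext_range (a := 107712) (len := 18) h5984 sl_5984
  have h5986 : ∀ u < 107748, (fun u => chkSlp tab slp u) u = true := ext_range (a := 107730) (len := 18) h5985 sl_5985
  have h5987 : ∀ u < 107766, (fun u => chkSlp tab slp u) u = true := ext_range (a := 107748) (len := 18) h5986 sl_5986
  have h5988 : ∀ u < 107784, (fun u => chkSlp tab slp u) u = true := ext_range (a := 107766) (len := 18) h5987 sl_5987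
  have h5989 : ∀ u < 107802, (fun u => chkSlp tab slp u) u = true := ext_range (a := 107784) (len := 18) h5988 sl_5988
  have h5990 : ∀ u < 107820, (fun u => chkSlp tab slp u) u = true := ext_range (a := 107802) (len := 18) h5989 sl_5989
  have h5991 : ∀ u < 107838, (fun u => chkSlp tab slp u) u = true := ext_range (a := 107820) (len := 18) h5990 sl_5990
  have h5992 : ∀ u < 107856, (fun u => chkSlp tab slp u) u = true := ext_range (a := 107838) (len := 18) h5991 sl_5991
  have h5993 : ∀ u < 107874, (fun u => chkSlp tab slp u) u = true := ext_range (a := 107856) (len := 18) h5992 sl_5992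
  have h5994 : ∀ u < 107892, (fun u => chkSlp tab slp u) u = true := ext_range (a := 107874) (len := 18) h5993 sl_5993
  have h5995 : ∀ u < 107910, (fun u => chkSlp tab slp u) u = true := ext_range (a := 107892) (len := 18) h5994 sl_5994
  have h5996 : ∀ u < 107928, (fun u => chkSlp tab slp u) u = true := ext_range (a := 107910) (len := 18) h5995 sl_5995
  have h5997 : ∀ u < 107946, (fun u => chkSlp tab slp u) u = true := ext_range (a := 107928) (len := 18) h5996 sl_5996
  have h5998 : ∀ u < 107964, (fun u => chkSlp tab slp u) u = true := ext_range (a := 107946) (len := 18) h5997 sl_5997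
  have h5999 : ∀ u < 107982, (fun u => chkSlp tab slp u) u = true := ext_range (a := 107964) (len := 18) h5998 sl_5998
  have h6000 : ∀ u < 108000, (fun u => chkSlp tab slp u) u = true := ext_range (a := 107982) (len := 18) h5999 sl_5999
  have h6001 : ∀ u < 108018, (fun u => chkSlp tab slp u) u = true := ext_range (a := 108000) (len := 18) h6000 sl_6000
  have h6002 : ∀ u < 108036, (fun u => chkSlp tab slp u) u = true := ext_range (a := 108018) (len := 18) h6001 sl_6001
  have h6003 : ∀ u < 108054, (fun u => chkSlp tab slp u) u = true := ext_range (a := 108036) (len := 18) h6002 sl_6002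
  have h6004 : ∀ u < 108072, (fun u => chkSlp tab slp u) u = true := ext_range (a := 108054) (len := 18) h6003 sl_6003
  have h6005 : ∀ u < 108090, (fun u => chkSlp tab slp u) u = true := ext_range (a := 108072) (len := 18) h6004 sl_6004
  have h6006 : ∀ u < 108108, (fun u => chkSlp tab slp u) u = true := ext_range (a := 108090) (len := 18) h6005 sl_6005
  have h6007 : ∀ u < 108126, (fun u => chkSlp tab slp u) u = true := ext_range (a := 108108) (len := 18) h6006 sl_6006
  have h6008 : ∀ u < 108144, (fun u => chkSlp tab slp u) u = true := ext_range (a := 108126) (len := 18) h6007 sl_6007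
  have h6009 : ∀ u < 108162, (fun u => chkSlp tab slp u) u = true := ext_range (a := 108144) (len := 18) h6008 sl_6008
  have h6010 : ∀ u < 108180, (fun u => chkSlp tab slp u) u = true := ext_range (a := 108162) (len := 18) h6009 sl_6009
  have h6011 : ∀ u < 108198, (fun u => chkSlp tab slp u) u = true := ext_range (a := 108180) (len := 18) h6010 sl_6010
  have h6012 : ∀ u < 108216, (fun u => chkSlp tab slp u) u = true := ext_range (a := 108198) (len := 18) h6011 sl_6011
  have h6013 : ∀ u < 108234, (fun u => chkSlp tab slp u) u = true := ext_range (a := 108216) (len := 18) h6012 sl_6012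
  have h6014 : ∀ u < 108252, (fun u => chkSlp tab slp u) u = true := ext_range (a := 108234) (len := 18) h6013 sl_6013
  have h6015 : ∀ u < 108270, (fun u => chkSlp tab slp u) u = true := ext_range (a := 108252) (len := 18) h6014 sl_6014
  have h6016 : ∀ u < 108288, (fun u => chkSlp tab slp u) u = true := ext_range (a := 108270) (len := 18) h6015 sl_6015
  have h6017 : ∀ u < 108306, (fun u => chkSlp tab slp u) u = true := ext_range (a := 108288) (len := 18) h6016 sl_6016
  have h6018 : ∀ u < 108324, (fun u => chkSlp tab slp u) u = true := ext_range (a := 108306) (len := 18) h6017 sl_6017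
  have h6019 : ∀ u < 108342, (fun u => chkSlp tab slp u) u = true := ext_range (a := 108324) (len := 18) h6018 sl_6018
  have h6020 : ∀ u < 108360, (fun u => chkSlp tab slp u) u = true := ext_range (a := 108342) (len := 18) h6019 sl_6019
  have h6021 : ∀ u < 108378, (fun u => chkSlp tab slp u) u = true := ext_range (a := 108360) (len := 18) h6020 sl_6020
  have h6022 : ∀ u < 108396, (fun u => chkSlp tab slp u) u = true := ext_range (a := 108378) (len := 18) h6021 sl_6021
  have h6023 : ∀ u < 108414, (fun u => chkSlp tab slp u) u = true := ext_range (a := 108396) (len := 18) h6022 sl_6022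
  have h6024 : ∀ u < 108432, (fun u => chkSlp tab slp u) u = true := ext_range (a := 108414) (len := 18) h6023 sl_6023
  have h6025 : ∀ u < 108450, (fun u => chkSlp tab slp u) u = true := ext_range (a := 108432) (len := 18) h6024 sl_6024
  have h6026 : ∀ u < 108468, (fun u => chkSlp tab slp u) u = true := ext_range (a := 108450) (len := 18) h6025 sl_6025
  have h6027 : ∀ u < 108486, (fun u => chkSlp tab slp u) u = true := ext_range (a := 108468) (len := 18) h6026 sl_6026
  have h6028 : ∀ u < 108504, (fun u => chkSlp tab slp u) u = true := ext_range (a := 108486) (len := 18) h6027 sl_6027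
  have h6029 : ∀ u < 108522, (fun u => chkSlp tab slp u) u = true := ext_range (a := 108504) (len := 18) h6028 sl_6028
  have h6030 : ∀ u < 108540, (fun u => chkSlp tab slp u) u = true := ext_range (a := 108522) (len := 18) h6029 sl_6029
  have h6031 : ∀ u < 108558, (fun u => chkSlp tab slp u) u = true := ext_range (a := 108540) (len := 18) h6030 sl_6030
  have h6032 : ∀ u < 108576, (fun u => chkSlp tab slp u) u = true := ext_range (a := 108558) (len := 18) h6031 sl_6031
  have h6033 : ∀ u < 108594, (fun u => chkSlp tab slp u) u = true := ext_range (a := 108576) (len := 18) h6032 sl_6032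
  have h6034 : ∀ u < 108612, (fun u => chkSlp tab slp u) u = true := ext_range (a := 108594) (len := 18) h6033 sl_6033
  have h6035 : ∀ u < 108630, (fun u => chkSlp tab slp u) u = true := ext_range (a := 108612) (len := 18) h6034 sl_6034
  have h6036 : ∀ u < 108648, (fun u => chkSlp tab slp u) u = true := ext_range (a := 108630) (len := 18) h6035 sl_6035
  have h6037 : ∀ u < 108666, (fun u => chkSlp tab slp u) u = true := ext_range (a := 108648) (len := 18) h6036 sl_6036
  have h6038 : ∀ u < 108684, (fun u => chkSlp tab slp u) u = true := ext_range (a := 108666) (len := 18) h6037 sl_6037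
  have h6039 : ∀ u < 108702, (fun u => chkSlp tab slp u) u = true := ext_range (a := 108684) (len := 18) h6038 sl_6038
  have h6040 : ∀ u < 108720, (fun u => chkSlp tab slp u) u = true := ext_range (a := 108702) (len := 18) h6039 sl_6039
  have h6041 : ∀ u < 108738, (fun u => chkSlp tab slp u) u = true := ext_range (a := 108720) (len := 18) h6040 sl_6040
  have h6042 : ∀ u < 108756, (fun u => chkSlp tab slp u) u = true := ext_range (a := 108738) (len := 18) h6041 sl_6041
  have h6043 : ∀ u < 108774, (fun u => chkSlp tab slp u) u = true := ext_range (a := 108756) (len := 18) h6042 sl_6042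
  have h6044 : ∀ u < 108792, (fun u => chkSlp tab slp u) u = true := ext_range (a := 108774) (len := 18) h6043 sl_6043
  have h6045 : ∀ u < 108810, (fun u => chkSlp tab slp u) u = true := ext_range (a := 108792) (len := 18) h6044 sl_6044
  have h6046 : ∀ u < 108828, (fun u => chkSlp tab slp u) u = true := ext_range (a := 108810) (len := 18) h6045 sl_6045
  have h6047 : ∀ u < 108846, (fun u => chkSlp tab slp u) u = true := ext_range (a := 108828) (len := 18) h6046 sl_6046
  have h6048 : ∀ u < 108864, (fun u => chkSlp tab slp u) u = true := ext_range (a := 108846) (len := 18) h6047 sl_6047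
  have h6049 : ∀ u < 108882, (fun u => chkSlp tab slp u) u = true := ext_range (a := 108864) (len := 18) h6048 sl_6048
  have h6050 : ∀ u < 108900, (fun u => chkSlp tab slp u) u = true := ext_range (a := 108882) (len := 18) h6049 sl_6049
  have h6051 : ∀ u < 108918, (fun u => chkSlp tab slp u) u = true := ext_range (a := 108900) (len := 18) h6050 sl_6050
  have h6052 : ∀ u < 108936, (fun u => chkSlp tab slp u) u = true := ext_range (a := 108918) (len := 18) h6051 sl_6051
  have h6053 : ∀ u < 108954, (fun u => chkSlp tab slp u) u = true := ext_range (a := 108936) (len := 18) h6052 sl_6052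
  have h6054 : ∀ u < 108972, (fun u => chkSlp tab slp u) u = true := ext_range (a := 108954) (len := 18) h6053 sl_6053
  have h6055 : ∀ u < 108990, (fun u => chkSlp tab slp u) u = true := ext_range (a := 108972) (len := 18) h6054 sl_6054
  have h6056 : ∀ u < 109008, (fun u => chkSlp tab slp u) u = true := ext_range (a := 108990) (len := 18) h6055 sl_6055
  have h6057 : ∀ u < 109026, (fun u => chkSlp tab slp u) u = true := ext_range (a := 109008) (len := 18) h6056 sl_6056
  have h6058 : ∀ u < 109044, (fun u => chkSlp tab slp u) u = true := ext_range (a := 109026) (len := 18) h6057 sl_6057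
  have h6059 : ∀ u < 109062, (fun u => chkSlp tab slp u) u = true := ext_range (a := 109044) (len := 18) h6058 sl_6058
  have h6060 : ∀ u < 109080, (fun u => chkSlp tab slp u) u = true := ext_range (a := 109062) (len := 18) h6059 sl_6059
  have h6061 : ∀ u < 109098, (fun u => chkSlp tab slp u) u = true := ext_range (a := 109080) (len := 18) h6060 sl_6060
  have h6062 : ∀ u < 109116, (fun u => chkSlp tab slp u) u = true := ext_range (a := 109098) (len := 18) h6061 sl_6061
  have h6063 : ∀ u < 109134, (fun u => chkSlp tab slp u) u = true := ext_range (a := 109116) (len := 18) h6062 sl_6062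
  have h6064 : ∀ u < 109152, (fun u => chkSlp tab slp u) u = true := ext_range (a := 109134) (len := 18) h6063 sl_6063
  have h6065 : ∀ u < 109170, (fun u => chkSlp tab slp u) u = true := ext_range (a := 109152) (len := 18) h6064 sl_6064
  have h6066 : ∀ u < 109188, (fun u => chkSlp tab slp u) u = true := ext_range (a := 109170) (len := 18) h6065 sl_6065
  have h6067 : ∀ u < 109206, (fun u => chkSlp tab slp u) u = true := ext_range (a := 109188) (len := 18) h6066 sl_6066
  have h6068 : ∀ u < 109224, (fun u => chkSlp tab slp u) u = true := ext_range (a := 109206) (len := 18) h6067 sl_6067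
  have h6069 : ∀ u < 109242, (fun u => chkSlp tab slp u) u = true := ext_range (a := 109224) (len := 18) h6068 sl_6068
  have h6070 : ∀ u < 109260, (fun u => chkSlp tab slp u) u = true := ext_range (a := 109242) (len := 18) h6069 sl_6069
  have h6071 : ∀ u < 109278, (fun u => chkSlp tab slp u) u = true := ext_range (a := 109260) (len := 18) h6070 sl_6070
  have h6072 : ∀ u < 109296, (fun u => chkSlp tab slp u) u = true := ext_range (a := 109278) (len := 18) h6071 sl_6071
  have h6073 : ∀ u < 109314, (fun u => chkSlp tab slp u) u = true := ext_range (a := 109296) (len := 18) h6072 sl_6072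
  have h6074 : ∀ u < 109332, (fun u => chkSlp tab slp u) u = true := ext_range (a := 109314) (len := 18) h6073 sl_6073
  have h6075 : ∀ u < 109350, (fun u => chkSlp tab slp u) u = true := ext_range (a := 109332) (len := 18) h6074 sl_6074
  have h6076 : ∀ u < 109368, (fun u => chkSlp tab slp u) u = true := ext_range (a := 109350) (len := 18) h6075 sl_6075
  have h6077 : ∀ u < 109386, (fun u => chkSlp tab slp u) u = true := ext_range (a := 109368) (len := 18) h6076 sl_6076
  have h6078 : ∀ u < 109404, (fun u => chkSlp tab slp u) u = true := ext_range (a := 109386) (len := 18) h6077 sl_6077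
  have h6079 : ∀ u < 109422, (fun u => chkSlp tab slp u) u = true := ext_range (a := 109404) (len := 18) h6078 sl_6078
  have h6080 : ∀ u < 109440, (fun u => chkSlp tab slp u) u = true := ext_range (a := 109422) (len := 18) h6079 sl_6079
  have h6081 : ∀ u < 109458, (fun u => chkSlp tab slp u) u = true := ext_range (a := 109440) (len := 18) h6080 sl_6080
  have h6082 : ∀ u < 109476, (fun u => chkSlp tab slp u) u = true := ext_range (a := 109458) (len := 18) h6081 sl_6081
  have h6083 : ∀ u < 109494, (fun u => chkSlp tab slp u) u = true := ext_range (a := 109476) (len := 18) h6082 sl_6082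
  have h6084 : ∀ u < 109512, (fun u => chkSlp tab slp u) u = true := ext_range (a := 109494) (len := 18) h6083 sl_6083
  have h6085 : ∀ u < 109530, (fun u => chkSlp tab slp u) u = true := ext_range (a := 109512) (len := 18) h6084 sl_6084
  have h6086 : ∀ u < 109548, (fun u => chkSlp tab slp u) u = true := ext_range (a := 109530) (len := 18) h6085 sl_6085
  have h6087 : ∀ u < 109566, (fun u => chkSlp tab slp u) u = true := ext_range (a := 109548) (len := 18) h6086 sl_6086
  have h6088 : ∀ u < 109584, (fun u => chkSlp tab slp u) u = true := ext_range (a := 109566) (len := 18) h6087 sl_6087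
  have h6089 : ∀ u < 109602, (fun u => chkSlp tab slp u) u = true := ext_range (a := 109584) (len := 18) h6088 sl_6088
  have h6090 : ∀ u < 109620, (fun u => chkSlp tab slp u) u = true := ext_range (a := 109602) (len := 18) h6089 sl_6089
  have h6091 : ∀ u < 109638, (fun u => chkSlp tab slp u) u = true := ext_range (a := 109620) (len := 18) h6090 sl_6090
  have h6092 : ∀ u < 109656, (fun u => chkSlp tab slp u) u = true := ext_range (a := 109638) (len := 18) h6091 sl_6091
  have h6093 : ∀ u < 109674, (fun u => chkSlp tab slp u) u = true := ext_range (a := 109656) (len := 18) h6092 sl_6092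
  have h6094 : ∀ u < 109692, (fun u => chkSlp tab slp u) u = true := ext_range (a := 109674) (len := 18) h6093 sl_6093
  have h6095 : ∀ u < 109710, (fun u => chkSlp tab slp u) u = true := ext_range (a := 109692) (len := 18) h6094 sl_6094
  have h6096 : ∀ u < 109728, (fun u => chkSlp tab slp u) u = true := ext_range (a := 109710) (len := 18) h6095 sl_6095
  have h6097 : ∀ u < 109746, (fun u => chkSlp tab slp u) u = true := ext_range (a := 109728) (len := 18) h6096 sl_6096
  have h6098 : ∀ u < 109764, (fun u => chkSlp tab slp u) u = true := ext_range (a := 109746) (len := 18) h6097 sl_6097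
  have h6099 : ∀ u < 109782, (fun u => chkSlp tab slp u) u = true := ext_range (a := 109764) (len := 18) h6098 sl_6098
  have h6100 : ∀ u < 109800, (fun u => chkSlp tab slp u) u = true := ext_range (a := 109782) (len := 18) h6099 sl_6099
  have h6101 : ∀ u < 109818, (fun u => chkSlp tab slp u) u = true := ext_range (a := 109800) (len := 18) h6100 sl_6100
  have h6102 : ∀ u < 109836, (fun u => chkSlp tab slp u) u = true := ext_range (a := 109818) (len := 18) h6101 sl_6101
  have h6103 : ∀ u < 109854, (fun u => chkSlp tab slp u) u = true := ext_range (a := 109836) (len := 18) h6102 sl_6102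
  have h6104 : ∀ u < 109872, (fun u => chkSlp tab slp u) u = true := ext_range (a := 109854) (len := 18) h6103 sl_6103
  have h6105 : ∀ u < 109890, (fun u => chkSlp tab slp u) u = true := ext_range (a := 109872) (len := 18) h6104 sl_6104
  have h6106 : ∀ u < 109908, (fun u => chkSlp tab slp u) u = true := ext_range (a := 109890) (len := 18) h6105 sl_6105
  have h6107 : ∀ u < 109926, (fun u => chkSlp tab slp u) u = true := ext_range (a := 109908) (len := 18) h6106 sl_6106
  have h6108 : ∀ u < 109944, (fun u => chkSlp tab slp u) u = true := ext_range (a := 109926) (len := 18) h6107 sl_6107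
  have h6109 : ∀ u < 109962, (fun u => chkSlp tab slp u) u = true := ext_range (a := 109944) (len := 18) h6108 sl_6108
  have h6110 : ∀ u < 109980, (fun u => chkSlp tab slp u) u = true := ext_range (a := 109962) (len := 18) h6109 sl_6109
  have h6111 : ∀ u < 109998, (fun u => chkSlp tab slp u) u = true := ext_range (a := 109980) (len := 18) h6110 sl_6110
  have h6112 : ∀ u < 110016, (fun u => chkSlp tab slp u) u = true := ext_range (a := 109998) (len := 18) h6111 sl_6111
  have h6113 : ∀ u < 110034, (fun u => chkSlp tab slp u) u = true := ext_range (a := 110016) (len := 18) h6112 sl_6112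
  have h6114 : ∀ u < 110052, (fun u => chkSlp tab slp u) u = true := ext_range (a := 110034) (len := 18) h6113 sl_6113
  have h6115 : ∀ u < 110070, (fun u => chkSlp tab slp u) u = true := ext_range (a := 110052) (len := 18) h6114 sl_6114
  have h6116 : ∀ u < 110088, (fun u => chkSlp tab slp u) u = true := ext_range (a := 110070) (len := 18) h6115 sl_6115
  have h6117 : ∀ u < 110106, (fun u => chkSlp tab slp u) u = true := ext_range (a := 110088) (len := 18) h6116 sl_6116
  have h6118 : ∀ u < 110124, (fun u => chkSlp tab slp u) u = true := ext_range (a := 110106) (len := 18) h6117 sl_6117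
  have h6119 : ∀ u < 110142, (fun u => chkSlp tab slp u) u = true := ext_range (a := 110124) (len := 18) h6118 sl_6118
  have h6120 : ∀ u < 110160, (fun u => chkSlp tab slp u) u = true := ext_range (a := 110142) (len := 18) h6119 sl_6119
  have h6121 : ∀ u < 110178, (fun u => chkSlp tab slp u) u = true := ext_range (a := 110160) (len := 18) h6120 sl_6120
  have h6122 : ∀ u < 110196, (fun u => chkSlp tab slp u) u = true := ext_range (a := 110178) (len := 18) h6121 sl_6121
  have h6123 : ∀ u < 110214, (fun u => chkSlp tab slp u) u = true := ext_range (a := 110196) (len := 18) h6122 sl_6122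
  have h6124 : ∀ u < 110232, (fun u => chkSlp tab slp u) u = true := ext_range (a := 110214) (len := 18) h6123 sl_6123
  have h6125 : ∀ u < 110250, (fun u => chkSlp tab slp u) u = true := ext_range (a := 110232) (len := 18) h6124 sl_6124
  have h6126 : ∀ u < 110268, (fun u => chkSlp tab slp u) u = true := ext_range (a := 110250) (len := 18) h6125 sl_6125
  have h6127 : ∀ u < 110286, (fun u => chkSlp tab slp u) u = true := ext_range (a := 110268) (len := 18) h6126 sl_6126
  have h6128 : ∀ u < 110304, (fun u => chkSlp tab slp u) u = true := ext_range (a := 110286) (len := 18) h6127 sl_6127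
  have h6129 : ∀ u < 110322, (fun u => chkSlp tab slp u) u = true := ext_range (a := 110304) (len := 18) h6128 sl_6128
  have h6130 : ∀ u < 110340, (fun u => chkSlp tab slp u) u = true := ext_range (a := 110322) (len := 18) h6129 sl_6129
  have h6131 : ∀ u < 110358, (fun u => chkSlp tab slp u) u = true := ext_range (a := 110340) (len := 18) h6130 sl_6130
  have h6132 : ∀ u < 110376, (fun u => chkSlp tab slp u) u = true := ext_range (a := 110358) (len := 18) h6131 sl_6131
  have h6133 : ∀ u < 110394, (fun u => chkSlp tab slp u) u = true := ext_range (a := 110376) (len := 18) h6132 sl_6132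
  have h6134 : ∀ u < 110412, (fun u => chkSlp tab slp u) u = true := ext_range (a := 110394) (len := 18) h6133 sl_6133
  have h6135 : ∀ u < 110430, (fun u => chkSlp tab slp u) u = true := ext_range (a := 110412) (len := 18) h6134 sl_6134
  have h6136 : ∀ u < 110448, (fun u => chkSlp tab slp u) u = true := ext_range (a := 110430) (len := 18) h6135 sl_6135
  have h6137 : ∀ u < 110466, (fun u => chkSlp tab slp u) u = true := ext_range (a := 110448) (len := 18) h6136 sl_6136
  have h6138 : ∀ u < 110484, (fun u => chkSlp tab slp u) u = true := ext_range (a := 110466) (len := 18) h6137 sl_6137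
  have h6139 : ∀ u < 110502, (fun u => chkSlp tab slp u) u = true := ext_range (a := 110484) (len := 18) h6138 sl_6138
  have h6140 : ∀ u < 110520, (fun u => chkSlp tab slp u) u = true := ext_range (a := 110502) (len := 18) h6139 sl_6139
  have h6141 : ∀ u < 110538, (fun u => chkSlp tab slp u) u = true := ext_range (a := 110520) (len := 18) h6140 sl_6140
  have h6142 : ∀ u < 110556, (fun u => chkSlp tab slp u) u = true := ext_range (a := 110538) (len := 18) h6141 sl_6141
  have h6143 : ∀ u < 110574, (fun u => chkSlp tab slp u) u = true := ext_range (a := 110556) (len := 18) h6142 sl_6142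
  have h6144 : ∀ u < 110592, (fun u => chkSlp tab slp u) u = true := ext_range (a := 110574) (len := 18) h6143 sl_6143
  have h6145 : ∀ u < 110610, (fun u => chkSlp tab slp u) u = true := ext_range (a := 110592) (len := 18) h6144 sl_6144
  have h6146 : ∀ u < 110628, (fun u => chkSlp tab slp u) u = true := ext_range (a := 110610) (len := 18) h6145 sl_6145
  have h6147 : ∀ u < 110646, (fun u => chkSlp tab slp u) u = true := ext_range (a := 110628) (len := 18) h6146 sl_6146
  have h6148 : ∀ u < 110664, (fun u => chkSlp tab slp u) u = true := ext_range (a := 110646) (len := 18) h6147 sl_6147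
  have h6149 : ∀ u < 110682, (fun u => chkSlp tab slp u) u = true := ext_range (a := 110664) (len := 18) h6148 sl_6148
  have h6150 : ∀ u < 110700, (fun u => chkSlp tab slp u) u = true := ext_range (a := 110682) (len := 18) h6149 sl_6149
  have h6151 : ∀ u < 110718, (fun u => chkSlp tab slp u) u = true := ext_range (a := 110700) (len := 18) h6150 sl_6150
  have h6152 : ∀ u < 110736, (fun u => chkSlp tab slp u) u = true := ext_range (a := 110718) (len := 18) h6151 sl_6151
  have h6153 : ∀ u < 110754, (fun u => chkSlp tab slp u) u = true := ext_range (a := 110736) (len := 18) h6152 sl_6152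
  have h6154 : ∀ u < 110772, (fun u => chkSlp tab slp u) u = true := ext_range (a := 110754) (len := 18) h6153 sl_6153
  have h6155 : ∀ u < 110790, (fun u => chkSlp tab slp u) u = true := ext_range (a := 110772) (len := 18) h6154 sl_6154
  have h6156 : ∀ u < 110808, (fun u => chkSlp tab slp u) u = true := ext_range (a := 110790) (len := 18) h6155 sl_6155
  have h6157 : ∀ u < 110826, (fun u => chkSlp tab slp u) u = true := ext_range (a := 110808) (len := 18) h6156 sl_6156
  have h6158 : ∀ u < 110844, (fun u => chkSlp tab slp u) u = true := ext_range (a := 110826) (len := 18) h6157 sl_6157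
  have h6159 : ∀ u < 110862, (fun u => chkSlp tab slp u) u = true := ext_range (a := 110844) (len := 18) h6158 sl_6158
  have h6160 : ∀ u < 110880, (fun u => chkSlp tab slp u) u = true := ext_range (a := 110862) (len := 18) h6159 sl_6159
  have h6161 : ∀ u < 110898, (fun u => chkSlp tab slp u) u = true := ext_range (a := 110880) (len := 18) h6160 sl_6160
  have h6162 : ∀ u < 110916, (fun u => chkSlp tab slp u) u = true := ext_range (a := 110898) (len := 18) h6161 sl_6161
  have h6163 : ∀ u < 110934, (fun u => chkSlp tab slp u) u = true := ext_range (a := 110916) (len := 18) h6162 sl_6162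
  have h6164 : ∀ u < 110952, (fun u => chkSlp tab slp u) u = true := ext_range (a := 110934) (len := 18) h6163 sl_6163
  have h6165 : ∀ u < 110970, (fun u => chkSlp tab slp u) u = true := ext_range (a := 110952) (len := 18) h6164 sl_6164
  have h6166 : ∀ u < 110988, (fun u => chkSlp tab slp u) u = true := ext_range (a := 110970) (len := 18) h6165 sl_6165
  have h6167 : ∀ u < 111006, (fun u => chkSlp tab slp u) u = true := ext_range (a := 110988) (len := 18) h6166 sl_6166
  have h6168 : ∀ u < 111024, (fun u => chkSlp tab slp u) u = true := ext_range (a := 111006) (len := 18) h6167 sl_6167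
  have h6169 : ∀ u < 111042, (fun u => chkSlp tab slp u) u = true := ext_range (a := 111024) (len := 18) h6168 sl_6168
  have h6170 : ∀ u < 111060, (fun u => chkSlp tab slp u) u = true := ext_range (a := 111042) (len := 18) h6169 sl_6169
  have h6171 : ∀ u < 111078, (fun u => chkSlp tab slp u) u = true := ext_range (a := 111060) (len := 18) h6170 sl_6170
  have h6172 : ∀ u < 111096, (fun u => chkSlp tab slp u) u = true := ext_range (a := 111078) (len := 18) h6171 sl_6171
  have h6173 : ∀ u < 111114, (fun u => chkSlp tab slp u) u = true := ext_range (a := 111096) (len := 18) h6172 sl_6172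
  have h6174 : ∀ u < 111132, (fun u => chkSlp tab slp u) u = true := ext_range (a := 111114) (len := 18) h6173 sl_6173
  have h6175 : ∀ u < 111150, (fun u => chkSlp tab slp u) u = true := ext_range (a := 111132) (len := 18) h6174 sl_6174
  have h6176 : ∀ u < 111168, (fun u => chkSlp tab slp u) u = true := ext_range (a := 111150) (len := 18) h6175 sl_6175
  have h6177 : ∀ u < 111186, (fun u => chkSlp tab slp u) u = true := ext_range (a := 111168) (len := 18) h6176 sl_6176
  have h6178 : ∀ u < 111204, (fun u => chkSlp tab slp u) u = true := ext_range (a := 111186) (len := 18) h6177 sl_6177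
  have h6179 : ∀ u < 111222, (fun u => chkSlp tab slp u) u = true := ext_range (a := 111204) (len := 18) h6178 sl_6178
  have h6180 : ∀ u < 111240, (fun u => chkSlp tab slp u) u = true := ext_range (a := 111222) (len := 18) h6179 sl_6179
  have h6181 : ∀ u < 111258, (fun u => chkSlp tab slp u) u = true := ext_range (a := 111240) (len := 18) h6180 sl_6180
  have h6182 : ∀ u < 111276, (fun u => chkSlp tab slp u) u = true := ext_range (a := 111258) (len := 18) h6181 sl_6181
  have h6183 : ∀ u < 111294, (fun u => chkSlp tab slp u) u = true := ext_range (a := 111276) (len := 18) h6182 sl_6182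
  have h6184 : ∀ u < 111312, (fun u => chkSlp tab slp u) u = true := ext_range (a := 111294) (len := 18) h6183 sl_6183
  have h6185 : ∀ u < 111330, (fun u => chkSlp tab slp u) u = true := ext_range (a := 111312) (len := 18) h6184 sl_6184
  have h6186 : ∀ u < 111348, (fun u => chkSlp tab slp u) u = true := ext_range (a := 111330) (len := 18) h6185 sl_6185
  have h6187 : ∀ u < 111366, (fun u => chkSlp tab slp u) u = true := ext_range (a := 111348) (len := 18) h6186 sl_6186
  have h6188 : ∀ u < 111384, (fun u => chkSlp tab slp u) u = true := ext_range (a := 111366) (len := 18) h6187 sl_6187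
  have h6189 : ∀ u < 111402, (fun u => chkSlp tab slp u) u = true := ext_range (a := 111384) (len := 18) h6188 sl_6188
  have h6190 : ∀ u < 111420, (fun u => chkSlp tab slp u) u = true := ext_range (a := 111402) (len := 18) h6189 sl_6189
  have h6191 : ∀ u < 111438, (fun u => chkSlp tab slp u) u = true := ext_range (a := 111420) (len := 18) h6190 sl_6190
  have h6192 : ∀ u < 111456, (fun u => chkSlp tab slp u) u = true := ext_range (a := 111438) (len := 18) h6191 sl_6191
  have h6193 : ∀ u < 111474, (fun u => chkSlp tab slp u) u = true := ext_range (a := 111456) (len := 18) h6192 sl_6192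
  have h6194 : ∀ u < 111492, (fun u => chkSlp tab slp u) u = true := ext_range (a := 111474) (len := 18) h6193 sl_6193
  have h6195 : ∀ u < 111510, (fun u => chkSlp tab slp u) u = true := ext_range (a := 111492) (len := 18) h6194 sl_6194
  have h6196 : ∀ u < 111528, (fun u => chkSlp tab slp u) u = true := ext_range (a := 111510) (len := 18) h6195 sl_6195
  have h6197 : ∀ u < 111546, (fun u => chkSlp tab slp u) u = true := ext_range (a := 111528) (len := 18) h6196 sl_6196
  have h6198 : ∀ u < 111564, (fun u => chkSlp tab slp u) u = true := ext_range (a := 111546) (len := 18) h6197 sl_6197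
  have h6199 : ∀ u < 111582, (fun u => chkSlp tab slp u) u = true := ext_range (a := 111564) (len := 18) h6198 sl_6198
  have h6200 : ∀ u < 111600, (fun u => chkSlp tab slp u) u = true := ext_range (a := 111582) (len := 18) h6199 sl_6199
  have h6201 : ∀ u < 111618, (fun u => chkSlp tab slp u) u = true := ext_range (a := 111600) (len := 18) h6200 sl_6200
  have h6202 : ∀ u < 111636, (fun u => chkSlp tab slp u) u = true := ext_range (a := 111618) (len := 18) h6201 sl_6201
  have h6203 : ∀ u < 111654, (fun u => chkSlp tab slp u) u = true := ext_range (a := 111636) (len := 18) h6202 sl_6202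
  have h6204 : ∀ u < 111672, (fun u => chkSlp tab slp u) u = true := ext_range (a := 111654) (len := 18) h6203 sl_6203
  have h6205 : ∀ u < 111690, (fun u => chkSlp tab slp u) u = true := ext_range (a := 111672) (len := 18) h6204 sl_6204
  have h6206 : ∀ u < 111708, (fun u => chkSlp tab slp u) u = true := ext_range (a := 111690) (len := 18) h6205 sl_6205
  have h6207 : ∀ u < 111726, (fun u => chkSlp tab slp u) u = true := ext_range (a := 111708) (len := 18) h6206 sl_6206
  have h6208 : ∀ u < 111744, (fun u => chkSlp tab slp u) u = true := ext_range (a := 111726) (len := 18) h6207 sl_6207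
  have h6209 : ∀ u < 111762, (fun u => chkSlp tab slp u) u = true := ext_range (a := 111744) (len := 18) h6208 sl_6208
  have h6210 : ∀ u < 111780, (fun u => chkSlp tab slp u) u = true := ext_range (a := 111762) (len := 18) h6209 sl_6209
  have h6211 : ∀ u < 111798, (fun u => chkSlp tab slp u) u = true := ext_range (a := 111780) (len := 18) h6210 sl_6210
  have h6212 : ∀ u < 111816, (fun u => chkSlp tab slp u) u = true := ext_range (a := 111798) (len := 18) h6211 sl_6211
  have h6213 : ∀ u < 111834, (fun u => chkSlp tab slp u) u = true := ext_range (a := 111816) (len := 18) h6212 sl_6212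
  have h6214 : ∀ u < 111852, (fun u => chkSlp tab slp u) u = true := ext_range (a := 111834) (len := 18) h6213 sl_6213
  have h6215 : ∀ u < 111870, (fun u => chkSlp tab slp u) u = true := ext_range (a := 111852) (len := 18) h6214 sl_6214
  have h6216 : ∀ u < 111888, (fun u => chkSlp tab slp u) u = true := ext_range (a := 111870) (len := 18) h6215 sl_6215
  have h6217 : ∀ u < 111906, (fun u => chkSlp tab slp u) u = true := ext_range (a := 111888) (len := 18) h6216 sl_6216
  have h6218 : ∀ u < 111924, (fun u => chkSlp tab slp u) u = true := ext_range (a := 111906) (len := 18) h6217 sl_6217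
  have h6219 : ∀ u < 111942, (fun u => chkSlp tab slp u) u = true := ext_range (a := 111924) (len := 18) h6218 sl_6218
  have h6220 : ∀ u < 111960, (fun u => chkSlp tab slp u) u = true := ext_range (a := 111942) (len := 18) h6219 sl_6219
  have h6221 : ∀ u < 111978, (fun u => chkSlp tab slp u) u = true := ext_range (a := 111960) (len := 18) h6220 sl_6220
  have h6222 : ∀ u < 111996, (fun u => chkSlp tab slp u) u = true := ext_range (a := 111978) (len := 18) h6221 sl_6221
  have h6223 : ∀ u < 112014, (fun u => chkSlp tab slp u) u = true := ext_range (a := 111996) (len := 18) h6222 sl_6222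
  have h6224 : ∀ u < 112032, (fun u => chkSlp tab slp u) u = true := ext_range (a := 112014) (len := 18) h6223 sl_6223
  have h6225 : ∀ u < 112050, (fun u => chkSlp tab slp u) u = true := ext_range (a := 112032) (len := 18) h6224 sl_6224
  have h6226 : ∀ u < 112068, (fun u => chkSlp tab slp u) u = true := ext_range (a := 112050) (len := 18) h6225 sl_6225
  have h6227 : ∀ u < 112086, (fun u => chkSlp tab slp u) u = true := ext_range (a := 112068) (len := 18) h6226 sl_6226
  have h6228 : ∀ u < 112104, (fun u => chkSlp tab slp u) u = true := ext_range (a := 112086) (len := 18) h6227 sl_6227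
  have h6229 : ∀ u < 112122, (fun u => chkSlp tab slp u) u = true := ext_range (a := 112104) (len := 18) h6228 sl_6228
  have h6230 : ∀ u < 112140, (fun u => chkSlp tab slp u) u = true := ext_range (a := 112122) (len := 18) h6229 sl_6229
  have h6231 : ∀ u < 112158, (fun u => chkSlp tab slp u) u = true := ext_range (a := 112140) (len := 18) h6230 sl_6230
  have h6232 : ∀ u < 112176, (fun u => chkSlp tab slp u) u = true := ext_range (a := 112158) (len := 18) h6231 sl_6231
  have h6233 : ∀ u < 112194, (fun u => chkSlp tab slp u) u = true := ext_range (a := 112176) (len := 18) h6232 sl_6232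
  have h6234 : ∀ u < 112212, (fun u => chkSlp tab slp u) u = true := ext_range (a := 112194) (len := 18) h6233 sl_6233
  have h6235 : ∀ u < 112230, (fun u => chkSlp tab slp u) u = true := ext_range (a := 112212) (len := 18) h6234 sl_6234
  have h6236 : ∀ u < 112248, (fun u => chkSlp tab slp u) u = true := ext_range (a := 112230) (len := 18) h6235 sl_6235
  have h6237 : ∀ u < 112266, (fun u => chkSlp tab slp u) u = true := ext_range (a := 112248) (len := 18) h6236 sl_6236
  have h6238 : ∀ u < 112284, (fun u => chkSlp tab slp u) u = true := ext_range (a := 112266) (len := 18) h6237 sl_6237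
  have h6239 : ∀ u < 112302, (fun u => chkSlp tab slp u) u = true := ext_range (a := 112284) (len := 18) h6238 sl_6238
  have h6240 : ∀ u < 112320, (fun u => chkSlp tab slp u) u = true := ext_range (a := 112302) (len := 18) h6239 sl_6239
  have h6241 : ∀ u < 112338, (fun u => chkSlp tab slp u) u = true := ext_range (a := 112320) (len := 18) h6240 sl_6240
  have h6242 : ∀ u < 112356, (fun u => chkSlp tab slp u) u = true := ext_range (a := 112338) (len := 18) h6241 sl_6241
  have h6243 : ∀ u < 112374, (fun u => chkSlp tab slp u) u = true := ext_range (a := 112356) (len := 18) h6242 sl_6242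
  have h6244 : ∀ u < 112392, (fun u => chkSlp tab slp u) u = true := ext_range (a := 112374) (len := 18) h6243 sl_6243
  have h6245 : ∀ u < 112410, (fun u => chkSlp tab slp u) u = true := ext_range (a := 112392) (len := 18) h6244 sl_6244
  have h6246 : ∀ u < 112428, (fun u => chkSlp tab slp u) u = true := ext_range (a := 112410) (len := 18) h6245 sl_6245
  have h6247 : ∀ u < 112446, (fun u => chkSlp tab slp u) u = true := ext_range (a := 112428) (len := 18) h6246 sl_6246
  have h6248 : ∀ u < 112464, (fun u => chkSlp tab slp u) u = true := ext_range (a := 112446) (len := 18) h6247 sl_6247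
  have h6249 : ∀ u < 112482, (fun u => chkSlp tab slp u) u = true := ext_range (a := 112464) (len := 18) h6248 sl_6248
  have h6250 : ∀ u < 112500, (fun u => chkSlp tab slp u) u = true := ext_range (a := 112482) (len := 18) h6249 sl_6249
  have h6251 : ∀ u < 112518, (fun u => chkSlp tab slp u) u = true := ext_range (a := 112500) (len := 18) h6250 sl_6250
  have h6252 : ∀ u < 112536, (fun u => chkSlp tab slp u) u = true := ext_range (a := 112518) (len := 18) h6251 sl_6251
  have h6253 : ∀ u < 112554, (fun u => chkSlp tab slp u) u = true := ext_range (a := 112536) (len := 18) h6252 sl_6252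
  have h6254 : ∀ u < 112572, (fun u => chkSlp tab slp u) u = true := ext_range (a := 112554) (len := 18) h6253 sl_6253
  have h6255 : ∀ u < 112590, (fun u => chkSlp tab slp u) u = true := ext_range (a := 112572) (len := 18) h6254 sl_6254
  have h6256 : ∀ u < 112608, (fun u => chkSlp tab slp u) u = true := ext_range (a := 112590) (len := 18) h6255 sl_6255
  have h6257 : ∀ u < 112626, (fun u => chkSlp tab slp u) u = true := ext_range (a := 112608) (len := 18) h6256 sl_6256
  have h6258 : ∀ u < 112644, (fun u => chkSlp tab slp u) u = true := ext_range (a := 112626) (len := 18) h6257 sl_6257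
  have h6259 : ∀ u < 112662, (fun u => chkSlp tab slp u) u = true := ext_range (a := 112644) (len := 18) h6258 sl_6258
  have h6260 : ∀ u < 112680, (fun u => chkSlp tab slp u) u = true := ext_range (a := 112662) (len := 18) h6259 sl_6259
  have h6261 : ∀ u < 112698, (fun u => chkSlp tab slp u) u = true := ext_range (a := 112680) (len := 18) h6260 sl_6260
  have h6262 : ∀ u < 112716, (fun u => chkSlp tab slp u) u = true := ext_range (a := 112698) (len := 18) h6261 sl_6261
  have h6263 : ∀ u < 112734, (fun u => chkSlp tab slp u) u = true := ext_range (a := 112716) (len := 18) h6262 sl_6262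
  have h6264 : ∀ u < 112752, (fun u => chkSlp tab slp u) u = true := ext_range (a := 112734) (len := 18) h6263 sl_6263
  have h6265 : ∀ u < 112770, (fun u => chkSlp tab slp u) u = true := ext_range (a := 112752) (len := 18) h6264 sl_6264
  have h6266 : ∀ u < 112788, (fun u => chkSlp tab slp u) u = true := ext_range (a := 112770) (len := 18) h6265 sl_6265
  have h6267 : ∀ u < 112806, (fun u => chkSlp tab slp u) u = true := ext_range (a := 112788) (len := 18) h6266 sl_6266
  have h6268 : ∀ u < 112824, (fun u => chkSlp tab slp u) u = true := ext_range (a := 112806) (len := 18) h6267 sl_6267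
  have h6269 : ∀ u < 112842, (fun u => chkSlp tab slp u) u = true := ext_range (a := 112824) (len := 18) h6268 sl_6268
  have h6270 : ∀ u < 112860, (fun u => chkSlp tab slp u) u = true := ext_range (a := 112842) (len := 18) h6269 sl_6269
  have h6271 : ∀ u < 112878, (fun u => chkSlp tab slp u) u = true := ext_range (a := 112860) (len := 18) h6270 sl_6270
  have h6272 : ∀ u < 112896, (fun u => chkSlp tab slp u) u = true := ext_range (a := 112878) (len := 18) h6271 sl_6271
  have h6273 : ∀ u < 112914, (fun u => chkSlp tab slp u) u = true := ext_range (a := 112896) (len := 18) h6272 sl_6272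
  have h6274 : ∀ u < 112932, (fun u => chkSlp tab slp u) u = true := ext_range (a := 112914) (len := 18) h6273 sl_6273
  have h6275 : ∀ u < 112950, (fun u => chkSlp tab slp u) u = true := ext_range (a := 112932) (len := 18) h6274 sl_6274
  have h6276 : ∀ u < 112968, (fun u => chkSlp tab slp u) u = true := ext_range (a := 112950) (len := 18) h6275 sl_6275
  have h6277 : ∀ u < 112986, (fun u => chkSlp tab slp u) u = true := ext_range (a := 112968) (len := 18) h6276 sl_6276
  have h6278 : ∀ u < 113004, (fun u => chkSlp tab slp u) u = true := ext_range (a := 112986) (len := 18) h6277 sl_6277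
  have h6279 : ∀ u < 113022, (fun u => chkSlp tab slp u) u = true := ext_range (a := 113004) (len := 18) h6278 sl_6278
  have h6280 : ∀ u < 113040, (fun u => chkSlp tab slp u) u = true := ext_range (a := 113022) (len := 18) h6279 sl_6279
  have h6281 : ∀ u < 113058, (fun u => chkSlp tab slp u) u = true := ext_range (a := 113040) (len := 18) h6280 sl_6280
  have h6282 : ∀ u < 113076, (fun u => chkSlp tab slp u) u = true := ext_range (a := 113058) (len := 18) h6281 sl_6281
  have h6283 : ∀ u < 113094, (fun u => chkSlp tab slp u) u = true := ext_range (a := 113076) (len := 18) h6282 sl_6282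
  have h6284 : ∀ u < 113112, (fun u => chkSlp tab slp u) u = true := ext_range (a := 113094) (len := 18) h6283 sl_6283
  have h6285 : ∀ u < 113130, (fun u => chkSlp tab slp u) u = true := ext_range (a := 113112) (len := 18) h6284 sl_6284
  have h6286 : ∀ u < 113148, (fun u => chkSlp tab slp u) u = true := ext_range (a := 113130) (len := 18) h6285 sl_6285
  have h6287 : ∀ u < 113166, (fun u => chkSlp tab slp u) u = true := ext_range (a := 113148) (len := 18) h6286 sl_6286
  have h6288 : ∀ u < 113184, (fun u => chkSlp tab slp u) u = true := ext_range (a := 113166) (len := 18) h6287 sl_6287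
  have h6289 : ∀ u < 113202, (fun u => chkSlp tab slp u) u = true := ext_range (a := 113184) (len := 18) h6288 sl_6288
  have h6290 : ∀ u < 113220, (fun u => chkSlp tab slp u) u = true := ext_range (a := 113202) (len := 18) h6289 sl_6289
  have h6291 : ∀ u < 113238, (fun u => chkSlp tab slp u) u = true := ext_range (a := 113220) (len := 18) h6290 sl_6290
  have h6292 : ∀ u < 113256, (fun u => chkSlp tab slp u) u = true := ext_range (a := 113238) (len := 18) h6291 sl_6291
  have h6293 : ∀ u < 113274, (fun u => chkSlp tab slp u) u = true := ext_range (a := 113256) (len := 18) h6292 sl_6292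
  have h6294 : ∀ u < 113292, (fun u => chkSlp tab slp u) u = true := ext_range (a := 113274) (len := 18) h6293 sl_6293
  have h6295 : ∀ u < 113310, (fun u => chkSlp tab slp u) u = true := ext_range (a := 113292) (len := 18) h6294 sl_6294
  have h6296 : ∀ u < 113328, (fun u => chkSlp tab slp u) u = true := ext_range (a := 113310) (len := 18) h6295 sl_6295
  have h6297 : ∀ u < 113346, (fun u => chkSlp tab slp u) u = true := ext_range (a := 113328) (len := 18) h6296 sl_6296
  have h6298 : ∀ u < 113364, (fun u => chkSlp tab slp u) u = true := ext_range (a := 113346) (len := 18) h6297 sl_6297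
  have h6299 : ∀ u < 113382, (fun u => chkSlp tab slp u) u = true := ext_range (a := 113364) (len := 18) h6298 sl_6298
  have h6300 : ∀ u < 113400, (fun u => chkSlp tab slp u) u = true := ext_range (a := 113382) (len := 18) h6299 sl_6299
  have h6301 : ∀ u < 113418, (fun u => chkSlp tab slp u) u = true := ext_range (a := 113400) (len := 18) h6300 sl_6300
  have h6302 : ∀ u < 113436, (fun u => chkSlp tab slp u) u = true := ext_range (a := 113418) (len := 18) h6301 sl_6301
  have h6303 : ∀ u < 113454, (fun u => chkSlp tab slp u) u = true := ext_range (a := 113436) (len := 18) h6302 sl_6302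
  have h6304 : ∀ u < 113472, (fun u => chkSlp tab slp u) u = true := ext_range (a := 113454) (len := 18) h6303 sl_6303
  have h6305 : ∀ u < 113490, (fun u => chkSlp tab slp u) u = true := ext_range (a := 113472) (len := 18) h6304 sl_6304
  have h6306 : ∀ u < 113508, (fun u => chkSlp tab slp u) u = true := ext_range (a := 113490) (len := 18) h6305 sl_6305
  have h6307 : ∀ u < 113526, (fun u => chkSlp tab slp u) u = true := ext_range (a := 113508) (len := 18) h6306 sl_6306
  have h6308 : ∀ u < 113544, (fun u => chkSlp tab slp u) u = true := ext_range (a := 113526) (len := 18) h6307 sl_6307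
  have h6309 : ∀ u < 113562, (fun u => chkSlp tab slp u) u = true := ext_range (a := 113544) (len := 18) h6308 sl_6308
  have h6310 : ∀ u < 113580, (fun u => chkSlp tab slp u) u = true := ext_range (a := 113562) (len := 18) h6309 sl_6309
  have h6311 : ∀ u < 113598, (fun u => chkSlp tab slp u) u = true := ext_range (a := 113580) (len := 18) h6310 sl_6310
  have h6312 : ∀ u < 113616, (fun u => chkSlp tab slp u) u = true := ext_range (a := 113598) (len := 18) h6311 sl_6311
  have h6313 : ∀ u < 113634, (fun u => chkSlp tab slp u) u = true := ext_range (a := 113616) (len := 18) h6312 sl_6312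
  have h6314 : ∀ u < 113652, (fun u => chkSlp tab slp u) u = true := ext_range (a := 113634) (len := 18) h6313 sl_6313
  have h6315 : ∀ u < 113670, (fun u => chkSlp tab slp u) u = true := ext_range (a := 113652) (len := 18) h6314 sl_6314
  have h6316 : ∀ u < 113688, (fun u => chkSlp tab slp u) u = true := ext_range (a := 113670) (len := 18) h6315 sl_6315
  have h6317 : ∀ u < 113706, (fun u => chkSlp tab slp u) u = true := ext_range (a := 113688) (len := 18) h6316 sl_6316
  have h6318 : ∀ u < 113724, (fun u => chkSlp tab slp u) u = true := ext_range (a := 113706) (len := 18) h6317 sl_6317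
  have h6319 : ∀ u < 113742, (fun u => chkSlp tab slp u) u = true := ext_range (a := 113724) (len := 18) h6318 sl_6318
  have h6320 : ∀ u < 113760, (fun u => chkSlp tab slp u) u = true := ext_range (a := 113742) (len := 18) h6319 sl_6319
  have h6321 : ∀ u < 113778, (fun u => chkSlp tab slp u) u = true := ext_range (a := 113760) (len := 18) h6320 sl_6320
  have h6322 : ∀ u < 113796, (fun u => chkSlp tab slp u) u = true := ext_range (a := 113778) (len := 18) h6321 sl_6321
  have h6323 : ∀ u < 113814, (fun u => chkSlp tab slp u) u = true := ext_range (a := 113796) (len := 18) h6322 sl_6322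
  have h6324 : ∀ u < 113832, (fun u => chkSlp tab slp u) u = true := ext_range (a := 113814) (len := 18) h6323 sl_6323
  have h6325 : ∀ u < 113850, (fun u => chkSlp tab slp u) u = true := ext_range (a := 113832) (len := 18) h6324 sl_6324
  have h6326 : ∀ u < 113868, (fun u => chkSlp tab slp u) u = true := ext_range (a := 113850) (len := 18) h6325 sl_6325
  have h6327 : ∀ u < 113886, (fun u => chkSlp tab slp u) u = true := ext_range (a := 113868) (len := 18) h6326 sl_6326
  have h6328 : ∀ u < 113904, (fun u => chkSlp tab slp u) u = true := ext_range (a := 113886) (len := 18) h6327 sl_6327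
  have h6329 : ∀ u < 113922, (fun u => chkSlp tab slp u) u = true := ext_range (a := 113904) (len := 18) h6328 sl_6328
  have h6330 : ∀ u < 113940, (fun u => chkSlp tab slp u) u = true := ext_range (a := 113922) (len := 18) h6329 sl_6329
  have h6331 : ∀ u < 113958, (fun u => chkSlp tab slp u) u = true := ext_range (a := 113940) (len := 18) h6330 sl_6330
  have h6332 : ∀ u < 113976, (fun u => chkSlp tab slp u) u = true := ext_range (a := 113958) (len := 18) h6331 sl_6331
  have h6333 : ∀ u < 113994, (fun u => chkSlp tab slp u) u = true := ext_range (a := 113976) (len := 18) h6332 sl_6332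
  have h6334 : ∀ u < 114012, (fun u => chkSlp tab slp u) u = true := ext_range (a := 113994) (len := 18) h6333 sl_6333
  have h6335 : ∀ u < 114030, (fun u => chkSlp tab slp u) u = true := ext_range (a := 114012) (len := 18) h6334 sl_6334
  have h6336 : ∀ u < 114048, (fun u => chkSlp tab slp u) u = true := ext_range (a := 114030) (len := 18) h6335 sl_6335
  have h6337 : ∀ u < 114066, (fun u => chkSlp tab slp u) u = true := ext_range (a := 114048) (len := 18) h6336 sl_6336
  have h6338 : ∀ u < 114084, (fun u => chkSlp tab slp u) u = true := ext_range (a := 114066) (len := 18) h6337 sl_6337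
  have h6339 : ∀ u < 114102, (fun u => chkSlp tab slp u) u = true := ext_range (a := 114084) (len := 18) h6338 sl_6338
  have h6340 : ∀ u < 114120, (fun u => chkSlp tab slp u) u = true := ext_range (a := 114102) (len := 18) h6339 sl_6339
  have h6341 : ∀ u < 114138, (fun u => chkSlp tab slp u) u = true := ext_range (a := 114120) (len := 18) h6340 sl_6340
  have h6342 : ∀ u < 114156, (fun u => chkSlp tab slp u) u = true := ext_range (a := 114138) (len := 18) h6341 sl_6341
  have h6343 : ∀ u < 114174, (fun u => chkSlp tab slp u) u = true := ext_range (a := 114156) (len := 18) h6342 sl_6342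
  have h6344 : ∀ u < 114192, (fun u => chkSlp tab slp u) u = true := ext_range (a := 114174) (len := 18) h6343 sl_6343
  have h6345 : ∀ u < 114210, (fun u => chkSlp tab slp u) u = true := ext_range (a := 114192) (len := 18) h6344 sl_6344
  have h6346 : ∀ u < 114228, (fun u => chkSlp tab slp u) u = true := ext_range (a := 114210) (len := 18) h6345 sl_6345
  have h6347 : ∀ u < 114246, (fun u => chkSlp tab slp u) u = true := ext_range (a := 114228) (len := 18) h6346 sl_6346
  have h6348 : ∀ u < 114264, (fun u => chkSlp tab slp u) u = true := ext_range (a := 114246) (len := 18) h6347 sl_6347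
  have h6349 : ∀ u < 114282, (fun u => chkSlp tab slp u) u = true := ext_range (a := 114264) (len := 18) h6348 sl_6348
  have h6350 : ∀ u < 114300, (fun u => chkSlp tab slp u) u = true := ext_range (a := 114282) (len := 18) h6349 sl_6349
  have h6351 : ∀ u < 114318, (fun u => chkSlp tab slp u) u = true := ext_range (a := 114300) (len := 18) h6350 sl_6350
  have h6352 : ∀ u < 114336, (fun u => chkSlp tab slp u) u = true := ext_range (a := 114318) (len := 18) h6351 sl_6351
  have h6353 : ∀ u < 114354, (fun u => chkSlp tab slp u) u = true := ext_range (a := 114336) (len := 18) h6352 sl_6352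
  have h6354 : ∀ u < 114372, (fun u => chkSlp tab slp u) u = true := ext_range (a := 114354) (len := 18) h6353 sl_6353
  have h6355 : ∀ u < 114390, (fun u => chkSlp tab slp u) u = true := ext_range (a := 114372) (len := 18) h6354 sl_6354
  have h6356 : ∀ u < 114408, (fun u => chkSlp tab slp u) u = true := ext_range (a := 114390) (len := 18) h6355 sl_6355
  have h6357 : ∀ u < 114426, (fun u => chkSlp tab slp u) u = true := ext_range (a := 114408) (len := 18) h6356 sl_6356
  have h6358 : ∀ u < 114444, (fun u => chkSlp tab slp u) u = true := ext_range (a := 114426) (len := 18) h6357 sl_6357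
  have h6359 : ∀ u < 114462, (fun u => chkSlp tab slp u) u = true := ext_range (a := 114444) (len := 18) h6358 sl_6358
  have h6360 : ∀ u < 114480, (fun u => chkSlp tab slp u) u = true := ext_range (a := 114462) (len := 18) h6359 sl_6359
  have h6361 : ∀ u < 114498, (fun u => chkSlp tab slp u) u = true := ext_range (a := 114480) (len := 18) h6360 sl_6360
  have h6362 : ∀ u < 114516, (fun u => chkSlp tab slp u) u = true := ext_range (a := 114498) (len := 18) h6361 sl_6361
  have h6363 : ∀ u < 114534, (fun u => chkSlp tab slp u) u = true := ext_range (a := 114516) (len := 18) h6362 sl_6362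
  have h6364 : ∀ u < 114552, (fun u => chkSlp tab slp u) u = true := ext_range (a := 114534) (len := 18) h6363 sl_6363
  have h6365 : ∀ u < 114570, (fun u => chkSlp tab slp u) u = true := ext_range (a := 114552) (len := 18) h6364 sl_6364
  have h6366 : ∀ u < 114588, (fun u => chkSlp tab slp u) u = true := ext_range (a := 114570) (len := 18) h6365 sl_6365
  have h6367 : ∀ u < 114606, (fun u => chkSlp tab slp u) u = true := ext_range (a := 114588) (len := 18) h6366 sl_6366
  have h6368 : ∀ u < 114624, (fun u => chkSlp tab slp u) u = true := ext_range (a := 114606) (len := 18) h6367 sl_6367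
  have h6369 : ∀ u < 114642, (fun u => chkSlp tab slp u) u = true := ext_range (a := 114624) (len := 18) h6368 sl_6368
  have h6370 : ∀ u < 114660, (fun u => chkSlp tab slp u) u = true := ext_range (a := 114642) (len := 18) h6369 sl_6369
  have h6371 : ∀ u < 114678, (fun u => chkSlp tab slp u) u = true := ext_range (a := 114660) (len := 18) h6370 sl_6370
  have h6372 : ∀ u < 114696, (fun u => chkSlp tab slp u) u = true := ext_range (a := 114678) (len := 18) h6371 sl_6371
  have h6373 : ∀ u < 114714, (fun u => chkSlp tab slp u) u = true := ext_range (a := 114696) (len := 18) h6372 sl_6372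
  have h6374 : ∀ u < 114732, (fun u => chkSlp tab slp u) u = true := ext_range (a := 114714) (len := 18) h6373 sl_6373
  have h6375 : ∀ u < 114750, (fun u => chkSlp tab slp u) u = true := ext_range (a := 114732) (len := 18) h6374 sl_6374
  have h6376 : ∀ u < 114768, (fun u => chkSlp tab slp u) u = true := ext_range (a := 114750) (len := 18) h6375 sl_6375
  have h6377 : ∀ u < 114786, (fun u => chkSlp tab slp u) u = true := ext_range (a := 114768) (len := 18) h6376 sl_6376
  have h6378 : ∀ u < 114804, (fun u => chkSlp tab slp u) u = true := ext_range (a := 114786) (len := 18) h6377 sl_6377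
  have h6379 : ∀ u < 114822, (fun u => chkSlp tab slp u) u = true := ext_range (a := 114804) (len := 18) h6378 sl_6378
  have h6380 : ∀ u < 114840, (fun u => chkSlp tab slp u) u = true := ext_range (a := 114822) (len := 18) h6379 sl_6379
  have h6381 : ∀ u < 114858, (fun u => chkSlp tab slp u) u = true := ext_range (a := 114840) (len := 18) h6380 sl_6380
  have h6382 : ∀ u < 114876, (fun u => chkSlp tab slp u) u = true := ext_range (a := 114858) (len := 18) h6381 sl_6381
  have h6383 : ∀ u < 114894, (fun u => chkSlp tab slp u) u = true := ext_range (a := 114876) (len := 18) h6382 sl_6382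
  have h6384 : ∀ u < 114912, (fun u => chkSlp tab slp u) u = true := ext_range (a := 114894) (len := 18) h6383 sl_6383
  have h6385 : ∀ u < 114930, (fun u => chkSlp tab slp u) u = true := ext_range (a := 114912) (len := 18) h6384 sl_6384
  have h6386 : ∀ u < 114948, (fun u => chkSlp tab slp u) u = true := ext_range (a := 114930) (len := 18) h6385 sl_6385
  have h6387 : ∀ u < 114966, (fun u => chkSlp tab slp u) u = true := ext_range (a := 114948) (len := 18) h6386 sl_6386
  have h6388 : ∀ u < 114984, (fun u => chkSlp tab slp u) u = true := ext_range (a := 114966) (len := 18) h6387 sl_6387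
  have h6389 : ∀ u < 115002, (fun u => chkSlp tab slp u) u = true := ext_range (a := 114984) (len := 18) h6388 sl_6388
  have h6390 : ∀ u < 115020, (fun u => chkSlp tab slp u) u = true := ext_range (a := 115002) (len := 18) h6389 sl_6389
  have h6391 : ∀ u < 115038, (fun u => chkSlp tab slp u) u = true := ext_range (a := 115020) (len := 18) h6390 sl_6390
  have h6392 : ∀ u < 115056, (fun u => chkSlp tab slp u) u = true := ext_range (a := 115038) (len := 18) h6391 sl_6391
  have h6393 : ∀ u < 115074, (fun u => chkSlp tab slp u) u = true := ext_range (a := 115056) (len := 18) h6392 sl_6392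
  have h6394 : ∀ u < 115092, (fun u => chkSlp tab slp u) u = true := ext_range (a := 115074) (len := 18) h6393 sl_6393
  have h6395 : ∀ u < 115110, (fun u => chkSlp tab slp u) u = true := ext_range (a := 115092) (len := 18) h6394 sl_6394
  have h6396 : ∀ u < 115128, (fun u => chkSlp tab slp u) u = true := ext_range (a := 115110) (len := 18) h6395 sl_6395
  have h6397 : ∀ u < 115146, (fun u => chkSlp tab slp u) u = true := ext_range (a := 115128) (len := 18) h6396 sl_6396
  have h6398 : ∀ u < 115164, (fun u => chkSlp tab slp u) u = true := ext_range (a := 115146) (len := 18) h6397 sl_6397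
  have h6399 : ∀ u < 115182, (fun u => chkSlp tab slp u) u = true := ext_range (a := 115164) (len := 18) h6398 sl_6398
  have h6400 : ∀ u < 115200, (fun u => chkSlp tab slp u) u = true := ext_range (a := 115182) (len := 18) h6399 sl_6399
  have h6401 : ∀ u < 115218, (fun u => chkSlp tab slp u) u = true := ext_range (a := 115200) (len := 18) h6400 sl_6400
  have h6402 : ∀ u < 115236, (fun u => chkSlp tab slp u) u = true := ext_range (a := 115218) (len := 18) h6401 sl_6401
  have h6403 : ∀ u < 115254, (fun u => chkSlp tab slp u) u = true := ext_range (a := 115236) (len := 18) h6402 sl_6402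
  have h6404 : ∀ u < 115272, (fun u => chkSlp tab slp u) u = true := ext_range (a := 115254) (len := 18) h6403 sl_6403
  have h6405 : ∀ u < 115290, (fun u => chkSlp tab slp u) u = true := ext_range (a := 115272) (len := 18) h6404 sl_6404
  have h6406 : ∀ u < 115308, (fun u => chkSlp tab slp u) u = true := ext_range (a := 115290) (len := 18) h6405 sl_6405
  have h6407 : ∀ u < 115326, (fun u => chkSlp tab slp u) u = true := ext_range (a := 115308) (len := 18) h6406 sl_6406
  have h6408 : ∀ u < 115344, (fun u => chkSlp tab slp u) u = true := ext_range (a := 115326) (len := 18) h6407 sl_6407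
  have h6409 : ∀ u < 115362, (fun u => chkSlp tab slp u) u = true := ext_range (a := 115344) (len := 18) h6408 sl_6408
  have h6410 : ∀ u < 115380, (fun u => chkSlp tab slp u) u = true := ext_range (a := 115362) (len := 18) h6409 sl_6409
  have h6411 : ∀ u < 115398, (fun u => chkSlp tab slp u) u = true := ext_range (a := 115380) (len := 18) h6410 sl_6410
  have h6412 : ∀ u < 115416, (fun u => chkSlp tab slp u) u = true := ext_range (a := 115398) (len := 18) h6411 sl_6411
  have h6413 : ∀ u < 115434, (fun u => chkSlp tab slp u) u = true := ext_range (a := 115416) (len := 18) h6412 sl_6412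
  have h6414 : ∀ u < 115452, (fun u => chkSlp tab slp u) u = true := ext_range (a := 115434) (len := 18) h6413 sl_6413
  have h6415 : ∀ u < 115470, (fun u => chkSlp tab slp u) u = true := ext_range (a := 115452) (len := 18) h6414 sl_6414
  have h6416 : ∀ u < 115488, (fun u => chkSlp tab slp u) u = true := ext_range (a := 115470) (len := 18) h6415 sl_6415
  have h6417 : ∀ u < 115506, (fun u => chkSlp tab slp u) u = true := ext_range (a := 115488) (len := 18) h6416 sl_6416
  have h6418 : ∀ u < 115524, (fun u => chkSlp tab slp u) u = true := ext_range (a := 115506) (len := 18) h6417 sl_6417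
  have h6419 : ∀ u < 115542, (fun u => chkSlp tab slp u) u = true := ext_range (a := 115524) (len := 18) h6418 sl_6418
  have h6420 : ∀ u < 115560, (fun u => chkSlp tab slp u) u = true := ext_range (a := 115542) (len := 18) h6419 sl_6419
  have h6421 : ∀ u < 115578, (fun u => chkSlp tab slp u) u = true := ext_range (a := 115560) (len := 18) h6420 sl_6420
  have h6422 : ∀ u < 115596, (fun u => chkSlp tab slp u) u = true := ext_range (a := 115578) (len := 18) h6421 sl_6421
  have h6423 : ∀ u < 115614, (fun u => chkSlp tab slp u) u = true := ext_range (a := 115596) (len := 18) h6422 sl_6422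
  have h6424 : ∀ u < 115632, (fun u => chkSlp tab slp u) u = true := ext_range (a := 115614) (len := 18) h6423 sl_6423
  have h6425 : ∀ u < 115650, (fun u => chkSlp tab slp u) u = true := ext_range (a := 115632) (len := 18) h6424 sl_6424
  have h6426 : ∀ u < 115668, (fun u => chkSlp tab slp u) u = true := ext_range (a := 115650) (len := 18) h6425 sl_6425
  have h6427 : ∀ u < 115686, (fun u => chkSlp tab slp u) u = true := ext_range (a := 115668) (len := 18) h6426 sl_6426
  have h6428 : ∀ u < 115704, (fun u => chkSlp tab slp u) u = true := ext_range (a := 115686) (len := 18) h6427 sl_6427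
  have h6429 : ∀ u < 115722, (fun u => chkSlp tab slp u) u = true := ext_range (a := 115704) (len := 18) h6428 sl_6428
  have h6430 : ∀ u < 115740, (fun u => chkSlp tab slp u) u = true := ext_range (a := 115722) (len := 18) h6429 sl_6429
  have h6431 : ∀ u < 115758, (fun u => chkSlp tab slp u) u = true := ext_range (a := 115740) (len := 18) h6430 sl_6430
  have h6432 : ∀ u < 115776, (fun u => chkSlp tab slp u) u = true := ext_range (a := 115758) (len := 18) h6431 sl_6431
  have h6433 : ∀ u < 115794, (fun u => chkSlp tab slp u) u = true := ext_range (a := 115776) (len := 18) h6432 sl_6432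
  have h6434 : ∀ u < 115812, (fun u => chkSlp tab slp u) u = true := ext_range (a := 115794) (len := 18) h6433 sl_6433
  have h6435 : ∀ u < 115830, (fun u => chkSlp tab slp u) u = true := ext_range (a := 115812) (len := 18) h6434 sl_6434
  have h6436 : ∀ u < 115848, (fun u => chkSlp tab slp u) u = true := ext_range (a := 115830) (len := 18) h6435 sl_6435
  have h6437 : ∀ u < 115866, (fun u => chkSlp tab slp u) u = true := ext_range (a := 115848) (len := 18) h6436 sl_6436
  have h6438 : ∀ u < 115884, (fun u => chkSlp tab slp u) u = true := ext_range (a := 115866) (len := 18) h6437 sl_6437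
  have h6439 : ∀ u < 115902, (fun u => chkSlp tab slp u) u = true := ext_range (a := 115884) (len := 18) h6438 sl_6438
  have h6440 : ∀ u < 115920, (fun u => chkSlp tab slp u) u = true := ext_range (a := 115902) (len := 18) h6439 sl_6439
  have h6441 : ∀ u < 115938, (fun u => chkSlp tab slp u) u = true := ext_range (a := 115920) (len := 18) h6440 sl_6440
  have h6442 : ∀ u < 115956, (fun u => chkSlp tab slp u) u = true := ext_range (a := 115938) (len := 18) h6441 sl_6441
  have h6443 : ∀ u < 115974, (fun u => chkSlp tab slp u) u = true := ext_range (a := 115956) (len := 18) h6442 sl_6442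
  have h6444 : ∀ u < 115992, (fun u => chkSlp tab slp u) u = true := ext_range (a := 115974) (len := 18) h6443 sl_6443
  have h6445 : ∀ u < 116010, (fun u => chkSlp tab slp u) u = true := ext_range (a := 115992) (len := 18) h6444 sl_6444
  have h6446 : ∀ u < 116028, (fun u => chkSlp tab slp u) u = true := ext_range (a := 116010) (len := 18) h6445 sl_6445
  have h6447 : ∀ u < 116046, (fun u => chkSlp tab slp u) u = true := ext_range (a := 116028) (len := 18) h6446 sl_6446
  have h6448 : ∀ u < 116064, (fun u => chkSlp tab slp u) u = true := ext_range (a := 116046) (len := 18) h6447 sl_6447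
  have h6449 : ∀ u < 116082, (fun u => chkSlp tab slp u) u = true := ext_range (a := 116064) (len := 18) h6448 sl_6448
  have h6450 : ∀ u < 116100, (fun u => chkSlp tab slp u) u = true := ext_range (a := 116082) (len := 18) h6449 sl_6449
  have h6451 : ∀ u < 116118, (fun u => chkSlp tab slp u) u = true := ext_range (a := 116100) (len := 18) h6450 sl_6450
  have h6452 : ∀ u < 116136, (fun u => chkSlp tab slp u) u = true := ext_range (a := 116118) (len := 18) h6451 sl_6451
  have h6453 : ∀ u < 116154, (fun u => chkSlp tab slp u) u = true := ext_range (a := 116136) (len := 18) h6452 sl_6452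
  have h6454 : ∀ u < 116172, (fun u => chkSlp tab slp u) u = true := ext_range (a := 116154) (len := 18) h6453 sl_6453
  have h6455 : ∀ u < 116190, (fun u => chkSlp tab slp u) u = true := ext_range (a := 116172) (len := 18) h6454 sl_6454
  have h6456 : ∀ u < 116208, (fun u => chkSlp tab slp u) u = true := ext_range (a := 116190) (len := 18) h6455 sl_6455
  have h6457 : ∀ u < 116226, (fun u => chkSlp tab slp u) u = true := ext_range (a := 116208) (len := 18) h6456 sl_6456
  have h6458 : ∀ u < 116244, (fun u => chkSlp tab slp u) u = true := ext_range (a := 116226) (len := 18) h6457 sl_6457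
  have h6459 : ∀ u < 116262, (fun u => chkSlp tab slp u) u = true := ext_range (a := 116244) (len := 18) h6458 sl_6458
  have h6460 : ∀ u < 116280, (fun u => chkSlp tab slp u) u = true := ext_range (a := 116262) (len := 18) h6459 sl_6459
  have h6461 : ∀ u < 116298, (fun u => chkSlp tab slp u) u = true := ext_range (a := 116280) (len := 18) h6460 sl_6460
  have h6462 : ∀ u < 116316, (fun u => chkSlp tab slp u) u = true := ext_range (a := 116298) (len := 18) h6461 sl_6461
  have h6463 : ∀ u < 116334, (fun u => chkSlp tab slp u) u = true := ext_range (a := 116316) (len := 18) h6462 sl_6462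
  have h6464 : ∀ u < 116352, (fun u => chkSlp tab slp u) u = true := ext_range (a := 116334) (len := 18) h6463 sl_6463
  have h6465 : ∀ u < 116370, (fun u => chkSlp tab slp u) u = true := ext_range (a := 116352) (len := 18) h6464 sl_6464
  have h6466 : ∀ u < 116388, (fun u => chkSlp tab slp u) u = true := ext_range (a := 116370) (len := 18) h6465 sl_6465
  have h6467 : ∀ u < 116406, (fun u => chkSlp tab slp u) u = true := ext_range (a := 116388) (len := 18) h6466 sl_6466
  have h6468 : ∀ u < 116424, (fun u => chkSlp tab slp u) u = true := ext_range (a := 116406) (len := 18) h6467 sl_6467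
  have h6469 : ∀ u < 116442, (fun u => chkSlp tab slp u) u = true := ext_range (a := 116424) (len := 18) h6468 sl_6468
  have h6470 : ∀ u < 116460, (fun u => chkSlp tab slp u) u = true := ext_range (a := 116442) (len := 18) h6469 sl_6469
  have h6471 : ∀ u < 116478, (fun u => chkSlp tab slp u) u = true := ext_range (a := 116460) (len := 18) h6470 sl_6470
  have h6472 : ∀ u < 116496, (fun u => chkSlp tab slp u) u = true := ext_range (a := 116478) (len := 18) h6471 sl_6471
  have h6473 : ∀ u < 116514, (fun u => chkSlp tab slp u) u = true := ext_range (a := 116496) (len := 18) h6472 sl_6472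
  have h6474 : ∀ u < 116532, (fun u => chkSlp tab slp u) u = true := ext_range (a := 116514) (len := 18) h6473 sl_6473
  have h6475 : ∀ u < 116550, (fun u => chkSlp tab slp u) u = true := ext_range (a := 116532) (len := 18) h6474 sl_6474
  have h6476 : ∀ u < 116568, (fun u => chkSlp tab slp u) u = true := ext_range (a := 116550) (len := 18) h6475 sl_6475
  have h6477 : ∀ u < 116586, (fun u => chkSlp tab slp u) u = true := ext_range (a := 116568) (len := 18) h6476 sl_6476
  have h6478 : ∀ u < 116604, (fun u => chkSlp tab slp u) u = true := ext_range (a := 116586) (len := 18) h6477 sl_6477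
  have h6479 : ∀ u < 116622, (fun u => chkSlp tab slp u) u = true := ext_range (a := 116604) (len := 18) h6478 sl_6478
  have h6480 : ∀ u < 116640, (fun u => chkSlp tab slp u) u = true := ext_range (a := 116622) (len := 18) h6479 sl_6479
  have h6481 : ∀ u < 116658, (fun u => chkSlp tab slp u) u = true := ext_range (a := 116640) (len := 18) h6480 sl_6480
  have h6482 : ∀ u < 116676, (fun u => chkSlp tab slp u) u = true := ext_range (a := 116658) (len := 18) h6481 sl_6481
  have h6483 : ∀ u < 116694, (fun u => chkSlp tab slp u) u = true := ext_range (a := 116676) (len := 18) h6482 sl_6482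
  have h6484 : ∀ u < 116712, (fun u => chkSlp tab slp u) u = true := ext_range (a := 116694) (len := 18) h6483 sl_6483
  have h6485 : ∀ u < 116730, (fun u => chkSlp tab slp u) u = true := ext_range (a := 116712) (len := 18) h6484 sl_6484
  have h6486 : ∀ u < 116748, (fun u => chkSlp tab slp u) u = true := ext_range (a := 116730) (len := 18) h6485 sl_6485
  have h6487 : ∀ u < 116766, (fun u => chkSlp tab slp u) u = true := ext_range (a := 116748) (len := 18) h6486 sl_6486
  have h6488 : ∀ u < 116784, (fun u => chkSlp tab slp u) u = true := ext_range (a := 116766) (len := 18) h6487 sl_6487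
  have h6489 : ∀ u < 116802, (fun u => chkSlp tab slp u) u = true := ext_range (a := 116784) (len := 18) h6488 sl_6488
  have h6490 : ∀ u < 116820, (fun u => chkSlp tab slp u) u = true := ext_range (a := 116802) (len := 18) h6489 sl_6489
  have h6491 : ∀ u < 116838, (fun u => chkSlp tab slp u) u = true := ext_range (a := 116820) (len := 18) h6490 sl_6490
  have h6492 : ∀ u < 116856, (fun u => chkSlp tab slp u) u = true := ext_range (a := 116838) (len := 18) h6491 sl_6491
  have h6493 : ∀ u < 116874, (fun u => chkSlp tab slp u) u = true := ext_range (a := 116856) (len := 18) h6492 sl_6492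
  have h6494 : ∀ u < 116892, (fun u => chkSlp tab slp u) u = true := ext_range (a := 116874) (len := 18) h6493 sl_6493
  have h6495 : ∀ u < 116910, (fun u => chkSlp tab slp u) u = true := ext_range (a := 116892) (len := 18) h6494 sl_6494
  have h6496 : ∀ u < 116928, (fun u => chkSlp tab slp u) u = true := ext_range (a := 116910) (len := 18) h6495 sl_6495
  have h6497 : ∀ u < 116946, (fun u => chkSlp tab slp u) u = true := ext_range (a := 116928) (len := 18) h6496 sl_6496
  have h6498 : ∀ u < 116964, (fun u => chkSlp tab slp u) u = true := ext_range (a := 116946) (len := 18) h6497 sl_6497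
  have h6499 : ∀ u < 116982, (fun u => chkSlp tab slp u) u = true := ext_range (a := 116964) (len := 18) h6498 sl_6498
  have h6500 : ∀ u < 117000, (fun u => chkSlp tab slp u) u = true := ext_range (a := 116982) (len := 18) h6499 sl_6499
  have h6501 : ∀ u < 117018, (fun u => chkSlp tab slp u) u = true := ext_range (a := 117000) (len := 18) h6500 sl_6500
  have h6502 : ∀ u < 117036, (fun u => chkSlp tab slp u) u = true := ext_range (a := 117018) (len := 18) h6501 sl_6501
  have h6503 : ∀ u < 117054, (fun u => chkSlp tab slp u) u = true := ext_range (a := 117036) (len := 18) h6502 sl_6502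
  have h6504 : ∀ u < 117072, (fun u => chkSlp tab slp u) u = true := ext_range (a := 117054) (len := 18) h6503 sl_6503
  have h6505 : ∀ u < 117090, (fun u => chkSlp tab slp u) u = true := ext_range (a := 117072) (len := 18) h6504 sl_6504
  have h6506 : ∀ u < 117108, (fun u => chkSlp tab slp u) u = true := ext_range (a := 117090) (len := 18) h6505 sl_6505
  have h6507 : ∀ u < 117126, (fun u => chkSlp tab slp u) u = true := ext_range (a := 117108) (len := 18) h6506 sl_6506
  have h6508 : ∀ u < 117144, (fun u => chkSlp tab slp u) u = true := ext_range (a := 117126) (len := 18) h6507 sl_6507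
  have h6509 : ∀ u < 117162, (fun u => chkSlp tab slp u) u = true := ext_range (a := 117144) (len := 18) h6508 sl_6508
  have h6510 : ∀ u < 117180, (fun u => chkSlp tab slp u) u = true := ext_range (a := 117162) (len := 18) h6509 sl_6509
  have h6511 : ∀ u < 117198, (fun u => chkSlp tab slp u) u = true := ext_range (a := 117180) (len := 18) h6510 sl_6510
  have h6512 : ∀ u < 117216, (fun u => chkSlp tab slp u) u = true := ext_range (a := 117198) (len := 18) h6511 sl_6511
  have h6513 : ∀ u < 117234, (fun u => chkSlp tab slp u) u = true := ext_range (a := 117216) (len := 18) h6512 sl_6512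
  have h6514 : ∀ u < 117252, (fun u => chkSlp tab slp u) u = true := ext_range (a := 117234) (len := 18) h6513 sl_6513
  have h6515 : ∀ u < 117270, (fun u => chkSlp tab slp u) u = true := ext_range (a := 117252) (len := 18) h6514 sl_6514
  have h6516 : ∀ u < 117288, (fun u => chkSlp tab slp u) u = true := ext_range (a := 117270) (len := 18) h6515 sl_6515
  have h6517 : ∀ u < 117306, (fun u => chkSlp tab slp u) u = true := ext_range (a := 117288) (len := 18) h6516 sl_6516
  have h6518 : ∀ u < 117324, (fun u => chkSlp tab slp u) u = true := ext_range (a := 117306) (len := 18) h6517 sl_6517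
  have h6519 : ∀ u < 117342, (fun u => chkSlp tab slp u) u = true := ext_range (a := 117324) (len := 18) h6518 sl_6518
  have h6520 : ∀ u < 117360, (fun u => chkSlp tab slp u) u = true := ext_range (a := 117342) (len := 18) h6519 sl_6519
  have h6521 : ∀ u < 117378, (fun u => chkSlp tab slp u) u = true := ext_range (a := 117360) (len := 18) h6520 sl_6520
  have h6522 : ∀ u < 117396, (fun u => chkSlp tab slp u) u = true := ext_range (a := 117378) (len := 18) h6521 sl_6521
  have h6523 : ∀ u < 117414, (fun u => chkSlp tab slp u) u = true := ext_range (a := 117396) (len := 18) h6522 sl_6522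
  have h6524 : ∀ u < 117432, (fun u => chkSlp tab slp u) u = true := ext_range (a := 117414) (len := 18) h6523 sl_6523
  have h6525 : ∀ u < 117450, (fun u => chkSlp tab slp u) u = true := ext_range (a := 117432) (len := 18) h6524 sl_6524
  have h6526 : ∀ u < 117468, (fun u => chkSlp tab slp u) u = true := ext_range (a := 117450) (len := 18) h6525 sl_6525
  have h6527 : ∀ u < 117486, (fun u => chkSlp tab slp u) u = true := ext_range (a := 117468) (len := 18) h6526 sl_6526
  have h6528 : ∀ u < 117504, (fun u => chkSlp tab slp u) u = true := ext_range (a := 117486) (len := 18) h6527 sl_6527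
  have h6529 : ∀ u < 117522, (fun u => chkSlp tab slp u) u = true := ext_range (a := 117504) (len := 18) h6528 sl_6528
  have h6530 : ∀ u < 117540, (fun u => chkSlp tab slp u) u = true := ext_range (a := 117522) (len := 18) h6529 sl_6529
  have h6531 : ∀ u < 117558, (fun u => chkSlp tab slp u) u = true := ext_range (a := 117540) (len := 18) h6530 sl_6530
  have h6532 : ∀ u < 117576, (fun u => chkSlp tab slp u) u = true := ext_range (a := 117558) (len := 18) h6531 sl_6531
  have h6533 : ∀ u < 117594, (fun u => chkSlp tab slp u) u = true := ext_range (a := 117576) (len := 18) h6532 sl_6532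
  have h6534 : ∀ u < 117612, (fun u => chkSlp tab slp u) u = true := ext_range (a := 117594) (len := 18) h6533 sl_6533
  have h6535 : ∀ u < 117630, (fun u => chkSlp tab slp u) u = true := ext_range (a := 117612) (len := 18) h6534 sl_6534
  have h6536 : ∀ u < 117648, (fun u => chkSlp tab slp u) u = true := ext_range (a := 117630) (len := 18) h6535 sl_6535
  have h6537 : ∀ u < 117666, (fun u => chkSlp tab slp u) u = true := ext_range (a := 117648) (len := 18) h6536 sl_6536
  have h6538 : ∀ u < 117684, (fun u => chkSlp tab slp u) u = true := ext_range (a := 117666) (len := 18) h6537 sl_6537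
  have h6539 : ∀ u < 117702, (fun u => chkSlp tab slp u) u = true := ext_range (a := 117684) (len := 18) h6538 sl_6538
  have h6540 : ∀ u < 117720, (fun u => chkSlp tab slp u) u = true := ext_range (a := 117702) (len := 18) h6539 sl_6539
  have h6541 : ∀ u < 117738, (fun u => chkSlp tab slp u) u = true := ext_range (a := 117720) (len := 18) h6540 sl_6540
  have h6542 : ∀ u < 117756, (fun u => chkSlp tab slp u) u = true := ext_range (a := 117738) (len := 18) h6541 sl_6541
  have h6543 : ∀ u < 117774, (fun u => chkSlp tab slp u) u = true := ext_range (a := 117756) (len := 18) h6542 sl_6542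
  have h6544 : ∀ u < 117792, (fun u => chkSlp tab slp u) u = true := ext_range (a := 117774) (len := 18) h6543 sl_6543
  have h6545 : ∀ u < 117810, (fun u => chkSlp tab slp u) u = true := ext_range (a := 117792) (len := 18) h6544 sl_6544
  have h6546 : ∀ u < 117828, (fun u => chkSlp tab slp u) u = true := ext_range (a := 117810) (len := 18) h6545 sl_6545
  have h6547 : ∀ u < 117846, (fun u => chkSlp tab slp u) u = true := ext_range (a := 117828) (len := 18) h6546 sl_6546
  have h6548 : ∀ u < 117864, (fun u => chkSlp tab slp u) u = true := ext_range (a := 117846) (len := 18) h6547 sl_6547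
  have h6549 : ∀ u < 117882, (fun u => chkSlp tab slp u) u = true := ext_range (a := 117864) (len := 18) h6548 sl_6548
  have h6550 : ∀ u < 117900, (fun u => chkSlp tab slp u) u = true := ext_range (a := 117882) (len := 18) h6549 sl_6549
  have h6551 : ∀ u < 117918, (fun u => chkSlp tab slp u) u = true := ext_range (a := 117900) (len := 18) h6550 sl_6550
  have h6552 : ∀ u < 117936, (fun u => chkSlp tab slp u) u = true := ext_range (a := 117918) (len := 18) h6551 sl_6551
  have h6553 : ∀ u < 117954, (fun u => chkSlp tab slp u) u = true := ext_range (a := 117936) (len := 18) h6552 sl_6552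
  have h6554 : ∀ u < 117972, (fun u => chkSlp tab slp u) u = true := ext_range (a := 117954) (len := 18) h6553 sl_6553
  have h6555 : ∀ u < 117990, (fun u => chkSlp tab slp u) u = true := ext_range (a := 117972) (len := 18) h6554 sl_6554
  have h6556 : ∀ u < 118008, (fun u => chkSlp tab slp u) u = true := ext_range (a := 117990) (len := 18) h6555 sl_6555
  have h6557 : ∀ u < 118026, (fun u => chkSlp tab slp u) u = true := ext_range (a := 118008) (len := 18) h6556 sl_6556
  have h6558 : ∀ u < 118044, (fun u => chkSlp tab slp u) u = true := ext_range (a := 118026) (len := 18) h6557 sl_6557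
  have h6559 : ∀ u < 118062, (fun u => chkSlp tab slp u) u = true := ext_range (a := 118044) (len := 18) h6558 sl_6558
  have h6560 : ∀ u < 118080, (fun u => chkSlp tab slp u) u = true := ext_range (a := 118062) (len := 18) h6559 sl_6559
  have h6561 : ∀ u < 118098, (fun u => chkSlp tab slp u) u = true := ext_range (a := 118080) (len := 18) h6560 sl_6560
  have h6562 : ∀ u < 118116, (fun u => chkSlp tab slp u) u = true := ext_range (a := 118098) (len := 18) h6561 sl_6561
  have h6563 : ∀ u < 118134, (fun u => chkSlp tab slp u) u = true := ext_range (a := 118116) (len := 18) h6562 sl_6562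
  have h6564 : ∀ u < 118152, (fun u => chkSlp tab slp u) u = true := ext_range (a := 118134) (len := 18) h6563 sl_6563
  have h6565 : ∀ u < 118170, (fun u => chkSlp tab slp u) u = true := ext_range (a := 118152) (len := 18) h6564 sl_6564
  have h6566 : ∀ u < 118188, (fun u => chkSlp tab slp u) u = true := ext_range (a := 118170) (len := 18) h6565 sl_6565
  have h6567 : ∀ u < 118206, (fun u => chkSlp tab slp u) u = true := ext_range (a := 118188) (len := 18) h6566 sl_6566
  have h6568 : ∀ u < 118224, (fun u => chkSlp tab slp u) u = true := ext_range (a := 118206) (len := 18) h6567 sl_6567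
  have h6569 : ∀ u < 118242, (fun u => chkSlp tab slp u) u = true := ext_range (a := 118224) (len := 18) h6568 sl_6568
  have h6570 : ∀ u < 118260, (fun u => chkSlp tab slp u) u = true := ext_range (a := 118242) (len := 18) h6569 sl_6569
  have h6571 : ∀ u < 118278, (fun u => chkSlp tab slp u) u = true := ext_range (a := 118260) (len := 18) h6570 sl_6570
  have h6572 : ∀ u < 118296, (fun u => chkSlp tab slp u) u = true := ext_range (a := 118278) (len := 18) h6571 sl_6571
  have h6573 : ∀ u < 118314, (fun u => chkSlp tab slp u) u = true := ext_range (a := 118296) (len := 18) h6572 sl_6572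
  have h6574 : ∀ u < 118332, (fun u => chkSlp tab slp u) u = true := ext_range (a := 118314) (len := 18) h6573 sl_6573
  have h6575 : ∀ u < 118350, (fun u => chkSlp tab slp u) u = true := ext_range (a := 118332) (len := 18) h6574 sl_6574
  have h6576 : ∀ u < 118368, (fun u => chkSlp tab slp u) u = true := ext_range (a := 118350) (len := 18) h6575 sl_6575
  have h6577 : ∀ u < 118386, (fun u => chkSlp tab slp u) u = true := ext_range (a := 118368) (len := 18) h6576 sl_6576
  have h6578 : ∀ u < 118404, (fun u => chkSlp tab slp u) u = true := ext_range (a := 118386) (len := 18) h6577 sl_6577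
  have h6579 : ∀ u < 118422, (fun u => chkSlp tab slp u) u = true := ext_range (a := 118404) (len := 18) h6578 sl_6578
  have h6580 : ∀ u < 118440, (fun u => chkSlp tab slp u) u = true := ext_range (a := 118422) (len := 18) h6579 sl_6579
  have h6581 : ∀ u < 118458, (fun u => chkSlp tab slp u) u = true := ext_range (a := 118440) (len := 18) h6580 sl_6580
  have h6582 : ∀ u < 118476, (fun u => chkSlp tab slp u) u = true := ext_range (a := 118458) (len := 18) h6581 sl_6581
  have h6583 : ∀ u < 118494, (fun u => chkSlp tab slp u) u = true := ext_range (a := 118476) (len := 18) h6582 sl_6582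
  have h6584 : ∀ u < 118512, (fun u => chkSlp tab slp u) u = true := ext_range (a := 118494) (len := 18) h6583 sl_6583
  have h6585 : ∀ u < 118530, (fun u => chkSlp tab slp u) u = true := ext_range (a := 118512) (len := 18) h6584 sl_6584
  have h6586 : ∀ u < 118548, (fun u => chkSlp tab slp u) u = true := ext_range (a := 118530) (len := 18) h6585 sl_6585
  have h6587 : ∀ u < 118566, (fun u => chkSlp tab slp u) u = true := ext_range (a := 118548) (len := 18) h6586 sl_6586
  have h6588 : ∀ u < 118584, (fun u => chkSlp tab slp u) u = true := ext_range (a := 118566) (len := 18) h6587 sl_6587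
  have h6589 : ∀ u < 118602, (fun u => chkSlp tab slp u) u = true := ext_range (a := 118584) (len := 18) h6588 sl_6588
  have h6590 : ∀ u < 118620, (fun u => chkSlp tab slp u) u = true := ext_range (a := 118602) (len := 18) h6589 sl_6589
  have h6591 : ∀ u < 118638, (fun u => chkSlp tab slp u) u = true := ext_range (a := 118620) (len := 18) h6590 sl_6590
  have h6592 : ∀ u < 118656, (fun u => chkSlp tab slp u) u = true := ext_range (a := 118638) (len := 18) h6591 sl_6591
  have h6593 : ∀ u < 118674, (fun u => chkSlp tab slp u) u = true := ext_range (a := 118656) (len := 18) h6592 sl_6592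
  have h6594 : ∀ u < 118692, (fun u => chkSlp tab slp u) u = true := ext_range (a := 118674) (len := 18) h6593 sl_6593
  have h6595 : ∀ u < 118710, (fun u => chkSlp tab slp u) u = true := ext_range (a := 118692) (len := 18) h6594 sl_6594
  have h6596 : ∀ u < 118728, (fun u => chkSlp tab slp u) u = true := ext_range (a := 118710) (len := 18) h6595 sl_6595
  have h6597 : ∀ u < 118746, (fun u => chkSlp tab slp u) u = true := ext_range (a := 118728) (len := 18) h6596 sl_6596
  have h6598 : ∀ u < 118764, (fun u => chkSlp tab slp u) u = true := ext_range (a := 118746) (len := 18) h6597 sl_6597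
  have h6599 : ∀ u < 118782, (fun u => chkSlp tab slp u) u = true := ext_range (a := 118764) (len := 18) h6598 sl_6598
  have h6600 : ∀ u < 118800, (fun u => chkSlp tab slp u) u = true := ext_range (a := 118782) (len := 18) h6599 sl_6599
  have h6601 : ∀ u < 118818, (fun u => chkSlp tab slp u) u = true := ext_range (a := 118800) (len := 18) h6600 sl_6600
  have h6602 : ∀ u < 118836, (fun u => chkSlp tab slp u) u = true := ext_range (a := 118818) (len := 18) h6601 sl_6601
  have h6603 : ∀ u < 118854, (fun u => chkSlp tab slp u) u = true := ext_range (a := 118836) (len := 18) h6602 sl_6602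
  have h6604 : ∀ u < 118872, (fun u => chkSlp tab slp u) u = true := ext_range (a := 118854) (len := 18) h6603 sl_6603
  have h6605 : ∀ u < 118890, (fun u => chkSlp tab slp u) u = true := ext_range (a := 118872) (len := 18) h6604 sl_6604
  have h6606 : ∀ u < 118908, (fun u => chkSlp tab slp u) u = true := ext_range (a := 118890) (len := 18) h6605 sl_6605
  have h6607 : ∀ u < 118926, (fun u => chkSlp tab slp u) u = true := ext_range (a := 118908) (len := 18) h6606 sl_6606
  have h6608 : ∀ u < 118944, (fun u => chkSlp tab slp u) u = true := ext_range (a := 118926) (len := 18) h6607 sl_6607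
  have h6609 : ∀ u < 118962, (fun u => chkSlp tab slp u) u = true := ext_range (a := 118944) (len := 18) h6608 sl_6608
  have h6610 : ∀ u < 118980, (fun u => chkSlp tab slp u) u = true := ext_range (a := 118962) (len := 18) h6609 sl_6609
  have h6611 : ∀ u < 118998, (fun u => chkSlp tab slp u) u = true := ext_range (a := 118980) (len := 18) h6610 sl_6610
  have h6612 : ∀ u < 119016, (fun u => chkSlp tab slp u) u = true := ext_range (a := 118998) (len := 18) h6611 sl_6611
  have h6613 : ∀ u < 119034, (fun u => chkSlp tab slp u) u = true := ext_range (a := 119016) (len := 18) h6612 sl_6612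
  have h6614 : ∀ u < 119052, (fun u => chkSlp tab slp u) u = true := ext_range (a := 119034) (len := 18) h6613 sl_6613
  have h6615 : ∀ u < 119070, (fun u => chkSlp tab slp u) u = true := ext_range (a := 119052) (len := 18) h6614 sl_6614
  have h6616 : ∀ u < 119088, (fun u => chkSlp tab slp u) u = true := ext_range (a := 119070) (len := 18) h6615 sl_6615
  have h6617 : ∀ u < 119106, (fun u => chkSlp tab slp u) u = true := ext_range (a := 119088) (len := 18) h6616 sl_6616
  have h6618 : ∀ u < 119124, (fun u => chkSlp tab slp u) u = true := ext_range (a := 119106) (len := 18) h6617 sl_6617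
  have h6619 : ∀ u < 119142, (fun u => chkSlp tab slp u) u = true := ext_range (a := 119124) (len := 18) h6618 sl_6618
  have h6620 : ∀ u < 119160, (fun u => chkSlp tab slp u) u = true := ext_range (a := 119142) (len := 18) h6619 sl_6619
  have h6621 : ∀ u < 119178, (fun u => chkSlp tab slp u) u = true := ext_range (a := 119160) (len := 18) h6620 sl_6620
  have h6622 : ∀ u < 119196, (fun u => chkSlp tab slp u) u = true := ext_range (a := 119178) (len := 18) h6621 sl_6621
  have h6623 : ∀ u < 119214, (fun u => chkSlp tab slp u) u = true := ext_range (a := 119196) (len := 18) h6622 sl_6622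
  have h6624 : ∀ u < 119232, (fun u => chkSlp tab slp u) u = true := ext_range (a := 119214) (len := 18) h6623 sl_6623
  have h6625 : ∀ u < 119250, (fun u => chkSlp tab slp u) u = true := ext_range (a := 119232) (len := 18) h6624 sl_6624
  have h6626 : ∀ u < 119268, (fun u => chkSlp tab slp u) u = true := ext_range (a := 119250) (len := 18) h6625 sl_6625
  have h6627 : ∀ u < 119286, (fun u => chkSlp tab slp u) u = true := ext_range (a := 119268) (len := 18) h6626 sl_6626
  have h6628 : ∀ u < 119304, (fun u => chkSlp tab slp u) u = true := ext_range (a := 119286) (len := 18) h6627 sl_6627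
  have h6629 : ∀ u < 119322, (fun u => chkSlp tab slp u) u = true := ext_range (a := 119304) (len := 18) h6628 sl_6628
  have h6630 : ∀ u < 119340, (fun u => chkSlp tab slp u) u = true := ext_range (a := 119322) (len := 18) h6629 sl_6629
  have h6631 : ∀ u < 119358, (fun u => chkSlp tab slp u) u = true := ext_range (a := 119340) (len := 18) h6630 sl_6630
  have h6632 : ∀ u < 119376, (fun u => chkSlp tab slp u) u = true := ext_range (a := 119358) (len := 18) h6631 sl_6631
  have h6633 : ∀ u < 119394, (fun u => chkSlp tab slp u) u = true := ext_range (a := 119376) (len := 18) h6632 sl_6632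
  have h6634 : ∀ u < 119412, (fun u => chkSlp tab slp u) u = true := ext_range (a := 119394) (len := 18) h6633 sl_6633
  have h6635 : ∀ u < 119430, (fun u => chkSlp tab slp u) u = true := ext_range (a := 119412) (len := 18) h6634 sl_6634
  have h6636 : ∀ u < 119448, (fun u => chkSlp tab slp u) u = true := ext_range (a := 119430) (len := 18) h6635 sl_6635
  have h6637 : ∀ u < 119466, (fun u => chkSlp tab slp u) u = true := ext_range (a := 119448) (len := 18) h6636 sl_6636
  have h6638 : ∀ u < 119484, (fun u => chkSlp tab slp u) u = true := ext_range (a := 119466) (len := 18) h6637 sl_6637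
  have h6639 : ∀ u < 119502, (fun u => chkSlp tab slp u) u = true := ext_range (a := 119484) (len := 18) h6638 sl_6638
  have h6640 : ∀ u < 119520, (fun u => chkSlp tab slp u) u = true := ext_range (a := 119502) (len := 18) h6639 sl_6639
  have h6641 : ∀ u < 119538, (fun u => chkSlp tab slp u) u = true := ext_range (a := 119520) (len := 18) h6640 sl_6640
  have h6642 : ∀ u < 119556, (fun u => chkSlp tab slp u) u = true := ext_range (a := 119538) (len := 18) h6641 sl_6641
  have h6643 : ∀ u < 119574, (fun u => chkSlp tab slp u) u = true := ext_range (a := 119556) (len := 18) h6642 sl_6642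
  have h6644 : ∀ u < 119592, (fun u => chkSlp tab slp u) u = true := ext_range (a := 119574) (len := 18) h6643 sl_6643
  have h6645 : ∀ u < 119610, (fun u => chkSlp tab slp u) u = true := ext_range (a := 119592) (len := 18) h6644 sl_6644
  have h6646 : ∀ u < 119628, (fun u => chkSlp tab slp u) u = true := ext_range (a := 119610) (len := 18) h6645 sl_6645
  have h6647 : ∀ u < 119646, (fun u => chkSlp tab slp u) u = true := ext_range (a := 119628) (len := 18) h6646 sl_6646
  have h6648 : ∀ u < 119664, (fun u => chkSlp tab slp u) u = true := ext_range (a := 119646) (len := 18) h6647 sl_6647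
  have h6649 : ∀ u < 119682, (fun u => chkSlp tab slp u) u = true := ext_range (a := 119664) (len := 18) h6648 sl_6648
  have h6650 : ∀ u < 119700, (fun u => chkSlp tab slp u) u = true := ext_range (a := 119682) (len := 18) h6649 sl_6649
  have h6651 : ∀ u < 119718, (fun u => chkSlp tab slp u) u = true := ext_range (a := 119700) (len := 18) h6650 sl_6650
  have h6652 : ∀ u < 119736, (fun u => chkSlp tab slp u) u = true := ext_range (a := 119718) (len := 18) h6651 sl_6651
  have h6653 : ∀ u < 119754, (fun u => chkSlp tab slp u) u = true := ext_range (a := 119736) (len := 18) h6652 sl_6652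
  have h6654 : ∀ u < 119772, (fun u => chkSlp tab slp u) u = true := ext_range (a := 119754) (len := 18) h6653 sl_6653
  have h6655 : ∀ u < 119790, (fun u => chkSlp tab slp u) u = true := ext_range (a := 119772) (len := 18) h6654 sl_6654
  have h6656 : ∀ u < 119808, (fun u => chkSlp tab slp u) u = true := ext_range (a := 119790) (len := 18) h6655 sl_6655
  have h6657 : ∀ u < 119826, (fun u => chkSlp tab slp u) u = true := ext_range (a := 119808) (len := 18) h6656 sl_6656
  have h6658 : ∀ u < 119844, (fun u => chkSlp tab slp u) u = true := ext_range (a := 119826) (len := 18) h6657 sl_6657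
  have h6659 : ∀ u < 119862, (fun u => chkSlp tab slp u) u = true := ext_range (a := 119844) (len := 18) h6658 sl_6658
  have h6660 : ∀ u < 119880, (fun u => chkSlp tab slp u) u = true := ext_range (a := 119862) (len := 18) h6659 sl_6659
  have h6661 : ∀ u < 119898, (fun u => chkSlp tab slp u) u = true := ext_range (a := 119880) (len := 18) h6660 sl_6660
  have h6662 : ∀ u < 119916, (fun u => chkSlp tab slp u) u = true := ext_range (a := 119898) (len := 18) h6661 sl_6661
  have h6663 : ∀ u < 119934, (fun u => chkSlp tab slp u) u = true := ext_range (a := 119916) (len := 18) h6662 sl_6662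
  have h6664 : ∀ u < 119952, (fun u => chkSlp tab slp u) u = true := ext_range (a := 119934) (len := 18) h6663 sl_6663
  have h6665 : ∀ u < 119970, (fun u => chkSlp tab slp u) u = true := ext_range (a := 119952) (len := 18) h6664 sl_6664
  have h6666 : ∀ u < 119988, (fun u => chkSlp tab slp u) u = true := ext_range (a := 119970) (len := 18) h6665 sl_6665
  have h6667 : ∀ u < 120006, (fun u => chkSlp tab slp u) u = true := ext_range (a := 119988) (len := 18) h6666 sl_6666
  have h6668 : ∀ u < 120024, (fun u => chkSlp tab slp u) u = true := ext_range (a := 120006) (len := 18) h6667 sl_6667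
  have h6669 : ∀ u < 120042, (fun u => chkSlp tab slp u) u = true := ext_range (a := 120024) (len := 18) h6668 sl_6668
  have h6670 : ∀ u < 120060, (fun u => chkSlp tab slp u) u = true := ext_range (a := 120042) (len := 18) h6669 sl_6669
  have h6671 : ∀ u < 120078, (fun u => chkSlp tab slp u) u = true := ext_range (a := 120060) (len := 18) h6670 sl_6670
  have h6672 : ∀ u < 120096, (fun u => chkSlp tab slp u) u = true := ext_range (a := 120078) (len := 18) h6671 sl_6671
  have h6673 : ∀ u < 120114, (fun u => chkSlp tab slp u) u = true := ext_range (a := 120096) (len := 18) h6672 sl_6672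
  have h6674 : ∀ u < 120132, (fun u => chkSlp tab slp u) u = true := ext_range (a := 120114) (len := 18) h6673 sl_6673
  have h6675 : ∀ u < 120150, (fun u => chkSlp tab slp u) u = true := ext_range (a := 120132) (len := 18) h6674 sl_6674
  have h6676 : ∀ u < 120168, (fun u => chkSlp tab slp u) u = true := ext_range (a := 120150) (len := 18) h6675 sl_6675
  have h6677 : ∀ u < 120186, (fun u => chkSlp tab slp u) u = true := ext_range (a := 120168) (len := 18) h6676 sl_6676
  have h6678 : ∀ u < 120204, (fun u => chkSlp tab slp u) u = true := ext_range (a := 120186) (len := 18) h6677 sl_6677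
  have h6679 : ∀ u < 120222, (fun u => chkSlp tab slp u) u = true := ext_range (a := 120204) (len := 18) h6678 sl_6678
  have h6680 : ∀ u < 120240, (fun u => chkSlp tab slp u) u = true := ext_range (a := 120222) (len := 18) h6679 sl_6679
  have h6681 : ∀ u < 120258, (fun u => chkSlp tab slp u) u = true := ext_range (a := 120240) (len := 18) h6680 sl_6680
  have h6682 : ∀ u < 120276, (fun u => chkSlp tab slp u) u = true := ext_range (a := 120258) (len := 18) h6681 sl_6681
  have h6683 : ∀ u < 120294, (fun u => chkSlp tab slp u) u = true := ext_range (a := 120276) (len := 18) h6682 sl_6682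
  have h6684 : ∀ u < 120312, (fun u => chkSlp tab slp u) u = true := ext_range (a := 120294) (len := 18) h6683 sl_6683
  have h6685 : ∀ u < 120330, (fun u => chkSlp tab slp u) u = true := ext_range (a := 120312) (len := 18) h6684 sl_6684
  have h6686 : ∀ u < 120348, (fun u => chkSlp tab slp u) u = true := ext_range (a := 120330) (len := 18) h6685 sl_6685
  have h6687 : ∀ u < 120366, (fun u => chkSlp tab slp u) u = true := ext_range (a := 120348) (len := 18) h6686 sl_6686
  have h6688 : ∀ u < 120384, (fun u => chkSlp tab slp u) u = true := ext_range (a := 120366) (len := 18) h6687 sl_6687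
  have h6689 : ∀ u < 120402, (fun u => chkSlp tab slp u) u = true := ext_range (a := 120384) (len := 18) h6688 sl_6688
  have h6690 : ∀ u < 120420, (fun u => chkSlp tab slp u) u = true := ext_range (a := 120402) (len := 18) h6689 sl_6689
  have h6691 : ∀ u < 120438, (fun u => chkSlp tab slp u) u = true := ext_range (a := 120420) (len := 18) h6690 sl_6690
  have h6692 : ∀ u < 120456, (fun u => chkSlp tab slp u) u = true := ext_range (a := 120438) (len := 18) h6691 sl_6691
  have h6693 : ∀ u < 120474, (fun u => chkSlp tab slp u) u = true := ext_range (a := 120456) (len := 18) h6692 sl_6692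
  have h6694 : ∀ u < 120492, (fun u => chkSlp tab slp u) u = true := ext_range (a := 120474) (len := 18) h6693 sl_6693
  have h6695 : ∀ u < 120510, (fun u => chkSlp tab slp u) u = true := ext_range (a := 120492) (len := 18) h6694 sl_6694
  have h6696 : ∀ u < 120528, (fun u => chkSlp tab slp u) u = true := ext_range (a := 120510) (len := 18) h6695 sl_6695
  have h6697 : ∀ u < 120546, (fun u => chkSlp tab slp u) u = true := ext_range (a := 120528) (len := 18) h6696 sl_6696
  have h6698 : ∀ u < 120564, (fun u => chkSlp tab slp u) u = true := ext_range (a := 120546) (len := 18) h6697 sl_6697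
  have h6699 : ∀ u < 120582, (fun u => chkSlp tab slp u) u = true := ext_range (a := 120564) (len := 18) h6698 sl_6698
  have h6700 : ∀ u < 120600, (fun u => chkSlp tab slp u) u = true := ext_range (a := 120582) (len := 18) h6699 sl_6699
  have h6701 : ∀ u < 120618, (fun u => chkSlp tab slp u) u = true := ext_range (a := 120600) (len := 18) h6700 sl_6700
  have h6702 : ∀ u < 120636, (fun u => chkSlp tab slp u) u = true := ext_range (a := 120618) (len := 18) h6701 sl_6701
  have h6703 : ∀ u < 120654, (fun u => chkSlp tab slp u) u = true := ext_range (a := 120636) (len := 18) h6702 sl_6702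
  have h6704 : ∀ u < 120672, (fun u => chkSlp tab slp u) u = true := ext_range (a := 120654) (len := 18) h6703 sl_6703
  have h6705 : ∀ u < 120690, (fun u => chkSlp tab slp u) u = true := ext_range (a := 120672) (len := 18) h6704 sl_6704
  have h6706 : ∀ u < 120708, (fun u => chkSlp tab slp u) u = true := ext_range (a := 120690) (len := 18) h6705 sl_6705
  have h6707 : ∀ u < 120726, (fun u => chkSlp tab slp u) u = true := ext_range (a := 120708) (len := 18) h6706 sl_6706
  have h6708 : ∀ u < 120744, (fun u => chkSlp tab slp u) u = true := ext_range (a := 120726) (len := 18) h6707 sl_6707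
  have h6709 : ∀ u < 120762, (fun u => chkSlp tab slp u) u = true := ext_range (a := 120744) (len := 18) h6708 sl_6708
  have h6710 : ∀ u < 120780, (fun u => chkSlp tab slp u) u = true := ext_range (a := 120762) (len := 18) h6709 sl_6709
  have h6711 : ∀ u < 120798, (fun u => chkSlp tab slp u) u = true := ext_range (a := 120780) (len := 18) h6710 sl_6710
  have h6712 : ∀ u < 120816, (fun u => chkSlp tab slp u) u = true := ext_range (a := 120798) (len := 18) h6711 sl_6711
  have h6713 : ∀ u < 120834, (fun u => chkSlp tab slp u) u = true := ext_range (a := 120816) (len := 18) h6712 sl_6712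
  have h6714 : ∀ u < 120852, (fun u => chkSlp tab slp u) u = true := ext_range (a := 120834) (len := 18) h6713 sl_6713
  have h6715 : ∀ u < 120870, (fun u => chkSlp tab slp u) u = true := ext_range (a := 120852) (len := 18) h6714 sl_6714
  have h6716 : ∀ u < 120888, (fun u => chkSlp tab slp u) u = true := ext_range (a := 120870) (len := 18) h6715 sl_6715
  have h6717 : ∀ u < 120906, (fun u => chkSlp tab slp u) u = true := ext_range (a := 120888) (len := 18) h6716 sl_6716
  have h6718 : ∀ u < 120924, (fun u => chkSlp tab slp u) u = true := ext_range (a := 120906) (len := 18) h6717 sl_6717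
  have h6719 : ∀ u < 120942, (fun u => chkSlp tab slp u) u = true := ext_range (a := 120924) (len := 18) h6718 sl_6718
  have h6720 : ∀ u < 120960, (fun u => chkSlp tab slp u) u = true := ext_range (a := 120942) (len := 18) h6719 sl_6719
  have h6721 : ∀ u < 120978, (fun u => chkSlp tab slp u) u = true := ext_range (a := 120960) (len := 18) h6720 sl_6720
  have h6722 : ∀ u < 120996, (fun u => chkSlp tab slp u) u = true := ext_range (a := 120978) (len := 18) h6721 sl_6721
  have h6723 : ∀ u < 121014, (fun u => chkSlp tab slp u) u = true := ext_range (a := 120996) (len := 18) h6722 sl_6722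
  have h6724 : ∀ u < 121032, (fun u => chkSlp tab slp u) u = true := ext_range (a := 121014) (len := 18) h6723 sl_6723
  have h6725 : ∀ u < 121050, (fun u => chkSlp tab slp u) u = true := ext_range (a := 121032) (len := 18) h6724 sl_6724
  have h6726 : ∀ u < 121068, (fun u => chkSlp tab slp u) u = true := ext_range (a := 121050) (len := 18) h6725 sl_6725
  have h6727 : ∀ u < 121086, (fun u => chkSlp tab slp u) u = true := ext_range (a := 121068) (len := 18) h6726 sl_6726
  have h6728 : ∀ u < 121104, (fun u => chkSlp tab slp u) u = true := ext_range (a := 121086) (len := 18) h6727 sl_6727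
  have h6729 : ∀ u < 121122, (fun u => chkSlp tab slp u) u = true := ext_range (a := 121104) (len := 18) h6728 sl_6728
  have h6730 : ∀ u < 121140, (fun u => chkSlp tab slp u) u = true := ext_range (a := 121122) (len := 18) h6729 sl_6729
  have h6731 : ∀ u < 121158, (fun u => chkSlp tab slp u) u = true := ext_range (a := 121140) (len := 18) h6730 sl_6730
  have h6732 : ∀ u < 121176, (fun u => chkSlp tab slp u) u = true := ext_range (a := 121158) (len := 18) h6731 sl_6731
  have h6733 : ∀ u < 121194, (fun u => chkSlp tab slp u) u = true := ext_range (a := 121176) (len := 18) h6732 sl_6732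
  have h6734 : ∀ u < 121212, (fun u => chkSlp tab slp u) u = true := ext_range (a := 121194) (len := 18) h6733 sl_6733
  have h6735 : ∀ u < 121230, (fun u => chkSlp tab slp u) u = true := ext_range (a := 121212) (len := 18) h6734 sl_6734
  have h6736 : ∀ u < 121248, (fun u => chkSlp tab slp u) u = true := ext_range (a := 121230) (len := 18) h6735 sl_6735
  have h6737 : ∀ u < 121266, (fun u => chkSlp tab slp u) u = true := ext_range (a := 121248) (len := 18) h6736 sl_6736
  have h6738 : ∀ u < 121284, (fun u => chkSlp tab slp u) u = true := ext_range (a := 121266) (len := 18) h6737 sl_6737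
  have h6739 : ∀ u < 121302, (fun u => chkSlp tab slp u) u = true := ext_range (a := 121284) (len := 18) h6738 sl_6738
  have h6740 : ∀ u < 121320, (fun u => chkSlp tab slp u) u = true := ext_range (a := 121302) (len := 18) h6739 sl_6739
  have h6741 : ∀ u < 121338, (fun u => chkSlp tab slp u) u = true := ext_range (a := 121320) (len := 18) h6740 sl_6740
  have h6742 : ∀ u < 121356, (fun u => chkSlp tab slp u) u = true := ext_range (a := 121338) (len := 18) h6741 sl_6741
  have h6743 : ∀ u < 121374, (fun u => chkSlp tab slp u) u = true := ext_range (a := 121356) (len := 18) h6742 sl_6742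
  have h6744 : ∀ u < 121392, (fun u => chkSlp tab slp u) u = true := ext_range (a := 121374) (len := 18) h6743 sl_6743
  have h6745 : ∀ u < 121410, (fun u => chkSlp tab slp u) u = true := ext_range (a := 121392) (len := 18) h6744 sl_6744
  have h6746 : ∀ u < 121428, (fun u => chkSlp tab slp u) u = true := ext_range (a := 121410) (len := 18) h6745 sl_6745
  have h6747 : ∀ u < 121446, (fun u => chkSlp tab slp u) u = true := ext_range (a := 121428) (len := 18) h6746 sl_6746
  have h6748 : ∀ u < 121464, (fun u => chkSlp tab slp u) u = true := ext_range (a := 121446) (len := 18) h6747 sl_6747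
  have h6749 : ∀ u < 121482, (fun u => chkSlp tab slp u) u = true := ext_range (a := 121464) (len := 18) h6748 sl_6748
  have h6750 : ∀ u < 121500, (fun u => chkSlp tab slp u) u = true := ext_range (a := 121482) (len := 18) h6749 sl_6749
  have h6751 : ∀ u < 121518, (fun u => chkSlp tab slp u) u = true := ext_range (a := 121500) (len := 18) h6750 sl_6750
  have h6752 : ∀ u < 121536, (fun u => chkSlp tab slp u) u = true := ext_range (a := 121518) (len := 18) h6751 sl_6751
  have h6753 : ∀ u < 121554, (fun u => chkSlp tab slp u) u = true := ext_range (a := 121536) (len := 18) h6752 sl_6752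
  have h6754 : ∀ u < 121572, (fun u => chkSlp tab slp u) u = true := ext_range (a := 121554) (len := 18) h6753 sl_6753
  have h6755 : ∀ u < 121590, (fun u => chkSlp tab slp u) u = true := ext_range (a := 121572) (len := 18) h6754 sl_6754
  have h6756 : ∀ u < 121608, (fun u => chkSlp tab slp u) u = true := ext_range (a := 121590) (len := 18) h6755 sl_6755
  have h6757 : ∀ u < 121626, (fun u => chkSlp tab slp u) u = true := ext_range (a := 121608) (len := 18) h6756 sl_6756
  have h6758 : ∀ u < 121644, (fun u => chkSlp tab slp u) u = true := ext_range (a := 121626) (len := 18) h6757 sl_6757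
  have h6759 : ∀ u < 121662, (fun u => chkSlp tab slp u) u = true := ext_range (a := 121644) (len := 18) h6758 sl_6758
  have h6760 : ∀ u < 121680, (fun u => chkSlp tab slp u) u = true := ext_range (a := 121662) (len := 18) h6759 sl_6759
  have h6761 : ∀ u < 121698, (fun u => chkSlp tab slp u) u = true := ext_range (a := 121680) (len := 18) h6760 sl_6760
  have h6762 : ∀ u < 121716, (fun u => chkSlp tab slp u) u = true := ext_range (a := 121698) (len := 18) h6761 sl_6761
  have h6763 : ∀ u < 121734, (fun u => chkSlp tab slp u) u = true := ext_range (a := 121716) (len := 18) h6762 sl_6762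
  have h6764 : ∀ u < 121752, (fun u => chkSlp tab slp u) u = true := ext_range (a := 121734) (len := 18) h6763 sl_6763
  have h6765 : ∀ u < 121770, (fun u => chkSlp tab slp u) u = true := ext_range (a := 121752) (len := 18) h6764 sl_6764
  have h6766 : ∀ u < 121788, (fun u => chkSlp tab slp u) u = true := ext_range (a := 121770) (len := 18) h6765 sl_6765
  have h6767 : ∀ u < 121806, (fun u => chkSlp tab slp u) u = true := ext_range (a := 121788) (len := 18) h6766 sl_6766
  have h6768 : ∀ u < 121824, (fun u => chkSlp tab slp u) u = true := ext_range (a := 121806) (len := 18) h6767 sl_6767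
  have h6769 : ∀ u < 121842, (fun u => chkSlp tab slp u) u = true := ext_range (a := 121824) (len := 18) h6768 sl_6768
  have h6770 : ∀ u < 121860, (fun u => chkSlp tab slp u) u = true := ext_range (a := 121842) (len := 18) h6769 sl_6769
  have h6771 : ∀ u < 121878, (fun u => chkSlp tab slp u) u = true := ext_range (a := 121860) (len := 18) h6770 sl_6770
  have h6772 : ∀ u < 121896, (fun u => chkSlp tab slp u) u = true := ext_range (a := 121878) (len := 18) h6771 sl_6771
  have h6773 : ∀ u < 121914, (fun u => chkSlp tab slp u) u = true := ext_range (a := 121896) (len := 18) h6772 sl_6772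
  have h6774 : ∀ u < 121932, (fun u => chkSlp tab slp u) u = true := ext_range (a := 121914) (len := 18) h6773 sl_6773
  have h6775 : ∀ u < 121950, (fun u => chkSlp tab slp u) u = true := ext_range (a := 121932) (len := 18) h6774 sl_6774
  have h6776 : ∀ u < 121968, (fun u => chkSlp tab slp u) u = true := ext_range (a := 121950) (len := 18) h6775 sl_6775
  have h6777 : ∀ u < 121986, (fun u => chkSlp tab slp u) u = true := ext_range (a := 121968) (len := 18) h6776 sl_6776
  have h6778 : ∀ u < 122004, (fun u => chkSlp tab slp u) u = true := ext_range (a := 121986) (len := 18) h6777 sl_6777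
  have h6779 : ∀ u < 122022, (fun u => chkSlp tab slp u) u = true := ext_range (a := 122004) (len := 18) h6778 sl_6778
  have h6780 : ∀ u < 122040, (fun u => chkSlp tab slp u) u = true := ext_range (a := 122022) (len := 18) h6779 sl_6779
  have h6781 : ∀ u < 122058, (fun u => chkSlp tab slp u) u = true := ext_range (a := 122040) (len := 18) h6780 sl_6780
  have h6782 : ∀ u < 122076, (fun u => chkSlp tab slp u) u = true := ext_range (a := 122058) (len := 18) h6781 sl_6781
  have h6783 : ∀ u < 122094, (fun u => chkSlp tab slp u) u = true := ext_range (a := 122076) (len := 18) h6782 sl_6782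
  have h6784 : ∀ u < 122112, (fun u => chkSlp tab slp u) u = true := ext_range (a := 122094) (len := 18) h6783 sl_6783
  have h6785 : ∀ u < 122130, (fun u => chkSlp tab slp u) u = true := ext_range (a := 122112) (len := 18) h6784 sl_6784
  have h6786 : ∀ u < 122148, (fun u => chkSlp tab slp u) u = true := ext_range (a := 122130) (len := 18) h6785 sl_6785
  have h6787 : ∀ u < 122166, (fun u => chkSlp tab slp u) u = true := ext_range (a := 122148) (len := 18) h6786 sl_6786
  have h6788 : ∀ u < 122184, (fun u => chkSlp tab slp u) u = true := ext_range (a := 122166) (len := 18) h6787 sl_6787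
  have h6789 : ∀ u < 122202, (fun u => chkSlp tab slp u) u = true := ext_range (a := 122184) (len := 18) h6788 sl_6788
  have h6790 : ∀ u < 122220, (fun u => chkSlp tab slp u) u = true := ext_range (a := 122202) (len := 18) h6789 sl_6789
  have h6791 : ∀ u < 122238, (fun u => chkSlp tab slp u) u = true := ext_range (a := 122220) (len := 18) h6790 sl_6790
  have h6792 : ∀ u < 122256, (fun u => chkSlp tab slp u) u = true := ext_range (a := 122238) (len := 18) h6791 sl_6791
  have h6793 : ∀ u < 122274, (fun u => chkSlp tab slp u) u = true := ext_range (a := 122256) (len := 18) h6792 sl_6792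
  have h6794 : ∀ u < 122292, (fun u => chkSlp tab slp u) u = true := ext_range (a := 122274) (len := 18) h6793 sl_6793
  have h6795 : ∀ u < 122310, (fun u => chkSlp tab slp u) u = true := ext_range (a := 122292) (len := 18) h6794 sl_6794
  have h6796 : ∀ u < 122328, (fun u => chkSlp tab slp u) u = true := ext_range (a := 122310) (len := 18) h6795 sl_6795
  have h6797 : ∀ u < 122346, (fun u => chkSlp tab slp u) u = true := ext_range (a := 122328) (len := 18) h6796 sl_6796
  have h6798 : ∀ u < 122364, (fun u => chkSlp tab slp u) u = true := ext_range (a := 122346) (len := 18) h6797 sl_6797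
  have h6799 : ∀ u < 122382, (fun u => chkSlp tab slp u) u = true := ext_range (a := 122364) (len := 18) h6798 sl_6798
  have h6800 : ∀ u < 122400, (fun u => chkSlp tab slp u) u = true := ext_range (a := 122382) (len := 18) h6799 sl_6799
  have h6801 : ∀ u < 122418, (fun u => chkSlp tab slp u) u = true := ext_range (a := 122400) (len := 18) h6800 sl_6800
  have h6802 : ∀ u < 122436, (fun u => chkSlp tab slp u) u = true := ext_range (a := 122418) (len := 18) h6801 sl_6801
  have h6803 : ∀ u < 122454, (fun u => chkSlp tab slp u) u = true := ext_range (a := 122436) (len := 18) h6802 sl_6802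
  have h6804 : ∀ u < 122472, (fun u => chkSlp tab slp u) u = true := ext_range (a := 122454) (len := 18) h6803 sl_6803
  have h6805 : ∀ u < 122490, (fun u => chkSlp tab slp u) u = true := ext_range (a := 122472) (len := 18) h6804 sl_6804
  have h6806 : ∀ u < 122508, (fun u => chkSlp tab slp u) u = true := ext_range (a := 122490) (len := 18) h6805 sl_6805
  have h6807 : ∀ u < 122526, (fun u => chkSlp tab slp u) u = true := ext_range (a := 122508) (len := 18) h6806 sl_6806
  have h6808 : ∀ u < 122544, (fun u => chkSlp tab slp u) u = true := ext_range (a := 122526) (len := 18) h6807 sl_6807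
  have h6809 : ∀ u < 122562, (fun u => chkSlp tab slp u) u = true := ext_range (a := 122544) (len := 18) h6808 sl_6808
  have h6810 : ∀ u < 122580, (fun u => chkSlp tab slp u) u = true := ext_range (a := 122562) (len := 18) h6809 sl_6809
  have h6811 : ∀ u < 122598, (fun u => chkSlp tab slp u) u = true := ext_range (a := 122580) (len := 18) h6810 sl_6810
  have h6812 : ∀ u < 122616, (fun u => chkSlp tab slp u) u = true := ext_range (a := 122598) (len := 18) h6811 sl_6811
  have h6813 : ∀ u < 122634, (fun u => chkSlp tab slp u) u = true := ext_range (a := 122616) (len := 18) h6812 sl_6812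
  have h6814 : ∀ u < 122652, (fun u => chkSlp tab slp u) u = true := ext_range (a := 122634) (len := 18) h6813 sl_6813
  have h6815 : ∀ u < 122670, (fun u => chkSlp tab slp u) u = true := ext_range (a := 122652) (len := 18) h6814 sl_6814
  have h6816 : ∀ u < 122688, (fun u => chkSlp tab slp u) u = true := ext_range (a := 122670) (len := 18) h6815 sl_6815
  have h6817 : ∀ u < 122706, (fun u => chkSlp tab slp u) u = true := ext_range (a := 122688) (len := 18) h6816 sl_6816
  have h6818 : ∀ u < 122724, (fun u => chkSlp tab slp u) u = true := ext_range (a := 122706) (len := 18) h6817 sl_6817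
  have h6819 : ∀ u < 122742, (fun u => chkSlp tab slp u) u = true := ext_range (a := 122724) (len := 18) h6818 sl_6818
  have h6820 : ∀ u < 122760, (fun u => chkSlp tab slp u) u = true := ext_range (a := 122742) (len := 18) h6819 sl_6819
  exact h6820

theorem hT0 : ∀ u < 122760, chkTree tab (lidx 0) (lpar 0) (lgi 0) 0 [0, 1, 2, 3, 4, 5, 6, 7, 135, 136, 139] u = true := by
  have h0 : ∀ u < 0, (fun u => chkTree tab (lidx 0) (lpar 0) (lgi 0) 0 [0, 1, 2, 3, 4, 5, 6, 7, 135, 136, 139] u) u = true := range_zero
  have h1 : ∀ u < 1000, (fun u => chkTree tab (lidx 0) (lpar 0) (lgi 0) 0 [0, 1, 2, 3, 4, 5, 6, 7, 135, 136, 139] u) u = true := ext_range (a := 0) (len := 1000) h0 tr0x_0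
  have h2 : ∀ u < 2000, (fun u => chkTree tab (lidx 0) (lpar 0) (lgi 0) 0 [0, 1, 2, 3, 4, 5, 6, 7, 135, 136, 139] u) u = true := ext_range (a := 1000) (len := 1000) h1 tr0x_1
  have h3 : ∀ u < 3000, (fun u => chkTree tab (lidx 0) (lpar 0) (lgi 0) 0 [0, 1, 2, 3, 4, 5, 6, 7, 135, 136, 139] u) u = true := ext_range (a := 2000) (len := 1000) h2 tr0x_2
  have h4 : ∀ u < 4000, (fun u => chkTree tab (lidx 0) (lpar 0) (lgi 0) 0 [0, 1, 2, 3, 4, 5, 6, 7, 135, 136, 139] u) u = true := ext_range (a := 3000) (len := 1000) h3 tr0x_3
  have h5 : ∀ u < 5000, (fun u => chkTree tab (lidx 0) (lpar 0) (lgi 0) 0 [0, 1, 2, 3, 4, 5, 6, 7, 135, 136, 139] u) u = true := ext_range (a := 4000) (len := 1000) h4 tr0x_4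
  have h6 : ∀ u < 6000, (fun u => chkTree tab (lidx 0) (lpar 0) (lgi 0) 0 [0, 1, 2, 3, 4, 5, 6, 7, 135, 136, 139] u) u = true := ext_range (a := 5000) (len := 1000) h5 tr0x_5
  have h7 : ∀ u < 7000, (fun u => chkTree tab (lidx 0) (lpar 0) (lgi 0) 0 [0, 1, 2, 3, 4, 5, 6, 7, 135, 136, 139] u) u = true := ext_range (a := 6000) (len := 1000) h6 tr0x_6
  have h8 : ∀ u < 8000, (fun u => chkTree tab (lidx 0) (lpar 0) (lgi 0) 0 [0, 1, 2, 3, 4, 5, 6, 7, 135, 136, 139] u) u = true := ext_range (a := 7000) (len := 1000) h7 tr0x_7
  have h9 : ∀ u < 9000, (fun u => chkTree tab (lidx 0) (lpar 0) (lgi 0) 0 [0, 1, 2, 3, 4, 5, 6, 7, 135, 136, 139] u) u = true := ext_range (a := 8000) (len := 1000) h8 tr0x_8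
  have h10 : ∀ u < 10000, (fun u => chkTree tab (lidx 0) (lpar 0) (lgi 0) 0 [0, 1, 2, 3, 4, 5, 6, 7, 135, 136, 139] u) u = true := ext_range (a := 9000) (len := 1000) h9 tr0x_9
  have h11 : ∀ u < 11000, (fun u => chkTree tab (lidx 0) (lpar 0) (lgi 0) 0 [0, 1, 2, 3, 4, 5, 6, 7, 135, 136, 139] u) u = true := ext_range (a := 10000) (len := 1000) h10 tr0x_10
  have h12 : ∀ u < 12000, (fun u => chkTree tab (lidx 0) (lpar 0) (lgi 0) 0 [0, 1, 2, 3, 4, 5, 6, 7, 135, 136, 139] u) u = true := ext_range (a := 11000) (len := 1000) h11 tr0x_11
  have h13 : ∀ u < 13000, (fun u => chkTree tab (lidx 0) (lpar 0) (lgi 0) 0 [0, 1, 2, 3, 4, 5, 6, 7, 135, 136, 139] u) u = true := ext_range (a := 12000) (len := 1000) h12 tr0x_12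
  have h14 : ∀ u < 14000, (fun u => chkTree tab (lidx 0) (lpar 0) (lgi 0) 0 [0, 1, 2, 3, 4, 5, 6, 7, 135, 136, 139] u) u = true := ext_range (a := 13000) (len := 1000) h13 tr0x_13
  have h15 : ∀ u < 15000, (fun u => chkTree tab (lidx 0) (lpar 0) (lgi 0) 0 [0, 1, 2, 3, 4, 5, 6, 7, 135, 136, 139] u) u = true := ext_range (a := 14000) (len := 1000) h14 tr0x_14
  have h16 : ∀ u < 16000, (fun u => chkTree tab (lidx 0) (lpar 0) (lgi 0) 0 [0, 1, 2, 3, 4, 5, 6, 7, 135, 136, 139] u) u = true := ext_range (a := 15000) (len := 1000) h15 tr0x_15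
  have h17 : ∀ u < 17000, (fun u => chkTree tab (lidx 0) (lpar 0) (lgi 0) 0 [0, 1, 2, 3, 4, 5, 6, 7, 135, 136, 139] u) u = true := ext_range (a := 16000) (len := 1000) h16 tr0x_16
  have h18 : ∀ u < 18000, (fun u => chkTree tab (lidx 0) (lpar 0) (lgi 0) 0 [0, 1, 2, 3, 4, 5, 6, 7, 135, 136, 139] u) u = true := ext_range (a := 17000) (len := 1000) h17 tr0x_17
  have h19 : ∀ u < 19000, (fun u => chkTree tab (lidx 0) (lpar 0) (lgi 0) 0 [0, 1, 2, 3, 4, 5, 6, 7, 135, 136, 139] u) u = true := ext_range (a := 18000) (len := 1000) h18 tr0x_18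
  have h20 : ∀ u < 20000, (fun u => chkTree tab (lidx 0) (lpar 0) (lgi 0) 0 [0, 1, 2, 3, 4, 5, 6, 7, 135, 136, 139] u) u = true := ext_range (a := 19000) (len := 1000) h19 tr0x_19
  have h21 : ∀ u < 21000, (fun u => chkTree tab (lidx 0) (lpar 0) (lgi 0) 0 [0, 1, 2, 3, 4, 5, 6, 7, 135, 136, 139] u) u = true := ext_range (a := 20000) (len := 1000) h20 tr0x_20
  have h22 : ∀ u < 22000, (fun u => chkTree tab (lidx 0) (lpar 0) (lgi 0) 0 [0, 1, 2, 3, 4, 5, 6, 7, 135, 136, 139] u) u = true := ext_range (a := 21000) (len := 1000) h21 tr0x_21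
  have h23 : ∀ u < 23000, (fun u => chkTree tab (lidx 0) (lpar 0) (lgi 0) 0 [0, 1, 2, 3, 4, 5, 6, 7, 135, 136, 139] u) u = true := ext_range (a := 22000) (len := 1000) h22 tr0x_22
  have h24 : ∀ u < 24000, (fun u => chkTree tab (lidx 0) (lpar 0) (lgi 0) 0 [0, 1, 2, 3, 4, 5, 6, 7, 135, 136, 139] u) u = true := ext_range (a := 23000) (len := 1000) h23 tr0x_23
  have h25 : ∀ u < 25000, (fun u => chkTree tab (lidx 0) (lpar 0) (lgi 0) 0 [0, 1, 2, 3, 4, 5, 6, 7, 135, 136, 139] u) u = true := ext_range (a := 24000) (len := 1000) h24 tr0x_24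
  have h26 : ∀ u < 26000, (fun u => chkTree tab (lidx 0) (lpar 0) (lgi 0) 0 [0, 1, 2, 3, 4, 5, 6, 7, 135, 136, 139] u) u = true := ext_range (a := 25000) (len := 1000) h25 tr0x_25
  have h27 : ∀ u < 27000, (fun u => chkTree tab (lidx 0) (lpar 0) (lgi 0) 0 [0, 1, 2, 3, 4, 5, 6, 7, 135, 136, 139] u) u = true := ext_range (a := 26000) (len := 1000) h26 tr0x_26
  have h28 : ∀ u < 28000, (fun u => chkTree tab (lidx 0) (lpar 0) (lgi 0) 0 [0, 1, 2, 3, 4, 5, 6, 7, 135, 136, 139] u) u = true := ext_range (a := 27000) (len := 1000) h27 tr0x_27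
  have h29 : ∀ u < 29000, (fun u => chkTree tab (lidx 0) (lpar 0) (lgi 0) 0 [0, 1, 2, 3, 4, 5, 6, 7, 135, 136, 139] u) u = true := ext_range (a := 28000) (len := 1000) h28 tr0x_28
  have h30 : ∀ u < 30000, (fun u => chkTree tab (lidx 0) (lpar 0) (lgi 0) 0 [0, 1, 2, 3, 4, 5, 6, 7, 135, 136, 139] u) u = true := ext_range (a := 29000) (len := 1000) h29 tr0x_29
  have h31 : ∀ u < 31000, (fun u => chkTree tab (lidx 0) (lpar 0) (lgi 0) 0 [0, 1, 2, 3, 4, 5, 6, 7, 135, 136, 139] u) u = true := ext_range (a := 30000) (len := 1000) h30 tr0x_30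
  have h32 : ∀ u < 32000, (fun u => chkTree tab (lidx 0) (lpar 0) (lgi 0) 0 [0, 1, 2, 3, 4, 5, 6, 7, 135, 136, 139] u) u = true := ext_range (a := 31000) (len := 1000) h31 tr0x_31
  have h33 : ∀ u < 33000, (fun u => chkTree tab (lidx 0) (lpar 0) (lgi 0) 0 [0, 1, 2, 3, 4, 5, 6, 7, 135, 136, 139] u) u = true := ext_range (a := 32000) (len := 1000) h32 tr0x_32
  have h34 : ∀ u < 34000, (fun u => chkTree tab (lidx 0) (lpar 0) (lgi 0) 0 [0, 1, 2, 3, 4, 5, 6, 7, 135, 136, 139] u) u = true := ext_range (a := 33000) (len := 1000) h33 tr0x_33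
  have h35 : ∀ u < 35000, (fun u => chkTree tab (lidx 0) (lpar 0) (lgi 0) 0 [0, 1, 2, 3, 4, 5, 6, 7, 135, 136, 139] u) u = true := ext_range (a := 34000) (len := 1000) h34 tr0x_34
  have h36 : ∀ u < 36000, (fun u => chkTree tab (lidx 0) (lpar 0) (lgi 0) 0 [0, 1, 2, 3, 4, 5, 6, 7, 135, 136, 139] u) u = true := ext_range (a := 35000) (len := 1000) h35 tr0x_35
  have h37 : ∀ u < 37000, (fun u => chkTree tab (lidx 0) (lpar 0) (lgi 0) 0 [0, 1, 2, 3, 4, 5, 6, 7, 135, 136, 139] u) u = true := ext_range (a := 36000) (len := 1000) h36 tr0x_36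
  have h38 : ∀ u < 38000, (fun u => chkTree tab (lidx 0) (lpar 0) (lgi 0) 0 [0, 1, 2, 3, 4, 5, 6, 7, 135, 136, 139] u) u = true := ext_range (a := 37000) (len := 1000) h37 tr0x_37
  have h39 : ∀ u < 39000, (fun u => chkTree tab (lidx 0) (lpar 0) (lgi 0) 0 [0, 1, 2, 3, 4, 5, 6, 7, 135, 136, 139] u) u = true := ext_range (a := 38000) (len := 1000) h38 tr0x_38
  have h40 : ∀ u < 40000, (fun u => chkTree tab (lidx 0) (lpar 0) (lgi 0) 0 [0, 1, 2, 3, 4, 5, 6, 7, 135, 136, 139] u) u = true := ext_range (a := 39000) (len := 1000) h39 tr0x_39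
  have h41 : ∀ u < 41000, (fun u => chkTree tab (lidx 0) (lpar 0) (lgi 0) 0 [0, 1, 2, 3, 4, 5, 6, 7, 135, 136, 139] u) u = true := ext_range (a := 40000) (len := 1000) h40 tr0x_40
  have h42 : ∀ u < 42000, (fun u => chkTree tab (lidx 0) (lpar 0) (lgi 0) 0 [0, 1, 2, 3, 4, 5, 6, 7, 135, 136, 139] u) u = true := ext_range (a := 41000) (len := 1000) h41 tr0x_41
  have h43 : ∀ u < 43000, (fun u => chkTree tab (lidx 0) (lpar 0) (lgi 0) 0 [0, 1, 2, 3, 4, 5, 6, 7, 135, 136, 139] u) u = true := ext_range (a := 42000) (len := 1000) h42 tr0x_42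
  have h44 : ∀ u < 44000, (fun u => chkTree tab (lidx 0) (lpar 0) (lgi 0) 0 [0, 1, 2, 3, 4, 5, 6, 7, 135, 136, 139] u) u = true := ext_range (a := 43000) (len := 1000) h43 tr0x_43
  have h45 : ∀ u < 45000, (fun u => chkTree tab (lidx 0) (lpar 0) (lgi 0) 0 [0, 1, 2, 3, 4, 5, 6, 7, 135, 136, 139] u) u = true := ext_range (a := 44000) (len := 1000) h44 tr0x_44
  have h46 : ∀ u < 46000, (fun u => chkTree tab (lidx 0) (lpar 0) (lgi 0) 0 [0, 1, 2, 3, 4, 5, 6, 7, 135, 136, 139] u) u = true := ext_range (a := 45000) (len := 1000) h45 tr0x_45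
  have h47 : ∀ u < 47000, (fun u => chkTree tab (lidx 0) (lpar 0) (lgi 0) 0 [0, 1, 2, 3, 4, 5, 6, 7, 135, 136, 139] u) u = true := ext_range (a := 46000) (len := 1000) h46 tr0x_46
  have h48 : ∀ u < 48000, (fun u => chkTree tab (lidx 0) (lpar 0) (lgi 0) 0 [0, 1, 2, 3, 4, 5, 6, 7, 135, 136, 139] u) u = true := ext_range (a := 47000) (len := 1000) h47 tr0x_47
  have h49 : ∀ u < 49000, (fun u => chkTree tab (lidx 0) (lpar 0) (lgi 0) 0 [0, 1, 2, 3, 4, 5, 6, 7, 135, 136, 139] u) u = true := ext_range (a := 48000) (len := 1000) h48 tr0x_48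
  have h50 : ∀ u < 50000, (fun u => chkTree tab (lidx 0) (lpar 0) (lgi 0) 0 [0, 1, 2, 3, 4, 5, 6, 7, 135, 136, 139] u) u = true := ext_range (a := 49000) (len := 1000) h49 tr0x_49
  have h51 : ∀ u < 51000, (fun u => chkTree tab (lidx 0) (lpar 0) (lgi 0) 0 [0, 1, 2, 3, 4, 5, 6, 7, 135, 136, 139] u) u = true := ext_range (a := 50000) (len := 1000) h50 tr0x_50
  have h52 : ∀ u < 52000, (fun u => chkTree tab (lidx 0) (lpar 0) (lgi 0) 0 [0, 1, 2, 3, 4, 5, 6, 7, 135, 136, 139] u) u = true := ext_range (a := 51000) (len := 1000) h51 tr0x_51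
  have h53 : ∀ u < 53000, (fun u => chkTree tab (lidx 0) (lpar 0) (lgi 0) 0 [0, 1, 2, 3, 4, 5, 6, 7, 135, 136, 139] u) u = true := ext_range (a := 52000) (len := 1000) h52 tr0x_52
  have h54 : ∀ u < 54000, (fun u => chkTree tab (lidx 0) (lpar 0) (lgi 0) 0 [0, 1, 2, 3, 4, 5, 6, 7, 135, 136, 139] u) u = true := ext_range (a := 53000) (len := 1000) h53 tr0x_53
  have h55 : ∀ u < 55000, (fun u => chkTree tab (lidx 0) (lpar 0) (lgi 0) 0 [0, 1, 2, 3, 4, 5, 6, 7, 135, 136, 139] u) u = true := ext_range (a := 54000) (len := 1000) h54 tr0x_54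
  have h56 : ∀ u < 56000, (fun u => chkTree tab (lidx 0) (lpar 0) (lgi 0) 0 [0, 1, 2, 3, 4, 5, 6, 7, 135, 136, 139] u) u = true := ext_range (a := 55000) (len := 1000) h55 tr0x_55
  have h57 : ∀ u < 57000, (fun u => chkTree tab (lidx 0) (lpar 0) (lgi 0) 0 [0, 1, 2, 3, 4, 5, 6, 7, 135, 136, 139] u) u = true := ext_range (a := 56000) (len := 1000) h56 tr0x_56
  have h58 : ∀ u < 58000, (fun u => chkTree tab (lidx 0) (lpar 0) (lgi 0) 0 [0, 1, 2, 3, 4, 5, 6, 7, 135, 136, 139] u) u = true := ext_range (a := 57000) (len := 1000) h57 tr0x_57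
  have h59 : ∀ u < 59000, (fun u => chkTree tab (lidx 0) (lpar 0) (lgi 0) 0 [0, 1, 2, 3, 4, 5, 6, 7, 135, 136, 139] u) u = true := ext_range (a := 58000) (len := 1000) h58 tr0x_58
  have h60 : ∀ u < 60000, (fun u => chkTree tab (lidx 0) (lpar 0) (lgi 0) 0 [0, 1, 2, 3, 4, 5, 6, 7, 135, 136, 139] u) u = true := ext_range (a := 59000) (len := 1000) h59 tr0x_59
  have h61 : ∀ u < 61000, (fun u => chkTree tab (lidx 0) (lpar 0) (lgi 0) 0 [0, 1, 2, 3, 4, 5, 6, 7, 135, 136, 139] u) u = true := ext_range (a := 60000) (len := 1000) h60 tr0x_60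
  have h62 : ∀ u < 62000, (fun u => chkTree tab (lidx 0) (lpar 0) (lgi 0) 0 [0, 1, 2, 3, 4, 5, 6, 7, 135, 136, 139] u) u = true := ext_range (a := 61000) (len := 1000) h61 tr0x_61
  have h63 : ∀ u < 63000, (fun u => chkTree tab (lidx 0) (lpar 0) (lgi 0) 0 [0, 1, 2, 3, 4, 5, 6, 7, 135, 136, 139] u) u = true := ext_range (a := 62000) (len := 1000) h62 tr0x_62
  have h64 : ∀ u < 64000, (fun u => chkTree tab (lidx 0) (lpar 0) (lgi 0) 0 [0, 1, 2, 3, 4, 5, 6, 7, 135, 136, 139] u) u = true := ext_range (a := 63000) (len := 1000) h63 tr0x_63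
  have h65 : ∀ u < 65000, (fun u => chkTree tab (lidx 0) (lpar 0) (lgi 0) 0 [0, 1, 2, 3, 4, 5, 6, 7, 135, 136, 139] u) u = true := ext_range (a := 64000) (len := 1000) h64 tr0x_64
  have h66 : ∀ u < 66000, (fun u => chkTree tab (lidx 0) (lpar 0) (lgi 0) 0 [0, 1, 2, 3, 4, 5, 6, 7, 135, 136, 139] u) u = true := ext_range (a := 65000) (len := 1000) h65 tr0x_65
  have h67 : ∀ u < 67000, (fun u => chkTree tab (lidx 0) (lpar 0) (lgi 0) 0 [0, 1, 2, 3, 4, 5, 6, 7, 135, 136, 139] u) u = true := ext_range (a := 66000) (len := 1000) h66 tr0x_66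
  have h68 : ∀ u < 68000, (fun u => chkTree tab (lidx 0) (lpar 0) (lgi 0) 0 [0, 1, 2, 3, 4, 5, 6, 7, 135, 136, 139] u) u = true := ext_range (a := 67000) (len := 1000) h67 tr0x_67
  have h69 : ∀ u < 69000, (fun u => chkTree tab (lidx 0) (lpar 0) (lgi 0) 0 [0, 1, 2, 3, 4, 5, 6, 7, 135, 136, 139] u) u = true := ext_range (a := 68000) (len := 1000) h68 tr0x_68
  have h70 : ∀ u < 70000, (fun u => chkTree tab (lidx 0) (lpar 0) (lgi 0) 0 [0, 1, 2, 3, 4, 5, 6, 7, 135, 136, 139] u) u = true := ext_range (a := 69000) (len := 1000) h69 tr0x_69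
  have h71 : ∀ u < 71000, (fun u => chkTree tab (lidx 0) (lpar 0) (lgi 0) 0 [0, 1, 2, 3, 4, 5, 6, 7, 135, 136, 139] u) u = true := ext_range (a := 70000) (len := 1000) h70 tr0x_70
  have h72 : ∀ u < 72000, (fun u => chkTree tab (lidx 0) (lpar 0) (lgi 0) 0 [0, 1, 2, 3, 4, 5, 6, 7, 135, 136, 139] u) u = true := ext_range (a := 71000) (len := 1000) h71 tr0x_71
  have h73 : ∀ u < 73000, (fun u => chkTree tab (lidx 0) (lpar 0) (lgi 0) 0 [0, 1, 2, 3, 4, 5, 6, 7, 135, 136, 139] u) u = true := ext_range (a := 72000) (len := 1000) h72 tr0x_72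
  have h74 : ∀ u < 74000, (fun u => chkTree tab (lidx 0) (lpar 0) (lgi 0) 0 [0, 1, 2, 3, 4, 5, 6, 7, 135, 136, 139] u) u = true := ext_range (a := 73000) (len := 1000) h73 tr0x_73
  have h75 : ∀ u < 75000, (fun u => chkTree tab (lidx 0) (lpar 0) (lgi 0) 0 [0, 1, 2, 3, 4, 5, 6, 7, 135, 136, 139] u) u = true := ext_range (a := 74000) (len := 1000) h74 tr0x_74
  have h76 : ∀ u < 76000, (fun u => chkTree tab (lidx 0) (lpar 0) (lgi 0) 0 [0, 1, 2, 3, 4, 5, 6, 7, 135, 136, 139] u) u = true := ext_range (a := 75000) (len := 1000) h75 tr0x_75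
  have h77 : ∀ u < 77000, (fun u => chkTree tab (lidx 0) (lpar 0) (lgi 0) 0 [0, 1, 2, 3, 4, 5, 6, 7, 135, 136, 139] u) u = true := ext_range (a := 76000) (len := 1000) h76 tr0x_76
  have h78 : ∀ u < 78000, (fun u => chkTree tab (lidx 0) (lpar 0) (lgi 0) 0 [0, 1, 2, 3, 4, 5, 6, 7, 135, 136, 139] u) u = true := ext_range (a := 77000) (len := 1000) h77 tr0x_77
  have h79 : ∀ u < 79000, (fun u => chkTree tab (lidx 0) (lpar 0) (lgi 0) 0 [0, 1, 2, 3, 4, 5, 6, 7, 135, 136, 139] u) u = true := ext_range (a := 78000) (len := 1000) h78 tr0x_78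
  have h80 : ∀ u < 80000, (fun u => chkTree tab (lidx 0) (lpar 0) (lgi 0) 0 [0, 1, 2, 3, 4, 5, 6, 7, 135, 136, 139] u) u = true := ext_range (a := 79000) (len := 1000) h79 tr0x_79
  have h81 : ∀ u < 81000, (fun u => chkTree tab (lidx 0) (lpar 0) (lgi 0) 0 [0, 1, 2, 3, 4, 5, 6, 7, 135, 136, 139] u) u = true := ext_range (a := 80000) (len := 1000) h80 tr0x_80
  have h82 : ∀ u < 82000, (fun u => chkTree tab (lidx 0) (lpar 0) (lgi 0) 0 [0, 1, 2, 3, 4, 5, 6, 7, 135, 136, 139] u) u = true := ext_range (a := 81000) (len := 1000) h81 tr0x_81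
  have h83 : ∀ u < 83000, (fun u => chkTree tab (lidx 0) (lpar 0) (lgi 0) 0 [0, 1, 2, 3, 4, 5, 6, 7, 135, 136, 139] u) u = true := ext_range (a := 82000) (len := 1000) h82 tr0x_82
  have h84 : ∀ u < 84000, (fun u => chkTree tab (lidx 0) (lpar 0) (lgi 0) 0 [0, 1, 2, 3, 4, 5, 6, 7, 135, 136, 139] u) u = true := ext_range (a := 83000) (len := 1000) h83 tr0x_83
  have h85 : ∀ u < 85000, (fun u => chkTree tab (lidx 0) (lpar 0) (lgi 0) 0 [0, 1, 2, 3, 4, 5, 6, 7, 135, 136, 139] u) u = true := ext_range (a := 84000) (len := 1000) h84 tr0x_84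
  have h86 : ∀ u < 86000, (fun u => chkTree tab (lidx 0) (lpar 0) (lgi 0) 0 [0, 1, 2, 3, 4, 5, 6, 7, 135, 136, 139] u) u = true := ext_range (a := 85000) (len := 1000) h85 tr0x_85
  have h87 : ∀ u < 87000, (fun u => chkTree tab (lidx 0) (lpar 0) (lgi 0) 0 [0, 1, 2, 3, 4, 5, 6, 7, 135, 136, 139] u) u = true := ext_range (a := 86000) (len := 1000) h86 tr0x_86
  have h88 : ∀ u < 88000, (fun u => chkTree tab (lidx 0) (lpar 0) (lgi 0) 0 [0, 1, 2, 3, 4, 5, 6, 7, 135, 136, 139] u) u = true := ext_range (a := 87000) (len := 1000) h87 tr0x_87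
  have h89 : ∀ u < 89000, (fun u => chkTree tab (lidx 0) (lpar 0) (lgi 0) 0 [0, 1, 2, 3, 4, 5, 6, 7, 135, 136, 139] u) u = true := ext_range (a := 88000) (len := 1000) h88 tr0x_88
  have h90 : ∀ u < 90000, (fun u => chkTree tab (lidx 0) (lpar 0) (lgi 0) 0 [0, 1, 2, 3, 4, 5, 6, 7, 135, 136, 139] u) u = true := ext_range (a := 89000) (len := 1000) h89 tr0x_89
  have h91 : ∀ u < 91000, (fun u => chkTree tab (lidx 0) (lpar 0) (lgi 0) 0 [0, 1, 2, 3, 4, 5, 6, 7, 135, 136, 139] u) u = true := ext_range (a := 90000) (len := 1000) h90 tr0x_90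
  have h92 : ∀ u < 92000, (fun u => chkTree tab (lidx 0) (lpar 0) (lgi 0) 0 [0, 1, 2, 3, 4, 5, 6, 7, 135, 136, 139] u) u = true := ext_range (a := 91000) (len := 1000) h91 tr0x_91
  have h93 : ∀ u < 93000, (fun u => chkTree tab (lidx 0) (lpar 0) (lgi 0) 0 [0, 1, 2, 3, 4, 5, 6, 7, 135, 136, 139] u) u = true := ext_range (a := 92000) (len := 1000) h92 tr0x_92
  have h94 : ∀ u < 94000, (fun u => chkTree tab (lidx 0) (lpar 0) (lgi 0) 0 [0, 1, 2, 3, 4, 5, 6, 7, 135, 136, 139] u) u = true := ext_range (a := 93000) (len := 1000) h93 tr0x_93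
  have h95 : ∀ u < 95000, (fun u => chkTree tab (lidx 0) (lpar 0) (lgi 0) 0 [0, 1, 2, 3, 4, 5, 6, 7, 135, 136, 139] u) u = true := ext_range (a := 94000) (len := 1000) h94 tr0x_94
  have h96 : ∀ u < 96000, (fun u => chkTree tab (lidx 0) (lpar 0) (lgi 0) 0 [0, 1, 2, 3, 4, 5, 6, 7, 135, 136, 139] u) u = true := ext_range (a := 95000) (len := 1000) h95 tr0x_95
  have h97 : ∀ u < 97000, (fun u => chkTree tab (lidx 0) (lpar 0) (lgi 0) 0 [0, 1, 2, 3, 4, 5, 6, 7, 135, 136, 139] u) u = true := ext_range (a := 96000) (len := 1000) h96 tr0x_96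
  have h98 : ∀ u < 98000, (fun u => chkTree tab (lidx 0) (lpar 0) (lgi 0) 0 [0, 1, 2, 3, 4, 5, 6, 7, 135, 136, 139] u) u = true := ext_range (a := 97000) (len := 1000) h97 tr0x_97
  have h99 : ∀ u < 99000, (fun u => chkTree tab (lidx 0) (lpar 0) (lgi 0) 0 [0, 1, 2, 3, 4, 5, 6, 7, 135, 136, 139] u) u = true := ext_range (a := 98000) (len := 1000) h98 tr0x_98
  have h100 : ∀ u < 100000, (fun u => chkTree tab (lidx 0) (lpar 0) (lgi 0) 0 [0, 1, 2, 3, 4, 5, 6, 7, 135, 136, 139] u) u = true := ext_range (a := 99000) (len := 1000) h99 tr0x_99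
  have h101 : ∀ u < 101000, (fun u => chkTree tab (lidx 0) (lpar 0) (lgi 0) 0 [0, 1, 2, 3, 4, 5, 6, 7, 135, 136, 139] u) u = true := ext_range (a := 100000) (len := 1000) h100 tr0x_100
  have h102 : ∀ u < 102000, (fun u => chkTree tab (lidx 0) (lpar 0) (lgi 0) 0 [0, 1, 2, 3, 4, 5, 6, 7, 135, 136, 139] u) u = true := ext_range (a := 101000) (len := 1000) h101 tr0x_101
  have h103 : ∀ u < 103000, (fun u => chkTree tab (lidx 0) (lpar 0) (lgi 0) 0 [0, 1, 2, 3, 4, 5, 6, 7, 135, 136, 139] u) u = true := ext_range (a := 102000) (len := 1000) h102 tr0x_102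
  have h104 : ∀ u < 104000, (fun u => chkTree tab (lidx 0) (lpar 0) (lgi 0) 0 [0, 1, 2, 3, 4, 5, 6, 7, 135, 136, 139] u) u = true := ext_range (a := 103000) (len := 1000) h103 tr0x_103
  have h105 : ∀ u < 105000, (fun u => chkTree tab (lidx 0) (lpar 0) (lgi 0) 0 [0, 1, 2, 3, 4, 5, 6, 7, 135, 136, 139] u) u = true := ext_range (a := 104000) (len := 1000) h104 tr0x_104
  have h106 : ∀ u < 106000, (fun u => chkTree tab (lidx 0) (lpar 0) (lgi 0) 0 [0, 1, 2, 3, 4, 5, 6, 7, 135, 136, 139] u) u = true := ext_range (a := 105000) (len := 1000) h105 tr0x_105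
  have h107 : ∀ u < 107000, (fun u => chkTree tab (lidx 0) (lpar 0) (lgi 0) 0 [0, 1, 2, 3, 4, 5, 6, 7, 135, 136, 139] u) u = true := ext_range (a := 106000) (len := 1000) h106 tr0x_106
  have h108 : ∀ u < 108000, (fun u => chkTree tab (lidx 0) (lpar 0) (lgi 0) 0 [0, 1, 2, 3, 4, 5, 6, 7, 135, 136, 139] u) u = true := ext_range (a := 107000) (len := 1000) h107 tr0x_107
  have h109 : ∀ u < 109000, (fun u => chkTree tab (lidx 0) (lpar 0) (lgi 0) 0 [0, 1, 2, 3, 4, 5, 6, 7, 135, 136, 139] u) u = true := ext_range (a := 108000) (len := 1000) h108 tr0x_108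
  have h110 : ∀ u < 110000, (fun u => chkTree tab (lidx 0) (lpar 0) (lgi 0) 0 [0, 1, 2, 3, 4, 5, 6, 7, 135, 136, 139] u) u = true := ext_range (a := 109000) (len := 1000) h109 tr0x_109
  have h111 : ∀ u < 111000, (fun u => chkTree tab (lidx 0) (lpar 0) (lgi 0) 0 [0, 1, 2, 3, 4, 5, 6, 7, 135, 136, 139] u) u = true := ext_range (a := 110000) (len := 1000) h110 tr0x_110
  have h112 : ∀ u < 112000, (fun u => chkTree tab (lidx 0) (lpar 0) (lgi 0) 0 [0, 1, 2, 3, 4, 5, 6, 7, 135, 136, 139] u) u = true := ext_range (a := 111000) (len := 1000) h111 tr0x_111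
  have h113 : ∀ u < 113000, (fun u => chkTree tab (lidx 0) (lpar 0) (lgi 0) 0 [0, 1, 2, 3, 4, 5, 6, 7, 135, 136, 139] u) u = true := ext_range (a := 112000) (len := 1000) h112 tr0x_112
  have h114 : ∀ u < 114000, (fun u => chkTree tab (lidx 0) (lpar 0) (lgi 0) 0 [0, 1, 2, 3, 4, 5, 6, 7, 135, 136, 139] u) u = true := ext_range (a := 113000) (len := 1000) h113 tr0x_113
  have h115 : ∀ u < 115000, (fun u => chkTree tab (lidx 0) (lpar 0) (lgi 0) 0 [0, 1, 2, 3, 4, 5, 6, 7, 135, 136, 139] u) u = true := ext_range (a := 114000) (len := 1000) h114 tr0x_114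
  have h116 : ∀ u < 116000, (fun u => chkTree tab (lidx 0) (lpar 0) (lgi 0) 0 [0, 1, 2, 3, 4, 5, 6, 7, 135, 136, 139] u) u = true := ext_range (a := 115000) (len := 1000) h115 tr0x_115
  have h117 : ∀ u < 117000, (fun u => chkTree tab (lidx 0) (lpar 0) (lgi 0) 0 [0, 1, 2, 3, 4, 5, 6, 7, 135, 136, 139] u) u = true := ext_range (a := 116000) (len := 1000) h116 tr0x_116
  have h118 : ∀ u < 118000, (fun u => chkTree tab (lidx 0) (lpar 0) (lgi 0) 0 [0, 1, 2, 3, 4, 5, 6, 7, 135, 136, 139] u) u = true := ext_range (a := 117000) (len := 1000) h117 tr0x_117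
  have h119 : ∀ u < 119000, (fun u => chkTree tab (lidx 0) (lpar 0) (lgi 0) 0 [0, 1, 2, 3, 4, 5, 6, 7, 135, 136, 139] u) u = true := ext_range (a := 118000) (len := 1000) h118 tr0x_118
  have h120 : ∀ u < 120000, (fun u => chkTree tab (lidx 0) (lpar 0) (lgi 0) 0 [0, 1, 2, 3, 4, 5, 6, 7, 135, 136, 139] u) u = true := ext_range (a := 119000) (len := 1000) h119 tr0x_119
  have h121 : ∀ u < 121000, (fun u => chkTree tab (lidx 0) (lpar 0) (lgi 0) 0 [0, 1, 2, 3, 4, 5, 6, 7, 135, 136, 139] u) u = true := ext_range (a := 120000) (len := 1000) h120 tr0x_120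
  have h122 : ∀ u < 122000, (fun u => chkTree tab (lidx 0) (lpar 0) (lgi 0) 0 [0, 1, 2, 3, 4, 5, 6, 7, 135, 136, 139] u) u = true := ext_range (a := 121000) (len := 1000) h121 tr0x_121
  have h123 : ∀ u < 122760, (fun u => chkTree tab (lidx 0) (lpar 0) (lgi 0) 0 [0, 1, 2, 3, 4, 5, 6, 7, 135, 136, 139] u) u = true := ext_range (a := 122000) (len := 760) h122 tr0x_122
  exact h123

theorem hT1 : ∀ u < 122760, chkTree tab (lidx 1) (lpar 1) (lgi 1) 1 [2, 3, 4, 5, 6, 7, 135, 136, 139] u = true := by
  have h0 : ∀ u < 0, (fun u => chkTree tab (lidx 1) (lpar 1) (lgi 1) 1 [2, 3, 4, 5, 6, 7, 135, 136, 139] u) u = true := range_zero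
  have h1 : ∀ u < 1000, (fun u => chkTree tab (lidx 1) (lpar 1) (lgi 1) 1 [2, 3, 4, 5, 6, 7, 135, 136, 139] u) u = true := ext_range (a := 0) (len := 1000) h0 tr1x_0
  have h2 : ∀ u < 2000, (fun u => chkTree tab (lidx 1) (lpar 1) (lgi 1) 1 [2, 3, 4, 5, 6, 7, 135, 136, 139] u) u = true := ext_range (a := 1000) (len := 1000) h1 tr1x_1
  have h3 : ∀ u < 3000, (fun u => chkTree tab (lidx 1) (lpar 1) (lgi 1) 1 [2, 3, 4, 5, 6, 7, 135, 136, 139] u) u = true := ext_range (a := 2000) (len := 1000) h2 tr1x_2
  have h4 : ∀ u < 4000, (fun u => chkTree tab (lidx 1) (lpar 1) (lgi 1) 1 [2, 3, 4, 5, 6, 7, 135, 136, 139] u) u = true := ext_range (a := 3000) (len := 1000) h3 tr1x_3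
  have h5 : ∀ u < 5000, (fun u => chkTree tab (lidx 1) (lpar 1) (lgi 1) 1 [2, 3, 4, 5, 6, 7, 135, 136, 139] u) u = true := ext_range (a := 4000) (len := 1000) h4 tr1x_4
  have h6 : ∀ u < 6000, (fun u => chkTree tab (lidx 1) (lpar 1) (lgi 1) 1 [2, 3, 4, 5, 6, 7, 135, 136, 139] u) u = true := ext_range (a := 5000) (len := 1000) h5 tr1x_5
  have h7 : ∀ u < 7000, (fun u => chkTree tab (lidx 1) (lpar 1) (lgi 1) 1 [2, 3, 4, 5, 6, 7, 135, 136, 139] u) u = true := ext_range (a := 6000) (len := 1000) h6 tr1x_6
  have h8 : ∀ u < 8000, (fun u => chkTree tab (lidx 1) (lpar 1) (lgi 1) 1 [2, 3, 4, 5, 6, 7, 135, 136, 139] u) u = true := ext_range (a := 7000) (len := 1000) h7 tr1x_7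
  have h9 : ∀ u < 9000, (fun u => chkTree tab (lidx 1) (lpar 1) (lgi 1) 1 [2, 3, 4, 5, 6, 7, 135, 136, 139] u) u = true := ext_range (a := 8000) (len := 1000) h8 tr1x_8
  have h10 : ∀ u < 10000, (fun u => chkTree tab (lidx 1) (lpar 1) (lgi 1) 1 [2, 3, 4, 5, 6, 7, 135, 136, 139] u) u = true := ext_range (a := 9000) (len := 1000) h9 tr1x_9
  have h11 : ∀ u < 11000, (fun u => chkTree tab (lidx 1) (lpar 1) (lgi 1) 1 [2, 3, 4, 5, 6, 7, 135, 136, 139] u) u = true := ext_range (a := 10000) (len := 1000) h10 tr1x_10
  have h12 : ∀ u < 12000, (fun u => chkTree tab (lidx 1) (lpar 1) (lgi 1) 1 [2, 3, 4, 5, 6, 7, 135, 136, 139] u) u = true := ext_range (a := 11000) (len := 1000) h11 tr1x_11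
  have h13 : ∀ u < 13000, (fun u => chkTree tab (lidx 1) (lpar 1) (lgi 1) 1 [2, 3, 4, 5, 6, 7, 135, 136, 139] u) u = true := ext_range (a := 12000) (len := 1000) h12 tr1x_12
  have h14 : ∀ u < 14000, (fun u => chkTree tab (lidx 1) (lpar 1) (lgi 1) 1 [2, 3, 4, 5, 6, 7, 135, 136, 139] u) u = true := ext_range (a := 13000) (len := 1000) h13 tr1x_13
  have h15 : ∀ u < 15000, (fun u => chkTree tab (lidx 1) (lpar 1) (lgi 1) 1 [2, 3, 4, 5, 6, 7, 135, 136, 139] u) u = true := ext_range (a := 14000) (len := 1000) h14 tr1x_14
  have h16 : ∀ u < 16000, (fun u => chkTree tab (lidx 1) (lpar 1) (lgi 1) 1 [2, 3, 4, 5, 6, 7, 135, 136, 139] u) u = true := ext_range (a := 15000) (len := 1000) h15 tr1x_15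
  have h17 : ∀ u < 17000, (fun u => chkTree tab (lidx 1) (lpar 1) (lgi 1) 1 [2, 3, 4, 5, 6, 7, 135, 136, 139] u) u = true := ext_range (a := 16000) (len := 1000) h16 tr1x_16
  have h18 : ∀ u < 18000, (fun u => chkTree tab (lidx 1) (lpar 1) (lgi 1) 1 [2, 3, 4, 5, 6, 7, 135, 136, 139] u) u = true := ext_range (a := 17000) (len := 1000) h17 tr1x_17
  have h19 : ∀ u < 19000, (fun u => chkTree tab (lidx 1) (lpar 1) (lgi 1) 1 [2, 3, 4, 5, 6, 7, 135, 136, 139] u) u = true := ext_range (a := 18000) (len := 1000) h18 tr1x_18
  have h20 : ∀ u < 20000, (fun u => chkTree tab (lidx 1) (lpar 1) (lgi 1) 1 [2, 3, 4, 5, 6, 7, 135, 136, 139] u) u = true := ext_range (a := 19000) (len := 1000) h19 tr1x_19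
  have h21 : ∀ u < 21000, (fun u => chkTree tab (lidx 1) (lpar 1) (lgi 1) 1 [2, 3, 4, 5, 6, 7, 135, 136, 139] u) u = true := ext_range (a := 20000) (len := 1000) h20 tr1x_20
  have h22 : ∀ u < 22000, (fun u => chkTree tab (lidx 1) (lpar 1) (lgi 1) 1 [2, 3, 4, 5, 6, 7, 135, 136, 139] u) u = true := ext_range (a := 21000) (len := 1000) h21 tr1x_21
  have h23 : ∀ u < 23000, (fun u => chkTree tab (lidx 1) (lpar 1) (lgi 1) 1 [2, 3, 4, 5, 6, 7, 135, 136, 139] u) u = true := ext_range (a := 22000) (len := 1000) h22 tr1x_22
  have h24 : ∀ u < 24000, (fun u => chkTree tab (lidx 1) (lpar 1) (lgi 1) 1 [2, 3, 4, 5, 6, 7, 135, 136, 139] u) u = true := ext_range (a := 23000) (len := 1000) h23 tr1x_23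
  have h25 : ∀ u < 25000, (fun u => chkTree tab (lidx 1) (lpar 1) (lgi 1) 1 [2, 3, 4, 5, 6, 7, 135, 136, 139] u) u = true := ext_range (a := 24000) (len := 1000) h24 tr1x_24
  have h26 : ∀ u < 26000, (fun u => chkTree tab (lidx 1) (lpar 1) (lgi 1) 1 [2, 3, 4, 5, 6, 7, 135, 136, 139] u) u = true := ext_range (a := 25000) (len := 1000) h25 tr1x_25
  have h27 : ∀ u < 27000, (fun u => chkTree tab (lidx 1) (lpar 1) (lgi 1) 1 [2, 3, 4, 5, 6, 7, 135, 136, 139] u) u = true := ext_range (a := 26000) (len := 1000) h26 tr1x_26
  have h28 : ∀ u < 28000, (fun u => chkTree tab (lidx 1) (lpar 1) (lgi 1) 1 [2, 3, 4, 5, 6, 7, 135, 136, 139] u) u = true := ext_range (a := 27000) (len := 1000) h27 tr1x_27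
  have h29 : ∀ u < 29000, (fun u => chkTree tab (lidx 1) (lpar 1) (lgi 1) 1 [2, 3, 4, 5, 6, 7, 135, 136, 139] u) u = true := ext_range (a := 28000) (len := 1000) h28 tr1x_28
  have h30 : ∀ u < 30000, (fun u => chkTree tab (lidx 1) (lpar 1) (lgi 1) 1 [2, 3, 4, 5, 6, 7, 135, 136, 139] u) u = true := ext_range (a := 29000) (len := 1000) h29 tr1x_29
  have h31 : ∀ u < 31000, (fun u => chkTree tab (lidx 1) (lpar 1) (lgi 1) 1 [2, 3, 4, 5, 6, 7, 135, 136, 139] u) u = true := ext_range (a := 30000) (len := 1000) h30 tr1x_30
  have h32 : ∀ u < 32000, (fun u => chkTree tab (lidx 1) (lpar 1) (lgi 1) 1 [2, 3, 4, 5, 6, 7, 135, 136, 139] u) u = true := ext_range (a := 31000) (len := 1000) h31 tr1x_31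
  have h33 : ∀ u < 33000, (fun u => chkTree tab (lidx 1) (lpar 1) (lgi 1) 1 [2, 3, 4, 5, 6, 7, 135, 136, 139] u) u = true := ext_range (a := 32000) (len := 1000) h32 tr1x_32
  have h34 : ∀ u < 34000, (fun u => chkTree tab (lidx 1) (lpar 1) (lgi 1) 1 [2, 3, 4, 5, 6, 7, 135, 136, 139] u) u = true := ext_range (a := 33000) (len := 1000) h33 tr1x_33
  have h35 : ∀ u < 35000, (fun u => chkTree tab (lidx 1) (lpar 1) (lgi 1) 1 [2, 3, 4, 5, 6, 7, 135, 136, 139] u) u = true := ext_range (a := 34000) (len := 1000) h34 tr1x_34
  have h36 : ∀ u < 36000, (fun u => chkTree tab (lidx 1) (lpar 1) (lgi 1) 1 [2, 3, 4, 5, 6, 7, 135, 136, 139] u) u = true := ext_range (a := 35000) (len := 1000) h35 tr1x_35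
  have h37 : ∀ u < 37000, (fun u => chkTree tab (lidx 1) (lpar 1) (lgi 1) 1 [2, 3, 4, 5, 6, 7, 135, 136, 139] u) u = true := ext_range (a := 36000) (len := 1000) h36 tr1x_36
  have h38 : ∀ u < 38000, (fun u => chkTree tab (lidx 1) (lpar 1) (lgi 1) 1 [2, 3, 4, 5, 6, 7, 135, 136, 139] u) u = true := ext_range (a := 37000) (len := 1000) h37 tr1x_37
  have h39 : ∀ u < 39000, (fun u => chkTree tab (lidx 1) (lpar 1) (lgi 1) 1 [2, 3, 4, 5, 6, 7, 135, 136, 139] u) u = true := ext_range (a := 38000) (len := 1000) h38 tr1x_38
  have h40 : ∀ u < 40000, (fun u => chkTree tab (lidx 1) (lpar 1) (lgi 1) 1 [2, 3, 4, 5, 6, 7, 135, 136, 139] u) u = true := ext_range (a := 39000) (len := 1000) h39 tr1x_39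
  have h41 : ∀ u < 41000, (fun u => chkTree tab (lidx 1) (lpar 1) (lgi 1) 1 [2, 3, 4, 5, 6, 7, 135, 136, 139] u) u = true := ext_range (a := 40000) (len := 1000) h40 tr1x_40
  have h42 : ∀ u < 42000, (fun u => chkTree tab (lidx 1) (lpar 1) (lgi 1) 1 [2, 3, 4, 5, 6, 7, 135, 136, 139] u) u = true := ext_range (a := 41000) (len := 1000) h41 tr1x_41
  have h43 : ∀ u < 43000, (fun u => chkTree tab (lidx 1) (lpar 1) (lgi 1) 1 [2, 3, 4, 5, 6, 7, 135, 136, 139] u) u = true := ext_range (a := 42000) (len := 1000) h42 tr1x_42
  have h44 : ∀ u < 44000, (fun u => chkTree tab (lidx 1) (lpar 1) (lgi 1) 1 [2, 3, 4, 5, 6, 7, 135, 136, 139] u) u = true := ext_range (a := 43000) (len := 1000) h43 tr1x_43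
  have h45 : ∀ u < 45000, (fun u => chkTree tab (lidx 1) (lpar 1) (lgi 1) 1 [2, 3, 4, 5, 6, 7, 135, 136, 139] u) u = true := ext_range (a := 44000) (len := 1000) h44 tr1x_44
  have h46 : ∀ u < 46000, (fun u => chkTree tab (lidx 1) (lpar 1) (lgi 1) 1 [2, 3, 4, 5, 6, 7, 135, 136, 139] u) u = true := ext_range (a := 45000) (len := 1000) h45 tr1x_45
  have h47 : ∀ u < 47000, (fun u => chkTree tab (lidx 1) (lpar 1) (lgi 1) 1 [2, 3, 4, 5, 6, 7, 135, 136, 139] u) u = true := ext_range (a := 46000) (len := 1000) h46 tr1x_46
  have h48 : ∀ u < 48000, (fun u => chkTree tab (lidx 1) (lpar 1) (lgi 1) 1 [2, 3, 4, 5, 6, 7, 135, 136, 139] u) u = true := ext_range (a := 47000) (len := 1000) h47 tr1x_47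
  have h49 : ∀ u < 49000, (fun u => chkTree tab (lidx 1) (lpar 1) (lgi 1) 1 [2, 3, 4, 5, 6, 7, 135, 136, 139] u) u = true := ext_range (a := 48000) (len := 1000) h48 tr1x_48
  have h50 : ∀ u < 50000, (fun u => chkTree tab (lidx 1) (lpar 1) (lgi 1) 1 [2, 3, 4, 5, 6, 7, 135, 136, 139] u) u = true := ext_range (a := 49000) (len := 1000) h49 tr1x_49
  have h51 : ∀ u < 51000, (fun u => chkTree tab (lidx 1) (lpar 1) (lgi 1) 1 [2, 3, 4, 5, 6, 7, 135, 136, 139] u) u = true := ext_range (a := 50000) (len := 1000) h50 tr1x_50
  have h52 : ∀ u < 52000, (fun u => chkTree tab (lidx 1) (lpar 1) (lgi 1) 1 [2, 3, 4, 5, 6, 7, 135, 136, 139] u) u = true := ext_range (a := 51000) (len := 1000) h51 tr1x_51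
  have h53 : ∀ u < 53000, (fun u => chkTree tab (lidx 1) (lpar 1) (lgi 1) 1 [2, 3, 4, 5, 6, 7, 135, 136, 139] u) u = true := ext_range (a := 52000) (len := 1000) h52 tr1x_52
  have h54 : ∀ u < 54000, (fun u => chkTree tab (lidx 1) (lpar 1) (lgi 1) 1 [2, 3, 4, 5, 6, 7, 135, 136, 139] u) u = true := ext_range (a := 53000) (len := 1000) h53 tr1x_53
  have h55 : ∀ u < 55000, (fun u => chkTree tab (lidx 1) (lpar 1) (lgi 1) 1 [2, 3, 4, 5, 6, 7, 135, 136, 139] u) u = true := ext_range (a := 54000) (len := 1000) h54 tr1x_54
  have h56 : ∀ u < 56000, (fun u => chkTree tab (lidx 1) (lpar 1) (lgi 1) 1 [2, 3, 4, 5, 6, 7, 135, 136, 139] u) u = true := ext_range (a := 55000) (len := 1000) h55 tr1x_55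
  have h57 : ∀ u < 57000, (fun u => chkTree tab (lidx 1) (lpar 1) (lgi 1) 1 [2, 3, 4, 5, 6, 7, 135, 136, 139] u) u = true := ext_range (a := 56000) (len := 1000) h56 tr1x_56
  have h58 : ∀ u < 58000, (fun u => chkTree tab (lidx 1) (lpar 1) (lgi 1) 1 [2, 3, 4, 5, 6, 7, 135, 136, 139] u) u = true := ext_range (a := 57000) (len := 1000) h57 tr1x_57
  have h59 : ∀ u < 59000, (fun u => chkTree tab (lidx 1) (lpar 1) (lgi 1) 1 [2, 3, 4, 5, 6, 7, 135, 136, 139] u) u = true := ext_range (a := 58000) (len := 1000) h58 tr1x_58
  have h60 : ∀ u < 60000, (fun u => chkTree tab (lidx 1) (lpar 1) (lgi 1) 1 [2, 3, 4, 5, 6, 7, 135, 136, 139] u) u = true := ext_range (a := 59000) (len := 1000) h59 tr1x_59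
  have h61 : ∀ u < 61000, (fun u => chkTree tab (lidx 1) (lpar 1) (lgi 1) 1 [2, 3, 4, 5, 6, 7, 135, 136, 139] u) u = true := ext_range (a := 60000) (len := 1000) h60 tr1x_60
  have h62 : ∀ u < 62000, (fun u => chkTree tab (lidx 1) (lpar 1) (lgi 1) 1 [2, 3, 4, 5, 6, 7, 135, 136, 139] u) u = true := ext_range (a := 61000) (len := 1000) h61 tr1x_61
  have h63 : ∀ u < 63000, (fun u => chkTree tab (lidx 1) (lpar 1) (lgi 1) 1 [2, 3, 4, 5, 6, 7, 135, 136, 139] u) u = true := ext_range (a := 62000) (len := 1000) h62 tr1x_62
  have h64 : ∀ u < 64000, (fun u => chkTree tab (lidx 1) (lpar 1) (lgi 1) 1 [2, 3, 4, 5, 6, 7, 135, 136, 139] u) u = true := ext_range (a := 63000) (len := 1000) h63 tr1x_63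
  have h65 : ∀ u < 65000, (fun u => chkTree tab (lidx 1) (lpar 1) (lgi 1) 1 [2, 3, 4, 5, 6, 7, 135, 136, 139] u) u = true := ext_range (a := 64000) (len := 1000) h64 tr1x_64
  have h66 : ∀ u < 66000, (fun u => chkTree tab (lidx 1) (lpar 1) (lgi 1) 1 [2, 3, 4, 5, 6, 7, 135, 136, 139] u) u = true := ext_range (a := 65000) (len := 1000) h65 tr1x_65
  have h67 : ∀ u < 67000, (fun u => chkTree tab (lidx 1) (lpar 1) (lgi 1) 1 [2, 3, 4, 5, 6, 7, 135, 136, 139] u) u = true := ext_range (a := 66000) (len := 1000) h66 tr1x_66
  have h68 : ∀ u < 68000, (fun u => chkTree tab (lidx 1) (lpar 1) (lgi 1) 1 [2, 3, 4, 5, 6, 7, 135, 136, 139] u) u = true := ext_range (a := 67000) (len := 1000) h67 tr1x_67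
  have h69 : ∀ u < 69000, (fun u => chkTree tab (lidx 1) (lpar 1) (lgi 1) 1 [2, 3, 4, 5, 6, 7, 135, 136, 139] u) u = true := ext_range (a := 68000) (len := 1000) h68 tr1x_68
  have h70 : ∀ u < 70000, (fun u => chkTree tab (lidx 1) (lpar 1) (lgi 1) 1 [2, 3, 4, 5, 6, 7, 135, 136, 139] u) u = true := ext_range (a := 69000) (len := 1000) h69 tr1x_69
  have h71 : ∀ u < 71000, (fun u => chkTree tab (lidx 1) (lpar 1) (lgi 1) 1 [2, 3, 4, 5, 6, 7, 135, 136, 139] u) u = true := ext_range (a := 70000) (len := 1000) h70 tr1x_70
  have h72 : ∀ u < 72000, (fun u => chkTree tab (lidx 1) (lpar 1) (lgi 1) 1 [2, 3, 4, 5, 6, 7, 135, 136, 139] u) u = true := ext_range (a := 71000) (len := 1000) h71 tr1x_71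
  have h73 : ∀ u < 73000, (fun u => chkTree tab (lidx 1) (lpar 1) (lgi 1) 1 [2, 3, 4, 5, 6, 7, 135, 136, 139] u) u = true := ext_range (a := 72000) (len := 1000) h72 tr1x_72
  have h74 : ∀ u < 74000, (fun u => chkTree tab (lidx 1) (lpar 1) (lgi 1) 1 [2, 3, 4, 5, 6, 7, 135, 136, 139] u) u = true := ext_range (a := 73000) (len := 1000) h73 tr1x_73
  have h75 : ∀ u < 75000, (fun u => chkTree tab (lidx 1) (lpar 1) (lgi 1) 1 [2, 3, 4, 5, 6, 7, 135, 136, 139] u) u = true := ext_range (a := 74000) (len := 1000) h74 tr1x_74
  have h76 : ∀ u < 76000, (fun u => chkTree tab (lidx 1) (lpar 1) (lgi 1) 1 [2, 3, 4, 5, 6, 7, 135, 136, 139] u) u = true := ext_range (a := 75000) (len := 1000) h75 tr1x_75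
  have h77 : ∀ u < 77000, (fun u => chkTree tab (lidx 1) (lpar 1) (lgi 1) 1 [2, 3, 4, 5, 6, 7, 135, 136, 139] u) u = true := ext_range (a := 76000) (len := 1000) h76 tr1x_76
  have h78 : ∀ u < 78000, (fun u => chkTree tab (lidx 1) (lpar 1) (lgi 1) 1 [2, 3, 4, 5, 6, 7, 135, 136, 139] u) u = true := ext_range (a := 77000) (len := 1000) h77 tr1x_77
  have h79 : ∀ u < 79000, (fun u => chkTree tab (lidx 1) (lpar 1) (lgi 1) 1 [2, 3, 4, 5, 6, 7, 135, 136, 139] u) u = true := ext_range (a := 78000) (len := 1000) h78 tr1x_78
  have h80 : ∀ u < 80000, (fun u => chkTree tab (lidx 1) (lpar 1) (lgi 1) 1 [2, 3, 4, 5, 6, 7, 135, 136, 139] u) u = true := ext_range (a := 79000) (len := 1000) h79 tr1x_79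
  have h81 : ∀ u < 81000, (fun u => chkTree tab (lidx 1) (lpar 1) (lgi 1) 1 [2, 3, 4, 5, 6, 7, 135, 136, 139] u) u = true := ext_range (a := 80000) (len := 1000) h80 tr1x_80
  have h82 : ∀ u < 82000, (fun u => chkTree tab (lidx 1) (lpar 1) (lgi 1) 1 [2, 3, 4, 5, 6, 7, 135, 136, 139] u) u = true := ext_range (a := 81000) (len := 1000) h81 tr1x_81
  have h83 : ∀ u < 83000, (fun u => chkTree tab (lidx 1) (lpar 1) (lgi 1) 1 [2, 3, 4, 5, 6, 7, 135, 136, 139] u) u = true := ext_range (a := 82000) (len := 1000) h82 tr1x_82
  have h84 : ∀ u < 84000, (fun u => chkTree tab (lidx 1) (lpar 1) (lgi 1) 1 [2, 3, 4, 5, 6, 7, 135, 136, 139] u) u = true := ext_range (a := 83000) (len := 1000) h83 tr1x_83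
  have h85 : ∀ u < 85000, (fun u => chkTree tab (lidx 1) (lpar 1) (lgi 1) 1 [2, 3, 4, 5, 6, 7, 135, 136, 139] u) u = true := ext_range (a := 84000) (len := 1000) h84 tr1x_84
  have h86 : ∀ u < 86000, (fun u => chkTree tab (lidx 1) (lpar 1) (lgi 1) 1 [2, 3, 4, 5, 6, 7, 135, 136, 139] u) u = true := ext_range (a := 85000) (len := 1000) h85 tr1x_85
  have h87 : ∀ u < 87000, (fun u => chkTree tab (lidx 1) (lpar 1) (lgi 1) 1 [2, 3, 4, 5, 6, 7, 135, 136, 139] u) u = true := ext_range (a := 86000) (len := 1000) h86 tr1x_86
  have h88 : ∀ u < 88000, (fun u => chkTree tab (lidx 1) (lpar 1) (lgi 1) 1 [2, 3, 4, 5, 6, 7, 135, 136, 139] u) u = true := ext_range (a := 87000) (len := 1000) h87 tr1x_87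
  have h89 : ∀ u < 89000, (fun u => chkTree tab (lidx 1) (lpar 1) (lgi 1) 1 [2, 3, 4, 5, 6, 7, 135, 136, 139] u) u = true := ext_range (a := 88000) (len := 1000) h88 tr1x_88
  have h90 : ∀ u < 90000, (fun u => chkTree tab (lidx 1) (lpar 1) (lgi 1) 1 [2, 3, 4, 5, 6, 7, 135, 136, 139] u) u = true := ext_range (a := 89000) (len := 1000) h89 tr1x_89
  have h91 : ∀ u < 91000, (fun u => chkTree tab (lidx 1) (lpar 1) (lgi 1) 1 [2, 3, 4, 5, 6, 7, 135, 136, 139] u) u = true := ext_range (a := 90000) (len := 1000) h90 tr1x_90
  have h92 : ∀ u < 92000, (fun u => chkTree tab (lidx 1) (lpar 1) (lgi 1) 1 [2, 3, 4, 5, 6, 7, 135, 136, 139] u) u = true := ext_range (a := 91000) (len := 1000) h91 tr1x_91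
  have h93 : ∀ u < 93000, (fun u => chkTree tab (lidx 1) (lpar 1) (lgi 1) 1 [2, 3, 4, 5, 6, 7, 135, 136, 139] u) u = true := ext_range (a := 92000) (len := 1000) h92 tr1x_92
  have h94 : ∀ u < 94000, (fun u => chkTree tab (lidx 1) (lpar 1) (lgi 1) 1 [2, 3, 4, 5, 6, 7, 135, 136, 139] u) u = true := ext_range (a := 93000) (len := 1000) h93 tr1x_93
  have h95 : ∀ u < 95000, (fun u => chkTree tab (lidx 1) (lpar 1) (lgi 1) 1 [2, 3, 4, 5, 6, 7, 135, 136, 139] u) u = true := ext_range (a := 94000) (len := 1000) h94 tr1x_94
  have h96 : ∀ u < 96000, (fun u => chkTree tab (lidx 1) (lpar 1) (lgi 1) 1 [2, 3, 4, 5, 6, 7, 135, 136, 139] u) u = true := ext_range (a := 95000) (len := 1000) h95 tr1x_95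
  have h97 : ∀ u < 97000, (fun u => chkTree tab (lidx 1) (lpar 1) (lgi 1) 1 [2, 3, 4, 5, 6, 7, 135, 136, 139] u) u = true := ext_range (a := 96000) (len := 1000) h96 tr1x_96
  have h98 : ∀ u < 98000, (fun u => chkTree tab (lidx 1) (lpar 1) (lgi 1) 1 [2, 3, 4, 5, 6, 7, 135, 136, 139] u) u = true := ext_range (a := 97000) (len := 1000) h97 tr1x_97
  have h99 : ∀ u < 99000, (fun u => chkTree tab (lidx 1) (lpar 1) (lgi 1) 1 [2, 3, 4, 5, 6, 7, 135, 136, 139] u) u = true := ext_range (a := 98000) (len := 1000) h98 tr1x_98
  have h100 : ∀ u < 100000, (fun u => chkTree tab (lidx 1) (lpar 1) (lgi 1) 1 [2, 3, 4, 5, 6, 7, 135, 136, 139] u) u = true := ext_range (a := 99000) (len := 1000) h99 tr1x_99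
  have h101 : ∀ u < 101000, (fun u => chkTree tab (lidx 1) (lpar 1) (lgi 1) 1 [2, 3, 4, 5, 6, 7, 135, 136, 139] u) u = true := ext_range (a := 100000) (len := 1000) h100 tr1x_100
  have h102 : ∀ u < 102000, (fun u => chkTree tab (lidx 1) (lpar 1) (lgi 1) 1 [2, 3, 4, 5, 6, 7, 135, 136, 139] u) u = true := ext_range (a := 101000) (len := 1000) h101 tr1x_101
  have h103 : ∀ u < 103000, (fun u => chkTree tab (lidx 1) (lpar 1) (lgi 1) 1 [2, 3, 4, 5, 6, 7, 135, 136, 139] u) u = true := ext_range (a := 102000) (len := 1000) h102 tr1x_102
  have h104 : ∀ u < 104000, (fun u => chkTree tab (lidx 1) (lpar 1) (lgi 1) 1 [2, 3, 4, 5, 6, 7, 135, 136, 139] u) u = true := ext_range (a := 103000) (len := 1000) h103 tr1x_103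
  have h105 : ∀ u < 105000, (fun u => chkTree tab (lidx 1) (lpar 1) (lgi 1) 1 [2, 3, 4, 5, 6, 7, 135, 136, 139] u) u = true := ext_range (a := 104000) (len := 1000) h104 tr1x_104
  have h106 : ∀ u < 106000, (fun u => chkTree tab (lidx 1) (lpar 1) (lgi 1) 1 [2, 3, 4, 5, 6, 7, 135, 136, 139] u) u = true := ext_range (a := 105000) (len := 1000) h105 tr1x_105
  have h107 : ∀ u < 107000, (fun u => chkTree tab (lidx 1) (lpar 1) (lgi 1) 1 [2, 3, 4, 5, 6, 7, 135, 136, 139] u) u = true := ext_range (a := 106000) (len := 1000) h106 tr1x_106
  have h108 : ∀ u < 108000, (fun u => chkTree tab (lidx 1) (lpar 1) (lgi 1) 1 [2, 3, 4, 5, 6, 7, 135, 136, 139] u) u = true := ext_range (a := 107000) (len := 1000) h107 tr1x_107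
  have h109 : ∀ u < 109000, (fun u => chkTree tab (lidx 1) (lpar 1) (lgi 1) 1 [2, 3, 4, 5, 6, 7, 135, 136, 139] u) u = true := ext_range (a := 108000) (len := 1000) h108 tr1x_108
  have h110 : ∀ u < 110000, (fun u => chkTree tab (lidx 1) (lpar 1) (lgi 1) 1 [2, 3, 4, 5, 6, 7, 135, 136, 139] u) u = true := ext_range (a := 109000) (len := 1000) h109 tr1x_109
  have h111 : ∀ u < 111000, (fun u => chkTree tab (lidx 1) (lpar 1) (lgi 1) 1 [2, 3, 4, 5, 6, 7, 135, 136, 139] u) u = true := ext_range (a := 110000) (len := 1000) h110 tr1x_110
  have h112 : ∀ u < 112000, (fun u => chkTree tab (lidx 1) (lpar 1) (lgi 1) 1 [2, 3, 4, 5, 6, 7, 135, 136, 139] u) u = true := ext_range (a := 111000) (len := 1000) h111 tr1x_111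
  have h113 : ∀ u < 113000, (fun u => chkTree tab (lidx 1) (lpar 1) (lgi 1) 1 [2, 3, 4, 5, 6, 7, 135, 136, 139] u) u = true := ext_range (a := 112000) (len := 1000) h112 tr1x_112
  have h114 : ∀ u < 114000, (fun u => chkTree tab (lidx 1) (lpar 1) (lgi 1) 1 [2, 3, 4, 5, 6, 7, 135, 136, 139] u) u = true := ext_range (a := 113000) (len := 1000) h113 tr1x_113
  have h115 : ∀ u < 115000, (fun u => chkTree tab (lidx 1) (lpar 1) (lgi 1) 1 [2, 3, 4, 5, 6, 7, 135, 136, 139] u) u = true := ext_range (a := 114000) (len := 1000) h114 tr1x_114
  have h116 : ∀ u < 116000, (fun u => chkTree tab (lidx 1) (lpar 1) (lgi 1) 1 [2, 3, 4, 5, 6, 7, 135, 136, 139] u) u = true := ext_range (a := 115000) (len := 1000) h115 tr1x_115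
  have h117 : ∀ u < 117000, (fun u => chkTree tab (lidx 1) (lpar 1) (lgi 1) 1 [2, 3, 4, 5, 6, 7, 135, 136, 139] u) u = true := ext_range (a := 116000) (len := 1000) h116 tr1x_116
  have h118 : ∀ u < 118000, (fun u => chkTree tab (lidx 1) (lpar 1) (lgi 1) 1 [2, 3, 4, 5, 6, 7, 135, 136, 139] u) u = true := ext_range (a := 117000) (len := 1000) h117 tr1x_117
  have h119 : ∀ u < 119000, (fun u => chkTree tab (lidx 1) (lpar 1) (lgi 1) 1 [2, 3, 4, 5, 6, 7, 135, 136, 139] u) u = true := ext_range (a := 118000) (len := 1000) h118 tr1x_118
  have h120 : ∀ u < 120000, (fun u => chkTree tab (lidx 1) (lpar 1) (lgi 1) 1 [2, 3, 4, 5, 6, 7, 135, 136, 139] u) u = true := ext_range (a := 119000) (len := 1000) h119 tr1x_119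
  have h121 : ∀ u < 121000, (fun u => chkTree tab (lidx 1) (lpar 1) (lgi 1) 1 [2, 3, 4, 5, 6, 7, 135, 136, 139] u) u = true := ext_range (a := 120000) (len := 1000) h120 tr1x_120
  have h122 : ∀ u < 122000, (fun u => chkTree tab (lidx 1) (lpar 1) (lgi 1) 1 [2, 3, 4, 5, 6, 7, 135, 136, 139] u) u = true := ext_range (a := 121000) (len := 1000) h121 tr1x_121
  have h123 : ∀ u < 122760, (fun u => chkTree tab (lidx 1) (lpar 1) (lgi 1) 1 [2, 3, 4, 5, 6, 7, 135, 136, 139] u) u = true := ext_range (a := 122000) (len := 760) h122 tr1x_122
  exact h123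

theorem hT2 : ∀ u < 122760, chkTree tab (lidx 2) (lpar 2) (lgi 2) 2 [2, 135, 136, 139] u = true := by
  have h0 : ∀ u < 0, (fun u => chkTree tab (lidx 2) (lpar 2) (lgi 2) 2 [2, 135, 136, 139] u) u = true := range_zero
  have h1 : ∀ u < 1000, (fun u => chkTree tab (lidx 2) (lpar 2) (lgi 2) 2 [2, 135, 136, 139] u) u = true := ext_range (a := 0) (len := 1000) h0 tr2x_0
  have h2 : ∀ u < 2000, (fun u => chkTree tab (lidx 2) (lpar 2) (lgi 2) 2 [2, 135, 136, 139] u) u = true := ext_range (a := 1000) (len := 1000) h1 tr2x_1
  have h3 : ∀ u < 3000, (fun u => chkTree tab (lidx 2) (lpar 2) (lgi 2) 2 [2, 135, 136, 139] u) u = true := ext_range (a := 2000) (len := 1000) h2 tr2x_2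
  have h4 : ∀ u < 4000, (fun u => chkTree tab (lidx 2) (lpar 2) (lgi 2) 2 [2, 135, 136, 139] u) u = true := ext_range (a := 3000) (len := 1000) h3 tr2x_3
  have h5 : ∀ u < 5000, (fun u => chkTree tab (lidx 2) (lpar 2) (lgi 2) 2 [2, 135, 136, 139] u) u = true := ext_range (a := 4000) (len := 1000) h4 tr2x_4
  have h6 : ∀ u < 6000, (fun u => chkTree tab (lidx 2) (lpar 2) (lgi 2) 2 [2, 135, 136, 139] u) u = true := ext_range (a := 5000) (len := 1000) h5 tr2x_5
  have h7 : ∀ u < 7000, (fun u => chkTree tab (lidx 2) (lpar 2) (lgi 2) 2 [2, 135, 136, 139] u) u = true := ext_range (a := 6000) (len := 1000) h6 tr2x_6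
  have h8 : ∀ u < 8000, (fun u => chkTree tab (lidx 2) (lpar 2) (lgi 2) 2 [2, 135, 136, 139] u) u = true := ext_range (a := 7000) (len := 1000) h7 tr2x_7
  have h9 : ∀ u < 9000, (fun u => chkTree tab (lidx 2) (lpar 2) (lgi 2) 2 [2, 135, 136, 139] u) u = true := ext_range (a := 8000) (len := 1000) h8 tr2x_8
  have h10 : ∀ u < 10000, (fun u => chkTree tab (lidx 2) (lpar 2) (lgi 2) 2 [2, 135, 136, 139] u) u = true := ext_range (a := 9000) (len := 1000) h9 tr2x_9
  have h11 : ∀ u < 11000, (fun u => chkTree tab (lidx 2) (lpar 2) (lgi 2) 2 [2, 135, 136, 139] u) u = true := ext_range (a := 10000) (len := 1000) h10 tr2x_10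
  have h12 : ∀ u < 12000, (fun u => chkTree tab (lidx 2) (lpar 2) (lgi 2) 2 [2, 135, 136, 139] u) u = true := ext_range (a := 11000) (len := 1000) h11 tr2x_11
  have h13 : ∀ u < 13000, (fun u => chkTree tab (lidx 2) (lpar 2) (lgi 2) 2 [2, 135, 136, 139] u) u = true := ext_range (a := 12000) (len := 1000) h12 tr2x_12
  have h14 : ∀ u < 14000, (fun u => chkTree tab (lidx 2) (lpar 2) (lgi 2) 2 [2, 135, 136, 139] u) u = true := ext_range (a := 13000) (len := 1000) h13 tr2x_13
  have h15 : ∀ u < 15000, (fun u => chkTree tab (lidx 2) (lpar 2) (lgi 2) 2 [2, 135, 136, 139] u) u = true := ext_range (a := 14000) (len := 1000) h14 tr2x_14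
  have h16 : ∀ u < 16000, (fun u => chkTree tab (lidx 2) (lpar 2) (lgi 2) 2 [2, 135, 136, 139] u) u = true := ext_range (a := 15000) (len := 1000) h15 tr2x_15
  have h17 : ∀ u < 17000, (fun u => chkTree tab (lidx 2) (lpar 2) (lgi 2) 2 [2, 135, 136, 139] u) u = true := ext_range (a := 16000) (len := 1000) h16 tr2x_16
  have h18 : ∀ u < 18000, (fun u => chkTree tab (lidx 2) (lpar 2) (lgi 2) 2 [2, 135, 136, 139] u) u = true := ext_range (a := 17000) (len := 1000) h17 tr2x_17
  have h19 : ∀ u < 19000, (fun u => chkTree tab (lidx 2) (lpar 2) (lgi 2) 2 [2, 135, 136, 139] u) u = true := ext_range (a := 18000) (len := 1000) h18 tr2x_18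
  have h20 : ∀ u < 20000, (fun u => chkTree tab (lidx 2) (lpar 2) (lgi 2) 2 [2, 135, 136, 139] u) u = true := ext_range (a := 19000) (len := 1000) h19 tr2x_19
  have h21 : ∀ u < 21000, (fun u => chkTree tab (lidx 2) (lpar 2) (lgi 2) 2 [2, 135, 136, 139] u) u = true := ext_range (a := 20000) (len := 1000) h20 tr2x_20
  have h22 : ∀ u < 22000, (fun u => chkTree tab (lidx 2) (lpar 2) (lgi 2) 2 [2, 135, 136, 139] u) u = true := ext_range (a := 21000) (len := 1000) h21 tr2x_21
  have h23 : ∀ u < 23000, (fun u => chkTree tab (lidx 2) (lpar 2) (lgi 2) 2 [2, 135, 136, 139] u) u = true := ext_range (a := 22000) (len := 1000) h22 tr2x_22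
  have h24 : ∀ u < 24000, (fun u => chkTree tab (lidx 2) (lpar 2) (lgi 2) 2 [2, 135, 136, 139] u) u = true := ext_range (a := 23000) (len := 1000) h23 tr2x_23
  have h25 : ∀ u < 25000, (fun u => chkTree tab (lidx 2) (lpar 2) (lgi 2) 2 [2, 135, 136, 139] u) u = true := ext_range (a := 24000) (len := 1000) h24 tr2x_24
  have h26 : ∀ u < 26000, (fun u => chkTree tab (lidx 2) (lpar 2) (lgi 2) 2 [2, 135, 136, 139] u) u = true := ext_range (a := 25000) (len := 1000) h25 tr2x_25
  have h27 : ∀ u < 27000, (fun u => chkTree tab (lidx 2) (lpar 2) (lgi 2) 2 [2, 135, 136, 139] u) u = true := ext_range (a := 26000) (len := 1000) h26 tr2x_26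
  have h28 : ∀ u < 28000, (fun u => chkTree tab (lidx 2) (lpar 2) (lgi 2) 2 [2, 135, 136, 139] u) u = true := ext_range (a := 27000) (len := 1000) h27 tr2x_27
  have h29 : ∀ u < 29000, (fun u => chkTree tab (lidx 2) (lpar 2) (lgi 2) 2 [2, 135, 136, 139] u) u = true := ext_range (a := 28000) (len := 1000) h28 tr2x_28
  have h30 : ∀ u < 30000, (fun u => chkTree tab (lidx 2) (lpar 2) (lgi 2) 2 [2, 135, 136, 139] u) u = true := ext_range (a := 29000) (len := 1000) h29 tr2x_29
  have h31 : ∀ u < 31000, (fun u => chkTree tab (lidx 2) (lpar 2) (lgi 2) 2 [2, 135, 136, 139] u) u = true := ext_range (a := 30000) (len := 1000) h30 tr2x_30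
  have h32 : ∀ u < 32000, (fun u => chkTree tab (lidx 2) (lpar 2) (lgi 2) 2 [2, 135, 136, 139] u) u = true := ext_range (a := 31000) (len := 1000) h31 tr2x_31
  have h33 : ∀ u < 33000, (fun u => chkTree tab (lidx 2) (lpar 2) (lgi 2) 2 [2, 135, 136, 139] u) u = true := ext_range (a := 32000) (len := 1000) h32 tr2x_32
  have h34 : ∀ u < 34000, (fun u => chkTree tab (lidx 2) (lpar 2) (lgi 2) 2 [2, 135, 136, 139] u) u = true := ext_range (a := 33000) (len := 1000) h33 tr2x_33
  have h35 : ∀ u < 35000, (fun u => chkTree tab (lidx 2) (lpar 2) (lgi 2) 2 [2, 135, 136, 139] u) u = true := ext_range (a := 34000) (len := 1000) h34 tr2x_34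
  have h36 : ∀ u < 36000, (fun u => chkTree tab (lidx 2) (lpar 2) (lgi 2) 2 [2, 135, 136, 139] u) u = true := ext_range (a := 35000) (len := 1000) h35 tr2x_35
  have h37 : ∀ u < 37000, (fun u => chkTree tab (lidx 2) (lpar 2) (lgi 2) 2 [2, 135, 136, 139] u) u = true := ext_range (a := 36000) (len := 1000) h36 tr2x_36
  have h38 : ∀ u < 38000, (fun u => chkTree tab (lidx 2) (lpar 2) (lgi 2) 2 [2, 135, 136, 139] u) u = true := ext_range (a := 37000) (len := 1000) h37 tr2x_37
  have h39 : ∀ u < 39000, (fun u => chkTree tab (lidx 2) (lpar 2) (lgi 2) 2 [2, 135, 136, 139] u) u = true := ext_range (a := 38000) (len := 1000) h38 tr2x_38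
  have h40 : ∀ u < 40000, (fun u => chkTree tab (lidx 2) (lpar 2) (lgi 2) 2 [2, 135, 136, 139] u) u = true := ext_range (a := 39000) (len := 1000) h39 tr2x_39
  have h41 : ∀ u < 41000, (fun u => chkTree tab (lidx 2) (lpar 2) (lgi 2) 2 [2, 135, 136, 139] u) u = true := ext_range (a := 40000) (len := 1000) h40 tr2x_40
  have h42 : ∀ u < 42000, (fun u => chkTree tab (lidx 2) (lpar 2) (lgi 2) 2 [2, 135, 136, 139] u) u = true := ext_range (a := 41000) (len := 1000) h41 tr2x_41
  have h43 : ∀ u < 43000, (fun u => chkTree tab (lidx 2) (lpar 2) (lgi 2) 2 [2, 135, 136, 139] u) u = true := ext_range (a := 42000) (len := 1000) h42 tr2x_42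
  have h44 : ∀ u < 44000, (fun u => chkTree tab (lidx 2) (lpar 2) (lgi 2) 2 [2, 135, 136, 139] u) u = true := ext_range (a := 43000) (len := 1000) h43 tr2x_43
  have h45 : ∀ u < 45000, (fun u => chkTree tab (lidx 2) (lpar 2) (lgi 2) 2 [2, 135, 136, 139] u) u = true := ext_range (a := 44000) (len := 1000) h44 tr2x_44
  have h46 : ∀ u < 46000, (fun u => chkTree tab (lidx 2) (lpar 2) (lgi 2) 2 [2, 135, 136, 139] u) u = true := ext_range (a := 45000) (len := 1000) h45 tr2x_45
  have h47 : ∀ u < 47000, (fun u => chkTree tab (lidx 2) (lpar 2) (lgi 2) 2 [2, 135, 136, 139] u) u = true := ext_range (a := 46000) (len := 1000) h46 tr2x_46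
  have h48 : ∀ u < 48000, (fun u => chkTree tab (lidx 2) (lpar 2) (lgi 2) 2 [2, 135, 136, 139] u) u = true := ext_range (a := 47000) (len := 1000) h47 tr2x_47
  have h49 : ∀ u < 49000, (fun u => chkTree tab (lidx 2) (lpar 2) (lgi 2) 2 [2, 135, 136, 139] u) u = true := ext_range (a := 48000) (len := 1000) h48 tr2x_48
  have h50 : ∀ u < 50000, (fun u => chkTree tab (lidx 2) (lpar 2) (lgi 2) 2 [2, 135, 136, 139] u) u = true := ext_range (a := 49000) (len := 1000) h49 tr2x_49
  have h51 : ∀ u < 51000, (fun u => chkTree tab (lidx 2) (lpar 2) (lgi 2) 2 [2, 135, 136, 139] u) u = true := ext_range (a := 50000) (len := 1000) h50 tr2x_50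
  have h52 : ∀ u < 52000, (fun u => chkTree tab (lidx 2) (lpar 2) (lgi 2) 2 [2, 135, 136, 139] u) u = true := ext_range (a := 51000) (len := 1000) h51 tr2x_51
  have h53 : ∀ u < 53000, (fun u => chkTree tab (lidx 2) (lpar 2) (lgi 2) 2 [2, 135, 136, 139] u) u = true := ext_range (a := 52000) (len := 1000) h52 tr2x_52
  have h54 : ∀ u < 54000, (fun u => chkTree tab (lidx 2) (lpar 2) (lgi 2) 2 [2, 135, 136, 139] u) u = true := ext_range (a := 53000) (len := 1000) h53 tr2x_53
  have h55 : ∀ u < 55000, (fun u => chkTree tab (lidx 2) (lpar 2) (lgi 2) 2 [2, 135, 136, 139] u) u = true := ext_range (a := 54000) (len := 1000) h54 tr2x_54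
  have h56 : ∀ u < 56000, (fun u => chkTree tab (lidx 2) (lpar 2) (lgi 2) 2 [2, 135, 136, 139] u) u = true := ext_range (a := 55000) (len := 1000) h55 tr2x_55
  have h57 : ∀ u < 57000, (fun u => chkTree tab (lidx 2) (lpar 2) (lgi 2) 2 [2, 135, 136, 139] u) u = true := ext_range (a := 56000) (len := 1000) h56 tr2x_56
  have h58 : ∀ u < 58000, (fun u => chkTree tab (lidx 2) (lpar 2) (lgi 2) 2 [2, 135, 136, 139] u) u = true := ext_range (a := 57000) (len := 1000) h57 tr2x_57
  have h59 : ∀ u < 59000, (fun u => chkTree tab (lidx 2) (lpar 2) (lgi 2) 2 [2, 135, 136, 139] u) u = true := ext_range (a := 58000) (len := 1000) h58 tr2x_58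
  have h60 : ∀ u < 60000, (fun u => chkTree tab (lidx 2) (lpar 2) (lgi 2) 2 [2, 135, 136, 139] u) u = true := ext_range (a := 59000) (len := 1000) h59 tr2x_59
  have h61 : ∀ u < 61000, (fun u => chkTree tab (lidx 2) (lpar 2) (lgi 2) 2 [2, 135, 136, 139] u) u = true := ext_range (a := 60000) (len := 1000) h60 tr2x_60
  have h62 : ∀ u < 62000, (fun u => chkTree tab (lidx 2) (lpar 2) (lgi 2) 2 [2, 135, 136, 139] u) u = true := ext_range (a := 61000) (len := 1000) h61 tr2x_61
  have h63 : ∀ u < 63000, (fun u => chkTree tab (lidx 2) (lpar 2) (lgi 2) 2 [2, 135, 136, 139] u) u = true := ext_range (a := 62000) (len := 1000) h62 tr2x_62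
  have h64 : ∀ u < 64000, (fun u => chkTree tab (lidx 2) (lpar 2) (lgi 2) 2 [2, 135, 136, 139] u) u = true := ext_range (a := 63000) (len := 1000) h63 tr2x_63
  have h65 : ∀ u < 65000, (fun u => chkTree tab (lidx 2) (lpar 2) (lgi 2) 2 [2, 135, 136, 139] u) u = true := ext_range (a := 64000) (len := 1000) h64 tr2x_64
  have h66 : ∀ u < 66000, (fun u => chkTree tab (lidx 2) (lpar 2) (lgi 2) 2 [2, 135, 136, 139] u) u = true := ext_range (a := 65000) (len := 1000) h65 tr2x_65
  have h67 : ∀ u < 67000, (fun u => chkTree tab (lidx 2) (lpar 2) (lgi 2) 2 [2, 135, 136, 139] u) u = true := ext_range (a := 66000) (len := 1000) h66 tr2x_66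
  have h68 : ∀ u < 68000, (fun u => chkTree tab (lidx 2) (lpar 2) (lgi 2) 2 [2, 135, 136, 139] u) u = true := ext_range (a := 67000) (len := 1000) h67 tr2x_67
  have h69 : ∀ u < 69000, (fun u => chkTree tab (lidx 2) (lpar 2) (lgi 2) 2 [2, 135, 136, 139] u) u = true := ext_range (a := 68000) (len := 1000) h68 tr2x_68
  have h70 : ∀ u < 70000, (fun u => chkTree tab (lidx 2) (lpar 2) (lgi 2) 2 [2, 135, 136, 139] u) u = true := ext_range (a := 69000) (len := 1000) h69 tr2x_69
  have h71 : ∀ u < 71000, (fun u => chkTree tab (lidx 2) (lpar 2) (lgi 2) 2 [2, 135, 136, 139] u) u = true := ext_range (a := 70000) (len := 1000) h70 tr2x_70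
  have h72 : ∀ u < 72000, (fun u => chkTree tab (lidx 2) (lpar 2) (lgi 2) 2 [2, 135, 136, 139] u) u = true := ext_range (a := 71000) (len := 1000) h71 tr2x_71
  have h73 : ∀ u < 73000, (fun u => chkTree tab (lidx 2) (lpar 2) (lgi 2) 2 [2, 135, 136, 139] u) u = true := ext_range (a := 72000) (len := 1000) h72 tr2x_72
  have h74 : ∀ u < 74000, (fun u => chkTree tab (lidx 2) (lpar 2) (lgi 2) 2 [2, 135, 136, 139] u) u = true := ext_range (a := 73000) (len := 1000) h73 tr2x_73
  have h75 : ∀ u < 75000, (fun u => chkTree tab (lidx 2) (lpar 2) (lgi 2) 2 [2, 135, 136, 139] u) u = true := ext_range (a := 74000) (len := 1000) h74 tr2x_74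
  have h76 : ∀ u < 76000, (fun u => chkTree tab (lidx 2) (lpar 2) (lgi 2) 2 [2, 135, 136, 139] u) u = true := ext_range (a := 75000) (len := 1000) h75 tr2x_75
  have h77 : ∀ u < 77000, (fun u => chkTree tab (lidx 2) (lpar 2) (lgi 2) 2 [2, 135, 136, 139] u) u = true := ext_range (a := 76000) (len := 1000) h76 tr2x_76
  have h78 : ∀ u < 78000, (fun u => chkTree tab (lidx 2) (lpar 2) (lgi 2) 2 [2, 135, 136, 139] u) u = true := ext_range (a := 77000) (len := 1000) h77 tr2x_77
  have h79 : ∀ u < 79000, (fun u => chkTree tab (lidx 2) (lpar 2) (lgi 2) 2 [2, 135, 136, 139] u) u = true := ext_range (a := 78000) (len := 1000) h78 tr2x_78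
  have h80 : ∀ u < 80000, (fun u => chkTree tab (lidx 2) (lpar 2) (lgi 2) 2 [2, 135, 136, 139] u) u = true := ext_range (a := 79000) (len := 1000) h79 tr2x_79
  have h81 : ∀ u < 81000, (fun u => chkTree tab (lidx 2) (lpar 2) (lgi 2) 2 [2, 135, 136, 139] u) u = true := ext_range (a := 80000) (len := 1000) h80 tr2x_80
  have h82 : ∀ u < 82000, (fun u => chkTree tab (lidx 2) (lpar 2) (lgi 2) 2 [2, 135, 136, 139] u) u = true := ext_range (a := 81000) (len := 1000) h81 tr2x_81
  have h83 : ∀ u < 83000, (fun u => chkTree tab (lidx 2) (lpar 2) (lgi 2) 2 [2, 135, 136, 139] u) u = true := ext_range (a := 82000) (len := 1000) h82 tr2x_82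
  have h84 : ∀ u < 84000, (fun u => chkTree tab (lidx 2) (lpar 2) (lgi 2) 2 [2, 135, 136, 139] u) u = true := ext_range (a := 83000) (len := 1000) h83 tr2x_83
  have h85 : ∀ u < 85000, (fun u => chkTree tab (lidx 2) (lpar 2) (lgi 2) 2 [2, 135, 136, 139] u) u = true := ext_range (a := 84000) (len := 1000) h84 tr2x_84
  have h86 : ∀ u < 86000, (fun u => chkTree tab (lidx 2) (lpar 2) (lgi 2) 2 [2, 135, 136, 139] u) u = true := ext_range (a := 85000) (len := 1000) h85 tr2x_85
  have h87 : ∀ u < 87000, (fun u => chkTree tab (lidx 2) (lpar 2) (lgi 2) 2 [2, 135, 136, 139] u) u = true := ext_range (a := 86000) (len := 1000) h86 tr2x_86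
  have h88 : ∀ u < 88000, (fun u => chkTree tab (lidx 2) (lpar 2) (lgi 2) 2 [2, 135, 136, 139] u) u = true := ext_range (a := 87000) (len := 1000) h87 tr2x_87
  have h89 : ∀ u < 89000, (fun u => chkTree tab (lidx 2) (lpar 2) (lgi 2) 2 [2, 135, 136, 139] u) u = true := ext_range (a := 88000) (len := 1000) h88 tr2x_88
  have h90 : ∀ u < 90000, (fun u => chkTree tab (lidx 2) (lpar 2) (lgi 2) 2 [2, 135, 136, 139] u) u = true := ext_range (a := 89000) (len := 1000) h89 tr2x_89
  have h91 : ∀ u < 91000, (fun u => chkTree tab (lidx 2) (lpar 2) (lgi 2) 2 [2, 135, 136, 139] u) u = true := ext_range (a := 90000) (len := 1000) h90 tr2x_90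
  have h92 : ∀ u < 92000, (fun u => chkTree tab (lidx 2) (lpar 2) (lgi 2) 2 [2, 135, 136, 139] u) u = true := ext_range (a := 91000) (len := 1000) h91 tr2x_91
  have h93 : ∀ u < 93000, (fun u => chkTree tab (lidx 2) (lpar 2) (lgi 2) 2 [2, 135, 136, 139] u) u = true := ext_range (a := 92000) (len := 1000) h92 tr2x_92
  have h94 : ∀ u < 94000, (fun u => chkTree tab (lidx 2) (lpar 2) (lgi 2) 2 [2, 135, 136, 139] u) u = true := ext_range (a := 93000) (len := 1000) h93 tr2x_93
  have h95 : ∀ u < 95000, (fun u => chkTree tab (lidx 2) (lpar 2) (lgi 2) 2 [2, 135, 136, 139] u) u = true := ext_range (a := 94000) (len := 1000) h94 tr2x_94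
  have h96 : ∀ u < 96000, (fun u => chkTree tab (lidx 2) (lpar 2) (lgi 2) 2 [2, 135, 136, 139] u) u = true := ext_range (a := 95000) (len := 1000) h95 tr2x_95
  have h97 : ∀ u < 97000, (fun u => chkTree tab (lidx 2) (lpar 2) (lgi 2) 2 [2, 135, 136, 139] u) u = true := ext_range (a := 96000) (len := 1000) h96 tr2x_96
  have h98 : ∀ u < 98000, (fun u => chkTree tab (lidx 2) (lpar 2) (lgi 2) 2 [2, 135, 136, 139] u) u = true := ext_range (a := 97000) (len := 1000) h97 tr2x_97
  have h99 : ∀ u < 99000, (fun u => chkTree tab (lidx 2) (lpar 2) (lgi 2) 2 [2, 135, 136, 139] u) u = true := ext_range (a := 98000) (len := 1000) h98 tr2x_98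
  have h100 : ∀ u < 100000, (fun u => chkTree tab (lidx 2) (lpar 2) (lgi 2) 2 [2, 135, 136, 139] u) u = true := ext_range (a := 99000) (len := 1000) h99 tr2x_99
  have h101 : ∀ u < 101000, (fun u => chkTree tab (lidx 2) (lpar 2) (lgi 2) 2 [2, 135, 136, 139] u) u = true := ext_range (a := 100000) (len := 1000) h100 tr2x_100
  have h102 : ∀ u < 102000, (fun u => chkTree tab (lidx 2) (lpar 2) (lgi 2) 2 [2, 135, 136, 139] u) u = true := ext_range (a := 101000) (len := 1000) h101 tr2x_101
  have h103 : ∀ u < 103000, (fun u => chkTree tab (lidx 2) (lpar 2) (lgi 2) 2 [2, 135, 136, 139] u) u = true := ext_range (a := 102000) (len := 1000) h102 tr2x_102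
  have h104 : ∀ u < 104000, (fun u => chkTree tab (lidx 2) (lpar 2) (lgi 2) 2 [2, 135, 136, 139] u) u = true := ext_range (a := 103000) (len := 1000) h103 tr2x_103
  have h105 : ∀ u < 105000, (fun u => chkTree tab (lidx 2) (lpar 2) (lgi 2) 2 [2, 135, 136, 139] u) u = true := ext_range (a := 104000) (len := 1000) h104 tr2x_104
  have h106 : ∀ u < 106000, (fun u => chkTree tab (lidx 2) (lpar 2) (lgi 2) 2 [2, 135, 136, 139] u) u = true := ext_range (a := 105000) (len := 1000) h105 tr2x_105
  have h107 : ∀ u < 107000, (fun u => chkTree tab (lidx 2) (lpar 2) (lgi 2) 2 [2, 135, 136, 139] u) u = true := ext_range (a := 106000) (len := 1000) h106 tr2x_106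
  have h108 : ∀ u < 108000, (fun u => chkTree tab (lidx 2) (lpar 2) (lgi 2) 2 [2, 135, 136, 139] u) u = true := ext_range (a := 107000) (len := 1000) h107 tr2x_107
  have h109 : ∀ u < 109000, (fun u => chkTree tab (lidx 2) (lpar 2) (lgi 2) 2 [2, 135, 136, 139] u) u = true := ext_range (a := 108000) (len := 1000) h108 tr2x_108
  have h110 : ∀ u < 110000, (fun u => chkTree tab (lidx 2) (lpar 2) (lgi 2) 2 [2, 135, 136, 139] u) u = true := ext_range (a := 109000) (len := 1000) h109 tr2x_109
  have h111 : ∀ u < 111000, (fun u => chkTree tab (lidx 2) (lpar 2) (lgi 2) 2 [2, 135, 136, 139] u) u = true := ext_range (a := 110000) (len := 1000) h110 tr2x_110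
  have h112 : ∀ u < 112000, (fun u => chkTree tab (lidx 2) (lpar 2) (lgi 2) 2 [2, 135, 136, 139] u) u = true := ext_range (a := 111000) (len := 1000) h111 tr2x_111
  have h113 : ∀ u < 113000, (fun u => chkTree tab (lidx 2) (lpar 2) (lgi 2) 2 [2, 135, 136, 139] u) u = true := ext_range (a := 112000) (len := 1000) h112 tr2x_112
  have h114 : ∀ u < 114000, (fun u => chkTree tab (lidx 2) (lpar 2) (lgi 2) 2 [2, 135, 136, 139] u) u = true := ext_range (a := 113000) (len := 1000) h113 tr2x_113
  have h115 : ∀ u < 115000, (fun u => chkTree tab (lidx 2) (lpar 2) (lgi 2) 2 [2, 135, 136, 139] u) u = true := ext_range (a := 114000) (len := 1000) h114 tr2x_114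
  have h116 : ∀ u < 116000, (fun u => chkTree tab (lidx 2) (lpar 2) (lgi 2) 2 [2, 135, 136, 139] u) u = true := ext_range (a := 115000) (len := 1000) h115 tr2x_115
  have h117 : ∀ u < 117000, (fun u => chkTree tab (lidx 2) (lpar 2) (lgi 2) 2 [2, 135, 136, 139] u) u = true := ext_range (a := 116000) (len := 1000) h116 tr2x_116
  have h118 : ∀ u < 118000, (fun u => chkTree tab (lidx 2) (lpar 2) (lgi 2) 2 [2, 135, 136, 139] u) u = true := ext_range (a := 117000) (len := 1000) h117 tr2x_117
  have h119 : ∀ u < 119000, (fun u => chkTree tab (lidx 2) (lpar 2) (lgi 2) 2 [2, 135, 136, 139] u) u = true := ext_range (a := 118000) (len := 1000) h118 tr2x_118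
  have h120 : ∀ u < 120000, (fun u => chkTree tab (lidx 2) (lpar 2) (lgi 2) 2 [2, 135, 136, 139] u) u = true := ext_range (a := 119000) (len := 1000) h119 tr2x_119
  have h121 : ∀ u < 121000, (fun u => chkTree tab (lidx 2) (lpar 2) (lgi 2) 2 [2, 135, 136, 139] u) u = true := ext_range (a := 120000) (len := 1000) h120 tr2x_120
  have h122 : ∀ u < 122000, (fun u => chkTree tab (lidx 2) (lpar 2) (lgi 2) 2 [2, 135, 136, 139] u) u = true := ext_range (a := 121000) (len := 1000) h121 tr2x_121
  have h123 : ∀ u < 122760, (fun u => chkTree tab (lidx 2) (lpar 2) (lgi 2) 2 [2, 135, 136, 139] u) u = true := ext_range (a := 122000) (len := 760) h122 tr2x_122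
  exact h123

theorem hT3 : ∀ u < 122760, chkTree tab (lidx 3) (lpar 3) (lgi 3) 5 [7] u = true := by
  have h0 : ∀ u < 0, (fun u => chkTree tab (lidx 3) (lpar 3) (lgi 3) 5 [7] u) u = true := range_zero
  have h1 : ∀ u < 1000, (fun u => chkTree tab (lidx 3) (lpar 3) (lgi 3) 5 [7] u) u = true := ext_range (a := 0) (len := 1000) h0 tr3x_0
  have h2 : ∀ u < 2000, (fun u => chkTree tab (lidx 3) (lpar 3) (lgi 3) 5 [7] u) u = true := ext_range (a := 1000) (len := 1000) h1 tr3x_1
  have h3 : ∀ u < 3000, (fun u => chkTree tab (lidx 3) (lpar 3) (lgi 3) 5 [7] u) u = true := ext_range (a := 2000) (len := 1000) h2 tr3x_2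
  have h4 : ∀ u < 4000, (fun u => chkTree tab (lidx 3) (lpar 3) (lgi 3) 5 [7] u) u = true := ext_range (a := 3000) (len := 1000) h3 tr3x_3
  have h5 : ∀ u < 5000, (fun u => chkTree tab (lidx 3) (lpar 3) (lgi 3) 5 [7] u) u = true := ext_range (a := 4000) (len := 1000) h4 tr3x_4
  have h6 : ∀ u < 6000, (fun u => chkTree tab (lidx 3) (lpar 3) (lgi 3) 5 [7] u) u = true := ext_range (a := 5000) (len := 1000) h5 tr3x_5
  have h7 : ∀ u < 7000, (fun u => chkTree tab (lidx 3) (lpar 3) (lgi 3) 5 [7] u) u = true := ext_range (a := 6000) (len := 1000) h6 tr3x_6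
  have h8 : ∀ u < 8000, (fun u => chkTree tab (lidx 3) (lpar 3) (lgi 3) 5 [7] u) u = true := ext_range (a := 7000) (len := 1000) h7 tr3x_7
  have h9 : ∀ u < 9000, (fun u => chkTree tab (lidx 3) (lpar 3) (lgi 3) 5 [7] u) u = true := ext_range (a := 8000) (len := 1000) h8 tr3x_8
  have h10 : ∀ u < 10000, (fun u => chkTree tab (lidx 3) (lpar 3) (lgi 3) 5 [7] u) u = true := ext_range (a := 9000) (len := 1000) h9 tr3x_9
  have h11 : ∀ u < 11000, (fun u => chkTree tab (lidx 3) (lpar 3) (lgi 3) 5 [7] u) u = true := ext_range (a := 10000) (len := 1000) h10 tr3x_10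
  have h12 : ∀ u < 12000, (fun u => chkTree tab (lidx 3) (lpar 3) (lgi 3) 5 [7] u) u = true := ext_range (a := 11000) (len := 1000) h11 tr3x_11
  have h13 : ∀ u < 13000, (fun u => chkTree tab (lidx 3) (lpar 3) (lgi 3) 5 [7] u) u = true := ext_range (a := 12000) (len := 1000) h12 tr3x_12
  have h14 : ∀ u < 14000, (fun u => chkTree tab (lidx 3) (lpar 3) (lgi 3) 5 [7] u) u = true := ext_range (a := 13000) (len := 1000) h13 tr3x_13
  have h15 : ∀ u < 15000, (fun u => chkTree tab (lidx 3) (lpar 3) (lgi 3) 5 [7] u) u = true := ext_range (a := 14000) (len := 1000) h14 tr3x_14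
  have h16 : ∀ u < 16000, (fun u => chkTree tab (lidx 3) (lpar 3) (lgi 3) 5 [7] u) u = true := ext_range (a := 15000) (len := 1000) h15 tr3x_15
  have h17 : ∀ u < 17000, (fun u => chkTree tab (lidx 3) (lpar 3) (lgi 3) 5 [7] u) u = true := ext_range (a := 16000) (len := 1000) h16 tr3x_16
  have h18 : ∀ u < 18000, (fun u => chkTree tab (lidx 3) (lpar 3) (lgi 3) 5 [7] u) u = true := ext_range (a := 17000) (len := 1000) h17 tr3x_17
  have h19 : ∀ u < 19000, (fun u => chkTree tab (lidx 3) (lpar 3) (lgi 3) 5 [7] u) u = true := ext_range (a := 18000) (len := 1000) h18 tr3x_18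
  have h20 : ∀ u < 20000, (fun u => chkTree tab (lidx 3) (lpar 3) (lgi 3) 5 [7] u) u = true := ext_range (a := 19000) (len := 1000) h19 tr3x_19
  have h21 : ∀ u < 21000, (fun u => chkTree tab (lidx 3) (lpar 3) (lgi 3) 5 [7] u) u = true := ext_range (a := 20000) (len := 1000) h20 tr3x_20
  have h22 : ∀ u < 22000, (fun u => chkTree tab (lidx 3) (lpar 3) (lgi 3) 5 [7] u) u = true := ext_range (a := 21000) (len := 1000) h21 tr3x_21
  have h23 : ∀ u < 23000, (fun u => chkTree tab (lidx 3) (lpar 3) (lgi 3) 5 [7] u) u = true := ext_range (a := 22000) (len := 1000) h22 tr3x_22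
  have h24 : ∀ u < 24000, (fun u => chkTree tab (lidx 3) (lpar 3) (lgi 3) 5 [7] u) u = true := ext_range (a := 23000) (len := 1000) h23 tr3x_23
  have h25 : ∀ u < 25000, (fun u => chkTree tab (lidx 3) (lpar 3) (lgi 3) 5 [7] u) u = true := ext_range (a := 24000) (len := 1000) h24 tr3x_24
  have h26 : ∀ u < 26000, (fun u => chkTree tab (lidx 3) (lpar 3) (lgi 3) 5 [7] u) u = true := ext_range (a := 25000) (len := 1000) h25 tr3x_25
  have h27 : ∀ u < 27000, (fun u => chkTree tab (lidx 3) (lpar 3) (lgi 3) 5 [7] u) u = true := ext_range (a := 26000) (len := 1000) h26 tr3x_26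
  have h28 : ∀ u < 28000, (fun u => chkTree tab (lidx 3) (lpar 3) (lgi 3) 5 [7] u) u = true := ext_range (a := 27000) (len := 1000) h27 tr3x_27
  have h29 : ∀ u < 29000, (fun u => chkTree tab (lidx 3) (lpar 3) (lgi 3) 5 [7] u) u = true := ext_range (a := 28000) (len := 1000) h28 tr3x_28
  have h30 : ∀ u < 30000, (fun u => chkTree tab (lidx 3) (lpar 3) (lgi 3) 5 [7] u) u = true := ext_range (a := 29000) (len := 1000) h29 tr3x_29
  have h31 : ∀ u < 31000, (fun u => chkTree tab (lidx 3) (lpar 3) (lgi 3) 5 [7] u) u = true := ext_range (a := 30000) (len := 1000) h30 tr3x_30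
  have h32 : ∀ u < 32000, (fun u => chkTree tab (lidx 3) (lpar 3) (lgi 3) 5 [7] u) u = true := ext_range (a := 31000) (len := 1000) h31 tr3x_31
  have h33 : ∀ u < 33000, (fun u => chkTree tab (lidx 3) (lpar 3) (lgi 3) 5 [7] u) u = true := ext_range (a := 32000) (len := 1000) h32 tr3x_32
  have h34 : ∀ u < 34000, (fun u => chkTree tab (lidx 3) (lpar 3) (lgi 3) 5 [7] u) u = true := ext_range (a := 33000) (len := 1000) h33 tr3x_33
  have h35 : ∀ u < 35000, (fun u => chkTree tab (lidx 3) (lpar 3) (lgi 3) 5 [7] u) u = true := ext_range (a := 34000) (len := 1000) h34 tr3x_34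
  have h36 : ∀ u < 36000, (fun u => chkTree tab (lidx 3) (lpar 3) (lgi 3) 5 [7] u) u = true := ext_range (a := 35000) (len := 1000) h35 tr3x_35
  have h37 : ∀ u < 37000, (fun u => chkTree tab (lidx 3) (lpar 3) (lgi 3) 5 [7] u) u = true := ext_range (a := 36000) (len := 1000) h36 tr3x_36
  have h38 : ∀ u < 38000, (fun u => chkTree tab (lidx 3) (lpar 3) (lgi 3) 5 [7] u) u = true := ext_range (a := 37000) (len := 1000) h37 tr3x_37
  have h39 : ∀ u < 39000, (fun u => chkTree tab (lidx 3) (lpar 3) (lgi 3) 5 [7] u) u = true := ext_range (a := 38000) (len := 1000) h38 tr3x_38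
  have h40 : ∀ u < 40000, (fun u => chkTree tab (lidx 3) (lpar 3) (lgi 3) 5 [7] u) u = true := ext_range (a := 39000) (len := 1000) h39 tr3x_39
  have h41 : ∀ u < 41000, (fun u => chkTree tab (lidx 3) (lpar 3) (lgi 3) 5 [7] u) u = true := ext_range (a := 40000) (len := 1000) h40 tr3x_40
  have h42 : ∀ u < 42000, (fun u => chkTree tab (lidx 3) (lpar 3) (lgi 3) 5 [7] u) u = true := ext_range (a := 41000) (len := 1000) h41 tr3x_41
  have h43 : ∀ u < 43000, (fun u => chkTree tab (lidx 3) (lpar 3) (lgi 3) 5 [7] u) u = true := ext_range (a := 42000) (len := 1000) h42 tr3x_42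
  have h44 : ∀ u < 44000, (fun u => chkTree tab (lidx 3) (lpar 3) (lgi 3) 5 [7] u) u = true := ext_range (a := 43000) (len := 1000) h43 tr3x_43
  have h45 : ∀ u < 45000, (fun u => chkTree tab (lidx 3) (lpar 3) (lgi 3) 5 [7] u) u = true := ext_range (a := 44000) (len := 1000) h44 tr3x_44
  have h46 : ∀ u < 46000, (fun u => chkTree tab (lidx 3) (lpar 3) (lgi 3) 5 [7] u) u = true := ext_range (a := 45000) (len := 1000) h45 tr3x_45
  have h47 : ∀ u < 47000, (fun u => chkTree tab (lidx 3) (lpar 3) (lgi 3) 5 [7] u) u = true := ext_range (a := 46000) (len := 1000) h46 tr3x_46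
  have h48 : ∀ u < 48000, (fun u => chkTree tab (lidx 3) (lpar 3) (lgi 3) 5 [7] u) u = true := ext_range (a := 47000) (len := 1000) h47 tr3x_47
  have h49 : ∀ u < 49000, (fun u => chkTree tab (lidx 3) (lpar 3) (lgi 3) 5 [7] u) u = true := ext_range (a := 48000) (len := 1000) h48 tr3x_48
  have h50 : ∀ u < 50000, (fun u => chkTree tab (lidx 3) (lpar 3) (lgi 3) 5 [7] u) u = true := ext_range (a := 49000) (len := 1000) h49 tr3x_49
  have h51 : ∀ u < 51000, (fun u => chkTree tab (lidx 3) (lpar 3) (lgi 3) 5 [7] u) u = true := ext_range (a := 50000) (len := 1000) h50 tr3x_50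
  have h52 : ∀ u < 52000, (fun u => chkTree tab (lidx 3) (lpar 3) (lgi 3) 5 [7] u) u = true := ext_range (a := 51000) (len := 1000) h51 tr3x_51
  have h53 : ∀ u < 53000, (fun u => chkTree tab (lidx 3) (lpar 3) (lgi 3) 5 [7] u) u = true := ext_range (a := 52000) (len := 1000) h52 tr3x_52
  have h54 : ∀ u < 54000, (fun u => chkTree tab (lidx 3) (lpar 3) (lgi 3) 5 [7] u) u = true := ext_range (a := 53000) (len := 1000) h53 tr3x_53
  have h55 : ∀ u < 55000, (fun u => chkTree tab (lidx 3) (lpar 3) (lgi 3) 5 [7] u) u = true := ext_range (a := 54000) (len := 1000) h54 tr3x_54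
  have h56 : ∀ u < 56000, (fun u => chkTree tab (lidx 3) (lpar 3) (lgi 3) 5 [7] u) u = true := ext_range (a := 55000) (len := 1000) h55 tr3x_55
  have h57 : ∀ u < 57000, (fun u => chkTree tab (lidx 3) (lpar 3) (lgi 3) 5 [7] u) u = true := ext_range (a := 56000) (len := 1000) h56 tr3x_56
  have h58 : ∀ u < 58000, (fun u => chkTree tab (lidx 3) (lpar 3) (lgi 3) 5 [7] u) u = true := ext_range (a := 57000) (len := 1000) h57 tr3x_57
  have h59 : ∀ u < 59000, (fun u => chkTree tab (lidx 3) (lpar 3) (lgi 3) 5 [7] u) u = true := ext_range (a := 58000) (len := 1000) h58 tr3x_58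
  have h60 : ∀ u < 60000, (fun u => chkTree tab (lidx 3) (lpar 3) (lgi 3) 5 [7] u) u = true := ext_range (a := 59000) (len := 1000) h59 tr3x_59
  have h61 : ∀ u < 61000, (fun u => chkTree tab (lidx 3) (lpar 3) (lgi 3) 5 [7] u) u = true := ext_range (a := 60000) (len := 1000) h60 tr3x_60
  have h62 : ∀ u < 62000, (fun u => chkTree tab (lidx 3) (lpar 3) (lgi 3) 5 [7] u) u = true := ext_range (a := 61000) (len := 1000) h61 tr3x_61
  have h63 : ∀ u < 63000, (fun u => chkTree tab (lidx 3) (lpar 3) (lgi 3) 5 [7] u) u = true := ext_range (a := 62000) (len := 1000) h62 tr3x_62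
  have h64 : ∀ u < 64000, (fun u => chkTree tab (lidx 3) (lpar 3) (lgi 3) 5 [7] u) u = true := ext_range (a := 63000) (len := 1000) h63 tr3x_63
  have h65 : ∀ u < 65000, (fun u => chkTree tab (lidx 3) (lpar 3) (lgi 3) 5 [7] u) u = true := ext_range (a := 64000) (len := 1000) h64 tr3x_64
  have h66 : ∀ u < 66000, (fun u => chkTree tab (lidx 3) (lpar 3) (lgi 3) 5 [7] u) u = true := ext_range (a := 65000) (len := 1000) h65 tr3x_65
  have h67 : ∀ u < 67000, (fun u => chkTree tab (lidx 3) (lpar 3) (lgi 3) 5 [7] u) u = true := ext_range (a := 66000) (len := 1000) h66 tr3x_66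
  have h68 : ∀ u < 68000, (fun u => chkTree tab (lidx 3) (lpar 3) (lgi 3) 5 [7] u) u = true := ext_range (a := 67000) (len := 1000) h67 tr3x_67
  have h69 : ∀ u < 69000, (fun u => chkTree tab (lidx 3) (lpar 3) (lgi 3) 5 [7] u) u = true := ext_range (a := 68000) (len := 1000) h68 tr3x_68
  have h70 : ∀ u < 70000, (fun u => chkTree tab (lidx 3) (lpar 3) (lgi 3) 5 [7] u) u = true := ext_range (a := 69000) (len := 1000) h69 tr3x_69
  have h71 : ∀ u < 71000, (fun u => chkTree tab (lidx 3) (lpar 3) (lgi 3) 5 [7] u) u = true := ext_range (a := 70000) (len := 1000) h70 tr3x_70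
  have h72 : ∀ u < 72000, (fun u => chkTree tab (lidx 3) (lpar 3) (lgi 3) 5 [7] u) u = true := ext_range (a := 71000) (len := 1000) h71 tr3x_71
  have h73 : ∀ u < 73000, (fun u => chkTree tab (lidx 3) (lpar 3) (lgi 3) 5 [7] u) u = true := ext_range (a := 72000) (len := 1000) h72 tr3x_72
  have h74 : ∀ u < 74000, (fun u => chkTree tab (lidx 3) (lpar 3) (lgi 3) 5 [7] u) u = true := ext_range (a := 73000) (len := 1000) h73 tr3x_73
  have h75 : ∀ u < 75000, (fun u => chkTree tab (lidx 3) (lpar 3) (lgi 3) 5 [7] u) u = true := ext_range (a := 74000) (len := 1000) h74 tr3x_74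
  have h76 : ∀ u < 76000, (fun u => chkTree tab (lidx 3) (lpar 3) (lgi 3) 5 [7] u) u = true := ext_range (a := 75000) (len := 1000) h75 tr3x_75
  have h77 : ∀ u < 77000, (fun u => chkTree tab (lidx 3) (lpar 3) (lgi 3) 5 [7] u) u = true := ext_range (a := 76000) (len := 1000) h76 tr3x_76
  have h78 : ∀ u < 78000, (fun u => chkTree tab (lidx 3) (lpar 3) (lgi 3) 5 [7] u) u = true := ext_range (a := 77000) (len := 1000) h77 tr3x_77
  have h79 : ∀ u < 79000, (fun u => chkTree tab (lidx 3) (lpar 3) (lgi 3) 5 [7] u) u = true := ext_range (a := 78000) (len := 1000) h78 tr3x_78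
  have h80 : ∀ u < 80000, (fun u => chkTree tab (lidx 3) (lpar 3) (lgi 3) 5 [7] u) u = true := ext_range (a := 79000) (len := 1000) h79 tr3x_79
  have h81 : ∀ u < 81000, (fun u => chkTree tab (lidx 3) (lpar 3) (lgi 3) 5 [7] u) u = true := ext_range (a := 80000) (len := 1000) h80 tr3x_80
  have h82 : ∀ u < 82000, (fun u => chkTree tab (lidx 3) (lpar 3) (lgi 3) 5 [7] u) u = true := ext_range (a := 81000) (len := 1000) h81 tr3x_81
  have h83 : ∀ u < 83000, (fun u => chkTree tab (lidx 3) (lpar 3) (lgi 3) 5 [7] u) u = true := ext_range (a := 82000) (len := 1000) h82 tr3x_82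
  have h84 : ∀ u < 84000, (fun u => chkTree tab (lidx 3) (lpar 3) (lgi 3) 5 [7] u) u = true := ext_range (a := 83000) (len := 1000) h83 tr3x_83
  have h85 : ∀ u < 85000, (fun u => chkTree tab (lidx 3) (lpar 3) (lgi 3) 5 [7] u) u = true := ext_range (a := 84000) (len := 1000) h84 tr3x_84
  have h86 : ∀ u < 86000, (fun u => chkTree tab (lidx 3) (lpar 3) (lgi 3) 5 [7] u) u = true := ext_range (a := 85000) (len := 1000) h85 tr3x_85
  have h87 : ∀ u < 87000, (fun u => chkTree tab (lidx 3) (lpar 3) (lgi 3) 5 [7] u) u = true := ext_range (a := 86000) (len := 1000) h86 tr3x_86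
  have h88 : ∀ u < 88000, (fun u => chkTree tab (lidx 3) (lpar 3) (lgi 3) 5 [7] u) u = true := ext_range (a := 87000) (len := 1000) h87 tr3x_87
  have h89 : ∀ u < 89000, (fun u => chkTree tab (lidx 3) (lpar 3) (lgi 3) 5 [7] u) u = true := ext_range (a := 88000) (len := 1000) h88 tr3x_88
  have h90 : ∀ u < 90000, (fun u => chkTree tab (lidx 3) (lpar 3) (lgi 3) 5 [7] u) u = true := ext_range (a := 89000) (len := 1000) h89 tr3x_89
  have h91 : ∀ u < 91000, (fun u => chkTree tab (lidx 3) (lpar 3) (lgi 3) 5 [7] u) u = true := ext_range (a := 90000) (len := 1000) h90 tr3x_90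
  have h92 : ∀ u < 92000, (fun u => chkTree tab (lidx 3) (lpar 3) (lgi 3) 5 [7] u) u = true := ext_range (a := 91000) (len := 1000) h91 tr3x_91
  have h93 : ∀ u < 93000, (fun u => chkTree tab (lidx 3) (lpar 3) (lgi 3) 5 [7] u) u = true := ext_range (a := 92000) (len := 1000) h92 tr3x_92
  have h94 : ∀ u < 94000, (fun u => chkTree tab (lidx 3) (lpar 3) (lgi 3) 5 [7] u) u = true := ext_range (a := 93000) (len := 1000) h93 tr3x_93
  have h95 : ∀ u < 95000, (fun u => chkTree tab (lidx 3) (lpar 3) (lgi 3) 5 [7] u) u = true := ext_range (a := 94000) (len := 1000) h94 tr3x_94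
  have h96 : ∀ u < 96000, (fun u => chkTree tab (lidx 3) (lpar 3) (lgi 3) 5 [7] u) u = true := ext_range (a := 95000) (len := 1000) h95 tr3x_95
  have h97 : ∀ u < 97000, (fun u => chkTree tab (lidx 3) (lpar 3) (lgi 3) 5 [7] u) u = true := ext_range (a := 96000) (len := 1000) h96 tr3x_96
  have h98 : ∀ u < 98000, (fun u => chkTree tab (lidx 3) (lpar 3) (lgi 3) 5 [7] u) u = true := ext_range (a := 97000) (len := 1000) h97 tr3x_97
  have h99 : ∀ u < 99000, (fun u => chkTree tab (lidx 3) (lpar 3) (lgi 3) 5 [7] u) u = true := ext_range (a := 98000) (len := 1000) h98 tr3x_98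
  have h100 : ∀ u < 100000, (fun u => chkTree tab (lidx 3) (lpar 3) (lgi 3) 5 [7] u) u = true := ext_range (a := 99000) (len := 1000) h99 tr3x_99
  have h101 : ∀ u < 101000, (fun u => chkTree tab (lidx 3) (lpar 3) (lgi 3) 5 [7] u) u = true := ext_range (a := 100000) (len := 1000) h100 tr3x_100
  have h102 : ∀ u < 102000, (fun u => chkTree tab (lidx 3) (lpar 3) (lgi 3) 5 [7] u) u = true := ext_range (a := 101000) (len := 1000) h101 tr3x_101
  have h103 : ∀ u < 103000, (fun u => chkTree tab (lidx 3) (lpar 3) (lgi 3) 5 [7] u) u = true := ext_range (a := 102000) (len := 1000) h102 tr3x_102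
  have h104 : ∀ u < 104000, (fun u => chkTree tab (lidx 3) (lpar 3) (lgi 3) 5 [7] u) u = true := ext_range (a := 103000) (len := 1000) h103 tr3x_103
  have h105 : ∀ u < 105000, (fun u => chkTree tab (lidx 3) (lpar 3) (lgi 3) 5 [7] u) u = true := ext_range (a := 104000) (len := 1000) h104 tr3x_104
  have h106 : ∀ u < 106000, (fun u => chkTree tab (lidx 3) (lpar 3) (lgi 3) 5 [7] u) u = true := ext_range (a := 105000) (len := 1000) h105 tr3x_105
  have h107 : ∀ u < 107000, (fun u => chkTree tab (lidx 3) (lpar 3) (lgi 3) 5 [7] u) u = true := ext_range (a := 106000) (len := 1000) h106 tr3x_106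
  have h108 : ∀ u < 108000, (fun u => chkTree tab (lidx 3) (lpar 3) (lgi 3) 5 [7] u) u = true := ext_range (a := 107000) (len := 1000) h107 tr3x_107
  have h109 : ∀ u < 109000, (fun u => chkTree tab (lidx 3) (lpar 3) (lgi 3) 5 [7] u) u = true := ext_range (a := 108000) (len := 1000) h108 tr3x_108
  have h110 : ∀ u < 110000, (fun u => chkTree tab (lidx 3) (lpar 3) (lgi 3) 5 [7] u) u = true := ext_range (a := 109000) (len := 1000) h109 tr3x_109
  have h111 : ∀ u < 111000, (fun u => chkTree tab (lidx 3) (lpar 3) (lgi 3) 5 [7] u) u = true := ext_range (a := 110000) (len := 1000) h110 tr3x_110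
  have h112 : ∀ u < 112000, (fun u => chkTree tab (lidx 3) (lpar 3) (lgi 3) 5 [7] u) u = true := ext_range (a := 111000) (len := 1000) h111 tr3x_111
  have h113 : ∀ u < 113000, (fun u => chkTree tab (lidx 3) (lpar 3) (lgi 3) 5 [7] u) u = true := ext_range (a := 112000) (len := 1000) h112 tr3x_112
  have h114 : ∀ u < 114000, (fun u => chkTree tab (lidx 3) (lpar 3) (lgi 3) 5 [7] u) u = true := ext_range (a := 113000) (len := 1000) h113 tr3x_113
  have h115 : ∀ u < 115000, (fun u => chkTree tab (lidx 3) (lpar 3) (lgi 3) 5 [7] u) u = true := ext_range (a := 114000) (len := 1000) h114 tr3x_114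
  have h116 : ∀ u < 116000, (fun u => chkTree tab (lidx 3) (lpar 3) (lgi 3) 5 [7] u) u = true := ext_range (a := 115000) (len := 1000) h115 tr3x_115
  have h117 : ∀ u < 117000, (fun u => chkTree tab (lidx 3) (lpar 3) (lgi 3) 5 [7] u) u = true := ext_range (a := 116000) (len := 1000) h116 tr3x_116
  have h118 : ∀ u < 118000, (fun u => chkTree tab (lidx 3) (lpar 3) (lgi 3) 5 [7] u) u = true := ext_range (a := 117000) (len := 1000) h117 tr3x_117
  have h119 : ∀ u < 119000, (fun u => chkTree tab (lidx 3) (lpar 3) (lgi 3) 5 [7] u) u = true := ext_range (a := 118000) (len := 1000) h118 tr3x_118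
  have h120 : ∀ u < 120000, (fun u => chkTree tab (lidx 3) (lpar 3) (lgi 3) 5 [7] u) u = true := ext_range (a := 119000) (len := 1000) h119 tr3x_119
  have h121 : ∀ u < 121000, (fun u => chkTree tab (lidx 3) (lpar 3) (lgi 3) 5 [7] u) u = true := ext_range (a := 120000) (len := 1000) h120 tr3x_120
  have h122 : ∀ u < 122000, (fun u => chkTree tab (lidx 3) (lpar 3) (lgi 3) 5 [7] u) u = true := ext_range (a := 121000) (len := 1000) h121 tr3x_121
  have h123 : ∀ u < 122760, (fun u => chkTree tab (lidx 3) (lpar 3) (lgi 3) 5 [7] u) u = true := ext_range (a := 122000) (len := 760) h122 tr3x_122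
  exact h123

theorem hX : ∀ u < 122760, Nat.beq ((runT tab xw)^[5] u) u = true := by
  have h0 : ∀ u < 0, (fun u => Nat.beq ((runT tab xw)^[5] u) u) u = true := range_zero
  have h1 : ∀ u < 500, (fun u => Nat.beq ((runT tab xw)^[5] u) u) u = true := ext_range (a := 0) (len := 500) h0 x_0
  have h2 : ∀ u < 1000, (fun u => Nat.beq ((runT tab xw)^[5] u) u) u = true := ext_range (a := 500) (len := 500) h1 x_1
  have h3 : ∀ u < 1500, (fun u => Nat.beq ((runT tab xw)^[5] u) u) u = true := ext_range (a := 1000) (len := 500) h2 x_2
  have h4 : ∀ u < 2000, (fun u => Nat.beq ((runT tab xw)^[5] u) u) u = true := ext_range (a := 1500) (len := 500) h3 x_3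
  have h5 : ∀ u < 2500, (fun u => Nat.beq ((runT tab xw)^[5] u) u) u = true := ext_range (a := 2000) (len := 500) h4 x_4
  have h6 : ∀ u < 3000, (fun u => Nat.beq ((runT tab xw)^[5] u) u) u = true := ext_range (a := 2500) (len := 500) h5 x_5
  have h7 : ∀ u < 3500, (fun u => Nat.beq ((runT tab xw)^[5] u) u) u = true := ext_range (a := 3000) (len := 500) h6 x_6
  have h8 : ∀ u < 4000, (fun u => Nat.beq ((runT tab xw)^[5] u) u) u = true := ext_range (a := 3500) (len := 500) h7 x_7
  have h9 : ∀ u < 4500, (fun u => Nat.beq ((runT tab xw)^[5] u) u) u = true := ext_range (a := 4000) (len := 500) h8 x_8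
  have h10 : ∀ u < 5000, (fun u => Nat.beq ((runT tab xw)^[5] u) u) u = true := ext_range (a := 4500) (len := 500) h9 x_9
  have h11 : ∀ u < 5500, (fun u => Nat.beq ((runT tab xw)^[5] u) u) u = true := ext_range (a := 5000) (len := 500) h10 x_10
  have h12 : ∀ u < 6000, (fun u => Nat.beq ((runT tab xw)^[5] u) u) u = true := ext_range (a := 5500) (len := 500) h11 x_11
  have h13 : ∀ u < 6500, (fun u => Nat.beq ((runT tab xw)^[5] u) u) u = true := ext_range (a := 6000) (len := 500) h12 x_12
  have h14 : ∀ u < 7000, (fun u => Nat.beq ((runT tab xw)^[5] u) u) u = true := ext_range (a := 6500) (len := 500) h13 x_13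
  have h15 : ∀ u < 7500, (fun u => Nat.beq ((runT tab xw)^[5] u) u) u = true := ext_range (a := 7000) (len := 500) h14 x_14
  have h16 : ∀ u < 8000, (fun u => Nat.beq ((runT tab xw)^[5] u) u) u = true := ext_range (a := 7500) (len := 500) h15 x_15
  have h17 : ∀ u < 8500, (fun u => Nat.beq ((runT tab xw)^[5] u) u) u = true := ext_range (a := 8000) (len := 500) h16 x_16
  have h18 : ∀ u < 9000, (fun u => Nat.beq ((runT tab xw)^[5] u) u) u = true := ext_range (a := 8500) (len := 500) h17 x_17
  have h19 : ∀ u < 9500, (fun u => Nat.beq ((runT tab xw)^[5] u) u) u = true := ext_range (a := 9000) (len := 500) h18 x_18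
  have h20 : ∀ u < 10000, (fun u => Nat.beq ((runT tab xw)^[5] u) u) u = true := ext_range (a := 9500) (len := 500) h19 x_19
  have h21 : ∀ u < 10500, (fun u => Nat.beq ((runT tab xw)^[5] u) u) u = true := ext_range (a := 10000) (len := 500) h20 x_20
  have h22 : ∀ u < 11000, (fun u => Nat.beq ((runT tab xw)^[5] u) u) u = true := ext_range (a := 10500) (len := 500) h21 x_21
  have h23 : ∀ u < 11500, (fun u => Nat.beq ((runT tab xw)^[5] u) u) u = true := ext_range (a := 11000) (len := 500) h22 x_22
  have h24 : ∀ u < 12000, (fun u => Nat.beq ((runT tab xw)^[5] u) u) u = true := ext_range (a := 11500) (len := 500) h23 x_23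
  have h25 : ∀ u < 12500, (fun u => Nat.beq ((runT tab xw)^[5] u) u) u = true := ext_range (a := 12000) (len := 500) h24 x_24
  have h26 : ∀ u < 13000, (fun u => Nat.beq ((runT tab xw)^[5] u) u) u = true := ext_range (a := 12500) (len := 500) h25 x_25
  have h27 : ∀ u < 13500, (fun u => Nat.beq ((runT tab xw)^[5] u) u) u = true := ext_range (a := 13000) (len := 500) h26 x_26
  have h28 : ∀ u < 14000, (fun u => Nat.beq ((runT tab xw)^[5] u) u) u = true := ext_range (a := 13500) (len := 500) h27 x_27
  have h29 : ∀ u < 14500, (fun u => Nat.beq ((runT tab xw)^[5] u) u) u = true := ext_range (a := 14000) (len := 500) h28 x_28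
  have h30 : ∀ u < 15000, (fun u => Nat.beq ((runT tab xw)^[5] u) u) u = true := ext_range (a := 14500) (len := 500) h29 x_29
  have h31 : ∀ u < 15500, (fun u => Nat.beq ((runT tab xw)^[5] u) u) u = true := ext_range (a := 15000) (len := 500) h30 x_30
  have h32 : ∀ u < 16000, (fun u => Nat.beq ((runT tab xw)^[5] u) u) u = true := ext_range (a := 15500) (len := 500) h31 x_31
  have h33 : ∀ u < 16500, (fun u => Nat.beq ((runT tab xw)^[5] u) u) u = true := ext_range (a := 16000) (len := 500) h32 x_32
  have h34 : ∀ u < 17000, (fun u => Nat.beq ((runT tab xw)^[5] u) u) u = true := ext_range (a := 16500) (len := 500) h33 x_33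
  have h35 : ∀ u < 17500, (fun u => Nat.beq ((runT tab xw)^[5] u) u) u = true := ext_range (a := 17000) (len := 500) h34 x_34
  have h36 : ∀ u < 18000, (fun u => Nat.beq ((runT tab xw)^[5] u) u) u = true := ext_range (a := 17500) (len := 500) h35 x_35
  have h37 : ∀ u < 18500, (fun u => Nat.beq ((runT tab xw)^[5] u) u) u = true := ext_range (a := 18000) (len := 500) h36 x_36
  have h38 : ∀ u < 19000, (fun u => Nat.beq ((runT tab xw)^[5] u) u) u = true := ext_range (a := 18500) (len := 500) h37 x_37
  have h39 : ∀ u < 19500, (fun u => Nat.beq ((runT tab xw)^[5] u) u) u = true := ext_range (a := 19000) (len := 500) h38 x_38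
  have h40 : ∀ u < 20000, (fun u => Nat.beq ((runT tab xw)^[5] u) u) u = true := ext_range (a := 19500) (len := 500) h39 x_39
  have h41 : ∀ u < 20500, (fun u => Nat.beq ((runT tab xw)^[5] u) u) u = true := ext_range (a := 20000) (len := 500) h40 x_40
  have h42 : ∀ u < 21000, (fun u => Nat.beq ((runT tab xw)^[5] u) u) u = true := ext_range (a := 20500) (len := 500) h41 x_41
  have h43 : ∀ u < 21500, (fun u => Nat.beq ((runT tab xw)^[5] u) u) u = true := ext_range (a := 21000) (len := 500) h42 x_42
  have h44 : ∀ u < 22000, (fun u => Nat.beq ((runT tab xw)^[5] u) u) u = true := ext_range (a := 21500) (len := 500) h43 x_43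
  have h45 : ∀ u < 22500, (fun u => Nat.beq ((runT tab xw)^[5] u) u) u = true := ext_range (a := 22000) (len := 500) h44 x_44
  have h46 : ∀ u < 23000, (fun u => Nat.beq ((runT tab xw)^[5] u) u) u = true := ext_range (a := 22500) (len := 500) h45 x_45
  have h47 : ∀ u < 23500, (fun u => Nat.beq ((runT tab xw)^[5] u) u) u = true := ext_range (a := 23000) (len := 500) h46 x_46
  have h48 : ∀ u < 24000, (fun u => Nat.beq ((runT tab xw)^[5] u) u) u = true := ext_range (a := 23500) (len := 500) h47 x_47
  have h49 : ∀ u < 24500, (fun u => Nat.beq ((runT tab xw)^[5] u) u) u = true := ext_range (a := 24000) (len := 500) h48 x_48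
  have h50 : ∀ u < 25000, (fun u => Nat.beq ((runT tab xw)^[5] u) u) u = true := ext_range (a := 24500) (len := 500) h49 x_49
  have h51 : ∀ u < 25500, (fun u => Nat.beq ((runT tab xw)^[5] u) u) u = true := ext_range (a := 25000) (len := 500) h50 x_50
  have h52 : ∀ u < 26000, (fun u => Nat.beq ((runT tab xw)^[5] u) u) u = true := ext_range (a := 25500) (len := 500) h51 x_51
  have h53 : ∀ u < 26500, (fun u => Nat.beq ((runT tab xw)^[5] u) u) u = true := ext_range (a := 26000) (len := 500) h52 x_52
  have h54 : ∀ u < 27000, (fun u => Nat.beq ((runT tab xw)^[5] u) u) u = true := ext_range (a := 26500) (len := 500) h53 x_53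
  have h55 : ∀ u < 27500, (fun u => Nat.beq ((runT tab xw)^[5] u) u) u = true := ext_range (a := 27000) (len := 500) h54 x_54
  have h56 : ∀ u < 28000, (fun u => Nat.beq ((runT tab xw)^[5] u) u) u = true := ext_range (a := 27500) (len := 500) h55 x_55
  have h57 : ∀ u < 28500, (fun u => Nat.beq ((runT tab xw)^[5] u) u) u = true := ext_range (a := 28000) (len := 500) h56 x_56
  have h58 : ∀ u < 29000, (fun u => Nat.beq ((runT tab xw)^[5] u) u) u = true := ext_range (a := 28500) (len := 500) h57 x_57
  have h59 : ∀ u < 29500, (fun u => Nat.beq ((runT tab xw)^[5] u) u) u = true := ext_range (a := 29000) (len := 500) h58 x_58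
  have h60 : ∀ u < 30000, (fun u => Nat.beq ((runT tab xw)^[5] u) u) u = true := ext_range (a := 29500) (len := 500) h59 x_59
  have h61 : ∀ u < 30500, (fun u => Nat.beq ((runT tab xw)^[5] u) u) u = true := ext_range (a := 30000) (len := 500) h60 x_60
  have h62 : ∀ u < 31000, (fun u => Nat.beq ((runT tab xw)^[5] u) u) u = true := ext_range (a := 30500) (len := 500) h61 x_61
  have h63 : ∀ u < 31500, (fun u => Nat.beq ((runT tab xw)^[5] u) u) u = true := ext_range (a := 31000) (len := 500) h62 x_62
  have h64 : ∀ u < 32000, (fun u => Nat.beq ((runT tab xw)^[5] u) u) u = true := ext_range (a := 31500) (len := 500) h63 x_63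
  have h65 : ∀ u < 32500, (fun u => Nat.beq ((runT tab xw)^[5] u) u) u = true := ext_range (a := 32000) (len := 500) h64 x_64
  have h66 : ∀ u < 33000, (fun u => Nat.beq ((runT tab xw)^[5] u) u) u = true := ext_range (a := 32500) (len := 500) h65 x_65
  have h67 : ∀ u < 33500, (fun u => Nat.beq ((runT tab xw)^[5] u) u) u = true := ext_range (a := 33000) (len := 500) h66 x_66
  have h68 : ∀ u < 34000, (fun u => Nat.beq ((runT tab xw)^[5] u) u) u = true := ext_range (a := 33500) (len := 500) h67 x_67
  have h69 : ∀ u < 34500, (fun u => Nat.beq ((runT tab xw)^[5] u) u) u = true := ext_range (a := 34000) (len := 500) h68 x_68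
  have h70 : ∀ u < 35000, (fun u => Nat.beq ((runT tab xw)^[5] u) u) u = true := ext_range (a := 34500) (len := 500) h69 x_69
  have h71 : ∀ u < 35500, (fun u => Nat.beq ((runT tab xw)^[5] u) u) u = true := ext_range (a := 35000) (len := 500) h70 x_70
  have h72 : ∀ u < 36000, (fun u => Nat.beq ((runT tab xw)^[5] u) u) u = true := ext_range (a := 35500) (len := 500) h71 x_71
  have h73 : ∀ u < 36500, (fun u => Nat.beq ((runT tab xw)^[5] u) u) u = true := ext_range (a := 36000) (len := 500) h72 x_72
  have h74 : ∀ u < 37000, (fun u => Nat.beq ((runT tab xw)^[5] u) u) u = true := ext_range (a := 36500) (len := 500) h73 x_73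
  have h75 : ∀ u < 37500, (fun u => Nat.beq ((runT tab xw)^[5] u) u) u = true := ext_range (a := 37000) (len := 500) h74 x_74
  have h76 : ∀ u < 38000, (fun u => Nat.beq ((runT tab xw)^[5] u) u) u = true := ext_range (a := 37500) (len := 500) h75 x_75
  have h77 : ∀ u < 38500, (fun u => Nat.beq ((runT tab xw)^[5] u) u) u = true := ext_range (a := 38000) (len := 500) h76 x_76
  have h78 : ∀ u < 39000, (fun u => Nat.beq ((runT tab xw)^[5] u) u) u = true := ext_range (a := 38500) (len := 500) h77 x_77
  have h79 : ∀ u < 39500, (fun u => Nat.beq ((runT tab xw)^[5] u) u) u = true := ext_range (a := 39000) (len := 500) h78 x_78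
  have h80 : ∀ u < 40000, (fun u => Nat.beq ((runT tab xw)^[5] u) u) u = true := ext_range (a := 39500) (len := 500) h79 x_79
  have h81 : ∀ u < 40500, (fun u => Nat.beq ((runT tab xw)^[5] u) u) u = true := ext_range (a := 40000) (len := 500) h80 x_80
  have h82 : ∀ u < 41000, (fun u => Nat.beq ((runT tab xw)^[5] u) u) u = true := ext_range (a := 40500) (len := 500) h81 x_81
  have h83 : ∀ u < 41500, (fun u => Nat.beq ((runT tab xw)^[5] u) u) u = true := ext_range (a := 41000) (len := 500) h82 x_82
  have h84 : ∀ u < 42000, (fun u => Nat.beq ((runT tab xw)^[5] u) u) u = true := ext_range (a := 41500) (len := 500) h83 x_83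
  have h85 : ∀ u < 42500, (fun u => Nat.beq ((runT tab xw)^[5] u) u) u = true := ext_range (a := 42000) (len := 500) h84 x_84
  have h86 : ∀ u < 43000, (fun u => Nat.beq ((runT tab xw)^[5] u) u) u = true := ext_range (a := 42500) (len := 500) h85 x_85
  have h87 : ∀ u < 43500, (fun u => Nat.beq ((runT tab xw)^[5] u) u) u = true := ext_range (a := 43000) (len := 500) h86 x_86
  have h88 : ∀ u < 44000, (fun u => Nat.beq ((runT tab xw)^[5] u) u) u = true := ext_range (a := 43500) (len := 500) h87 x_87
  have h89 : ∀ u < 44500, (fun u => Nat.beq ((runT tab xw)^[5] u) u) u = true := ext_range (a := 44000) (len := 500) h88 x_88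
  have h90 : ∀ u < 45000, (fun u => Nat.beq ((runT tab xw)^[5] u) u) u = true := ext_range (a := 44500) (len := 500) h89 x_89
  have h91 : ∀ u < 45500, (fun u => Nat.beq ((runT tab xw)^[5] u) u) u = true := ext_range (a := 45000) (len := 500) h90 x_90
  have h92 : ∀ u < 46000, (fun u => Nat.beq ((runT tab xw)^[5] u) u) u = true := ext_range (a := 45500) (len := 500) h91 x_91
  have h93 : ∀ u < 46500, (fun u => Nat.beq ((runT tab xw)^[5] u) u) u = true := ext_range (a := 46000) (len := 500) h92 x_92
  have h94 : ∀ u < 47000, (fun u => Nat.beq ((runT tab xw)^[5] u) u) u = true := ext_range (a := 46500) (len := 500) h93 x_93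
  have h95 : ∀ u < 47500, (fun u => Nat.beq ((runT tab xw)^[5] u) u) u = true := ext_range (a := 47000) (len := 500) h94 x_94
  have h96 : ∀ u < 48000, (fun u => Nat.beq ((runT tab xw)^[5] u) u) u = true := ext_range (a := 47500) (len := 500) h95 x_95
  have h97 : ∀ u < 48500, (fun u => Nat.beq ((runT tab xw)^[5] u) u) u = true := ext_range (a := 48000) (len := 500) h96 x_96
  have h98 : ∀ u < 49000, (fun u => Nat.beq ((runT tab xw)^[5] u) u) u = true := ext_range (a := 48500) (len := 500) h97 x_97
  have h99 : ∀ u < 49500, (fun u => Nat.beq ((runT tab xw)^[5] u) u) u = true := ext_range (a := 49000) (len := 500) h98 x_98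
  have h100 : ∀ u < 50000, (fun u => Nat.beq ((runT tab xw)^[5] u) u) u = true := ext_range (a := 49500) (len := 500) h99 x_99
  have h101 : ∀ u < 50500, (fun u => Nat.beq ((runT tab xw)^[5] u) u) u = true := ext_range (a := 50000) (len := 500) h100 x_100
  have h102 : ∀ u < 51000, (fun u => Nat.beq ((runT tab xw)^[5] u) u) u = true := ext_range (a := 50500) (len := 500) h101 x_101
  have h103 : ∀ u < 51500, (fun u => Nat.beq ((runT tab xw)^[5] u) u) u = true := ext_range (a := 51000) (len := 500) h102 x_102
  have h104 : ∀ u < 52000, (fun u => Nat.beq ((runT tab xw)^[5] u) u) u = true := ext_range (a := 51500) (len := 500) h103 x_103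
  have h105 : ∀ u < 52500, (fun u => Nat.beq ((runT tab xw)^[5] u) u) u = true := ext_range (a := 52000) (len := 500) h104 x_104
  have h106 : ∀ u < 53000, (fun u => Nat.beq ((runT tab xw)^[5] u) u) u = true := ext_range (a := 52500) (len := 500) h105 x_105
  have h107 : ∀ u < 53500, (fun u => Nat.beq ((runT tab xw)^[5] u) u) u = true := ext_range (a := 53000) (len := 500) h106 x_106
  have h108 : ∀ u < 54000, (fun u => Nat.beq ((runT tab xw)^[5] u) u) u = true := ext_range (a := 53500) (len := 500) h107 x_107
  have h109 : ∀ u < 54500, (fun u => Nat.beq ((runT tab xw)^[5] u) u) u = true := ext_range (a := 54000) (len := 500) h108 x_108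
  have h110 : ∀ u < 55000, (fun u => Nat.beq ((runT tab xw)^[5] u) u) u = true := ext_range (a := 54500) (len := 500) h109 x_109
  have h111 : ∀ u < 55500, (fun u => Nat.beq ((runT tab xw)^[5] u) u) u = true := ext_range (a := 55000) (len := 500) h110 x_110
  have h112 : ∀ u < 56000, (fun u => Nat.beq ((runT tab xw)^[5] u) u) u = true := ext_range (a := 55500) (len := 500) h111 x_111
  have h113 : ∀ u < 56500, (fun u => Nat.beq ((runT tab xw)^[5] u) u) u = true := ext_range (a := 56000) (len := 500) h112 x_112
  have h114 : ∀ u < 57000, (fun u => Nat.beq ((runT tab xw)^[5] u) u) u = true := ext_range (a := 56500) (len := 500) h113 x_113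
  have h115 : ∀ u < 57500, (fun u => Nat.beq ((runT tab xw)^[5] u) u) u = true := ext_range (a := 57000) (len := 500) h114 x_114
  have h116 : ∀ u < 58000, (fun u => Nat.beq ((runT tab xw)^[5] u) u) u = true := ext_range (a := 57500) (len := 500) h115 x_115
  have h117 : ∀ u < 58500, (fun u => Nat.beq ((runT tab xw)^[5] u) u) u = true := ext_range (a := 58000) (len := 500) h116 x_116
  have h118 : ∀ u < 59000, (fun u => Nat.beq ((runT tab xw)^[5] u) u) u = true := ext_range (a := 58500) (len := 500) h117 x_117
  have h119 : ∀ u < 59500, (fun u => Nat.beq ((runT tab xw)^[5] u) u) u = true := ext_range (a := 59000) (len := 500) h118 x_118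
  have h120 : ∀ u < 60000, (fun u => Nat.beq ((runT tab xw)^[5] u) u) u = true := ext_range (a := 59500) (len := 500) h119 x_119
  have h121 : ∀ u < 60500, (fun u => Nat.beq ((runT tab xw)^[5] u) u) u = true := ext_range (a := 60000) (len := 500) h120 x_120
  have h122 : ∀ u < 61000, (fun u => Nat.beq ((runT tab xw)^[5] u) u) u = true := ext_range (a := 60500) (len := 500) h121 x_121
  have h123 : ∀ u < 61500, (fun u => Nat.beq ((runT tab xw)^[5] u) u) u = true := ext_range (a := 61000) (len := 500) h122 x_122
  have h124 : ∀ u < 62000, (fun u => Nat.beq ((runT tab xw)^[5] u) u) u = true := ext_range (a := 61500) (len := 500) h123 x_123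
  have h125 : ∀ u < 62500, (fun u => Nat.beq ((runT tab xw)^[5] u) u) u = true := ext_range (a := 62000) (len := 500) h124 x_124
  have h126 : ∀ u < 63000, (fun u => Nat.beq ((runT tab xw)^[5] u) u) u = true := ext_range (a := 62500) (len := 500) h125 x_125
  have h127 : ∀ u < 63500, (fun u => Nat.beq ((runT tab xw)^[5] u) u) u = true := ext_range (a := 63000) (len := 500) h126 x_126
  have h128 : ∀ u < 64000, (fun u => Nat.beq ((runT tab xw)^[5] u) u) u = true := ext_range (a := 63500) (len := 500) h127 x_127
  have h129 : ∀ u < 64500, (fun u => Nat.beq ((runT tab xw)^[5] u) u) u = true := ext_range (a := 64000) (len := 500) h128 x_128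
  have h130 : ∀ u < 65000, (fun u => Nat.beq ((runT tab xw)^[5] u) u) u = true := ext_range (a := 64500) (len := 500) h129 x_129
  have h131 : ∀ u < 65500, (fun u => Nat.beq ((runT tab xw)^[5] u) u) u = true := ext_range (a := 65000) (len := 500) h130 x_130
  have h132 : ∀ u < 66000, (fun u => Nat.beq ((runT tab xw)^[5] u) u) u = true := ext_range (a := 65500) (len := 500) h131 x_131
  have h133 : ∀ u < 66500, (fun u => Nat.beq ((runT tab xw)^[5] u) u) u = true := ext_range (a := 66000) (len := 500) h132 x_132
  have h134 : ∀ u < 67000, (fun u => Nat.beq ((runT tab xw)^[5] u) u) u = true := ext_range (a := 66500) (len := 500) h133 x_133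
  have h135 : ∀ u < 67500, (fun u => Nat.beq ((runT tab xw)^[5] u) u) u = true := ext_range (a := 67000) (len := 500) h134 x_134
  have h136 : ∀ u < 68000, (fun u => Nat.beq ((runT tab xw)^[5] u) u) u = true := ext_range (a := 67500) (len := 500) h135 x_135
  have h137 : ∀ u < 68500, (fun u => Nat.beq ((runT tab xw)^[5] u) u) u = true := ext_range (a := 68000) (len := 500) h136 x_136
  have h138 : ∀ u < 69000, (fun u => Nat.beq ((runT tab xw)^[5] u) u) u = true := ext_range (a := 68500) (len := 500) h137 x_137
  have h139 : ∀ u < 69500, (fun u => Nat.beq ((runT tab xw)^[5] u) u) u = true := ext_range (a := 69000) (len := 500) h138 x_138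
  have h140 : ∀ u < 70000, (fun u => Nat.beq ((runT tab xw)^[5] u) u) u = true := ext_range (a := 69500) (len := 500) h139 x_139
  have h141 : ∀ u < 70500, (fun u => Nat.beq ((runT tab xw)^[5] u) u) u = true := ext_range (a := 70000) (len := 500) h140 x_140
  have h142 : ∀ u < 71000, (fun u => Nat.beq ((runT tab xw)^[5] u) u) u = true := ext_range (a := 70500) (len := 500) h141 x_141
  have h143 : ∀ u < 71500, (fun u => Nat.beq ((runT tab xw)^[5] u) u) u = true := ext_range (a := 71000) (len := 500) h142 x_142
  have h144 : ∀ u < 72000, (fun u => Nat.beq ((runT tab xw)^[5] u) u) u = true := ext_range (a := 71500) (len := 500) h143 x_143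
  have h145 : ∀ u < 72500, (fun u => Nat.beq ((runT tab xw)^[5] u) u) u = true := ext_range (a := 72000) (len := 500) h144 x_144
  have h146 : ∀ u < 73000, (fun u => Nat.beq ((runT tab xw)^[5] u) u) u = true := ext_range (a := 72500) (len := 500) h145 x_145
  have h147 : ∀ u < 73500, (fun u => Nat.beq ((runT tab xw)^[5] u) u) u = true := ext_range (a := 73000) (len := 500) h146 x_146
  have h148 : ∀ u < 74000, (fun u => Nat.beq ((runT tab xw)^[5] u) u) u = true := ext_range (a := 73500) (len := 500) h147 x_147
  have h149 : ∀ u < 74500, (fun u => Nat.beq ((runT tab xw)^[5] u) u) u = true := ext_range (a := 74000) (len := 500) h148 x_148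
  have h150 : ∀ u < 75000, (fun u => Nat.beq ((runT tab xw)^[5] u) u) u = true := ext_range (a := 74500) (len := 500) h149 x_149
  have h151 : ∀ u < 75500, (fun u => Nat.beq ((runT tab xw)^[5] u) u) u = true := ext_range (a := 75000) (len := 500) h150 x_150
  have h152 : ∀ u < 76000, (fun u => Nat.beq ((runT tab xw)^[5] u) u) u = true := ext_range (a := 75500) (len := 500) h151 x_151
  have h153 : ∀ u < 76500, (fun u => Nat.beq ((runT tab xw)^[5] u) u) u = true := ext_range (a := 76000) (len := 500) h152 x_152
  have h154 : ∀ u < 77000, (fun u => Nat.beq ((runT tab xw)^[5] u) u) u = true := ext_range (a := 76500) (len := 500) h153 x_153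
  have h155 : ∀ u < 77500, (fun u => Nat.beq ((runT tab xw)^[5] u) u) u = true := ext_range (a := 77000) (len := 500) h154 x_154
  have h156 : ∀ u < 78000, (fun u => Nat.beq ((runT tab xw)^[5] u) u) u = true := ext_range (a := 77500) (len := 500) h155 x_155
  have h157 : ∀ u < 78500, (fun u => Nat.beq ((runT tab xw)^[5] u) u) u = true := ext_range (a := 78000) (len := 500) h156 x_156
  have h158 : ∀ u < 79000, (fun u => Nat.beq ((runT tab xw)^[5] u) u) u = true := ext_range (a := 78500) (len := 500) h157 x_157
  have h159 : ∀ u < 79500, (fun u => Nat.beq ((runT tab xw)^[5] u) u) u = true := ext_range (a := 79000) (len := 500) h158 x_158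
  have h160 : ∀ u < 80000, (fun u => Nat.beq ((runT tab xw)^[5] u) u) u = true := ext_range (a := 79500) (len := 500) h159 x_159
  have h161 : ∀ u < 80500, (fun u => Nat.beq ((runT tab xw)^[5] u) u) u = true := ext_range (a := 80000) (len := 500) h160 x_160
  have h162 : ∀ u < 81000, (fun u => Nat.beq ((runT tab xw)^[5] u) u) u = true := ext_range (a := 80500) (len := 500) h161 x_161
  have h163 : ∀ u < 81500, (fun u => Nat.beq ((runT tab xw)^[5] u) u) u = true := ext_range (a := 81000) (len := 500) h162 x_162
  have h164 : ∀ u < 82000, (fun u => Nat.beq ((runT tab xw)^[5] u) u) u = true := ext_range (a := 81500) (len := 500) h163 x_163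
  have h165 : ∀ u < 82500, (fun u => Nat.beq ((runT tab xw)^[5] u) u) u = true := ext_range (a := 82000) (len := 500) h164 x_164
  have h166 : ∀ u < 83000, (fun u => Nat.beq ((runT tab xw)^[5] u) u) u = true := ext_range (a := 82500) (len := 500) h165 x_165
  have h167 : ∀ u < 83500, (fun u => Nat.beq ((runT tab xw)^[5] u) u) u = true := ext_range (a := 83000) (len := 500) h166 x_166
  have h168 : ∀ u < 84000, (fun u => Nat.beq ((runT tab xw)^[5] u) u) u = true := ext_range (a := 83500) (len := 500) h167 x_167
  have h169 : ∀ u < 84500, (fun u => Nat.beq ((runT tab xw)^[5] u) u) u = true := ext_range (a := 84000) (len := 500) h168 x_168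
  have h170 : ∀ u < 85000, (fun u => Nat.beq ((runT tab xw)^[5] u) u) u = true := ext_range (a := 84500) (len := 500) h169 x_169
  have h171 : ∀ u < 85500, (fun u => Nat.beq ((runT tab xw)^[5] u) u) u = true := ext_range (a := 85000) (len := 500) h170 x_170
  have h172 : ∀ u < 86000, (fun u => Nat.beq ((runT tab xw)^[5] u) u) u = true := ext_range (a := 85500) (len := 500) h171 x_171
  have h173 : ∀ u < 86500, (fun u => Nat.beq ((runT tab xw)^[5] u) u) u = true := ext_range (a := 86000) (len := 500) h172 x_172
  have h174 : ∀ u < 87000, (fun u => Nat.beq ((runT tab xw)^[5] u) u) u = true := ext_range (a := 86500) (len := 500) h173 x_173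
  have h175 : ∀ u < 87500, (fun u => Nat.beq ((runT tab xw)^[5] u) u) u = true := ext_range (a := 87000) (len := 500) h174 x_174
  have h176 : ∀ u < 88000, (fun u => Nat.beq ((runT tab xw)^[5] u) u) u = true := ext_range (a := 87500) (len := 500) h175 x_175
  have h177 : ∀ u < 88500, (fun u => Nat.beq ((runT tab xw)^[5] u) u) u = true := ext_range (a := 88000) (len := 500) h176 x_176
  have h178 : ∀ u < 89000, (fun u => Nat.beq ((runT tab xw)^[5] u) u) u = true := ext_range (a := 88500) (len := 500) h177 x_177
  have h179 : ∀ u < 89500, (fun u => Nat.beq ((runT tab xw)^[5] u) u) u = true := ext_range (a := 89000) (len := 500) h178 x_178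
  have h180 : ∀ u < 90000, (fun u => Nat.beq ((runT tab xw)^[5] u) u) u = true := ext_range (a := 89500) (len := 500) h179 x_179
  have h181 : ∀ u < 90500, (fun u => Nat.beq ((runT tab xw)^[5] u) u) u = true := ext_range (a := 90000) (len := 500) h180 x_180
  have h182 : ∀ u < 91000, (fun u => Nat.beq ((runT tab xw)^[5] u) u) u = true := ext_range (a := 90500) (len := 500) h181 x_181
  have h183 : ∀ u < 91500, (fun u => Nat.beq ((runT tab xw)^[5] u) u) u = true := ext_range (a := 91000) (len := 500) h182 x_182
  have h184 : ∀ u < 92000, (fun u => Nat.beq ((runT tab xw)^[5] u) u) u = true := ext_range (a := 91500) (len := 500) h183 x_183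
  have h185 : ∀ u < 92500, (fun u => Nat.beq ((runT tab xw)^[5] u) u) u = true := ext_range (a := 92000) (len := 500) h184 x_184
  have h186 : ∀ u < 93000, (fun u => Nat.beq ((runT tab xw)^[5] u) u) u = true := ext_range (a := 92500) (len := 500) h185 x_185
  have h187 : ∀ u < 93500, (fun u => Nat.beq ((runT tab xw)^[5] u) u) u = true := ext_range (a := 93000) (len := 500) h186 x_186
  have h188 : ∀ u < 94000, (fun u => Nat.beq ((runT tab xw)^[5] u) u) u = true := ext_range (a := 93500) (len := 500) h187 x_187
  have h189 : ∀ u < 94500, (fun u => Nat.beq ((runT tab xw)^[5] u) u) u = true := ext_range (a := 94000) (len := 500) h188 x_188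
  have h190 : ∀ u < 95000, (fun u => Nat.beq ((runT tab xw)^[5] u) u) u = true := ext_range (a := 94500) (len := 500) h189 x_189
  have h191 : ∀ u < 95500, (fun u => Nat.beq ((runT tab xw)^[5] u) u) u = true := ext_range (a := 95000) (len := 500) h190 x_190
  have h192 : ∀ u < 96000, (fun u => Nat.beq ((runT tab xw)^[5] u) u) u = true := ext_range (a := 95500) (len := 500) h191 x_191
  have h193 : ∀ u < 96500, (fun u => Nat.beq ((runT tab xw)^[5] u) u) u = true := ext_range (a := 96000) (len := 500) h192 x_192
  have h194 : ∀ u < 97000, (fun u => Nat.beq ((runT tab xw)^[5] u) u) u = true := ext_range (a := 96500) (len := 500) h193 x_193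
  have h195 : ∀ u < 97500, (fun u => Nat.beq ((runT tab xw)^[5] u) u) u = true := ext_range (a := 97000) (len := 500) h194 x_194
  have h196 : ∀ u < 98000, (fun u => Nat.beq ((runT tab xw)^[5] u) u) u = true := ext_range (a := 97500) (len := 500) h195 x_195
  have h197 : ∀ u < 98500, (fun u => Nat.beq ((runT tab xw)^[5] u) u) u = true := ext_range (a := 98000) (len := 500) h196 x_196
  have h198 : ∀ u < 99000, (fun u => Nat.beq ((runT tab xw)^[5] u) u) u = true := ext_range (a := 98500) (len := 500) h197 x_197
  have h199 : ∀ u < 99500, (fun u => Nat.beq ((runT tab xw)^[5] u) u) u = true := ext_range (a := 99000) (len := 500) h198 x_198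
  have h200 : ∀ u < 100000, (fun u => Nat.beq ((runT tab xw)^[5] u) u) u = true := ext_range (a := 99500) (len := 500) h199 x_199
  have h201 : ∀ u < 100500, (fun u => Nat.beq ((runT tab xw)^[5] u) u) u = true := ext_range (a := 100000) (len := 500) h200 x_200
  have h202 : ∀ u < 101000, (fun u => Nat.beq ((runT tab xw)^[5] u) u) u = true := ext_range (a := 100500) (len := 500) h201 x_201
  have h203 : ∀ u < 101500, (fun u => Nat.beq ((runT tab xw)^[5] u) u) u = true := ext_range (a := 101000) (len := 500) h202 x_202
  have h204 : ∀ u < 102000, (fun u => Nat.beq ((runT tab xw)^[5] u) u) u = true := ext_range (a := 101500) (len := 500) h203 x_203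
  have h205 : ∀ u < 102500, (fun u => Nat.beq ((runT tab xw)^[5] u) u) u = true := ext_range (a := 102000) (len := 500) h204 x_204
  have h206 : ∀ u < 103000, (fun u => Nat.beq ((runT tab xw)^[5] u) u) u = true := ext_range (a := 102500) (len := 500) h205 x_205
  have h207 : ∀ u < 103500, (fun u => Nat.beq ((runT tab xw)^[5] u) u) u = true := ext_range (a := 103000) (len := 500) h206 x_206
  have h208 : ∀ u < 104000, (fun u => Nat.beq ((runT tab xw)^[5] u) u) u = true := ext_range (a := 103500) (len := 500) h207 x_207
  have h209 : ∀ u < 104500, (fun u => Nat.beq ((runT tab xw)^[5] u) u) u = true := ext_range (a := 104000) (len := 500) h208 x_208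
  have h210 : ∀ u < 105000, (fun u => Nat.beq ((runT tab xw)^[5] u) u) u = true := ext_range (a := 104500) (len := 500) h209 x_209
  have h211 : ∀ u < 105500, (fun u => Nat.beq ((runT tab xw)^[5] u) u) u = true := ext_range (a := 105000) (len := 500) h210 x_210
  have h212 : ∀ u < 106000, (fun u => Nat.beq ((runT tab xw)^[5] u) u) u = true := ext_range (a := 105500) (len := 500) h211 x_211
  have h213 : ∀ u < 106500, (fun u => Nat.beq ((runT tab xw)^[5] u) u) u = true := ext_range (a := 106000) (len := 500) h212 x_212
  have h214 : ∀ u < 107000, (fun u => Nat.beq ((runT tab xw)^[5] u) u) u = true := ext_range (a := 106500) (len := 500) h213 x_213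
  have h215 : ∀ u < 107500, (fun u => Nat.beq ((runT tab xw)^[5] u) u) u = true := ext_range (a := 107000) (len := 500) h214 x_214
  have h216 : ∀ u < 108000, (fun u => Nat.beq ((runT tab xw)^[5] u) u) u = true := ext_range (a := 107500) (len := 500) h215 x_215
  have h217 : ∀ u < 108500, (fun u => Nat.beq ((runT tab xw)^[5] u) u) u = true := ext_range (a := 108000) (len := 500) h216 x_216
  have h218 : ∀ u < 109000, (fun u => Nat.beq ((runT tab xw)^[5] u) u) u = true := ext_range (a := 108500) (len := 500) h217 x_217
  have h219 : ∀ u < 109500, (fun u => Nat.beq ((runT tab xw)^[5] u) u) u = true := ext_range (a := 109000) (len := 500) h218 x_218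
  have h220 : ∀ u < 110000, (fun u => Nat.beq ((runT tab xw)^[5] u) u) u = true := ext_range (a := 109500) (len := 500) h219 x_219
  have h221 : ∀ u < 110500, (fun u => Nat.beq ((runT tab xw)^[5] u) u) u = true := ext_range (a := 110000) (len := 500) h220 x_220
  have h222 : ∀ u < 111000, (fun u => Nat.beq ((runT tab xw)^[5] u) u) u = true := ext_range (a := 110500) (len := 500) h221 x_221
  have h223 : ∀ u < 111500, (fun u => Nat.beq ((runT tab xw)^[5] u) u) u = true := ext_range (a := 111000) (len := 500) h222 x_222
  have h224 : ∀ u < 112000, (fun u => Nat.beq ((runT tab xw)^[5] u) u) u = true := ext_range (a := 111500) (len := 500) h223 x_223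
  have h225 : ∀ u < 112500, (fun u => Nat.beq ((runT tab xw)^[5] u) u) u = true := ext_range (a := 112000) (len := 500) h224 x_224
  have h226 : ∀ u < 113000, (fun u => Nat.beq ((runT tab xw)^[5] u) u) u = true := ext_range (a := 112500) (len := 500) h225 x_225
  have h227 : ∀ u < 113500, (fun u => Nat.beq ((runT tab xw)^[5] u) u) u = true := ext_range (a := 113000) (len := 500) h226 x_226
  have h228 : ∀ u < 114000, (fun u => Nat.beq ((runT tab xw)^[5] u) u) u = true := ext_range (a := 113500) (len := 500) h227 x_227
  have h229 : ∀ u < 114500, (fun u => Nat.beq ((runT tab xw)^[5] u) u) u = true := ext_range (a := 114000) (len := 500) h228 x_228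
  have h230 : ∀ u < 115000, (fun u => Nat.beq ((runT tab xw)^[5] u) u) u = true := ext_range (a := 114500) (len := 500) h229 x_229
  have h231 : ∀ u < 115500, (fun u => Nat.beq ((runT tab xw)^[5] u) u) u = true := ext_range (a := 115000) (len := 500) h230 x_230
  have h232 : ∀ u < 116000, (fun u => Nat.beq ((runT tab xw)^[5] u) u) u = true := ext_range (a := 115500) (len := 500) h231 x_231
  have h233 : ∀ u < 116500, (fun u => Nat.beq ((runT tab xw)^[5] u) u) u = true := ext_range (a := 116000) (len := 500) h232 x_232
  have h234 : ∀ u < 117000, (fun u => Nat.beq ((runT tab xw)^[5] u) u) u = true := ext_range (a := 116500) (len := 500) h233 x_233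
  have h235 : ∀ u < 117500, (fun u => Nat.beq ((runT tab xw)^[5] u) u) u = true := ext_range (a := 117000) (len := 500) h234 x_234
  have h236 : ∀ u < 118000, (fun u => Nat.beq ((runT tab xw)^[5] u) u) u = true := ext_range (a := 117500) (len := 500) h235 x_235
  have h237 : ∀ u < 118500, (fun u => Nat.beq ((runT tab xw)^[5] u) u) u = true := ext_range (a := 118000) (len := 500) h236 x_236
  have h238 : ∀ u < 119000, (fun u => Nat.beq ((runT tab xw)^[5] u) u) u = true := ext_range (a := 118500) (len := 500) h237 x_237
  have h239 : ∀ u < 119500, (fun u => Nat.beq ((runT tab xw)^[5] u) u) u = true := ext_range (a := 119000) (len := 500) h238 x_238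
  have h240 : ∀ u < 120000, (fun u => Nat.beq ((runT tab xw)^[5] u) u) u = true := ext_range (a := 119500) (len := 500) h239 x_239
  have h241 : ∀ u < 120500, (fun u => Nat.beq ((runT tab xw)^[5] u) u) u = true := ext_range (a := 120000) (len := 500) h240 x_240
  have h242 : ∀ u < 121000, (fun u => Nat.beq ((runT tab xw)^[5] u) u) u = true := ext_range (a := 120500) (len := 500) h241 x_241
  have h243 : ∀ u < 121500, (fun u => Nat.beq ((runT tab xw)^[5] u) u) u = true := ext_range (a := 121000) (len := 500) h242 x_242
  have h244 : ∀ u < 122000, (fun u => Nat.beq ((runT tab xw)^[5] u) u) u = true := ext_range (a := 121500) (len := 500) h243 x_243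
  have h245 : ∀ u < 122500, (fun u => Nat.beq ((runT tab xw)^[5] u) u) u = true := ext_range (a := 122000) (len := 500) h244 x_244
  have h246 : ∀ u < 122760, (fun u => Nat.beq ((runT tab xw)^[5] u) u) u = true := ext_range (a := 122500) (len := 260) h245 x_245
  exact h246

theorem hE : ∀ c < 8, ∀ u < 231594, chkE tab c u = true := by
  intro c hc
  interval_cases c
  · exact hE0
  · exact hE1
  · exact hE2
  · exact hE3
  · exact hE4
  · exact hE5
  · exact hE6
  · exact hE7

end Cfsg.Agent.Helper9.TCData.ONC0
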