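import Cfsg.Agent.Lib.Helper9.TC2Cox
import Cfsg.Agent.Lib.Helper9.TC2Aux
import Cfsg.Agent.Lib.Helper9.TC2BSGS
import Cfsg.Agent.Lib.Helper9.TC2Pack
import Cfsg.Agent.Lib.Helper9.TCData.ONC0.P0
import Cfsg.Agent.Lib.Helper9.TCData.ONC0.P1
import Cfsg.Agent.Lib.Helper9.TCData.ONC0.P2
import Cfsg.Agent.Lib.Helper9.TCData.ONC0.P3
import Cfsg.Agent.Lib.Helper9.TCData.ONC0.P4
import Cfsg.Agent.Lib.Helper9.TCData.ONC0.P5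
import Cfsg.Agent.Lib.Helper9.TCData.ONC0.P6
import Cfsg.Agent.Lib.Helper9.TCData.ONC0.P7
import Cfsg.Agent.Lib.Helper9.TCData.ONC0.P8
import Cfsg.Agent.Lib.Helper9.TCData.ONC0.P9
import Cfsg.Agent.Lib.Helper9.TCData.ONC0.P10
import Cfsg.Agent.Lib.Helper9.TCData.ONC0.P11
import Cfsg.Agent.Lib.Helper9.TCData.ONC0.P12
import Cfsg.Agent.Lib.Helper9.TCData.ONC0.P13
import Cfsg.Agent.Lib.Helper9.TCData.ONC0.P14
import Cfsg.Agent.Lib.Helper9.TCData.ONC0.P15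
import Cfsg.Agent.Lib.Helper9.TCData.ONC0.P16
import Cfsg.Agent.Lib.Helper9.TCData.ONC0.P17
import Cfsg.Agent.Lib.Helper9.TCData.ONC0.P18
import Cfsg.Agent.Lib.Helper9.TCData.ONC0.P19

set_option autoImplicit false
set_option maxRecDepth 100000

namespace Cfsg.Agent.Helper9.TCData.ONC0
open Cfsg.Agent.Helper9.TC2
/-- The rotated relators. -/
noncomputable def rotT : WT := (WT.node 45 (WT.node 22 (WT.node 11 (WT.node 5 (WT.node 2 (WT.node 1 (WT.leaf [0, 4, 0, 3, 4, 0, 4, 3, 0, 3, 4]) (WT.leaf [0, 5, 0, 6, 5, 0, 5, 6, 0, 6, 5])) (WT.node 3 (WT.leaf [0, 4, 3, 0, 3, 4, 0, 4, 0, 3, 4]) (WT.node 4 (WT.leaf [0, 5, 0, 4, 1, 5, 1, 5, 4, 5]) (WT.leaf [0, 4, 0, 5, 1, 4, 1, 4, 5, 4])))) (WT.node 8 (WT.node 6 (WT.leaf [0, 5, 6, 0, 6, 5, 0, 5, 0, 6, 5]) (WT.node 7 (WT.leaf [0, 3, 4, 0, 4, 0, 3, 4, 0, 4, 3]) (WT.leaf [0, 3, 4,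 0, 4, 3, 0, 3, 4, 0, 4]))) (WT.node 9 (WT.leaf [0, 6, 5, 0, 5, 0, 6, 5, 0, 5, 6]) (WT.node 10 (WT.leaf [0, 5, 1, 4, 1, 4, 5, 4, 0, 4]) (WT.leaf [0, 3, 4, 5, 0, 3, 4, 5, 0, 3, 4, 5, 0, 3, 4, 5, 0, 3, 4, 5]))))) (WT.node 16 (WT.node 13 (WT.node 12 (WT.leaf [0, 6, 5, 0, 5, 6, 0, 6, 5, 0, 5]) (WT.leaf [0, 4, 1, 5, 1, 5, 4, 5, 0, 5])) (WT.node 14 (WT.leaf [1, 2, 7, 1]) (WT.node 15 (WT.leaf [1, 1, 2, 7]) (WT.leaf [1, 5, 4, 5, 0, 5, 0, 4, 1, 5])))) (WT.node 19 (WT.node 17 (WT.leaf [1, 4, 5, 4, 0, 4, 0, 5, 1, 4]) (WT.node 18 (WT.leaf [1, 5, 1, 5, 4, 5, 0, 5, 0, 4]) (WT.leaf [1, 4, 1, 4, 5, 4, 0, 4, 0, 5]))) (WT.node 20 (WT.leaf [2, 4, 2, 4]) (WT.node 21 (WT.leaf [2, 5, 2, 5]) (WT.leaf [2, 6, 2, 6])))))) (WT.node 33 (WT.node 27 (WT.node 24 (WT.node 23 (WT.leaf [2, 7, 2, 7]) (WT.leaf [2, 3, 2, 3, 2, 3])) (WT.node 25 (WT.leaf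 [2, 7, 1, 1]) (WT.node 26 (WT.leaf [2, 7, 5, 4, 5, 4, 5, 4, 5, 4]) (WT.leaf [3, 5, 3, 5])))) (WT.node 30 (WT.node 28 (WT.leaf [3, 6, 3, 6]) (WT.node 29 (WT.leaf [3, 2, 3, 2, 3, 2]) (WT.leaf [3, 7, 3, 7]))) (WT.node 31 (WT.leaf [3, 0, 3, 4, 0, 4, 0, 3, 4, 0, 4]) (WT.node 32 (WT.leaf [3, 4, 0, 4, 0, 3, 4, 0, 4, 3, 0]) (WT.leaf [3, 4, 0, 4, 3, 0, 3, 4, 0, 4, 0]))))) (WT.node 39 (WT.node 36 (WT.node 34 (WT.leaf [3, 4, 3, 4, 3, 4]) (WT.node 35 (WT.leaf [3, 4, 5, 0, 3, 4, 5, 0, 3, 4, 5, 0, 3, 4, 5, 0, 3, 4, 5, 0]) (WT.leaf [4, 5, 0, 5, 0, 4, 1, 5, 1, 5]))) (WT.node 37 (WT.leaf [4, 6, 4, 6]) (WT.node 38 (WT.leaf [4, 7, 4, 7]) (WT.leaf [4, 3, 4, 3, 4, 3])))) (WT.node 42 (WT.node 40 (WT.leaf [4, 1, 4, 5, 4, 0, 4, 0, 5, 1]) (WT.node 41 (WT.leaf [4, 0, 4, 3, 0, 3, 4, 0, 4, 0, 3]) (WT.leaf [4, 0, 3, 4, 0, 4, 3, 0, 3, 4, 0])))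 (WT.node 43 (WT.leaf [4, 2, 4, 2]) (WT.node 44 (WT.leaf [4, 3, 0, 3, 4, 0, 4, 0, 3, 4, 0]) (WT.leaf [4, 0, 4, 0, 3, 4, 0, 4, 3, 0, 3]))))))) (WT.node 67 (WT.node 56 (WT.node 50 (WT.node 47 (WT.node 46 (WT.leaf [4, 5, 4, 0, 4, 0, 5, 1, 4, 1]) (WT.leaf [4, 0, 5, 1, 4, 1, 4, 5, 4, 0])) (WT.node 48 (WT.leaf [4, 5, 4, 5, 4, 5, 4, 2, 7, 5]) (WT.node 49 (WT.leaf [4, 0, 4, 0, 5, 1, 4, 1, 4, 5]) (WT.leaf [4, 5, 0, 3, 4, 5, 0, 3, 4, 5, 0, 3, 4, 5, 0, 3, 4, 5, 0, 3])))) (WT.node 53 (WT.node 51 (WT.leaf [4, 5, 4, 5, 4, 5, 4, 5, 4, 5, 4, 5, 4, 5, 4, 5]) (WT.node 52 (WT.leaf [4, 5, 4, 5, 4, 2, 7, 5, 4, 5]) (WT.leaf [4, 1, 5, 1, 5, 4, 5, 0, 5, 0]))) (WT.node 54 (WT.leaf [4, 2, 7, 5, 4, 5, 4, 5, 4, 5]) (WT.node 55 (WT.leaf [4, 5, 4, 2, 7, 5, 4, 5, 4, 5]) (WT.leaf [5, 1, 4, 1, 4, 5, 4, 0, 4, 0]))))) (WT.node 61 (WT.node 58 (WT.node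 57 (WT.leaf [5, 7, 5, 7]) (WT.leaf [5, 3, 5, 3])) (WT.node 59 (WT.leaf [5, 2, 5, 2]) (WT.node 60 (WT.leaf [5, 4, 0, 4, 0, 5, 1, 4, 1, 4]) (WT.leaf [5, 0, 6, 5, 0, 5, 6, 0, 6, 5, 0])))) (WT.node 64 (WT.node 62 (WT.leaf [5, 0, 5, 6, 0, 6, 5, 0, 5, 0, 6]) (WT.node 63 (WT.leaf [5, 0, 4, 1, 5, 1, 5, 4, 5, 0]) (WT.leaf [5, 6, 0, 6, 5, 0, 5, 0, 6, 5, 0]))) (WT.node 65 (WT.leaf [5, 6, 5, 6, 5, 6]) (WT.node 66 (WT.leaf [5, 1, 5, 4, 5, 0, 5, 0, 4, 1]) (WT.leaf [5, 4, 5, 4, 5, 4, 2, 7, 5, 4])))))) (WT.node 78 (WT.node 72 (WT.node 69 (WT.node 68 (WT.leaf [5, 4, 5, 4, 5, 4, 5, 4, 5, 4, 5, 4, 5, 4, 5, 4]) (WT.leaf [5, 0, 5, 0, 4, 1, 5, 1, 5, 4])) (WT.node 70 (WT.leaf [5, 4, 5, 4, 2, 7, 5, 4, 5, 4]) (WT.node 71 (WT.leaf [5, 4, 5, 0, 5, 0, 4, 1, 5, 1]) (WT.leaf [5, 0, 3, 4, 5, 0, 3, 4, 5, 0, 3, 4, 5, 0, 3, 4, 5, 0, 3, 4])))) (WT.node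 75 (WT.node 73 (WT.leaf [5, 0, 5, 0, 6, 5, 0, 5, 6, 0, 6]) (WT.node 74 (WT.leaf [5, 4, 2, 7, 5, 4, 5, 4, 5, 4]) (WT.leaf [5, 4, 5, 4, 5, 4, 5, 4, 2, 7]))) (WT.node 76 (WT.leaf [6, 5, 6, 5, 6, 5]) (WT.node 77 (WT.leaf [6, 7, 6, 7, 6, 7]) (WT.leaf [6, 5, 0, 5, 0, 6, 5, 0, 5, 6, 0]))))) (WT.node 84 (WT.node 81 (WT.node 79 (WT.leaf [6, 0, 6, 5, 0, 5, 0, 6, 5, 0, 5]) (WT.node 80 (WT.leaf [6, 3, 6, 3]) (WT.leaf [6, 4, 6, 4]))) (WT.node 82 (WT.leaf [6, 2, 6, 2]) (WT.node 83 (WT.leaf [6, 5, 0, 5, 6, 0, 6, 5, 0, 5, 0]) (WT.leaf [7, 1, 1, 2])))) (WT.node 87 (WT.node 85 (WT.leaf [7, 3, 7, 3]) (WT.node 86 (WT.leaf [7, 4, 7, 4]) (WT.leaf [7, 5, 7, 5]))) (WT.node 88 (WT.leaf [7, 2, 7, 2]) (WT.node 89 (WT.leaf [7, 6, 7, 6, 7, 6]) (WT.leaf [7, 5, 4, 5, 4, 5, 4, 5, 4, 2]))))))))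

/-- The sources of the rotated relators: relator and rotation. -/
def rotSrc : List (ℕ × ℕ) := [(41, 9), (42, 9), (41, 3), (38, 7), (39, 7), (42, 3), (41, 6), (41, 0), (42, 6), (39, 9), (40, 3), (42, 0), (38, 9), (36, 3), (36, 2), (38, 3), (39, 3), (38, 1), (39, 1), (2, 2), (3, 2), (4, 2), (5, 2), (1, 4), (36, 0), (37, 0), (9, 2), (10, 2), (1, 1), (11, 2), (41, 5), (41, 7), (41, 1), (8, 2), (40, 4), (38, 5), (16, 2), (17, 2), (8, 1), (39, 2), (41, 2), (41, 10), (2, 1), (41, 4), (41, 8), (39, 4), (39, 8), (37, 3), (39, 6), (40, 1), (15, 2), (37, 5), (38, 0), (37, 9), (37, 7), (39, 0), (23, 2), (9, 3), (3, 1), (39, 5), (42, 10), (42, 2), (38, 8), (42, 4), (22, 2), (38, 2), (37, 4), (15, 1), (38, 6), (37, 6), (38, 4), (40, 2), (42, 8), (37, 8), (37, 2), (22, 1), (29, 2), (42, 7), (42, 5), (10, 3), (16, 1), (4, 1),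 (42, 1), (36, 1), (11, 1), (17, 1), (23, 1), (5, 1), (29, 1), (37, 1)]

/-- The relators, as words of columns. -/
def relWords : List (List ℕ) := [[2, 2], [2, 3, 2, 3, 2, 3], [2, 4, 2, 4], [2, 5, 2, 5], [2, 6, 2, 6], [2, 7, 2, 7], [3, 2, 3, 2, 3, 2], [3, 3], [3, 4, 3, 4, 3, 4], [3, 5, 3, 5], [3, 6, 3, 6], [3, 7, 3, 7], [4, 2, 4, 2], [4, 3, 4, 3, 4, 3], [4, 4], [4, 5, 4, 5, 4, 5, 4, 5, 4, 5, 4, 5, 4, 5, 4, 5], [4, 6, 4, 6], [4, 7, 4, 7], [5, 2, 5, 2], [5, 3, 5, 3], [5, 4, 5, 4, 5, 4, 5, 4, 5, 4, 5, 4, 5, 4, 5, 4], [5, 5], [5, 6, 5, 6, 5, 6], [5, 7, 5, 7], [6, 2, 6, 2], [6, 3, 6, 3], [6, 4, 6, 4], [6, 5, 6, 5, 6, 5], [6, 6], [6, 7, 6, 7, 6, 7], [7, 2, 7, 2], [7, 3, 7, 3], [7, 4, 7, 4], [7, 5, 7, 5], [7, 6, 7, 6, 7, 6], [7, 7], [2, 7, 1, 1], [2, 7, 5, 4, 5, 4, 5, 4, 5, 4], [4, 1, 5, 1, 5, 4, 5, 0, 5, 0], [5, 1, 4,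 1, 4, 5, 4, 0, 4, 0], [3, 4, 5, 0, 3, 4, 5, 0, 3, 4, 5, 0, 3, 4, 5, 0, 3, 4, 5, 0], [0, 3, 4, 0, 4, 3, 0, 3, 4, 0, 4], [0, 6, 5, 0, 5, 6, 0, 6, 5, 0, 5]]

/-- The words of the auxiliary columns. -/
def aux : List (List ℕ) := [[3, 4, 5, 0]]

/-- The words checked on the permutation model, with auxiliary columns. -/
def mwordsA : List (List ℕ) := [[2, 3, 2, 3, 2, 3], [2, 4, 2, 4], [2, 5, 2, 5], [2, 6, 2, 6], [2, 7, 2, 7], [3, 4, 3, 4, 3, 4], [3, 5, 3, 5], [3, 6, 3, 6], [3, 7, 3, 7], [4, 5, 4, 5, 4, 5, 4, 5, 4, 5, 4, 5, 4, 5, 4, 5], [4, 6, 4, 6], [4, 7, 4, 7], [5, 6, 5, 6, 5, 6], [5, 7, 5, 7], [6, 7, 6, 7, 6, 7], [2, 7, 1, 1], [2, 7, 5, 4, 5, 4, 5, 4, 5, 4], [4, 1, 5, 1, 5, 4, 5, 0, 5, 0], [5, 1, 4, 1, 4, 5, 4, 0, 4, 0], [8, 8, 8, 8, 8], [0, 3, 4, 0, 4, 3, 0, 3, 4, 0, 4], [0, 6, 5, 0, 5, 6, 0, 6, 5, 0, 5]]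

/-- The table. -/
noncomputable def tab : Tab where
  k := 8
  inv := fun c => (bif Nat.beq c 0 then 1 else (bif Nat.beq c 1 then 0 else (bif Nat.beq c 2 then 2 else (bif Nat.beq c 3 then 3 else (bif Nat.beq c 4 then 4 else (bif Nat.beq c 5 then 5 else (bif Nat.beq c 6 then 6 else (bif Nat.beq c 7 then 7 else c))))))))
  N := 231594
  n := 122760
  Tmax := 1512565
  wn := 18
  mn := 0x3ffff
  subs := [[2], [3], [4], [5], [6], [7]]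
  rot := fun i => rotT.getF i
  ent := fun c i => bget2 (BT.node 4096 (BT.node 2048 (BT.node 1024 (BT.node 452 entT_0 entT_1) (BT.node 1476 entT_2 entT_3)) (BT.node 3072 (BT.node 2500 entT_4 entT_5) (BT.node 3524 entT_6 entT_7))) (BT.node 6144 (BT.node 5120 (BT.node 4548 entT_8 entT_9) (BT.node 5572 entT_10 entT_11)) (BT.node 7168 (BT.node 6596 entT_12 entT_13) (BT.node 7620 entT_14 entT_15)))) 10 8 39 0x7fffffffff 255 c i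
  cer := fun c i => bget2 (BT.node 2048 (BT.node 1024 (BT.node 512 cerT_0 cerT_1) (BT.node 1536 cerT_2 cerT_3)) (BT.node 3072 (BT.node 2560 cerT_4 cerT_5) (BT.node 3584 cerT_6 cerT_7))) 9 9 21 0x1fffff 511 c i
  tau := fun c i => bget2 (BT.node 17920 (BT.node 8960 (BT.node 4472 (BT.node 2228 (BT.node 1114 (BT.node 557 tauT_0 tauT_1) (BT.node 1671 tauT_2 tauT_3)) (BT.node 3358 (BT.node 2785 tauT_4 tauT_5) (BT.node 3915 tauT_6 tauT_7))) (BT.node 6716 (BT.node 5586 (BT.node 5029 tauT_8 tauT_9) (BT.node 6159 tauT_10 tauT_11)) (BT.node 7830 (BT.node 7273 tauT_12 tauT_13) (BT.node 8387 tauT_14 tauT_15)))) (BT.node 13432 (BT.node 11188 (BT.node 10074 (BT.node 9517 tauT_16 tauT_17) (BT.node 10631 tauT_18 tauT_19)) (BT.node 12318 (BT.node 11745 tauT_20 tauT_21) (BT.node 12875 tauT_22 tauT_23))) (BT.node 15676 (BT.node 14546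 (BT.node 13989 tauT_24 tauT_25) (BT.node 15119 tauT_26 tauT_27)) (BT.node 16790 (BT.node 16233 tauT_28 tauT_29) (BT.node 17347 tauT_30 tauT_31))))) (BT.node 26880 (BT.node 22392 (BT.node 20148 (BT.node 19034 (BT.node 18477 tauT_32 tauT_33) (BT.node 19591 tauT_34 tauT_35)) (BT.node 21278 (BT.node 20705 tauT_36 tauT_37) (BT.node 21835 tauT_38 tauT_39))) (BT.node 24636 (BT.node 23506 (BT.node 22949 tauT_40 tauT_41) (BT.node 24079 tauT_42 tauT_43)) (BT.node 25750 (BT.node 25193 tauT_44 tauT_45) (BT.node 26307 tauT_46 tauT_47)))) (BT.node 31352 (BT.node 29108 (BT.node 27994 (BT.node 27437 tauT_48 tauT_49) (BT.node 28551 tauT_50 tauT_51)) (BT.node 30238 (BT.node 29665 tauT_52 tauT_53) (BT.node 30795 tauT_54 tauT_55))) (BT.node 33596 (BT.node 32466 (BT.node 31909 tauT_56 tauT_57) (BT.node 33039 tauT_58 tauT_59)) (BT.node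 34710 (BT.node 34153 tauT_60 tauT_61) (BT.node 35267 tauT_62 tauT_63)))))) 8 9 17 0x1ffff 511 c i
  lk := fun i => bget (BT.node 452 lkT_0 lkT_1) 8 39 0x7fffffffff 255 i
  lc := fun i => bget (BT.node 452 lcT_0 lcT_1) 8 41 0x1ffffffffff 255 i
  pn := fun i => bget pnT_0 9 21 0x1fffff 511 i
  cls := fun i => bget clsT_0 9 17 0x1ffff 511 i
  rep := fun i => bget repT_0 9 18 0x3ffff 511 i

/-- The straight line program of the further columns. -/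
def slp : List (ℕ × List ℕ) := [(0, [3, 4, 5, 0]), (0, [3, 4]), (0, [0, 9]), (0, [6, 7]), (0, [10, 11]), (0, [1, 0]), (0, [12, 13]), (0, [4, 0]), (0, [14, 15]), (0, [0, 5]), (0, [16, 17]), (0, [2, 13]), (0, [18, 19]), (0, [15, 0]), (0, [20, 21]), (0, [9, 19]), (0, [22, 23]), (0, [13, 5]), (0, [24, 25]), (0, [11, 25]), (0, [26, 27]), (0, [19, 23]), (0, [28, 29]), (0, [17, 13]), (0, [30, 31]), (0, [15, 21]), (0, [32, 33]), (0, [15, 17]), (0, [34, 35]), (0, [11, 1]), (0, [36, 37]), (0, [7, 29]), (0, [38, 39]), (0, [35, 33]), (0, [40, 41]), (0, [41, 39]), (0, [42, 43]), (0, [43, 27]), (0, [44, 45]), (0, [23, 31]), (0, [46, 47]), (0, [47, 45]), (0, [48, 49]), (0, [37, 27]), (0, [50, 51]), (0, [51, 17]), (0, [52, 53]), (0, [31, 53]), (0, [54, 55]), (0, [41, 49]), (0, [56, 57]), (0, [1, 57]), (0, [58, 59]), (0, [29, 41]),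 (0, [60, 61]), (0, [55, 33]), (0, [62, 63]), (0, [41, 55]), (0, [64, 65]), (0, [55, 65]), (0, [66, 67]), (0, [59, 37]), (0, [68, 69]), (0, [67, 31]), (0, [70, 71]), (0, [45, 67]), (0, [72, 73]), (0, [59, 69]), (0, [74, 75]), (0, [55, 59]), (0, [76, 77]), (0, [63, 73]), (0, [78, 79]), (0, [67, 77]), (0, [80, 81]), (0, [73, 57]), (0, [82, 83]), (0, [57, 71]), (0, [84, 85]), (0, [61, 79]), (0, [86, 87]), (0, [61, 59]), (0, [88, 89]), (0, [83, 59]), (0, [90, 91]), (0, [71, 87]), (0, [92, 93]), (0, [75, 67]), (0, [94, 95]), (0, [85, 91]), (0, [96, 97]), (0, [91, 75]), (0, [98, 99]), (0, [97, 75]), (0, [100, 101]), (0, [75, 101]), (0, [102, 103]), (0, [93, 95]), (0, [104, 105]), (0, [101, 17]), (0, [106, 107]), (0, [103, 95]), (0, [108, 109]), (0, [81, 105]), (0, [110, 111]), (0, [109, 59]), (0, [112, 113]), (0, [111,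 99]), (0, [114, 115]), (0, [101, 109]), (0, [116, 117]), (0, [113, 89]), (0, [118, 119]), (0, [81, 99]), (0, [120, 121]), (0, [101, 107]), (0, [122, 123]), (0, [81, 95]), (0, [124, 125]), (0, [71, 121]), (0, [126, 127]), (0, [125, 101]), (0, [128, 129]), (0, [1, 6, 5, 4, 3, 1, 4, 5, 0, 4, 6, 5, 130]), (1, [131]), (0, [89, 119]), (0, [130, 133]), (0, [132, 3, 131, 3, 132, 132, 1, 5, 131, 131, 5, 7, 132, 1, 134]), (1, [135]), (0, [115, 129]), (0, [134, 137]), (0, [3, 2, 136, 136, 132, 1, 4, 6, 7, 131, 7, 132, 138])]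

/-- The levels: base point, generating columns, size of the orbit. -/
def levs : List (ℕ × List ℕ × ℕ) := [(0, [0, 1, 2, 3, 4, 5, 6, 7, 135, 136, 139], 122760), (1, [2, 3, 4, 5, 6, 7, 135, 136, 139], 58653), (2, [2, 135, 136, 139], 32), (5, [7], 2)]

/-- A record of the trees of the orbits. -/
noncomputable def lidx : ℕ → ℕ → ℕ := fun c i => bget2 lidxT_0 8 9 17 0x1ffff 511 c i

/-- A record of the trees of the orbits. -/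
noncomputable def lpar : ℕ → ℕ → ℕ := fun c i => bget2 lparT_0 8 9 17 0x1ffff 511 c i

/-- A record of the trees of the orbits. -/
noncomputable def lgi : ℕ → ℕ → ℕ := fun c i => bget2 lgiT_0 5 12 4 0xf 4095 c i

/-- The word of the element of prime power order. -/
def xw : List ℕ := [5, 4, 3, 1]


/-- The orbit certificate. -/
noncomputable def orb : OrbData where
  lab := fun i => bget labT_0 12 3 0x7 4095 i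
  dep := fun i => bget depT_0 11 6 0x3f 2047 i
  oj := fun i => bget ojT_0 12 3 0x7 4095 i
  root := fun i => bget rootT_0 11 6 0x3f 2047 i

end Cfsg.Agent.Helper9.TCData.ONC0
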