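import Cfsg.Agent.Lib.Helper9.TCData.ONC0.Main

set_option autoImplicit false
set_option maxRecDepth 1000000

namespace Cfsg.Agent.Helper9.TCData.ONC0
open Cfsg.Agent.Helper9.TC2

theorem sl_5056 : allRange 91008 18 (fun u => chkSlp tab slp u) = true := by decide +kernel

theorem sl_5057 : allRange 91026 18 (fun u => chkSlp tab slp u) = true := by decide +kernel

theorem sl_5058 : allRange 91044 18 (fun u => chkSlp tab slp u) = true := by decide +kernel

theorem sl_5059 : allRange 91062 18 (fun u => chkSlp tab slp u) = true := by decide +kernel

theorem sl_5060 : allRange 91080 18 (fun u => chkSlp tab slp u) = true := by decide +kernel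

theorem sl_5061 : allRange 91098 18 (fun u => chkSlp tab slp u) = true := by decide +kernel

theorem sl_5062 : allRange 91116 18 (fun u => chkSlp tab slp u) = true := by decide +kernel

theorem sl_5063 : allRange 91134 18 (fun u => chkSlp tab slp u) = true := by decide +kernel


end Cfsg.Agent.Helper9.TCData.ONC0
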