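import Cfsg.Agent.Lib.Helper9.TCData.ONC0.Main

set_option autoImplicit false
set_option maxRecDepth 1000000

namespace Cfsg.Agent.Helper9.TCData.ONC0
open Cfsg.Agent.Helper9.TC2

theorem sl_5344 : allRange 96192 18 (fun u => chkSlp tab slp u) = true := by decide +kernel

theorem sl_5345 : allRange 96210 18 (fun u => chkSlp tab slp u) = true := by decide +kernel

theorem sl_5346 : allRange 96228 18 (fun u => chkSlp tab slp u) = true := by decide +kernel

theorem sl_5347 : allRange 96246 18 (fun u => chkSlp tab slp u) = true := by decide +kernel

theorem sl_5348 : allRange 96264 18 (fun u => chkSlp tab slp u) = true := by decide +kernel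

theorem sl_5349 : allRange 96282 18 (fun u => chkSlp tab slp u) = true := by decide +kernel

theorem sl_5350 : allRange 96300 18 (fun u => chkSlp tab slp u) = true := by decide +kernel

theorem sl_5351 : allRange 96318 18 (fun u => chkSlp tab slp u) = true := by decide +kernel


end Cfsg.Agent.Helper9.TCData.ONC0
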