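import Cfsg.Agent.Lib.Helper9.TCData.ONC0.Main

set_option autoImplicit false
set_option maxRecDepth 1000000

namespace Cfsg.Agent.Helper9.TCData.ONC0
open Cfsg.Agent.Helper9.TC2

theorem sl_5440 : allRange 97920 18 (fun u => chkSlp tab slp u) = true := by decide +kernel

theorem sl_5441 : allRange 97938 18 (fun u => chkSlp tab slp u) = true := by decide +kernel

theorem sl_5442 : allRange 97956 18 (fun u => chkSlp tab slp u) = true := by decide +kernel

theorem sl_5443 : allRange 97974 18 (fun u => chkSlp tab slp u) = true := by decide +kernel

theorem sl_5444 : allRange 97992 18 (fun u => chkSlp tab slp u) = true := by decide +kernel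

theorem sl_5445 : allRange 98010 18 (fun u => chkSlp tab slp u) = true := by decide +kernel

theorem sl_5446 : allRange 98028 18 (fun u => chkSlp tab slp u) = true := by decide +kernel

theorem sl_5447 : allRange 98046 18 (fun u => chkSlp tab slp u) = true := by decide +kernel


end Cfsg.Agent.Helper9.TCData.ONC0
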