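import Cfsg.Agent.Lib.Helper9.TCData.ONC0.Main

set_option autoImplicit false
set_option maxRecDepth 1000000

namespace Cfsg.Agent.Helper9.TCData.ONC0
open Cfsg.Agent.Helper9.TC2

theorem f_216 : allRange 66528 308 (fun u => chkFin tab u) = true := by decide +kernel

theorem f_217 : allRange 66836 308 (fun u => chkFin tab u) = true := by decide +kernel

theorem f_218 : allRange 67144 308 (fun u => chkFin tab u) = true := by decide +kernel

theorem f_219 : allRange 67452 308 (fun u => chkFin tab u) = true := by decide +kernel

theorem f_220 : allRange 67760 308 (fun u => chkFin tab u) = true := by decide +kernel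

theorem f_221 : allRange 68068 308 (fun u => chkFin tab u) = true := by decide +kernel

theorem f_222 : allRange 68376 308 (fun u => chkFin tab u) = true := by decide +kernel

theorem f_223 : allRange 68684 308 (fun u => chkFin tab u) = true := by decide +kernel


end Cfsg.Agent.Helper9.TCData.ONC0
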