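import Cfsg.Agent.Lib.Helper9.TCData.ONC0.Main

set_option autoImplicit false
set_option maxRecDepth 1000000

namespace Cfsg.Agent.Helper9.TCData.ONC0
open Cfsg.Agent.Helper9.TC2

theorem sl_5728 : allRange 103104 18 (fun u => chkSlp tab slp u) = true := by decide +kernel

theorem sl_5729 : allRange 103122 18 (fun u => chkSlp tab slp u) = true := by decide +kernel

theorem sl_5730 : allRange 103140 18 (fun u => chkSlp tab slp u) = true := by decide +kernel

theorem sl_5731 : allRange 103158 18 (fun u => chkSlp tab slp u) = true := by decide +kernel

theorem sl_5732 : allRange 103176 18 (fun u => chkSlp tab slp u) = true := by decide +kernel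

theorem sl_5733 : allRange 103194 18 (fun u => chkSlp tab slp u) = true := by decide +kernel

theorem sl_5734 : allRange 103212 18 (fun u => chkSlp tab slp u) = true := by decide +kernel

theorem sl_5735 : allRange 103230 18 (fun u => chkSlp tab slp u) = true := by decide +kernel


end Cfsg.Agent.Helper9.TCData.ONC0
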