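import Cfsg.Agent.Lib.Helper9.TCData.ONC0.Main

set_option autoImplicit false
set_option maxRecDepth 1000000

namespace Cfsg.Agent.Helper9.TCData.ONC0
open Cfsg.Agent.Helper9.TC2

theorem sl_5824 : allRange 104832 18 (fun u => chkSlp tab slp u) = true := by decide +kernel

theorem sl_5825 : allRange 104850 18 (fun u => chkSlp tab slp u) = true := by decide +kernel

theorem sl_5826 : allRange 104868 18 (fun u => chkSlp tab slp u) = true := by decide +kernel

theorem sl_5827 : allRange 104886 18 (fun u => chkSlp tab slp u) = true := by decide +kernel

theorem sl_5828 : allRange 104904 18 (fun u => chkSlp tab slp u) = true := by decide +kernel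

theorem sl_5829 : allRange 104922 18 (fun u => chkSlp tab slp u) = true := by decide +kernel

theorem sl_5830 : allRange 104940 18 (fun u => chkSlp tab slp u) = true := by decide +kernel

theorem sl_5831 : allRange 104958 18 (fun u => chkSlp tab slp u) = true := by decide +kernel


end Cfsg.Agent.Helper9.TCData.ONC0
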