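import Cfsg.Agent.Lib.Helper9.TCData.ONC0.Main

set_option autoImplicit false
set_option maxRecDepth 1000000

namespace Cfsg.Agent.Helper9.TCData.ONC0
open Cfsg.Agent.Helper9.TC2

theorem sl_5920 : allRange 106560 18 (fun u => chkSlp tab slp u) = true := by decide +kernel

theorem sl_5921 : allRange 106578 18 (fun u => chkSlp tab slp u) = true := by decide +kernel

theorem sl_5922 : allRange 106596 18 (fun u => chkSlp tab slp u) = true := by decide +kernel

theorem sl_5923 : allRange 106614 18 (fun u => chkSlp tab slp u) = true := by decide +kernel

theorem sl_5924 : allRange 106632 18 (fun u => chkSlp tab slp u) = true := by decide +kernel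

theorem sl_5925 : allRange 106650 18 (fun u => chkSlp tab slp u) = true := by decide +kernel

theorem sl_5926 : allRange 106668 18 (fun u => chkSlp tab slp u) = true := by decide +kernel

theorem sl_5927 : allRange 106686 18 (fun u => chkSlp tab slp u) = true := by decide +kernel


end Cfsg.Agent.Helper9.TCData.ONC0
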