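import Cfsg.Agent.Lib.Helper9.TCData.ONC0.Main

set_option autoImplicit false
set_option maxRecDepth 1000000

namespace Cfsg.Agent.Helper9.TCData.ONC0
open Cfsg.Agent.Helper9.TC2

theorem sl_6208 : allRange 111744 18 (fun u => chkSlp tab slp u) = true := by decide +kernel

theorem sl_6209 : allRange 111762 18 (fun u => chkSlp tab slp u) = true := by decide +kernel

theorem sl_6210 : allRange 111780 18 (fun u => chkSlp tab slp u) = true := by decide +kernel

theorem sl_6211 : allRange 111798 18 (fun u => chkSlp tab slp u) = true := by decide +kernel

theorem sl_6212 : allRange 111816 18 (fun u => chkSlp tab slp u) = true := by decide +kernel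

theorem sl_6213 : allRange 111834 18 (fun u => chkSlp tab slp u) = true := by decide +kernel

theorem sl_6214 : allRange 111852 18 (fun u => chkSlp tab slp u) = true := by decide +kernel

theorem sl_6215 : allRange 111870 18 (fun u => chkSlp tab slp u) = true := by decide +kernel


end Cfsg.Agent.Helper9.TCData.ONC0
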