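import Cfsg.Agent.Lib.Helper9.TCData.ONC0.Main

set_option autoImplicit false
set_option maxRecDepth 1000000

namespace Cfsg.Agent.Helper9.TCData.ONC0
open Cfsg.Agent.Helper9.TC2

theorem sl_6304 : allRange 113472 18 (fun u => chkSlp tab slp u) = true := by decide +kernel

theorem sl_6305 : allRange 113490 18 (fun u => chkSlp tab slp u) = true := by decide +kernel

theorem sl_6306 : allRange 113508 18 (fun u => chkSlp tab slp u) = true := by decide +kernel

theorem sl_6307 : allRange 113526 18 (fun u => chkSlp tab slp u) = true := by decide +kernel

theorem sl_6308 : allRange 113544 18 (fun u => chkSlp tab slp u) = true := by decide +kernel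

theorem sl_6309 : allRange 113562 18 (fun u => chkSlp tab slp u) = true := by decide +kernel

theorem sl_6310 : allRange 113580 18 (fun u => chkSlp tab slp u) = true := by decide +kernel

theorem sl_6311 : allRange 113598 18 (fun u => chkSlp tab slp u) = true := by decide +kernel


end Cfsg.Agent.Helper9.TCData.ONC0
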