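import Cfsg.Agent.Lib.Helper9.TCData.ONC0.Main

set_option autoImplicit false
set_option maxRecDepth 1000000

namespace Cfsg.Agent.Helper9.TCData.ONC0
open Cfsg.Agent.Helper9.TC2

theorem sl_6400 : allRange 115200 18 (fun u => chkSlp tab slp u) = true := by decide +kernel

theorem sl_6401 : allRange 115218 18 (fun u => chkSlp tab slp u) = true := by decide +kernel

theorem sl_6402 : allRange 115236 18 (fun u => chkSlp tab slp u) = true := by decide +kernel

theorem sl_6403 : allRange 115254 18 (fun u => chkSlp tab slp u) = true := by decide +kernel

theorem sl_6404 : allRange 115272 18 (fun u => chkSlp tab slp u) = true := by decide +kernel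

theorem sl_6405 : allRange 115290 18 (fun u => chkSlp tab slp u) = true := by decide +kernel

theorem sl_6406 : allRange 115308 18 (fun u => chkSlp tab slp u) = true := by decide +kernel

theorem sl_6407 : allRange 115326 18 (fun u => chkSlp tab slp u) = true := by decide +kernel


end Cfsg.Agent.Helper9.TCData.ONC0
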