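import Cfsg.Agent.Lib.Helper9.TCData.ONC0.Main

set_option autoImplicit false
set_option maxRecDepth 1000000

namespace Cfsg.Agent.Helper9.TCData.ONC0
open Cfsg.Agent.Helper9.TC2

theorem sl_6496 : allRange 116928 18 (fun u => chkSlp tab slp u) = true := by decide +kernel

theorem sl_6497 : allRange 116946 18 (fun u => chkSlp tab slp u) = true := by decide +kernel

theorem sl_6498 : allRange 116964 18 (fun u => chkSlp tab slp u) = true := by decide +kernel

theorem sl_6499 : allRange 116982 18 (fun u => chkSlp tab slp u) = true := by decide +kernel

theorem sl_6500 : allRange 117000 18 (fun u => chkSlp tab slp u) = true := by decide +kernel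

theorem sl_6501 : allRange 117018 18 (fun u => chkSlp tab slp u) = true := by decide +kernel

theorem sl_6502 : allRange 117036 18 (fun u => chkSlp tab slp u) = true := by decide +kernel

theorem sl_6503 : allRange 117054 18 (fun u => chkSlp tab slp u) = true := by decide +kernel


end Cfsg.Agent.Helper9.TCData.ONC0
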