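import Cfsg.Agent.Lib.Helper9.TCData.ONC0.Main

set_option autoImplicit false
set_option maxRecDepth 1000000

namespace Cfsg.Agent.Helper9.TCData.ONC0
open Cfsg.Agent.Helper9.TC2

theorem sl_6592 : allRange 118656 18 (fun u => chkSlp tab slp u) = true := by decide +kernel

theorem sl_6593 : allRange 118674 18 (fun u => chkSlp tab slp u) = true := by decide +kernel

theorem sl_6594 : allRange 118692 18 (fun u => chkSlp tab slp u) = true := by decide +kernel

theorem sl_6595 : allRange 118710 18 (fun u => chkSlp tab slp u) = true := by decide +kernel

theorem sl_6596 : allRange 118728 18 (fun u => chkSlp tab slp u) = true := by decide +kernel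

theorem sl_6597 : allRange 118746 18 (fun u => chkSlp tab slp u) = true := by decide +kernel

theorem sl_6598 : allRange 118764 18 (fun u => chkSlp tab slp u) = true := by decide +kernel

theorem sl_6599 : allRange 118782 18 (fun u => chkSlp tab slp u) = true := by decide +kernel


end Cfsg.Agent.Helper9.TCData.ONC0
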