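import Cfsg.Agent.Lib.Helper9.TCData.ONC0.Main

set_option autoImplicit false
set_option maxRecDepth 1000000

namespace Cfsg.Agent.Helper9.TCData.ONC0
open Cfsg.Agent.Helper9.TC2

theorem sl_6688 : allRange 120384 18 (fun u => chkSlp tab slp u) = true := by decide +kernel

theorem sl_6689 : allRange 120402 18 (fun u => chkSlp tab slp u) = true := by decide +kernel

theorem sl_6690 : allRange 120420 18 (fun u => chkSlp tab slp u) = true := by decide +kernel

theorem sl_6691 : allRange 120438 18 (fun u => chkSlp tab slp u) = true := by decide +kernel

theorem sl_6692 : allRange 120456 18 (fun u => chkSlp tab slp u) = true := by decide +kernel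

theorem sl_6693 : allRange 120474 18 (fun u => chkSlp tab slp u) = true := by decide +kernel

theorem sl_6694 : allRange 120492 18 (fun u => chkSlp tab slp u) = true := by decide +kernel

theorem sl_6695 : allRange 120510 18 (fun u => chkSlp tab slp u) = true := by decide +kernel


end Cfsg.Agent.Helper9.TCData.ONC0
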