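import Cfsg.Agent.Lib.Helper9.TCData.ONC0.Main

set_option autoImplicit false
set_option maxRecDepth 1000000

namespace Cfsg.Agent.Helper9.TCData.ONC0
open Cfsg.Agent.Helper9.TC2

theorem m2_81 : allRange 7695 95 (fun u => chkFix tab mwordsA u) = true := by decide +kernel

theorem m2_82 : allRange 7790 95 (fun u => chkFix tab mwordsA u) = true := by decide +kernel

theorem m2_83 : allRange 7885 95 (fun u => chkFix tab mwordsA u) = true := by decide +kernel

theorem m2_84 : allRange 7980 95 (fun u => chkFix tab mwordsA u) = true := by decide +kernel

theorem m2_85 : allRange 8075 95 (fun u => chkFix tab mwordsA u) = true := by decide +kernel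

theorem m2_86 : allRange 8170 95 (fun u => chkFix tab mwordsA u) = true := by decide +kernel

theorem m2_87 : allRange 8265 95 (fun u => chkFix tab mwordsA u) = true := by decide +kernel

theorem m2_88 : allRange 8360 95 (fun u => chkFix tab mwordsA u) = true := by decide +kernel


end Cfsg.Agent.Helper9.TCData.ONC0
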