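import Cfsg.Agent.Lib.Helper9.TCData.ONC0.Main

set_option autoImplicit false
set_option maxRecDepth 1000000

namespace Cfsg.Agent.Helper9.TCData.ONC0
open Cfsg.Agent.Helper9.TC2

theorem m2_177 : allRange 16815 95 (fun u => chkFix tab mwordsA u) = true := by decide +kernel

theorem m2_178 : allRange 16910 95 (fun u => chkFix tab mwordsA u) = true := by decide +kernel

theorem m2_179 : allRange 17005 95 (fun u => chkFix tab mwordsA u) = true := by decide +kernel

theorem m2_180 : allRange 17100 95 (fun u => chkFix tab mwordsA u) = true := by decide +kernel

theorem m2_181 : allRange 17195 95 (fun u => chkFix tab mwordsA u) = true := by decide +kernel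

theorem m2_182 : allRange 17290 95 (fun u => chkFix tab mwordsA u) = true := by decide +kernel

theorem m2_183 : allRange 17385 95 (fun u => chkFix tab mwordsA u) = true := by decide +kernel

theorem m2_184 : allRange 17480 95 (fun u => chkFix tab mwordsA u) = true := by decide +kernel


end Cfsg.Agent.Helper9.TCData.ONC0
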