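import Cfsg.Agent.Lib.Helper9.TCData.ONC0.Main

set_option autoImplicit false
set_option maxRecDepth 1000000

namespace Cfsg.Agent.Helper9.TCData.ONC0
open Cfsg.Agent.Helper9.TC2

theorem e2_25 : allRange 70018 2717 (fun u => chkE tab 2 u) = true := by decide +kernel

theorem e2_26 : allRange 72735 2959 (fun u => chkE tab 2 u) = true := by decide +kernel

theorem e2_27 : allRange 75694 3240 (fun u => chkE tab 2 u) = true := by decide +kernel

theorem e2_28 : allRange 78934 2772 (fun u => chkE tab 2 u) = true := by decide +kernel

theorem e2_29 : allRange 81706 2541 (fun u => chkE tab 2 u) = true := by decide +kernel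

theorem e2_30 : allRange 84247 2502 (fun u => chkE tab 2 u) = true := by decide +kernel

theorem e2_31 : allRange 86749 2794 (fun u => chkE tab 2 u) = true := by decide +kernel

theorem e2_32 : allRange 89543 2731 (fun u => chkE tab 2 u) = true := by decide +kernel


end Cfsg.Agent.Helper9.TCData.ONC0
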