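import Cfsg.Agent.Lib.Helper9.TCData.ONC0.Main

set_option autoImplicit false
set_option maxRecDepth 1000000

namespace Cfsg.Agent.Helper9.TCData.ONC0
open Cfsg.Agent.Helper9.TC2

theorem m2_657 : allRange 62415 95 (fun u => chkFix tab mwordsA u) = true := by decide +kernel

theorem m2_658 : allRange 62510 95 (fun u => chkFix tab mwordsA u) = true := by decide +kernel

theorem m2_659 : allRange 62605 95 (fun u => chkFix tab mwordsA u) = true := by decide +kernel

theorem m2_660 : allRange 62700 95 (fun u => chkFix tab mwordsA u) = true := by decide +kernel

theorem m2_661 : allRange 62795 95 (fun u => chkFix tab mwordsA u) = true := by decide +kernel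

theorem m2_662 : allRange 62890 95 (fun u => chkFix tab mwordsA u) = true := by decide +kernel

theorem m2_663 : allRange 62985 95 (fun u => chkFix tab mwordsA u) = true := by decide +kernel

theorem m2_664 : allRange 63080 95 (fun u => chkFix tab mwordsA u) = true := by decide +kernel


end Cfsg.Agent.Helper9.TCData.ONC0
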