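import Cfsg.Agent.Lib.Helper9.TCData.ONC0.Main

set_option autoImplicit false
set_option maxRecDepth 1000000

namespace Cfsg.Agent.Helper9.TCData.ONC0
open Cfsg.Agent.Helper9.TC2

theorem m2_753 : allRange 71535 95 (fun u => chkFix tab mwordsA u) = true := by decide +kernel

theorem m2_754 : allRange 71630 95 (fun u => chkFix tab mwordsA u) = true := by decide +kernel

theorem m2_755 : allRange 71725 95 (fun u => chkFix tab mwordsA u) = true := by decide +kernel

theorem m2_756 : allRange 71820 95 (fun u => chkFix tab mwordsA u) = true := by decide +kernel

theorem m2_757 : allRange 71915 95 (fun u => chkFix tab mwordsA u) = true := by decide +kernel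

theorem m2_758 : allRange 72010 95 (fun u => chkFix tab mwordsA u) = true := by decide +kernel

theorem m2_759 : allRange 72105 95 (fun u => chkFix tab mwordsA u) = true := by decide +kernel

theorem m2_760 : allRange 72200 95 (fun u => chkFix tab mwordsA u) = true := by decide +kernel


end Cfsg.Agent.Helper9.TCData.ONC0
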