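import Cfsg.Agent.Lib.Helper9.TCData.ONC0.Main

set_option autoImplicit false
set_option maxRecDepth 1000000

namespace Cfsg.Agent.Helper9.TCData.ONC0
open Cfsg.Agent.Helper9.TC2

theorem m2_849 : allRange 80655 95 (fun u => chkFix tab mwordsA u) = true := by decide +kernel

theorem m2_850 : allRange 80750 95 (fun u => chkFix tab mwordsA u) = true := by decide +kernel

theorem m2_851 : allRange 80845 95 (fun u => chkFix tab mwordsA u) = true := by decide +kernel

theorem m2_852 : allRange 80940 95 (fun u => chkFix tab mwordsA u) = true := by decide +kernel

theorem m2_853 : allRange 81035 95 (fun u => chkFix tab mwordsA u) = true := by decide +kernel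

theorem m2_854 : allRange 81130 95 (fun u => chkFix tab mwordsA u) = true := by decide +kernel

theorem m2_855 : allRange 81225 95 (fun u => chkFix tab mwordsA u) = true := by decide +kernel

theorem m2_856 : allRange 81320 95 (fun u => chkFix tab mwordsA u) = true := by decide +kernel


end Cfsg.Agent.Helper9.TCData.ONC0
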