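import Cfsg.Agent.Lib.Helper9.TCData.ONC0.Main

set_option autoImplicit false
set_option maxRecDepth 1000000

namespace Cfsg.Agent.Helper9.TCData.ONC0
open Cfsg.Agent.Helper9.TC2

theorem m2_945 : allRange 89775 95 (fun u => chkFix tab mwordsA u) = true := by decide +kernel

theorem m2_946 : allRange 89870 95 (fun u => chkFix tab mwordsA u) = true := by decide +kernel

theorem m2_947 : allRange 89965 95 (fun u => chkFix tab mwordsA u) = true := by decide +kernel

theorem m2_948 : allRange 90060 95 (fun u => chkFix tab mwordsA u) = true := by decide +kernel

theorem m2_949 : allRange 90155 95 (fun u => chkFix tab mwordsA u) = true := by decide +kernel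

theorem m2_950 : allRange 90250 95 (fun u => chkFix tab mwordsA u) = true := by decide +kernel

theorem m2_951 : allRange 90345 95 (fun u => chkFix tab mwordsA u) = true := by decide +kernel

theorem m2_952 : allRange 90440 95 (fun u => chkFix tab mwordsA u) = true := by decide +kernel


end Cfsg.Agent.Helper9.TCData.ONC0
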