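import Cfsg.Agent.Lib.Helper9.TCData.ONC0.Main

set_option autoImplicit false
set_option maxRecDepth 1000000

namespace Cfsg.Agent.Helper9.TCData.ONC0
open Cfsg.Agent.Helper9.TC2

theorem m2_1041 : allRange 98895 95 (fun u => chkFix tab mwordsA u) = true := by decide +kernel

theorem m2_1042 : allRange 98990 95 (fun u => chkFix tab mwordsA u) = true := by decide +kernel

theorem m2_1043 : allRange 99085 95 (fun u => chkFix tab mwordsA u) = true := by decide +kernel

theorem m2_1044 : allRange 99180 95 (fun u => chkFix tab mwordsA u) = true := by decide +kernel

theorem m2_1045 : allRange 99275 95 (fun u => chkFix tab mwordsA u) = true := by decide +kernel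

theorem m2_1046 : allRange 99370 95 (fun u => chkFix tab mwordsA u) = true := by decide +kernel

theorem m2_1047 : allRange 99465 95 (fun u => chkFix tab mwordsA u) = true := by decide +kernel

theorem m2_1048 : allRange 99560 95 (fun u => chkFix tab mwordsA u) = true := by decide +kernel


end Cfsg.Agent.Helper9.TCData.ONC0
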