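import Cfsg.Agent.Lib.Helper9.TCData.ONC0.Main

set_option autoImplicit false
set_option maxRecDepth 1000000

namespace Cfsg.Agent.Helper9.TCData.ONC0
open Cfsg.Agent.Helper9.TC2

theorem m2_1137 : allRange 108015 95 (fun u => chkFix tab mwordsA u) = true := by decide +kernel

theorem m2_1138 : allRange 108110 95 (fun u => chkFix tab mwordsA u) = true := by decide +kernel

theorem m2_1139 : allRange 108205 95 (fun u => chkFix tab mwordsA u) = true := by decide +kernel

theorem m2_1140 : allRange 108300 95 (fun u => chkFix tab mwordsA u) = true := by decide +kernel

theorem m2_1141 : allRange 108395 95 (fun u => chkFix tab mwordsA u) = true := by decide +kernel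

theorem m2_1142 : allRange 108490 95 (fun u => chkFix tab mwordsA u) = true := by decide +kernel

theorem m2_1143 : allRange 108585 95 (fun u => chkFix tab mwordsA u) = true := by decide +kernel

theorem m2_1144 : allRange 108680 95 (fun u => chkFix tab mwordsA u) = true := by decide +kernel


end Cfsg.Agent.Helper9.TCData.ONC0
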