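import Cfsg.Agent.Lib.Helper9.TCData.ONC0.Main

set_option autoImplicit false
set_option maxRecDepth 1000000

namespace Cfsg.Agent.Helper9.TCData.ONC0
open Cfsg.Agent.Helper9.TC2

theorem e3_52 : allRange 198695 2459 (fun u => chkE tab 3 u) = true := by decide +kernel

theorem e3_53 : allRange 201154 2415 (fun u => chkE tab 3 u) = true := by decide +kernel

theorem e3_54 : allRange 203569 2500 (fun u => chkE tab 3 u) = true := by decide +kernel

theorem e3_55 : allRange 206069 2527 (fun u => chkE tab 3 u) = true := by decide +kernel

theorem e3_56 : allRange 208596 2426 (fun u => chkE tab 3 u) = true := by decide +kernel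

theorem e3_57 : allRange 211022 2543 (fun u => chkE tab 3 u) = true := by decide +kernel

theorem e3_58 : allRange 213565 2566 (fun u => chkE tab 3 u) = true := by decide +kernel

theorem e3_59 : allRange 216131 2668 (fun u => chkE tab 3 u) = true := by decide +kernel


end Cfsg.Agent.Helper9.TCData.ONC0
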