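import Cfsg.Agent.Lib.Helper9.TCData.ONC0.Main

set_option autoImplicit false
set_option maxRecDepth 1000000

namespace Cfsg.Agent.Helper9.TCData.ONC0
open Cfsg.Agent.Helper9.TC2

theorem o1_224 : allRange 114912 513 (fun u => chkO1 tab orb u) = true := by decide +kernel

theorem o1_225 : allRange 115425 513 (fun u => chkO1 tab orb u) = true := by decide +kernel

theorem o1_226 : allRange 115938 513 (fun u => chkO1 tab orb u) = true := by decide +kernel

theorem o1_227 : allRange 116451 513 (fun u => chkO1 tab orb u) = true := by decide +kernel

theorem o1_228 : allRange 116964 513 (fun u => chkO1 tab orb u) = true := by decide +kernel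

theorem o1_229 : allRange 117477 513 (fun u => chkO1 tab orb u) = true := by decide +kernel

theorem o1_230 : allRange 117990 513 (fun u => chkO1 tab orb u) = true := by decide +kernel

theorem o1_231 : allRange 118503 513 (fun u => chkO1 tab orb u) = true := by decide +kernel


end Cfsg.Agent.Helper9.TCData.ONC0
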