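import Cfsg.Agent.Lib.Helper9.TCData.ONC0.Main

set_option autoImplicit false
set_option maxRecDepth 1000000

namespace Cfsg.Agent.Helper9.TCData.ONC0
open Cfsg.Agent.Helper9.TC2

theorem o2_80 : allRange 106720 1334 (fun u => chkO2 tab orb u) = true := by decide +kernel

theorem o2_81 : allRange 108054 1334 (fun u => chkO2 tab orb u) = true := by decide +kernel

theorem o2_82 : allRange 109388 1334 (fun u => chkO2 tab orb u) = true := by decide +kernel

theorem o2_83 : allRange 110722 1334 (fun u => chkO2 tab orb u) = true := by decide +kernel

theorem o2_84 : allRange 112056 1334 (fun u => chkO2 tab orb u) = true := by decide +kernel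

theorem o2_85 : allRange 113390 1334 (fun u => chkO2 tab orb u) = true := by decide +kernel

theorem o2_86 : allRange 114724 1334 (fun u => chkO2 tab orb u) = true := by decide +kernel

theorem o2_87 : allRange 116058 1334 (fun u => chkO2 tab orb u) = true := by decide +kernel


end Cfsg.Agent.Helper9.TCData.ONC0
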