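import Cfsg.Agent.Lib.Helper9.TCData.ONC0.Main

set_option autoImplicit false
set_option maxRecDepth 1000000

namespace Cfsg.Agent.Helper9.TCData.ONC0
open Cfsg.Agent.Helper9.TC2

theorem sl_448 : allRange 8064 18 (fun u => chkSlp tab slp u) = true := by decide +kernel

theorem sl_449 : allRange 8082 18 (fun u => chkSlp tab slp u) = true := by decide +kernel

theorem sl_450 : allRange 8100 18 (fun u => chkSlp tab slp u) = true := by decide +kernel

theorem sl_451 : allRange 8118 18 (fun u => chkSlp tab slp u) = true := by decide +kernel

theorem sl_452 : allRange 8136 18 (fun u => chkSlp tab slp u) = true := by decide +kernel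

theorem sl_453 : allRange 8154 18 (fun u => chkSlp tab slp u) = true := by decide +kernel

theorem sl_454 : allRange 8172 18 (fun u => chkSlp tab slp u) = true := by decide +kernel

theorem sl_455 : allRange 8190 18 (fun u => chkSlp tab slp u) = true := by decide +kernel


end Cfsg.Agent.Helper9.TCData.ONC0
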