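import Cfsg.Agent.Lib.Helper9.TCData.ONC0.Main

set_option autoImplicit false
set_option maxRecDepth 1000000

namespace Cfsg.Agent.Helper9.TCData.ONC0
open Cfsg.Agent.Helper9.TC2

theorem sl_736 : allRange 13248 18 (fun u => chkSlp tab slp u) = true := by decide +kernel

theorem sl_737 : allRange 13266 18 (fun u => chkSlp tab slp u) = true := by decide +kernel

theorem sl_738 : allRange 13284 18 (fun u => chkSlp tab slp u) = true := by decide +kernel

theorem sl_739 : allRange 13302 18 (fun u => chkSlp tab slp u) = true := by decide +kernel

theorem sl_740 : allRange 13320 18 (fun u => chkSlp tab slp u) = true := by decide +kernel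

theorem sl_741 : allRange 13338 18 (fun u => chkSlp tab slp u) = true := by decide +kernel

theorem sl_742 : allRange 13356 18 (fun u => chkSlp tab slp u) = true := by decide +kernel

theorem sl_743 : allRange 13374 18 (fun u => chkSlp tab slp u) = true := by decide +kernel


end Cfsg.Agent.Helper9.TCData.ONC0
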