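import Cfsg.Agent.Lib.Helper9.TCData.ONC0.Main

set_option autoImplicit false
set_option maxRecDepth 1000000

namespace Cfsg.Agent.Helper9.TCData.ONC0
open Cfsg.Agent.Helper9.TC2

theorem e5_8 : allRange 29463 3285 (fun u => chkE tab 5 u) = true := by decide +kernel

theorem e5_9 : allRange 32748 3225 (fun u => chkE tab 5 u) = true := by decide +kernel

theorem e5_10 : allRange 35973 3851 (fun u => chkE tab 5 u) = true := by decide +kernel

theorem e5_11 : allRange 39824 3898 (fun u => chkE tab 5 u) = true := by decide +kernel

theorem e5_12 : allRange 43722 3166 (fun u => chkE tab 5 u) = true := by decide +kernel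

theorem e5_13 : allRange 46888 3214 (fun u => chkE tab 5 u) = true := by decide +kernel

theorem e5_14 : allRange 50102 3272 (fun u => chkE tab 5 u) = true := by decide +kernel

theorem e5_15 : allRange 53374 3497 (fun u => chkE tab 5 u) = true := by decide +kernel


end Cfsg.Agent.Helper9.TCData.ONC0
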