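import Cfsg.Agent.Lib.Helper9.TCData.ONC0.Main

set_option autoImplicit false
set_option maxRecDepth 1000000

namespace Cfsg.Agent.Helper9.TCData.ONC0
open Cfsg.Agent.Helper9.TC2

theorem sl_832 : allRange 14976 18 (fun u => chkSlp tab slp u) = true := by decide +kernel

theorem sl_833 : allRange 14994 18 (fun u => chkSlp tab slp u) = true := by decide +kernel

theorem sl_834 : allRange 15012 18 (fun u => chkSlp tab slp u) = true := by decide +kernel

theorem sl_835 : allRange 15030 18 (fun u => chkSlp tab slp u) = true := by decide +kernel

theorem sl_836 : allRange 15048 18 (fun u => chkSlp tab slp u) = true := by decide +kernel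

theorem sl_837 : allRange 15066 18 (fun u => chkSlp tab slp u) = true := by decide +kernel

theorem sl_838 : allRange 15084 18 (fun u => chkSlp tab slp u) = true := by decide +kernel

theorem sl_839 : allRange 15102 18 (fun u => chkSlp tab slp u) = true := by decide +kernel


end Cfsg.Agent.Helper9.TCData.ONC0
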