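import Cfsg.Agent.Lib.Helper9.TCData.ONC0.Main

set_option autoImplicit false
set_option maxRecDepth 1000000

namespace Cfsg.Agent.Helper9.TCData.ONC0
open Cfsg.Agent.Helper9.TC2

theorem sl_928 : allRange 16704 18 (fun u => chkSlp tab slp u) = true := by decide +kernel

theorem sl_929 : allRange 16722 18 (fun u => chkSlp tab slp u) = true := by decide +kernel

theorem sl_930 : allRange 16740 18 (fun u => chkSlp tab slp u) = true := by decide +kernel

theorem sl_931 : allRange 16758 18 (fun u => chkSlp tab slp u) = true := by decide +kernel

theorem sl_932 : allRange 16776 18 (fun u => chkSlp tab slp u) = true := by decide +kernel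

theorem sl_933 : allRange 16794 18 (fun u => chkSlp tab slp u) = true := by decide +kernel

theorem sl_934 : allRange 16812 18 (fun u => chkSlp tab slp u) = true := by decide +kernel

theorem sl_935 : allRange 16830 18 (fun u => chkSlp tab slp u) = true := by decide +kernel


end Cfsg.Agent.Helper9.TCData.ONC0
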