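import Cfsg.Agent.Lib.Helper9.TCData.ONC0.Main

set_option autoImplicit false
set_option maxRecDepth 1000000

namespace Cfsg.Agent.Helper9.TCData.ONC0
open Cfsg.Agent.Helper9.TC2

theorem sl_1120 : allRange 20160 18 (fun u => chkSlp tab slp u) = true := by decide +kernel

theorem sl_1121 : allRange 20178 18 (fun u => chkSlp tab slp u) = true := by decide +kernel

theorem sl_1122 : allRange 20196 18 (fun u => chkSlp tab slp u) = true := by decide +kernel

theorem sl_1123 : allRange 20214 18 (fun u => chkSlp tab slp u) = true := by decide +kernel

theorem sl_1124 : allRange 20232 18 (fun u => chkSlp tab slp u) = true := by decide +kernel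

theorem sl_1125 : allRange 20250 18 (fun u => chkSlp tab slp u) = true := by decide +kernel

theorem sl_1126 : allRange 20268 18 (fun u => chkSlp tab slp u) = true := by decide +kernel

theorem sl_1127 : allRange 20286 18 (fun u => chkSlp tab slp u) = true := by decide +kernel


end Cfsg.Agent.Helper9.TCData.ONC0
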