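import Cfsg.Agent.Lib.Helper9.TCData.ONC0.Main

set_option autoImplicit false
set_option maxRecDepth 1000000

namespace Cfsg.Agent.Helper9.TCData.ONC0
open Cfsg.Agent.Helper9.TC2

theorem sl_1216 : allRange 21888 18 (fun u => chkSlp tab slp u) = true := by decide +kernel

theorem sl_1217 : allRange 21906 18 (fun u => chkSlp tab slp u) = true := by decide +kernel

theorem sl_1218 : allRange 21924 18 (fun u => chkSlp tab slp u) = true := by decide +kernel

theorem sl_1219 : allRange 21942 18 (fun u => chkSlp tab slp u) = true := by decide +kernel

theorem sl_1220 : allRange 21960 18 (fun u => chkSlp tab slp u) = true := by decide +kernel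

theorem sl_1221 : allRange 21978 18 (fun u => chkSlp tab slp u) = true := by decide +kernel

theorem sl_1222 : allRange 21996 18 (fun u => chkSlp tab slp u) = true := by decide +kernel

theorem sl_1223 : allRange 22014 18 (fun u => chkSlp tab slp u) = true := by decide +kernel


end Cfsg.Agent.Helper9.TCData.ONC0
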