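import Cfsg.Agent.Lib.Helper9.TCData.ONC0.Main

set_option autoImplicit false
set_option maxRecDepth 1000000

namespace Cfsg.Agent.Helper9.TCData.ONC0
open Cfsg.Agent.Helper9.TC2

theorem sl_1504 : allRange 27072 18 (fun u => chkSlp tab slp u) = true := by decide +kernel

theorem sl_1505 : allRange 27090 18 (fun u => chkSlp tab slp u) = true := by decide +kernel

theorem sl_1506 : allRange 27108 18 (fun u => chkSlp tab slp u) = true := by decide +kernel

theorem sl_1507 : allRange 27126 18 (fun u => chkSlp tab slp u) = true := by decide +kernel

theorem sl_1508 : allRange 27144 18 (fun u => chkSlp tab slp u) = true := by decide +kernel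

theorem sl_1509 : allRange 27162 18 (fun u => chkSlp tab slp u) = true := by decide +kernel

theorem sl_1510 : allRange 27180 18 (fun u => chkSlp tab slp u) = true := by decide +kernel

theorem sl_1511 : allRange 27198 18 (fun u => chkSlp tab slp u) = true := by decide +kernel


end Cfsg.Agent.Helper9.TCData.ONC0
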