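import Cfsg.Agent.Lib.Helper9.TCData.ONC0.Main

set_option autoImplicit false
set_option maxRecDepth 1000000

namespace Cfsg.Agent.Helper9.TCData.ONC0
open Cfsg.Agent.Helper9.TC2

theorem sl_1600 : allRange 28800 18 (fun u => chkSlp tab slp u) = true := by decide +kernel

theorem sl_1601 : allRange 28818 18 (fun u => chkSlp tab slp u) = true := by decide +kernel

theorem sl_1602 : allRange 28836 18 (fun u => chkSlp tab slp u) = true := by decide +kernel

theorem sl_1603 : allRange 28854 18 (fun u => chkSlp tab slp u) = true := by decide +kernel

theorem sl_1604 : allRange 28872 18 (fun u => chkSlp tab slp u) = true := by decide +kernel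

theorem sl_1605 : allRange 28890 18 (fun u => chkSlp tab slp u) = true := by decide +kernel

theorem sl_1606 : allRange 28908 18 (fun u => chkSlp tab slp u) = true := by decide +kernel

theorem sl_1607 : allRange 28926 18 (fun u => chkSlp tab slp u) = true := by decide +kernel


end Cfsg.Agent.Helper9.TCData.ONC0
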