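import Cfsg.Agent.Lib.Helper9.TCData.ONC0.Main

set_option autoImplicit false
set_option maxRecDepth 1000000

namespace Cfsg.Agent.Helper9.TCData.ONC0
open Cfsg.Agent.Helper9.TC2

theorem sl_1792 : allRange 32256 18 (fun u => chkSlp tab slp u) = true := by decide +kernel

theorem sl_1793 : allRange 32274 18 (fun u => chkSlp tab slp u) = true := by decide +kernel

theorem sl_1794 : allRange 32292 18 (fun u => chkSlp tab slp u) = true := by decide +kernel

theorem sl_1795 : allRange 32310 18 (fun u => chkSlp tab slp u) = true := by decide +kernel

theorem sl_1796 : allRange 32328 18 (fun u => chkSlp tab slp u) = true := by decide +kernel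

theorem sl_1797 : allRange 32346 18 (fun u => chkSlp tab slp u) = true := by decide +kernel

theorem sl_1798 : allRange 32364 18 (fun u => chkSlp tab slp u) = true := by decide +kernel

theorem sl_1799 : allRange 32382 18 (fun u => chkSlp tab slp u) = true := by decide +kernel


end Cfsg.Agent.Helper9.TCData.ONC0
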