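import Cfsg.Agent.Lib.Helper9.TCData.ONC0.Main

set_option autoImplicit false
set_option maxRecDepth 1000000

namespace Cfsg.Agent.Helper9.TCData.ONC0
open Cfsg.Agent.Helper9.TC2

theorem sl_1888 : allRange 33984 18 (fun u => chkSlp tab slp u) = true := by decide +kernel

theorem sl_1889 : allRange 34002 18 (fun u => chkSlp tab slp u) = true := by decide +kernel

theorem sl_1890 : allRange 34020 18 (fun u => chkSlp tab slp u) = true := by decide +kernel

theorem sl_1891 : allRange 34038 18 (fun u => chkSlp tab slp u) = true := by decide +kernel

theorem sl_1892 : allRange 34056 18 (fun u => chkSlp tab slp u) = true := by decide +kernel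

theorem sl_1893 : allRange 34074 18 (fun u => chkSlp tab slp u) = true := by decide +kernel

theorem sl_1894 : allRange 34092 18 (fun u => chkSlp tab slp u) = true := by decide +kernel

theorem sl_1895 : allRange 34110 18 (fun u => chkSlp tab slp u) = true := by decide +kernel


end Cfsg.Agent.Helper9.TCData.ONC0
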