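import Cfsg.Agent.Lib.Helper9.TCData.ONC0.Main

set_option autoImplicit false
set_option maxRecDepth 1000000

namespace Cfsg.Agent.Helper9.TCData.ONC0
open Cfsg.Agent.Helper9.TC2

theorem sl_2080 : allRange 37440 18 (fun u => chkSlp tab slp u) = true := by decide +kernel

theorem sl_2081 : allRange 37458 18 (fun u => chkSlp tab slp u) = true := by decide +kernel

theorem sl_2082 : allRange 37476 18 (fun u => chkSlp tab slp u) = true := by decide +kernel

theorem sl_2083 : allRange 37494 18 (fun u => chkSlp tab slp u) = true := by decide +kernel

theorem sl_2084 : allRange 37512 18 (fun u => chkSlp tab slp u) = true := by decide +kernel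

theorem sl_2085 : allRange 37530 18 (fun u => chkSlp tab slp u) = true := by decide +kernel

theorem sl_2086 : allRange 37548 18 (fun u => chkSlp tab slp u) = true := by decide +kernel

theorem sl_2087 : allRange 37566 18 (fun u => chkSlp tab slp u) = true := by decide +kernel


end Cfsg.Agent.Helper9.TCData.ONC0
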