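import Cfsg.Agent.Lib.Helper9.TCData.ONC0.Main

set_option autoImplicit false
set_option maxRecDepth 1000000

namespace Cfsg.Agent.Helper9.TCData.ONC0
open Cfsg.Agent.Helper9.TC2

theorem sl_2176 : allRange 39168 18 (fun u => chkSlp tab slp u) = true := by decide +kernel

theorem sl_2177 : allRange 39186 18 (fun u => chkSlp tab slp u) = true := by decide +kernel

theorem sl_2178 : allRange 39204 18 (fun u => chkSlp tab slp u) = true := by decide +kernel

theorem sl_2179 : allRange 39222 18 (fun u => chkSlp tab slp u) = true := by decide +kernel

theorem sl_2180 : allRange 39240 18 (fun u => chkSlp tab slp u) = true := by decide +kernel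

theorem sl_2181 : allRange 39258 18 (fun u => chkSlp tab slp u) = true := by decide +kernel

theorem sl_2182 : allRange 39276 18 (fun u => chkSlp tab slp u) = true := by decide +kernel

theorem sl_2183 : allRange 39294 18 (fun u => chkSlp tab slp u) = true := by decide +kernel


end Cfsg.Agent.Helper9.TCData.ONC0
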