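import Cfsg.Agent.Lib.Helper9.TCData.ONC0.Main

set_option autoImplicit false
set_option maxRecDepth 1000000

namespace Cfsg.Agent.Helper9.TCData.ONC0
open Cfsg.Agent.Helper9.TC2

theorem sl_2368 : allRange 42624 18 (fun u => chkSlp tab slp u) = true := by decide +kernel

theorem sl_2369 : allRange 42642 18 (fun u => chkSlp tab slp u) = true := by decide +kernel

theorem sl_2370 : allRange 42660 18 (fun u => chkSlp tab slp u) = true := by decide +kernel

theorem sl_2371 : allRange 42678 18 (fun u => chkSlp tab slp u) = true := by decide +kernel

theorem sl_2372 : allRange 42696 18 (fun u => chkSlp tab slp u) = true := by decide +kernel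

theorem sl_2373 : allRange 42714 18 (fun u => chkSlp tab slp u) = true := by decide +kernel

theorem sl_2374 : allRange 42732 18 (fun u => chkSlp tab slp u) = true := by decide +kernel

theorem sl_2375 : allRange 42750 18 (fun u => chkSlp tab slp u) = true := by decide +kernel


end Cfsg.Agent.Helper9.TCData.ONC0
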