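import Cfsg.Agent.Lib.Helper9.TCData.ONC0.Main

set_option autoImplicit false
set_option maxRecDepth 1000000

namespace Cfsg.Agent.Helper9.TCData.ONC0
open Cfsg.Agent.Helper9.TC2

theorem sl_2560 : allRange 46080 18 (fun u => chkSlp tab slp u) = true := by decide +kernel

theorem sl_2561 : allRange 46098 18 (fun u => chkSlp tab slp u) = true := by decide +kernel

theorem sl_2562 : allRange 46116 18 (fun u => chkSlp tab slp u) = true := by decide +kernel

theorem sl_2563 : allRange 46134 18 (fun u => chkSlp tab slp u) = true := by decide +kernel

theorem sl_2564 : allRange 46152 18 (fun u => chkSlp tab slp u) = true := by decide +kernel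

theorem sl_2565 : allRange 46170 18 (fun u => chkSlp tab slp u) = true := by decide +kernel

theorem sl_2566 : allRange 46188 18 (fun u => chkSlp tab slp u) = true := by decide +kernel

theorem sl_2567 : allRange 46206 18 (fun u => chkSlp tab slp u) = true := by decide +kernel


end Cfsg.Agent.Helper9.TCData.ONC0
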