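import Cfsg.Agent.Lib.Helper9.TCData.ONC0.Main

set_option autoImplicit false
set_option maxRecDepth 1000000

namespace Cfsg.Agent.Helper9.TCData.ONC0
open Cfsg.Agent.Helper9.TC2

theorem sl_2656 : allRange 47808 18 (fun u => chkSlp tab slp u) = true := by decide +kernel

theorem sl_2657 : allRange 47826 18 (fun u => chkSlp tab slp u) = true := by decide +kernel

theorem sl_2658 : allRange 47844 18 (fun u => chkSlp tab slp u) = true := by decide +kernel

theorem sl_2659 : allRange 47862 18 (fun u => chkSlp tab slp u) = true := by decide +kernel

theorem sl_2660 : allRange 47880 18 (fun u => chkSlp tab slp u) = true := by decide +kernel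

theorem sl_2661 : allRange 47898 18 (fun u => chkSlp tab slp u) = true := by decide +kernel

theorem sl_2662 : allRange 47916 18 (fun u => chkSlp tab slp u) = true := by decide +kernel

theorem sl_2663 : allRange 47934 18 (fun u => chkSlp tab slp u) = true := by decide +kernel


end Cfsg.Agent.Helper9.TCData.ONC0
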