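import Cfsg.Agent.Lib.Helper9.TCData.ONC0.Main

set_option autoImplicit false
set_option maxRecDepth 1000000

namespace Cfsg.Agent.Helper9.TCData.ONC0
open Cfsg.Agent.Helper9.TC2

theorem l_8 : allRange 30600 4445 (fun u => chkL tab u) = true := by decide +kernel

theorem l_9 : allRange 35045 3026 (fun u => chkL tab u) = true := by decide +kernel

theorem l_10 : allRange 38071 2430 (fun u => chkL tab u) = true := by decide +kernel

theorem l_11 : allRange 40501 2719 (fun u => chkL tab u) = true := by decide +kernel

theorem l_12 : allRange 43220 2307 (fun u => chkL tab u) = true := by decide +kernel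

theorem l_13 : allRange 45527 3247 (fun u => chkL tab u) = true := by decide +kernel

theorem l_14 : allRange 48774 4688 (fun u => chkL tab u) = true := by decide +kernel

theorem l_15 : allRange 53462 3803 (fun u => chkL tab u) = true := by decide +kernel


end Cfsg.Agent.Helper9.TCData.ONC0
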