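import Cfsg.Agent.Lib.Helper9.TCData.ONC0.Main

set_option autoImplicit false
set_option maxRecDepth 1000000

namespace Cfsg.Agent.Helper9.TCData.ONC0
open Cfsg.Agent.Helper9.TC2

theorem sl_2752 : allRange 49536 18 (fun u => chkSlp tab slp u) = true := by decide +kernel

theorem sl_2753 : allRange 49554 18 (fun u => chkSlp tab slp u) = true := by decide +kernel

theorem sl_2754 : allRange 49572 18 (fun u => chkSlp tab slp u) = true := by decide +kernel

theorem sl_2755 : allRange 49590 18 (fun u => chkSlp tab slp u) = true := by decide +kernel

theorem sl_2756 : allRange 49608 18 (fun u => chkSlp tab slp u) = true := by decide +kernel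

theorem sl_2757 : allRange 49626 18 (fun u => chkSlp tab slp u) = true := by decide +kernel

theorem sl_2758 : allRange 49644 18 (fun u => chkSlp tab slp u) = true := by decide +kernel

theorem sl_2759 : allRange 49662 18 (fun u => chkSlp tab slp u) = true := by decide +kernel


end Cfsg.Agent.Helper9.TCData.ONC0
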