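import Cfsg.Agent.Lib.Helper9.TCData.ONC0.Main

set_option autoImplicit false
set_option maxRecDepth 1000000

namespace Cfsg.Agent.Helper9.TCData.ONC0
open Cfsg.Agent.Helper9.TC2

theorem sl_2944 : allRange 52992 18 (fun u => chkSlp tab slp u) = true := by decide +kernel

theorem sl_2945 : allRange 53010 18 (fun u => chkSlp tab slp u) = true := by decide +kernel

theorem sl_2946 : allRange 53028 18 (fun u => chkSlp tab slp u) = true := by decide +kernel

theorem sl_2947 : allRange 53046 18 (fun u => chkSlp tab slp u) = true := by decide +kernel

theorem sl_2948 : allRange 53064 18 (fun u => chkSlp tab slp u) = true := by decide +kernel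

theorem sl_2949 : allRange 53082 18 (fun u => chkSlp tab slp u) = true := by decide +kernel

theorem sl_2950 : allRange 53100 18 (fun u => chkSlp tab slp u) = true := by decide +kernel

theorem sl_2951 : allRange 53118 18 (fun u => chkSlp tab slp u) = true := by decide +kernel


end Cfsg.Agent.Helper9.TCData.ONC0
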