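import Cfsg.Agent.Lib.Helper9.TCData.ONC0.Main

set_option autoImplicit false
set_option maxRecDepth 1000000

namespace Cfsg.Agent.Helper9.TCData.ONC0
open Cfsg.Agent.Helper9.TC2

theorem sl_3232 : allRange 58176 18 (fun u => chkSlp tab slp u) = true := by decide +kernel

theorem sl_3233 : allRange 58194 18 (fun u => chkSlp tab slp u) = true := by decide +kernel

theorem sl_3234 : allRange 58212 18 (fun u => chkSlp tab slp u) = true := by decide +kernel

theorem sl_3235 : allRange 58230 18 (fun u => chkSlp tab slp u) = true := by decide +kernel

theorem sl_3236 : allRange 58248 18 (fun u => chkSlp tab slp u) = true := by decide +kernel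

theorem sl_3237 : allRange 58266 18 (fun u => chkSlp tab slp u) = true := by decide +kernel

theorem sl_3238 : allRange 58284 18 (fun u => chkSlp tab slp u) = true := by decide +kernel

theorem sl_3239 : allRange 58302 18 (fun u => chkSlp tab slp u) = true := by decide +kernel


end Cfsg.Agent.Helper9.TCData.ONC0
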