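import Cfsg.Agent.Lib.Helper9.TCData.ONC0.Main

set_option autoImplicit false
set_option maxRecDepth 1000000

namespace Cfsg.Agent.Helper9.TCData.ONC0
open Cfsg.Agent.Helper9.TC2

theorem sl_3328 : allRange 59904 18 (fun u => chkSlp tab slp u) = true := by decide +kernel

theorem sl_3329 : allRange 59922 18 (fun u => chkSlp tab slp u) = true := by decide +kernel

theorem sl_3330 : allRange 59940 18 (fun u => chkSlp tab slp u) = true := by decide +kernel

theorem sl_3331 : allRange 59958 18 (fun u => chkSlp tab slp u) = true := by decide +kernel

theorem sl_3332 : allRange 59976 18 (fun u => chkSlp tab slp u) = true := by decide +kernel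

theorem sl_3333 : allRange 59994 18 (fun u => chkSlp tab slp u) = true := by decide +kernel

theorem sl_3334 : allRange 60012 18 (fun u => chkSlp tab slp u) = true := by decide +kernel

theorem sl_3335 : allRange 60030 18 (fun u => chkSlp tab slp u) = true := by decide +kernel


end Cfsg.Agent.Helper9.TCData.ONC0
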