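import Cfsg.Agent.Lib.Helper9.TCData.ONC0.Main

set_option autoImplicit false
set_option maxRecDepth 1000000

namespace Cfsg.Agent.Helper9.TCData.ONC0
open Cfsg.Agent.Helper9.TC2

theorem sl_3424 : allRange 61632 18 (fun u => chkSlp tab slp u) = true := by decide +kernel

theorem sl_3425 : allRange 61650 18 (fun u => chkSlp tab slp u) = true := by decide +kernel

theorem sl_3426 : allRange 61668 18 (fun u => chkSlp tab slp u) = true := by decide +kernel

theorem sl_3427 : allRange 61686 18 (fun u => chkSlp tab slp u) = true := by decide +kernel

theorem sl_3428 : allRange 61704 18 (fun u => chkSlp tab slp u) = true := by decide +kernel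

theorem sl_3429 : allRange 61722 18 (fun u => chkSlp tab slp u) = true := by decide +kernel

theorem sl_3430 : allRange 61740 18 (fun u => chkSlp tab slp u) = true := by decide +kernel

theorem sl_3431 : allRange 61758 18 (fun u => chkSlp tab slp u) = true := by decide +kernel


end Cfsg.Agent.Helper9.TCData.ONC0
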