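import Cfsg.Agent.Lib.Helper9.TCData.ONC0.Main

set_option autoImplicit false
set_option maxRecDepth 1000000

namespace Cfsg.Agent.Helper9.TCData.ONC0
open Cfsg.Agent.Helper9.TC2

theorem sl_3616 : allRange 65088 18 (fun u => chkSlp tab slp u) = true := by decide +kernel

theorem sl_3617 : allRange 65106 18 (fun u => chkSlp tab slp u) = true := by decide +kernel

theorem sl_3618 : allRange 65124 18 (fun u => chkSlp tab slp u) = true := by decide +kernel

theorem sl_3619 : allRange 65142 18 (fun u => chkSlp tab slp u) = true := by decide +kernel

theorem sl_3620 : allRange 65160 18 (fun u => chkSlp tab slp u) = true := by decide +kernel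

theorem sl_3621 : allRange 65178 18 (fun u => chkSlp tab slp u) = true := by decide +kernel

theorem sl_3622 : allRange 65196 18 (fun u => chkSlp tab slp u) = true := by decide +kernel

theorem sl_3623 : allRange 65214 18 (fun u => chkSlp tab slp u) = true := by decide +kernel


end Cfsg.Agent.Helper9.TCData.ONC0
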