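import Cfsg.Agent.Lib.Helper9.TCData.ONC0.Main

set_option autoImplicit false
set_option maxRecDepth 1000000

namespace Cfsg.Agent.Helper9.TCData.ONC0
open Cfsg.Agent.Helper9.TC2

theorem sl_3712 : allRange 66816 18 (fun u => chkSlp tab slp u) = true := by decide +kernel

theorem sl_3713 : allRange 66834 18 (fun u => chkSlp tab slp u) = true := by decide +kernel

theorem sl_3714 : allRange 66852 18 (fun u => chkSlp tab slp u) = true := by decide +kernel

theorem sl_3715 : allRange 66870 18 (fun u => chkSlp tab slp u) = true := by decide +kernel

theorem sl_3716 : allRange 66888 18 (fun u => chkSlp tab slp u) = true := by decide +kernel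

theorem sl_3717 : allRange 66906 18 (fun u => chkSlp tab slp u) = true := by decide +kernel

theorem sl_3718 : allRange 66924 18 (fun u => chkSlp tab slp u) = true := by decide +kernel

theorem sl_3719 : allRange 66942 18 (fun u => chkSlp tab slp u) = true := by decide +kernel


end Cfsg.Agent.Helper9.TCData.ONC0
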