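import Cfsg.Agent.Lib.Helper9.TCData.ONC0.Main

set_option autoImplicit false
set_option maxRecDepth 1000000

namespace Cfsg.Agent.Helper9.TCData.ONC0
open Cfsg.Agent.Helper9.TC2

theorem sl_4000 : allRange 72000 18 (fun u => chkSlp tab slp u) = true := by decide +kernel

theorem sl_4001 : allRange 72018 18 (fun u => chkSlp tab slp u) = true := by decide +kernel

theorem sl_4002 : allRange 72036 18 (fun u => chkSlp tab slp u) = true := by decide +kernel

theorem sl_4003 : allRange 72054 18 (fun u => chkSlp tab slp u) = true := by decide +kernel

theorem sl_4004 : allRange 72072 18 (fun u => chkSlp tab slp u) = true := by decide +kernel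

theorem sl_4005 : allRange 72090 18 (fun u => chkSlp tab slp u) = true := by decide +kernel

theorem sl_4006 : allRange 72108 18 (fun u => chkSlp tab slp u) = true := by decide +kernel

theorem sl_4007 : allRange 72126 18 (fun u => chkSlp tab slp u) = true := by decide +kernel


end Cfsg.Agent.Helper9.TCData.ONC0
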