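import Cfsg.Agent.Lib.Helper9.TCData.ONC0.Main

set_option autoImplicit false
set_option maxRecDepth 1000000

namespace Cfsg.Agent.Helper9.TCData.ONC0
open Cfsg.Agent.Helper9.TC2

theorem sl_4288 : allRange 77184 18 (fun u => chkSlp tab slp u) = true := by decide +kernel

theorem sl_4289 : allRange 77202 18 (fun u => chkSlp tab slp u) = true := by decide +kernel

theorem sl_4290 : allRange 77220 18 (fun u => chkSlp tab slp u) = true := by decide +kernel

theorem sl_4291 : allRange 77238 18 (fun u => chkSlp tab slp u) = true := by decide +kernel

theorem sl_4292 : allRange 77256 18 (fun u => chkSlp tab slp u) = true := by decide +kernel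

theorem sl_4293 : allRange 77274 18 (fun u => chkSlp tab slp u) = true := by decide +kernel

theorem sl_4294 : allRange 77292 18 (fun u => chkSlp tab slp u) = true := by decide +kernel

theorem sl_4295 : allRange 77310 18 (fun u => chkSlp tab slp u) = true := by decide +kernel


end Cfsg.Agent.Helper9.TCData.ONC0
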