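import Cfsg.Agent.Lib.Helper9.TCData.ONC0.Main

set_option autoImplicit false
set_option maxRecDepth 1000000

namespace Cfsg.Agent.Helper9.TCData.ONC0
open Cfsg.Agent.Helper9.TC2

theorem sl_4384 : allRange 78912 18 (fun u => chkSlp tab slp u) = true := by decide +kernel

theorem sl_4385 : allRange 78930 18 (fun u => chkSlp tab slp u) = true := by decide +kernel

theorem sl_4386 : allRange 78948 18 (fun u => chkSlp tab slp u) = true := by decide +kernel

theorem sl_4387 : allRange 78966 18 (fun u => chkSlp tab slp u) = true := by decide +kernel

theorem sl_4388 : allRange 78984 18 (fun u => chkSlp tab slp u) = true := by decide +kernel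

theorem sl_4389 : allRange 79002 18 (fun u => chkSlp tab slp u) = true := by decide +kernel

theorem sl_4390 : allRange 79020 18 (fun u => chkSlp tab slp u) = true := by decide +kernel

theorem sl_4391 : allRange 79038 18 (fun u => chkSlp tab slp u) = true := by decide +kernel


end Cfsg.Agent.Helper9.TCData.ONC0
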