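import Cfsg.Agent.Lib.Helper9.TCData.ONC0.Main

set_option autoImplicit false
set_option maxRecDepth 1000000

namespace Cfsg.Agent.Helper9.TCData.ONC0
open Cfsg.Agent.Helper9.TC2

theorem sl_4480 : allRange 80640 18 (fun u => chkSlp tab slp u) = true := by decide +kernel

theorem sl_4481 : allRange 80658 18 (fun u => chkSlp tab slp u) = true := by decide +kernel

theorem sl_4482 : allRange 80676 18 (fun u => chkSlp tab slp u) = true := by decide +kernel

theorem sl_4483 : allRange 80694 18 (fun u => chkSlp tab slp u) = true := by decide +kernel

theorem sl_4484 : allRange 80712 18 (fun u => chkSlp tab slp u) = true := by decide +kernel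

theorem sl_4485 : allRange 80730 18 (fun u => chkSlp tab slp u) = true := by decide +kernel

theorem sl_4486 : allRange 80748 18 (fun u => chkSlp tab slp u) = true := by decide +kernel

theorem sl_4487 : allRange 80766 18 (fun u => chkSlp tab slp u) = true := by decide +kernel


end Cfsg.Agent.Helper9.TCData.ONC0
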