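import Cfsg.Agent.Lib.Helper9.TCData.ONC0.Main

set_option autoImplicit false
set_option maxRecDepth 1000000

namespace Cfsg.Agent.Helper9.TCData.ONC0
open Cfsg.Agent.Helper9.TC2

theorem sl_4672 : allRange 84096 18 (fun u => chkSlp tab slp u) = true := by decide +kernel

theorem sl_4673 : allRange 84114 18 (fun u => chkSlp tab slp u) = true := by decide +kernel

theorem sl_4674 : allRange 84132 18 (fun u => chkSlp tab slp u) = true := by decide +kernel

theorem sl_4675 : allRange 84150 18 (fun u => chkSlp tab slp u) = true := by decide +kernel

theorem sl_4676 : allRange 84168 18 (fun u => chkSlp tab slp u) = true := by decide +kernel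

theorem sl_4677 : allRange 84186 18 (fun u => chkSlp tab slp u) = true := by decide +kernel

theorem sl_4678 : allRange 84204 18 (fun u => chkSlp tab slp u) = true := by decide +kernel

theorem sl_4679 : allRange 84222 18 (fun u => chkSlp tab slp u) = true := by decide +kernel


end Cfsg.Agent.Helper9.TCData.ONC0
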