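import Cfsg.Agent.Lib.Helper9.TCData.ONC0.Main

set_option autoImplicit false
set_option maxRecDepth 1000000

namespace Cfsg.Agent.Helper9.TCData.ONC0
open Cfsg.Agent.Helper9.TC2

theorem sl_4864 : allRange 87552 18 (fun u => chkSlp tab slp u) = true := by decide +kernel

theorem sl_4865 : allRange 87570 18 (fun u => chkSlp tab slp u) = true := by decide +kernel

theorem sl_4866 : allRange 87588 18 (fun u => chkSlp tab slp u) = true := by decide +kernel

theorem sl_4867 : allRange 87606 18 (fun u => chkSlp tab slp u) = true := by decide +kernel

theorem sl_4868 : allRange 87624 18 (fun u => chkSlp tab slp u) = true := by decide +kernel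

theorem sl_4869 : allRange 87642 18 (fun u => chkSlp tab slp u) = true := by decide +kernel

theorem sl_4870 : allRange 87660 18 (fun u => chkSlp tab slp u) = true := by decide +kernel

theorem sl_4871 : allRange 87678 18 (fun u => chkSlp tab slp u) = true := by decide +kernel


end Cfsg.Agent.Helper9.TCData.ONC0
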