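import Cfsg.Agent.Lib.Helper9.TCData.ONC0.Main

set_option autoImplicit false
set_option maxRecDepth 1000000

namespace Cfsg.Agent.Helper9.TCData.ONC0
open Cfsg.Agent.Helper9.TC2

theorem sl_4960 : allRange 89280 18 (fun u => chkSlp tab slp u) = true := by decide +kernel

theorem sl_4961 : allRange 89298 18 (fun u => chkSlp tab slp u) = true := by decide +kernel

theorem sl_4962 : allRange 89316 18 (fun u => chkSlp tab slp u) = true := by decide +kernel

theorem sl_4963 : allRange 89334 18 (fun u => chkSlp tab slp u) = true := by decide +kernel

theorem sl_4964 : allRange 89352 18 (fun u => chkSlp tab slp u) = true := by decide +kernel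

theorem sl_4965 : allRange 89370 18 (fun u => chkSlp tab slp u) = true := by decide +kernel

theorem sl_4966 : allRange 89388 18 (fun u => chkSlp tab slp u) = true := by decide +kernel

theorem sl_4967 : allRange 89406 18 (fun u => chkSlp tab slp u) = true := by decide +kernel


end Cfsg.Agent.Helper9.TCData.ONC0
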